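import Cfsg.Agent.Bender.CoreLemmas
import Cfsg.Agent.Solvable.PGroupBasic

/-!
The core of a strongly embedded subgroup: no real element of odd order fixes the centre of an
inverting involution and a second point; primes dividing the number of involutions of a point
stabilizer are in case I.
-/

set_option autoImplicit false
set_option linter.unusedSectionVars false
set_option linter.style.haveILetI false

namespace CfsgLib.Bender.Core

open Subgroup
open CfsgLib.FusionLift (cj mem_cj card_cj)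
open CfsgLib.Bender.GSide

variable {G : Type*} [Group G] [Finite G] {H : Subgroup G} {q : ℕ} {N : G ⧸ H → Subgroup G}

/-- An element of `M` whose inverse image under an involution differs from it by an element of
`O(M)` generates with that image a subgroup of odd order. -/
theorem odd_closure_pair {M : Subgroup G} (hp : ¬ HasPair M) {u z : G} (hu : u ∈ M)
    (hu2 : orderOf u = 2) (hz : z ∈ M) (hzo : Odd (orderOf z)) :
    Odd (Nat.card (closure ({z, u * z * u⁻¹} : Set G))) := by
  set O := (Cfsg.oddCore M).map M.subtype with hO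
  have hOodd : Odd (Nat.card O) := by
    rw [hO, card_map_of_injective M.subtype_injective]; exact IsoApps.odd_oddCore
  have hn : zpowers z ≤ normalizer (O : Set G) := by
    refine zpowers_le.2 (mem_norm_iff.2 (cj_eq_of_le ?_ le_rfl))
    rintro _ ⟨_, ⟨o, ho, rfl⟩, rfl⟩
    exact ⟨⟨z, hz⟩ * o * ⟨z, hz⟩⁻¹, (Solvable.pPrimeCore_normal 2).conj_mem o ho _, rfl⟩
  have hodd : Odd (Nat.card ↥(zpowers z ⊔ O)) := by
    have h := Solvable.card_sup_mul_card_inf hn
    have h2 : Odd (Nat.card (zpowers z) * Nat.card O) := by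
      rw [Nat.card_zpowers]; exact hzo.mul hOodd
    exact h2.of_dvd_nat (h ▸ dvd_mul_right _ _)
  refine hodd.of_dvd_nat (card_dvd_of_le ((closure_le _).2 ?_))
  rintro x (rfl | rfl)
  · exact mem_sup_left (mem_zpowers x)
  · rw [← inv_mul_cancel_right (u * z * u⁻¹) z]
    exact mul_mem (mem_sup_right ⟨_, IsoApps.comm_mem_oddCore (isolated hp hu hu2) ⟨z, hz⟩, rfl⟩)
      (mem_sup_left (mem_zpowers z))

/-- An involution normalizes the subgroup generated by an element and its image. -/
theorem mem_normalizer_closure_pair {u z : G} (hu : orderOf u = 2) :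
    u ∈ normalizer ((closure ({z, u * z * u⁻¹} : Set G) : Subgroup G) : Set G) := by
  refine mem_norm_iff.2 ?_
  show (Subgroup.closure _).map _ = _
  rw [MonoidHom.map_closure, Set.image_insert_eq, Set.image_singleton]
  congr 1
  have h : u * (u * z * u⁻¹) * u⁻¹ = z := by
    rw [Invol.inv_eq_self hu]
    simp only [mul_assoc, Invol.mul_self_eq_one hu, mul_one]
    rw [← mul_assoc, Invol.mul_self_eq_one hu, one_mul]
  simp only [MulEquiv.coe_toMonoidHom, MulAut.conj_apply, h]
  exact Set.pair_comm _ _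

section Setting

variable (hS : Setting H)
include hS

/-- Two commuting involutions and the centralizers of the three involutions. -/
theorem le_of_four_odd {X K : Subgroup G} (hX : Odd (Nat.card X)) {u v : G} (hu : orderOf u = 2)
    (hv : orderOf v = 2) (hc : Commute u v) (huX : u ∈ normalizer (X : Set G))
    (hvX : v ∈ normalizer (X : Set G)) (huK : u ∈ normalizer (K : Set G))
    (hvK : v ∈ normalizer (K : Set G))
    (hfix : ∀ w y : G, (w = u ∨ w = v ∨ w = u * v) → y ∈ X → Commute w y → y ∈ K) : X ≤ K := by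
  set A := zpowers u ⊔ zpowers v
  have hAX : A ≤ normalizer (X : Set G) := sup_le (zpowers_le.2 huX) (zpowers_le.2 hvX)
  have hA2 : IsPGroup 2 A := by
    have h1 : ∀ w : G, orderOf w = 2 → IsPGroup 2 (zpowers w) := fun w hw =>
      IsPGroup.of_card (n := 1) (by rw [Nat.card_zpowers, hw, pow_one])
    refine (h1 u hu).to_sup_of_normal_left' (h1 v hv) (zpowers_le.2 ?_)
    exact mem_normalizer_iff_map_conj_eq.2 (by
      rw [MonoidHom.map_zpowers]
      congr 1
      simp [hc.symm.eq])
  have hcop : (Nat.card A).Coprime (Nat.card X) := by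
    haveI : Fact (Nat.Prime 2) := ⟨Nat.prime_two⟩
    obtain ⟨k, hk⟩ := IsPGroup.iff_card.1 hA2
    rw [hk]
    exact (Nat.coprime_two_left.2 hX).pow_left k
  suffices h : X ⊓ K = X from h ▸ inf_le_right
  refine eq_of_le_of_card_ge inf_le_left (Nat.le_of_dvd Nat.card_pos ?_)
  refine (Nat.dvd_iff_prime_pow_dvd_dvd _ _).2 fun p k hp hpk => ?_
  haveI : Fact p.Prime := ⟨hp⟩
  rcases Nat.eq_zero_or_pos k with rfl | hk
  · exact one_dvd _
  obtain ⟨P, hP⟩ := CoprimeAct.exists_invariant_sylow hAX hcop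
    (Or.inr (OddEnd.odd_solvable X hX)) p
  have hPK : (P : Subgroup X).map X.subtype ≤ K :=
    le_of_four (hX.of_dvd_nat ((dvd_pow_self p hk.ne').trans hpk)) (P.isPGroup'.map _) hu hv hc
      (hP (mem_sup_left (mem_zpowers _))) (hP (mem_sup_right (mem_zpowers _))) huK hvK
      fun w y hw hy => hfix w y hw (map_subtype_le _ hy)
  refine dvd_trans ?_ (card_dvd_of_le (le_inf (map_subtype_le _) hPK))
  rw [card_map_of_injective X.subtype_injective, P.card_eq_multiplicity]
  exact pow_dvd_pow p ((hp.pow_dvd_iff_le_factorization Nat.card_pos.ne').1 hpk)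

variable (hN : Family q N) (hsr : Semireg N)
include hN hsr

/-- In a proper subgroup with commuting involutions and even stabilizer of `c`, an element of the
member of the family at `c` forces the subgroup to fix `c`. -/
theorem fix_of_mem_family {M : Subgroup G} (hM : M ≠ ⊤) (hp : HasPair M) {c : G ⧸ H} {t : G}
    (ht : t ∈ M) (ht2 : orderOf t = 2) (htc : t • c = c) {z : G} (hz : z ∈ N c) (hzM : z ∈ M)
    (hz1 : z ≠ 1) {g : G} (hg : g ∈ M) : g • c = c := by
  refine hsr c z hz hz1 _ (fixes_orbit hS hM hp ht ht2 htc (Z := M ⊓ N c)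
    (inf_le_inf_left M (hN.le_st c)) ((hN.odd_card c).of_dvd_nat (card_dvd_of_le inf_le_right))
    ?_ hg ⟨hzM, hz⟩)
  exact fun k hk => mem_normalizer_iff.2 fun y => by
    rw [mem_inf, mem_inf, mem_normalizer_iff.1 (le_normalizer hk.1) y,
      mem_normalizer_iff.1 (hN.st_le_normalizer c hk.2) y]

/-- A subgroup without involution at `a` that contains a swapper of `a, b` and a nontrivial element
of the family at `a` has commuting involutions. -/
theorem hasPair_of_odd_at {M : Subgroup G} {a : G ⧸ H} {u : G} (hu : u ∈ M) (hu2 : orderOf u = 2)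
    {z : G} (hz : z ∈ N a) (hzM : z ∈ M) (hz1 : z ≠ 1)
    (hodd : ∀ t ∈ M, orderOf t = 2 → t • a ≠ a) : HasPair M := by
  by_contra hp
  haveI : Fact q.Prime := ⟨hN.prime⟩
  have hzo : Odd (orderOf z) :=
    hN.odd.of_dvd_nat (orderOf_dvd_of_pow_eq_one (hN.exp a z hz))
  obtain ⟨e, hue⟩ := StrongEmbed.exists_fix hS.se hu2
  obtain ⟨j, hj, hje⟩ := centre_mem_orbit hS (odd_closure_pair hp hu hu2 hzM hzo) hu2
    (mem_normalizer_closure_pair hu2) hue (subset_closure (Set.mem_insert _ _)) (hN.exp a z hz)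
    (hN.le_st a hz) (hsr a z hz hz1)
  have hjM : j ∈ M := (closure_le _).2 (by
    rintro x (rfl | rfl)
    exacts [hzM, mul_mem (mul_mem hu hzM) (inv_mem hu)]) hj
  refine hodd (j⁻¹ * u * j⁻¹⁻¹) (mul_mem (mul_mem (inv_mem hjM) hu) (inv_mem (inv_mem hjM)))
    (by rw [Invol.orderOf_conj_eq, hu2]) ?_
  rw [inv_inv, mul_smul, mul_smul, hje, hue, ← hje, inv_smul_smul]

variable (hci : CentInv N)
include hci

/-- The swappers of two points centralize the elements fixing both and centralizing both members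
of the family. -/
theorem commute_swapper {a b : G ⧸ H} (hab : a ≠ b) {u : G} (hu : orderOf u = 2) (hua : u • a = b)
    {y : G} (hya : y • a = a) (hyb : y • b = b) (hyN : ∀ z ∈ N a, Commute y z)
    (hyN' : ∀ z ∈ N b, Commute y z) : Commute u y := by
  rcases eq_or_ne y 1 with rfl | hy1
  · exact Commute.one_right u
  have hub := swap_back hu hua
  set Y : Subgroup G := st a ⊓ st b ⊓ centralizer (N a : Set G) ⊓ centralizer (N b : Set G) with hY
  have hyY : y ∈ Y := ⟨⟨⟨hya, hyb⟩, mem_centralizer_iff.2 fun z hz => (hyN z hz).eq.symm⟩,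
    mem_centralizer_iff.2 fun z hz => (hyN' z hz).eq.symm⟩
  have hYne : Y ≠ ⊥ := fun h => hy1 ((mem_bot (G := G)).1 (h ▸ hyY))
  have hYa : Y ≤ st a := inf_le_left.trans (inf_le_left.trans inf_le_left)
  have hYb : Y ≤ st b := inf_le_left.trans (inf_le_left.trans inf_le_right)
  set M := normalizer (Y : Set G) with hM
  have hMt : M ≠ ⊤ := normalizer_ne_top hS hYne hYa
  have huY : u ∈ M := by
    refine mem_norm_iff.2 (cj_eq_of_le ?_ le_rfl)
    have hca : cj u (N a) = N b := by rw [hN.smul, hua]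
    have hcb : cj u (N b) = N a := by rw [hN.smul, hub]
    rintro _ ⟨x, ⟨⟨⟨hxa, hxb⟩, hxA⟩, hxB⟩, rfl⟩
    refine ⟨⟨⟨?_, ?_⟩, ?_⟩, ?_⟩
    · exact hub ▸ le_st_smul (g := u) (A := st b) le_rfl ⟨x, hxb, rfl⟩
    · exact hua ▸ le_st_smul (g := u) (A := st a) le_rfl ⟨x, hxa, rfl⟩
    · refine mem_centralizer_iff.2 fun z hz => ?_
      rw [← hcb] at hz
      obtain ⟨z', hz', rfl⟩ := hz
      rw [← map_mul, ← map_mul, mem_centralizer_iff.1 hxB z' hz']
    · refine mem_centralizer_iff.2 fun z hz => ?_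
      rw [← hca] at hz
      obtain ⟨z', hz', rfl⟩ := hz
      rw [← map_mul, ← map_mul, mem_centralizer_iff.1 hxA z' hz']
  obtain ⟨z, hz, hz1⟩ := hN.exists_ne_one a
  have hzM : z ∈ M := centralizer_le_normalizer _ (mem_centralizer_iff.2 fun x hx =>
    (mem_centralizer_iff.1 (mem_inf.1 (mem_inf.1 hx).1).2 z hz).symm)
  -- no involution of `M` fixes `a`
  have hodd : ∀ t ∈ M, orderOf t = 2 → t • a ≠ a := by
    intro t ht ht2 hta
    have hDM : st a ⊓ st b ≤ M := by
      intro d hd
      refine mem_norm_iff.2 (cj_eq_of_le ?_ le_rfl)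
      rintro _ ⟨x, ⟨⟨⟨hxa, hxb⟩, hxA⟩, hxB⟩, rfl⟩
      refine ⟨⟨⟨?_, ?_⟩, ?_⟩, ?_⟩
      · exact (st a).mul_mem ((st a).mul_mem hd.1 hxa) ((st a).inv_mem hd.1)
      · exact (st b).mul_mem ((st b).mul_mem hd.2 hxb) ((st b).inv_mem hd.2)
      · refine mem_centralizer_iff.2 fun z hz => ?_
        rw [← mem_norm_iff.1 (hN.st_le_normalizer a hd.1)] at hz
        obtain ⟨z', hz', rfl⟩ := hz
        rw [← map_mul, ← map_mul, mem_centralizer_iff.1 hxA z' hz']
      · refine mem_centralizer_iff.2 fun z hz => ?_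
        rw [← mem_norm_iff.1 (hN.st_le_normalizer b hd.2)] at hz
        obtain ⟨z', hz', rfl⟩ := hz
        rw [← map_mul, ← map_mul, mem_centralizer_iff.1 hxB z' hz']
    obtain ⟨s, -, hs2, hne, hts⟩ :=
      (show HasPair (⊤ : Subgroup G) from by
        obtain ⟨x, w, hx, hw, hne, hc⟩ := hS.pair
        exact ⟨x, w, mem_top x, mem_top w, hx, hw, hne, hc⟩).exists_partner (mem_top t) ht2
    have hsa : s • a = a := fix_of_commute hS.se ht2 hta hts.symm
    obtain ⟨d, hd, rfl⟩ := (transOdd_pair hS.se hab).2.2 t s hta ht2 hsa hs2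
    have hsM : d * t * d⁻¹ ∈ M := mul_mem (mul_mem (hDM hd) ht) (inv_mem (hDM hd))
    exact hab ((hua.symm.trans (fix_of_mem_family hS hN hsr hMt
      ⟨t, _, ht, hsM, ht2, hs2, hne.symm, hts⟩ ht ht2 hta hz hzM hz1 huY)).symm)
  have hp := hasPair_of_odd_at hS hN hsr huY hu hz hzM hz1 hodd
  obtain ⟨w, hw, hw2, hne, huw⟩ := hp.exists_partner huY hu
  obtain ⟨e, hue⟩ := StrongEmbed.exists_fix hS.se hu
  have hwe : w • e = e := fix_of_commute hS.se hu hue huw.symm
  by_contra hnc
  -- an element of `Y` commuting with an involution of the four-group, not with `u`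
  obtain ⟨v, y₁, hv, hy₁, hvy, hny⟩ : ∃ v y₁ : G, (v = w ∨ v = u * w) ∧ y₁ ∈ Y ∧
      Commute v y₁ ∧ ¬ Commute u y₁ := by
    by_contra hall
    push Not at hall
    refine hnc (mem_centralizer_singleton_iff.1 ((le_of_four_odd hS ((odd_pair hS.se hab).of_dvd_nat
      (card_dvd_of_le (le_inf hYa hYb))) (K := centralizer ({u} : Set G)) hu hw2 huw huY hw
      (le_normalizer (mem_centralizer_singleton_iff.2 rfl))
      (le_normalizer (mem_centralizer_singleton_iff.2 huw.eq.symm)) fun x y hx hy hxy => ?_) hyY)).symm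
    refine mem_centralizer_singleton_iff.2 ?_
    rcases hx with rfl | rfl | rfl
    · exact hxy.eq.symm
    · exact (hall x y (Or.inl rfl) hy hxy).eq.symm
    · exact (hall (u * w) y (Or.inr rfl) hy hxy).eq.symm
  have hv2 : orderOf v = 2 := by
    rcases hv with rfl | rfl
    · exact hw2
    · refine Invol.orderOf_eq_two ?_ fun h => hne ?_
      · rw [huw.symm.mul_mul_mul_comm, Invol.mul_self_eq_one hu, Invol.mul_self_eq_one hw2, one_mul]
      · rw [← inv_eq_of_mul_eq_one_right h, Invol.inv_eq_self hu]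
  have hvu : Commute u v := by
    rcases hv with rfl | rfl
    exacts [huw, (Commute.refl u).mul_right huw]
  have hve : v • e = e := fix_of_commute hS.se hu hue hvu.symm
  have hneuv : u ≠ v := by
    rintro rfl
    exact hny hvy
  obtain ⟨x, hx, hxp, hxinv⟩ := exists_inverted_prime (Y := Y ⊓ centralizer ({v} : Set G))
    ((odd_pair hS.se hab).of_dvd_nat (card_dvd_of_le (inf_le_left.trans (le_inf hYa hYb)))) hu
    (mem_normalizer_iff.2 fun c => and_congr (mem_normalizer_iff.1 huY c)
      (mem_normalizer_iff.1 (le_normalizer (mem_centralizer_singleton_iff.2 hvu.eq :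
          u ∈ centralizer ({v} : Set G))) c))
    ⟨y₁, ⟨hy₁, mem_centralizer_singleton_iff.2 hvy.eq.symm⟩, hny⟩
  have hxo : Odd (orderOf x) := ((odd_pair hS.se hab).of_dvd_nat (card_dvd_of_le
    (le_inf hYa hYb))).of_dvd_nat (Subgroup.orderOf_dvd_natCard _ hx.1)
  have hx1 : x ≠ 1 := fun h => hxp.ne_one (by rw [h, orderOf_one])
  have hxv : Commute x v := mem_centralizer_singleton_iff.1 hx.2
  have hxe : x • e = e := fix_of_commute hS.se hv2 hve hxv
  set M₁ := normalizer (zpowers x : Set G) with hM₁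
  have hM₁t : M₁ ≠ ⊤ :=
    normalizer_ne_top hS (by simpa using hx1) (zpowers_le.2 (hYa hx.1))
  have hu₁ : u ∈ M₁ := mem_norm_iff.2 (by
    show (zpowers x).map _ = _
    rw [MonoidHom.map_zpowers]
    simp [hxinv])
  have hcx : ∀ g : G, Commute x g → g ∈ M₁ := fun g hg => mem_norm_iff.2 (by
    show (zpowers x).map _ = _
    rw [MonoidHom.map_zpowers]
    simp [hg.symm.eq])
  obtain ⟨z', hz', hz'1⟩ := hN.exists_ne_one e
  have hmove := fun g hg => fix_of_mem_family hS hN hsr hM₁t
    ⟨u, v, hu₁, hcx v hxv, hu, hv2, hneuv, hvu⟩ hu₁ hu hue (g := g) hz'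
    (hcx z' (commute_of_inverted hci hxo hxe hu hue hxinv hz')) hz'1 hg
  have hzx : Commute x z := (mem_centralizer_iff.1 hx.1.1.2 z hz).symm
  have hze := hmove z (hcx z hzx)
  exact hab (by rw [← hua, ← hsr a z hz hz1 e hze, hue])

/-- An element of prime order fixing two points and inverted by a swapper centralizes no
nontrivial element of the family at them. -/
theorem eq_one_of_inverted_family {a b : G ⧸ H} (hab : a ≠ b) {u : G} (hu : orderOf u = 2)
    (hua : u • a = b) {g : G} (hg : (orderOf g).Prime) (hga : g • a = a) (hgb : g • b = b)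
    (hinv : u * g * u⁻¹ = g⁻¹) {z : G} (hz : z ∈ N a) (hgz : Commute g z) : z = 1 := by
  by_contra hz1
  have hub := swap_back hu hua
  have hgo : Odd (orderOf g) :=
    (odd_pair hS.se hab).of_dvd_nat (Subgroup.orderOf_dvd_natCard _ (mem_inf.2 ⟨hga, hgb⟩))
  have hg1 : g ≠ 1 := fun h => hg.ne_one (by rw [h, orderOf_one])
  set M := normalizer (zpowers g : Set G) with hM
  have hMt : M ≠ ⊤ := normalizer_ne_top hS (by simpa using hg1) (zpowers_le.2 hga)
  have hconj : ∀ k : G, k * g * k⁻¹ ∈ zpowers g → k ∈ M := fun k hk => by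
    refine mem_norm_iff.2 (cj_eq_of_le ?_ le_rfl)
    show (zpowers g).map _ ≤ _
    rw [MonoidHom.map_zpowers]
    exact zpowers_le.2 hk
  have huM : u ∈ M := hconj u (hinv ▸ inv_mem (mem_zpowers g))
  have hzM : z ∈ M := hconj z (by rw [← hgz.eq, mul_inv_cancel_right]; exact mem_zpowers g)
  obtain ⟨e, hue⟩ := StrongEmbed.exists_fix hS.se hu
  by_cases hodd : ∀ t ∈ M, orderOf t = 2 → t • a ≠ a
  · have hp := hasPair_of_odd_at hS hN hsr huM hu hz hzM hz1 hodd
    have hge : g • e = e := (le_st_of_hasPair hS (X := zpowers g) (by rwa [Nat.card_zpowers])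
      le_rfl hp huM hu hue) (mem_zpowers g)
    obtain ⟨z', hz', hz'1⟩ := hN.exists_ne_one e
    have hz'M : z' ∈ M := hconj z' (by
      rw [← (commute_of_inverted hci hgo hge hu hue hinv hz').eq, mul_inv_cancel_right]
      exact mem_zpowers g)
    have hze := fix_of_mem_family hS hN hsr hMt hp huM hu hue hz' hz'M hz'1 hzM
    exact hab (by rw [← hua, ← hsr a z hz hz1 e hze, hue])
  · push Not at hodd
    obtain ⟨t, htM, ht2, hta⟩ := hodd
    by_cases hp : HasPair M
    · exact hab (hua ▸ (fix_of_mem_family hS hN hsr hMt hp htM ht2 hta hz hzM hz1 huM)).symm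
    · obtain ⟨o, ⟨o', -, rfl⟩, hou⟩ := exists_conj_of_not_pair hp htM ht2 huM hu
      obtain ⟨i, hi⟩ := mem_zpowers_iff.1
        ((mem_normalizer_iff.1 o'.2 g).1 (mem_zpowers g))
      simp only [Subgroup.subtype_apply] at hou
      have htg : t * g * t⁻¹ = g⁻¹ := by
        have ht' : t = (o' : G)⁻¹ * u * o' := by rw [← hou]; group
        calc t * g * t⁻¹ = (o' : G)⁻¹ * (u * ((o' : G) * g * (o' : G)⁻¹) * u⁻¹) * o' := by
              rw [ht']; group
          _ = (o' : G)⁻¹ * ((o' : G) * g * (o' : G)⁻¹)⁻¹ * o' := by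
              rw [← hi, ← conj_zpow, hinv, inv_zpow]
          _ = g⁻¹ := by group
      have hgN : ∀ z' ∈ N a, Commute g z' := fun z' hz' =>
        commute_of_inverted hci hgo hga ht2 hta htg hz'
      have hgN' : ∀ z' ∈ N b, Commute g z' := fun z' hz' => by
        rw [← hua, ← hN.smul] at hz'
        obtain ⟨z₀, hz₀, rfl⟩ := hz'
        have h1 : Commute g⁻¹ (u * z₀ * u⁻¹) :=
          hinv ▸ (hgN z₀ hz₀).map (MulAut.conj u).toMonoidHom
        exact inv_inv g ▸ h1.inv_left
      exact hg1 (eq_one_of_inverted_commute hgo hinv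
        (commute_swapper hS hN hsr hci hab hu hua hga hgb hgN hgN'))

/-- No element of odd order inverted by an involution fixes its centre and a second point. -/
theorem eq_one_of_inverted_centre {x u : G} {e a : G ⧸ H} (hae : a ≠ e) (hu : orderOf u = 2)
    (hue : u • e = e) (hxo : Odd (orderOf x)) (hxe : x • e = e) (hxa : x • a = a)
    (hinv : u * x * u⁻¹ = x⁻¹) : x = 1 := by
  by_contra hx
  obtain ⟨k, hk, -⟩ := exists_prime_order_pow hx
  set g := x ^ k with hgdef
  have hge : g • e = e := (st e).pow_mem hxe k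
  have hga : g • a = a := (st a).pow_mem hxa k
  have hgo : Odd (orderOf g) := hxo.of_dvd_nat (orderOf_pow_dvd k)
  have hginv : u * g * u⁻¹ = g⁻¹ := by rw [hgdef, ← conj_pow, hinv, inv_pow]
  have hgN : ∀ z ∈ N e, Commute g z := fun z hz =>
    commute_of_inverted hci hgo hge hu hue hginv hz
  -- some element centralizing `g` moves the centre
  obtain ⟨h, hh, hhe⟩ : ∃ h : G, Commute g h ∧ h • e ≠ e := by
    by_contra hall
    push Not at hall
    haveI : Fact q.Prime := ⟨hN.prime⟩
    obtain ⟨z₀, hz₀, hz₀1⟩ := hN.exists_ne_one e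
    by_cases hgq : orderOf g = q
    · have hgp : IsPGroup q (zpowers g) :=
        IsPGroup.of_card (n := 1) (by rw [Nat.card_zpowers, hgq, pow_one])
      obtain ⟨R, hgR, hR⟩ := exists_syl (D := st e ⊓ st a)
        (zpowers_le.2 (mem_inf.2 ⟨hge, hga⟩)) hgp
      have hRN : R ≤ normalizer (N e : Set G) := hR.1.trans (inf_le_left.trans (hN.st_le_normalizer e))
      have hsup : IsPGroup q ↥(R ⊔ N e) := hR.2.1.to_sup_of_normal_right' (hN.isPGroup e) hRN
      haveI := hsup.isNilpotent
      haveI hnorm : ((N e).subgroupOf (R ⊔ N e)).Normal :=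
        (normal_subgroupOf_iff_le_normalizer le_sup_right).2 (sup_le hRN le_normalizer)
      obtain ⟨c, hc, hc1⟩ := SetLike.exists_of_lt (bot_lt_iff_ne_bot.2
        (PGroupBasic.inf_center_ne_bot ((N e).subgroupOf (R ⊔ N e)) fun h => hN.ne_bot e
          (by rw [← map_subgroupOf_eq_of_le (le_sup_right : N e ≤ R ⊔ N e), h, Subgroup.map_bot])))
      have hcR : ∀ r ∈ R, Commute r (c : G) := fun r hr =>
        congrArg Subtype.val (mem_center_iff.1 hc.2 ⟨r, mem_sup_left hr⟩)
      obtain ⟨w, hw, hwe, hwR⟩ := swapper_norm hS.se hae.symm hR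
      have hcwne : (w * (c : G) * w⁻¹) ≠ 1 := by
        intro h
        refine hc1 (mem_bot.2 (Subtype.ext ?_))
        simpa using h
      have hfix := hall (w * (c : G) * w⁻¹) (by
        obtain ⟨r, hr, hrg⟩ : ∃ r ∈ R, w * r * w⁻¹ = g := ⟨w⁻¹ * g * w⁻¹⁻¹,
          (mem_normalizer_iff.1 (inv_mem hwR) g).1 (hgR (mem_zpowers g)), by group⟩
        exact hrg ▸ (hcR r hr).map (MulAut.conj w).toMonoidHom)
      exact hae (hsr a _ (hN.conj_mem hc.1 hwe) hcwne e hfix).symm
    · obtain ⟨b, hab⟩ : ∃ b, b ≠ e ∧ g • b = b := ⟨a, hae, hga⟩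
      haveI := two_pretransitive hS
      have hC : centralizer ({g} : Set G) ≤ MulAction.stabilizer G e := fun c hc =>
        hall c (mem_centralizer_singleton_iff.1 hc).symm
      have hNC : N e ≤ centralizer ({g} : Set G) := fun z hz =>
        mem_centralizer_singleton_iff.2 (hgN z hz).eq.symm
      haveI hn : ((N e).subgroupOf (centralizer ({g} : Set G))).Normal :=
        (normal_subgroupOf_iff_le_normalizer hNC).2 (hC.trans (hN.st_le_normalizer e))
      have hcore : (z₀ : G) ∈ Cfsg.centralizerPPrimeCore (orderOf g) g := by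
        refine ⟨⟨z₀, hNC hz₀⟩, Solvable.le_pPrimeCore (orderOf g) hn ?_ hz₀, rfl⟩
        rw [Nat.card_congr (subgroupOfEquivOfLe hNC).toEquiv]
        obtain ⟨i, hi⟩ := IsPGroup.iff_card.1 (hN.isPGroup e)
        rw [hi]
        exact ((Nat.coprime_primes hN.prime hk).2 (Ne.symm hgq)).pow_left i
      have hfix := St.core_fixes_of_centralizer_le (St.two_le_card_quotient hS.se.1) hk
        (k := 1) (pow_one (orderOf g)).symm hae.symm hge hga hC hcore
      exact hae (hsr e z₀ hz₀ hz₀1 a hfix)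
  have hc : g • h • e = h • e := by rw [smul_smul, hh.eq, mul_smul, hge]
  have hne : h • e ≠ u • h • e := fun heq =>
    hhe (StrongEmbed.fix_unique hS.se hu heq.symm hue)
  have hguc : g • u • h • e = u • h • e := by
    have h1 : g * u = u * g⁻¹ := by
      rw [← hginv]
      simp only [← mul_assoc, Invol.mul_self_eq_one hu, one_mul, Invol.inv_eq_self hu]
    rw [smul_smul, h1, mul_smul, inv_smul_eq_iff.2 hc.symm]
  obtain ⟨z₀, hz₀, hz₀1⟩ := hN.exists_ne_one e
  have hgz : Commute g (h * z₀ * h⁻¹) := (hh.mul_right (hgN z₀ hz₀)).mul_right hh.inv_right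
  have h0 := eq_one_of_inverted_family hS hN hsr hci hne hu rfl hk hc hguc hginv
    (hN.conj_mem hz₀ rfl) hgz
  exact hz₀1 (by simpa using h0)

/-- An element of prime order fixing two points and inverted by a swapper commutes with no
involution. -/
theorem not_commute_invol {a b : G ⧸ H} (hab : a ≠ b) {u : G} (hu : orderOf u = 2) (hua : u • a = b)
    {x : G} (hx : x ≠ 1) (hxa : x • a = a) (hxb : x • b = b) (hinv : u * x * u⁻¹ = x⁻¹)
    {t : G} (ht : orderOf t = 2) : ¬ Commute x t := by
  intro hxt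
  have hxo : Odd (orderOf x) :=
    (odd_pair hS.se hab).of_dvd_nat (Subgroup.orderOf_dvd_natCard _ (mem_inf.2 ⟨hxa, hxb⟩))
  set M := normalizer (zpowers x : Set G) with hM
  have hconj : ∀ k : G, k * x * k⁻¹ ∈ zpowers x → k ∈ M := fun k hk => by
    refine mem_norm_iff.2 (cj_eq_of_le ?_ le_rfl)
    show (zpowers x).map _ ≤ _
    rw [MonoidHom.map_zpowers]
    exact zpowers_le.2 hk
  have huM : u ∈ M := hconj u (hinv ▸ inv_mem (mem_zpowers x))
  have htM : t ∈ M := hconj t (by rw [← hxt.eq, mul_inv_cancel_right]; exact mem_zpowers x)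
  have hne : t ≠ u := fun h => hx (eq_one_of_inverted_commute hxo hinv (h ▸ hxt).symm)
  obtain ⟨e, hue⟩ := StrongEmbed.exists_fix hS.se hu
  by_cases hp : HasPair M
  · have hxe : x • e = e := (le_st_of_hasPair hS (X := zpowers x) (by rwa [Nat.card_zpowers])
      le_rfl hp huM hu hue) (mem_zpowers x)
    refine hx (eq_one_of_inverted_centre hS hN hsr hci (a := a) (fun h => hab ?_) hu hue hxo hxe
      hxa hinv)
    rw [← hua, h, hue]
  · obtain ⟨o, ⟨o', -, rfl⟩, hou⟩ := exists_conj_of_not_pair hp htM ht huM hu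
    simp only [Subgroup.subtype_apply] at hou
    obtain ⟨i, hi⟩ := mem_zpowers_iff.1
      ((mem_normalizer_iff.1 (inv_mem o'.2) x).1 (mem_zpowers x))
    refine hx (eq_one_of_inverted_commute hxo hinv ?_)
    have h1 : Commute ((o' : G)⁻¹ * x * (o' : G)⁻¹⁻¹) t := hi ▸ hxt.zpow_left i
    have h2 := h1.map (MulAut.conj (o' : G)).toMonoidHom
    simp only [MulEquiv.coe_toMonoidHom, MulAut.conj_apply, hou] at h2
    rw [show (o' : G) * ((o' : G)⁻¹ * x * (o' : G)⁻¹⁻¹) * (o' : G)⁻¹ = x by group] at h2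
    exact h2.symm

/-- Primes dividing the number of involutions of a point stabilizer are in case I. -/
theorem caseI_of_dvd {r : ℕ} (hr : r.Prime) (hr2 : r ≠ 2)
    (hdvd : r ∣ Nat.card {t : G // orderOf t = 2 ∧ t ∈ H}) : CaseI r H := by
  haveI : Fact r.Prime := ⟨hr⟩
  intro a b hab R hR c hc
  by_contra hcab
  push Not at hcab
  obtain ⟨t, ht, hta, htR⟩ := exists_invol_normalizing hS hr2 hab hR hc hcab.1 hcab.2
  have hRodd : Odd (Nat.card R) := (odd_pair hS.se hab).of_dvd_nat (card_dvd_of_le hR.1)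
  have hcomm : R ≤ centralizer ({t} : Set G) := by
    intro y hy
    refine mem_centralizer_singleton_iff.2 ?_
    by_contra hny
    obtain ⟨x, hx, hxp, hxinv⟩ :=
      exists_inverted_prime hRodd ht htR ⟨y, hy, fun h => hny h.eq.symm⟩
    have hx1 := eq_one_of_inverted_centre hS hN hsr hci hab.symm ht hta
      (hRodd.of_dvd_nat (Subgroup.orderOf_dvd_natCard _ hx)) (hR.1 hx).1 (hR.1 hx).2 hxinv
    rw [hx1, orderOf_one] at hxp
    exact Nat.not_prime_one hxp
  have horb := card_orbit_mul (st a ⊓ st b) t (fun x => orderOf x = 2 ∧ x • a = a) fun x =>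
    ⟨fun hx => (transOdd_pair hS.se hab).2.2 t x hta ht hx.2 hx.1, by
      rintro ⟨k, hk, rfl⟩
      exact ⟨by rw [Invol.orderOf_conj_eq, ht],
        by rw [mul_smul, mul_smul, inv_smul_eq_iff.2 hk.1.symm, hta, hk.1]⟩⟩
  rw [StrongEmbed.card_fix] at horb
  have h2 := FusionLift.card_eq_relIndex_mul (centralizer ({t} : Set G)) (st a ⊓ st b)
  rw [h2, mul_comm] at horb
  have hm := Nat.eq_of_mul_eq_mul_left Nat.card_pos horb
  refine syl_not_dvd hR ((hm ▸ hdvd).trans ?_)
  exact relIndex_dvd_of_le_left (st a ⊓ st b) hcomm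

end Setting

end CfsgLib.Bender.Core
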