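/-
Bender's theorem on strongly embedded subgroups: in a group of odd order acting faithfully and
irreducibly on an elementary abelian group, an element of prime order `r` without fixed points
centralises the Fitting subgroup as soon as it centralises the largest normal `r`-subgroup.
-/
import Cfsg.Agent.OddLocal.FixedLineBasic
import Cfsg.Agent.Solvable.Basics
import Mathlib.GroupTheory.SemidirectProduct

set_option autoImplicit false
set_option linter.style.haveILetI false

namespace CfsgLib.Bender.OddFixed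

open Subgroup

universe u

variable {X V : Type u} [Group X] [CommGroup V] {φ : X →* MulAut V}

theorem conj_inl (a : X) (v : V) :
    (SemidirectProduct.inr a : V ⋊[φ] X) * SemidirectProduct.inl v * (SemidirectProduct.inr a)⁻¹ =
      SemidirectProduct.inl (φ a v) := by
  rw [SemidirectProduct.inl_aut, map_inv]

theorem mem_normalizer_inl [Finite X] [Finite V] (a : X) :
    (SemidirectProduct.inr a : V ⋊[φ] X) ∈
      normalizer (((SemidirectProduct.inl : V →* V ⋊[φ] X).range : Subgroup _) : Set (V ⋊[φ] X)) := by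
  refine mem_normalizer_iff.mpr fun w => ⟨?_, ?_⟩
  · rintro ⟨v, rfl⟩
    exact ⟨φ a v, (conj_inl a v).symm⟩
  · rintro ⟨v, hv⟩
    refine ⟨φ a⁻¹ v, ?_⟩
    rw [← conj_inl, map_inv, inv_inv, hv]
    group

variable [Finite X] [Finite V] {q r s : ℕ}

/-- The largest normal `s`-subgroup is centralised, for `s ≠ r`. -/
theorem pCore_commute (hφ : Function.Injective φ) (hq : q.Prime) (hr : r.Prime) (hs : s.Prime)
    (hrq : r ≠ q) (hsr : s ≠ r) (hV : ∀ v : V, v ^ q = 1)
    (hmin : ∀ U : Subgroup V, (∀ a, ∀ u ∈ U, φ a u ∈ U) → U = ⊥ ∨ U = ⊤)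
    (hodd : Odd (Nat.card X)) {x : X} (hx : orderOf x = r) (hfpf : ∀ v, φ x v = v → v = 1) :
    ∀ y ∈ Cfsg.pCore s X, Commute y x := by
  haveI : Fact q.Prime := ⟨hq⟩
  haveI : Fact r.Prime := ⟨hr⟩
  haveI : Fact s.Prime := ⟨hs⟩
  have hr2 : r ≠ 2 := fun h => absurd (hx ▸ orderOf_dvd_natCard x)
    (h ▸ fun h2 => Nat.not_even_iff_odd.mpr hodd (even_iff_two_dvd.mpr h2))
  intro y hy
  by_cases hy1 : y = 1
  · exact hy1 ▸ Commute.one_left x
  obtain ⟨hN, hP⟩ := CfsgLib.Solvable.pCore_spec (p := s) (G := X)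
  set P := Cfsg.pCore s X
  have hdvd : s ∣ orderOf y := by
    obtain ⟨n, hn⟩ := hP ⟨y, hy⟩
    have hn' : y ^ s ^ n = 1 := congrArg Subtype.val hn
    obtain ⟨m, -, hm⟩ := (Nat.dvd_prime_pow hs).mp (orderOf_dvd_of_pow_eq_one hn')
    rcases Nat.eq_zero_or_pos m with rfl | hm0
    · exact absurd (orderOf_eq_one_iff.mp hm) hy1
    · exact hm ▸ dvd_pow_self s hm0.ne'
  have hs2 : s ≠ 2 := fun h => Nat.not_even_iff_odd.mpr hodd
    (even_iff_two_dvd.mpr (h ▸ hdvd.trans (orderOf_dvd_natCard y)))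
  -- the fixed points of a `q`-core would be a nontrivial invariant subgroup
  have hsq : s ≠ q := by
    rintro rfl
    have hVp : IsPGroup s V := fun v => ⟨1, by rw [pow_one]; exact hV v⟩
    letI : MulAction P V :=
      { smul := fun p v => φ p v
        one_smul := fun v => by show φ ((1 : P) : X) v = v; simp
        mul_smul := fun a b v => by show φ ((a * b : P) : X) v = φ a (φ b v); simp }
    have hdV : s ∣ Nat.card V := by
      obtain ⟨v, hv⟩ : ∃ v : V, v ≠ 1 := by
        by_contra h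
        push Not at h
        exact hy1 (hφ (by rw [map_one]; exact MulEquiv.ext fun v => (h _).trans (h _).symm))
      exact orderOf_eq_prime (hV v) hv ▸ orderOf_dvd_natCard v
    let U : Subgroup V :=
      { carrier := {v | ∀ p : P, φ p v = v}
        one_mem' := fun p => map_one _
        mul_mem' := fun ha hb p => by rw [map_mul, ha p, hb p]
        inv_mem' := fun ha p => by rw [map_inv, ha p] }
    have hUinv : ∀ a, ∀ u ∈ U, φ a u ∈ U := by
      intro a u hu p
      have h := hu ⟨a⁻¹ * p * a, by simpa using hN.conj_mem p p.2 a⁻¹⟩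
      calc φ p (φ a u) = φ a (φ (a⁻¹ * p * a) u) := by
            rw [← MulAut.mul_apply, ← MulAut.mul_apply, ← map_mul, ← map_mul]
            congr 2; group
        _ = φ a u := by rw [h]
    obtain ⟨v, hv, hv1⟩ : ∃ v ∈ U, (1 : V) ≠ v := by
      obtain ⟨v, hv, hv1⟩ := hP.exists_fixed_point_of_prime_dvd_card_of_fixed_point V hdV
        (a := (1 : V)) (fun p => map_one (φ (p : X)))
      exact ⟨v, fun p => hv p, hv1⟩
    rcases hmin U hUinv with h | h
    · exact hv1 ((eq_bot_iff_forall U).mp h v hv).symm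
    · refine hy1 (hφ ?_)
      rw [map_one]
      exact MulEquiv.ext fun v => (h ▸ mem_top v : v ∈ U) ⟨y, hy⟩
  let ι : V →* V ⋊[φ] X := SemidirectProduct.inl
  let κ : X →* V ⋊[φ] X := SemidirectProduct.inr
  haveI : Finite (V ⋊[φ] X) := Finite.of_equiv _ SemidirectProduct.equivProd.symm
  have hVe : Cfsg.IsElementaryAbelian q ι.range := by
    refine ⟨⟨⟨fun a b => ?_⟩⟩, ?_⟩
    · obtain ⟨a, v, rfl⟩ := a
      obtain ⟨b, w, rfl⟩ := b
      exact Subtype.ext (by simp only [Subgroup.coe_mul]; rw [← map_mul, ← map_mul, mul_comm])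
    · rintro _ ⟨v, rfl⟩
      rw [← map_pow, hV v, map_one]
  have key := CfsgLib.OddLocal.FixedLine.fpf_centralizes (p := q) (s := s) (r := r) hs2 hr2 hsq hrq
    hsr.symm hVe (x := κ x)
    ((orderOf_injective κ SemidirectProduct.inr_injective x).trans hx) (mem_normalizer_inl x)
    ((eq_bot_iff_forall _).mpr fun w hw => ?_) (Q := P.map κ) (hP.map κ)
    (by rintro _ ⟨a, -, rfl⟩; exact mem_normalizer_inl a)
    ((eq_bot_iff_forall _).mpr fun w hw => ?_) ?_
  · have := mem_centralizer_singleton_iff.mp (key (mem_map_of_mem κ hy))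
    exact SemidirectProduct.inr_injective (by rw [map_mul, map_mul]; exact this)
  · obtain ⟨v, rfl⟩ := hw.1
    rw [hfpf v (SemidirectProduct.inl_injective (φ := φ) ?_), map_one]
    rw [← conj_inl, ← mem_centralizer_singleton_iff.mp hw.2, mul_inv_cancel_right]
  · obtain ⟨a, -, rfl⟩ := hw.1
    have ha : φ a = 1 := MulEquiv.ext fun v => SemidirectProduct.inl_injective (φ := φ) (by
      have h := mem_centralizer_iff.mp hw.2 (ι v) ⟨v, rfl⟩
      show ι (φ a v) = ι v
      rw [show ι (φ a v) = κ a * ι v * (κ a)⁻¹ from (conj_inl a v).symm, ← h, mul_inv_cancel_right])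
    rw [show a = 1 from hφ (ha.trans (map_one φ).symm), map_one]
  · refine mem_normalizer_iff.mpr fun w => ⟨?_, ?_⟩
    · rintro ⟨a, ha, rfl⟩
      exact ⟨x * a * x⁻¹, hN.conj_mem a ha x, by rw [map_mul, map_mul, map_inv]⟩
    · rintro ⟨a, ha, e⟩
      refine ⟨x⁻¹ * a * x, by simpa using hN.conj_mem a ha x⁻¹, ?_⟩
      rw [map_mul, map_mul, map_inv, e]
      group

/-- The Fitting subgroup is centralised. -/
theorem fitting_commute (hφ : Function.Injective φ) (hq : q.Prime) (hr : r.Prime) (hrq : r ≠ q)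
    (hV : ∀ v : V, v ^ q = 1)
    (hmin : ∀ U : Subgroup V, (∀ a, ∀ u ∈ U, φ a u ∈ U) → U = ⊥ ∨ U = ⊤)
    (hodd : Odd (Nat.card X)) {x : X} (hx : orderOf x = r) (hfpf : ∀ v, φ x v = v → v = 1)
    (hcore : ∀ y ∈ Cfsg.pCore r X, Commute y x) :
    Cfsg.fittingSubgroup X ≤ centralizer {x} := by
  rw [CfsgLib.Solvable.fittingSubgroup_eq_iSup_pCore, iSup_le_iff]
  intro p y hy
  refine mem_centralizer_singleton_iff.mpr ?_
  by_cases hp : (p : ℕ) = r
  · exact (hcore y (hp ▸ hy)).eq
  · exact (pCore_commute hφ hq hr p.2 hrq hp hV hmin hodd hx hfpf y hy).eq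

end CfsgLib.Bender.OddFixed
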