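/-
Bender's theorem on strongly embedded subgroups, the coprime step in the shape of the point
stabiliser: a group of automorphisms of an elementary abelian group of odd order, normalised by a
fixed-point-free automorphism `ℓ` of prime order prime to its order and with odd centraliser of
`ℓ`, has odd order; if it has no normal `q`-subgroup it centralises `ℓ`.
-/
import Cfsg.Agent.Bender.OddFixed
import Cfsg.Agent.Solvable.CoprimeAct
import Cfsg.Agent.Solvable.Fitting
import Cfsg.Agent.S0205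

set_option autoImplicit false
set_option linter.style.haveILetI false
set_option linter.unusedSectionVars false

namespace CfsgLib.Bender.FpfCentral

open Subgroup

universe u

variable {V : Type u} [CommGroup V] [Finite V] {q r : ℕ} [Fact q.Prime] [Fact r.Prime]

/-- The semidirect product by all automorphisms. -/
local notation "Hol" V => V ⋊[MonoidHom.id (MulAut V)] MulAut V

theorem finite_hol : Finite (Hol V) := by
  haveI : Finite (MulAut V) := Finite.of_injective (fun a : MulAut V => (a : V → V))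
    DFunLike.coe_injective
  exact Finite.of_equiv _ SemidirectProduct.equivProd.symm

theorem elementary (hV : ∀ v : V, v ^ q = 1) :
    Cfsg.IsElementaryAbelian q (SemidirectProduct.inl : V →* Hol V).range := by
  refine ⟨⟨⟨fun a b => ?_⟩⟩, ?_⟩
  · obtain ⟨a, v, rfl⟩ := a
    obtain ⟨b, w, rfl⟩ := b
    exact Subtype.ext (by simp only [Subgroup.coe_mul]; rw [← map_mul, ← map_mul, mul_comm])
  · rintro _ ⟨v, rfl⟩
    rw [← map_pow, hV v, map_one]

theorem eq_one_of_centralizes {a : MulAut V}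
    (h : (SemidirectProduct.inr a : Hol V) ∈
      centralizer (((SemidirectProduct.inl : V →* Hol V).range : Subgroup _) : Set (Hol V))) :
    a = 1 :=
  MulEquiv.ext fun v => SemidirectProduct.inl_injective (φ := MonoidHom.id (MulAut V)) (by
    have h1 := mem_centralizer_iff.mp h _ ⟨v, rfl⟩
    show SemidirectProduct.inl (MonoidHom.id (MulAut V) a v) = SemidirectProduct.inl v
    rw [← OddFixed.conj_inl, ← h1, mul_inv_cancel_right])

theorem fixed_inr {ℓ : MulAut V} (hfpf : ∀ v, ℓ v = v → v = 1) :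
    (SemidirectProduct.inl : V →* Hol V).range ⊓
      centralizer ({SemidirectProduct.inr ℓ} : Set (Hol V)) = ⊥ := by
  refine (eq_bot_iff_forall _).mpr fun w hw => ?_
  obtain ⟨v, rfl⟩ := hw.1
  rw [hfpf v (SemidirectProduct.inl_injective (φ := MonoidHom.id (MulAut V)) ?_), map_one]
  show SemidirectProduct.inl (MonoidHom.id (MulAut V) ℓ v) = _
  rw [← OddFixed.conj_inl, ← mem_centralizer_singleton_iff.mp hw.2, mul_inv_cancel_right]

theorem inr_mem_normalizer [Finite (MulAut V)] {K : Subgroup (MulAut V)} {ℓ : MulAut V}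
    (h : ℓ ∈ normalizer (K : Set (MulAut V))) :
    (SemidirectProduct.inr ℓ : Hol V) ∈
      normalizer ((K.map SemidirectProduct.inr : Subgroup (Hol V)) : Set (Hol V)) := by
  refine mem_normalizer_iff.2 fun w => ⟨?_, ?_⟩
  · rintro ⟨a, ha, rfl⟩
    exact ⟨ℓ * a * ℓ⁻¹, (mem_normalizer_iff.1 h a).1 ha, by rw [map_mul, map_mul, map_inv]⟩
  · rintro ⟨a, ha, e⟩
    refine ⟨ℓ⁻¹ * a * ℓ, by simpa using (mem_normalizer_iff.1 (inv_mem h) a).1 ha, ?_⟩
    rw [map_mul, map_mul, map_inv, e]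
    group

variable {K : Subgroup (MulAut V)} {ℓ : MulAut V}

/-- The order is odd. -/
theorem odd_card (hq : q ≠ 2) (hrq : r ≠ q) (hV : ∀ v : V, v ^ q = 1) (hℓ : orderOf ℓ = r)
    (hℓK : ℓ ∈ normalizer (K : Set (MulAut V))) (hcop : ¬ r ∣ Nat.card K)
    (hfpf : ∀ v, ℓ v = v → v = 1)
    (hC : Odd (Nat.card (K ⊓ centralizer ({ℓ} : Set (MulAut V)) : Subgroup (MulAut V)))) :
    Odd (Nat.card K) := by
  haveI : Finite (MulAut V) := Finite.of_injective (fun a : MulAut V => (a : V → V))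
    DFunLike.coe_injective
  haveI := finite_hol (V := V)
  haveI : Fact (Nat.Prime 2) := ⟨Nat.prime_two⟩
  by_contra hev
  have h2 : 2 ∣ Nat.card K := even_iff_two_dvd.1 (Nat.not_odd_iff_even.1 hev)
  have hAK : zpowers ℓ ≤ normalizer (K : Set (MulAut V)) := zpowers_le.2 hℓK
  have hc : (Nat.card (zpowers ℓ)).Coprime (Nat.card K) := by
    rw [Nat.card_zpowers, hℓ]
    exact (Fact.out : r.Prime).coprime_iff_not_dvd.2 hcop
  obtain ⟨P, hP⟩ := CfsgLib.CoprimeAct.exists_invariant_sylow hAK hc (Or.inl inferInstance) 2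
  set T := (P : Subgroup K).map K.subtype with hTdef
  have hT2 : IsPGroup 2 T := P.isPGroup'.map _
  have hTℓ : ∀ s ∈ T, Commute s ℓ → s = 1 := by
    intro s hs hcm
    have ho : Odd (orderOf s) := hC.of_dvd_nat
      (Subgroup.orderOf_dvd_natCard _ ⟨map_subtype_le _ hs, mem_centralizer_singleton_iff.2 hcm.eq⟩)
    obtain ⟨n, hn⟩ := hT2 ⟨s, hs⟩
    have hn' : s ^ 2 ^ n = 1 := congrArg Subtype.val hn
    obtain ⟨m, -, hm⟩ := (Nat.dvd_prime_pow Nat.prime_two).1 (orderOf_dvd_of_pow_eq_one hn')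
    rcases Nat.eq_zero_or_pos m with rfl | hm0
    · exact orderOf_eq_one_iff.1 hm
    · exact absurd (hm ▸ ho) (Nat.not_odd_iff_even.2 (even_two.pow_of_ne_zero hm0.ne'))
  set ι : V →* Hol V := SemidirectProduct.inl
  set κ : MulAut V →* Hol V := SemidirectProduct.inr
  have hN : IsPGroup q ι.range := CfsgLib.Signalizer.isPGroup (elementary hV)
  have hUc : (Nat.card (T.map κ)).Coprime (Nat.card ι.range) :=
    IsPGroup.coprime_card_of_ne (p₁ := 2) (p₂ := q) hq.symm _ _ (hT2.map κ) hN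
  have hnc : T.map κ ⊓ centralizer ({κ ℓ} : Set (Hol V)) = ⊥ := by
    refine (eq_bot_iff_forall _).2 fun w hw => ?_
    obtain ⟨s, hs, rfl⟩ := hw.1
    rw [hTℓ s hs (SemidirectProduct.inr_injective (by
      rw [map_mul, map_mul]; exact mem_centralizer_singleton_iff.1 hw.2)), map_one]
  have hconj : ∀ v ∈ T.map κ, ι.range ⊓ centralizer ({v * κ ℓ * v⁻¹} : Set (Hol V)) = ⊥ := by
    rintro _ ⟨s, -, rfl⟩
    rw [← map_inv, ← map_mul, ← map_mul]
    refine fixed_inr fun v hv => ?_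
    have h1 : ℓ (s⁻¹ v) = s⁻¹ v := by
      apply s.injective
      rw [MulAut.apply_inv_self]
      exact hv
    simpa using congrArg s (hfpf _ h1)
  have hle := CfsgLib.OddLocal.FixedLine.le_of_frobenius (t := q) (l := r) hrq hN (h := κ ℓ)
    ((orderOf_injective κ SemidirectProduct.inr_injective ℓ).trans hℓ)
    (U := T.map κ) (by rintro _ ⟨a, -, rfl⟩; exact OddFixed.mem_normalizer_inl a) hUc
    (inr_mem_normalizer (hP (mem_zpowers ℓ))) (OddFixed.mem_normalizer_inl ℓ) hnc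
    (Y := ι.range ⊓ centralizer ((T.map κ : Subgroup (Hol V)) : Set (Hol V))) le_rfl
    (fun v hv => (hconj v hv).le.trans bot_le)
  have hT1 : ∀ s ∈ T, s = 1 := fun s hs => eq_one_of_centralizes (mem_centralizer_iff.2 fun w hw =>
    (mem_centralizer_iff.1 (hle hw).2 (κ s) (mem_map_of_mem κ hs)).symm)
  have hcard : Nat.card T = 1 := by
    rw [(eq_bot_iff_forall T).2 hT1, card_bot]
  rw [hTdef, card_map_of_injective K.subtype_injective] at hcard
  have := P.dvd_card_of_dvd_card h2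
  rw [hcard] at this
  norm_num at this

set_option maxHeartbeats 1600000 in
/-- Without normal `q`-subgroups the group centralises the automorphism. -/
theorem le_centralizer (hq : q ≠ 2) (hr : r ≠ 2) (hrq : r ≠ q) (hV : ∀ v : V, v ^ q = 1)
    (hℓ : orderOf ℓ = r) (hℓK : ℓ ∈ normalizer (K : Set (MulAut V))) (hcop : ¬ r ∣ Nat.card K)
    (hfpf : ∀ v, ℓ v = v → v = 1)
    (hC : Odd (Nat.card (K ⊓ centralizer ({ℓ} : Set (MulAut V)) : Subgroup (MulAut V))))
    (hq0 : Cfsg.pCore q K = ⊥) : K ≤ centralizer ({ℓ} : Set (MulAut V)) := by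
  haveI : Finite (MulAut V) := Finite.of_injective (fun a : MulAut V => (a : V → V))
    DFunLike.coe_injective
  haveI := finite_hol (V := V)
  have hodd := odd_card hq hrq hV hℓ hℓK hcop hfpf hC
  haveI : Group.IsSolvable K := Cfsg.Agent.S0205.result hodd
  set κ : MulAut V →* Hol V := SemidirectProduct.inr
  have hcore : ∀ s : Nat.Primes, ∀ f : K, f ∈ Cfsg.pCore (s : ℕ) K → Commute (f : MulAut V) ℓ := by
    intro s f hf
    by_cases hf1 : f = 1
    · rw [hf1]; exact Commute.one_left ℓ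
    haveI : Fact (s : ℕ).Prime := ⟨s.2⟩
    obtain ⟨hN, hP⟩ := CfsgLib.Solvable.pCore_spec (p := (s : ℕ)) (G := K)
    have hdvd : (s : ℕ) ∣ Nat.card K := by
      obtain ⟨n, hn⟩ := hP ⟨f, hf⟩
      have hn' : f ^ (s : ℕ) ^ n = 1 := congrArg Subtype.val hn
      obtain ⟨m, -, hm⟩ := (Nat.dvd_prime_pow s.2).1 (orderOf_dvd_of_pow_eq_one hn')
      rcases Nat.eq_zero_or_pos m with rfl | hm0
      · exact absurd (orderOf_eq_one_iff.1 hm) hf1
      · exact (dvd_pow_self (s : ℕ) hm0.ne').trans (hm ▸ orderOf_dvd_natCard f)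
    have hs2 : (s : ℕ) ≠ 2 := fun h =>
      Nat.not_even_iff_odd.2 hodd (even_iff_two_dvd.2 (h ▸ hdvd))
    have hsr : (s : ℕ) ≠ r := fun h => hcop (h ▸ hdvd)
    have hsq : (s : ℕ) ≠ q := fun h => hf1 ((eq_bot_iff_forall _).1 hq0 f (h ▸ hf))
    set Q := (Cfsg.pCore (s : ℕ) K).map K.subtype with hQdef
    have hℓQ : ℓ ∈ normalizer (Q : Set (MulAut V)) := by
      exact CfsgLib.OddLocal.UTool.normalizer_le_normalizer_map K _ (characteristic_iff_map_le.2 fun φ => CfsgLib.Solvable.le_pCore _ (hN.map φ.toMonoidHom φ.surjective) (hP.map _)) hℓK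
    have key := CfsgLib.OddLocal.FixedLine.fpf_centralizes (p := q) (s := (s : ℕ)) (r := r) hs2 hr
      hsq hrq hsr.symm (elementary hV) (x := κ ℓ)
      ((orderOf_injective κ SemidirectProduct.inr_injective ℓ).trans hℓ)
      (OddFixed.mem_normalizer_inl ℓ) (fixed_inr hfpf) (Q := Q.map κ) ((hP.map _).map κ)
      (by rintro _ ⟨a, -, rfl⟩; exact OddFixed.mem_normalizer_inl a)
      ((eq_bot_iff_forall _).2 fun w hw => by
        obtain ⟨a, -, rfl⟩ := hw.1
        rw [eq_one_of_centralizes hw.2, map_one])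
      (inr_mem_normalizer hℓQ)
    have := mem_centralizer_singleton_iff.1
      (key (mem_map_of_mem κ (mem_map_of_mem K.subtype hf)))
    exact SemidirectProduct.inr_injective (by rw [map_mul, map_mul]; exact this)
  set F := (Cfsg.fittingSubgroup K).map K.subtype with hF
  have hFℓ : F ≤ centralizer ({ℓ} : Set (MulAut V)) := by
    rw [hF, CfsgLib.Solvable.fittingSubgroup_eq_iSup_pCore, Subgroup.map_iSup, iSup_le_iff]
    rintro s _ ⟨f, hf, rfl⟩
    exact mem_centralizer_singleton_iff.2 (hcore s f hf).eq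
  have hFcomm : ∀ f ∈ F, ℓ * f * ℓ⁻¹ = f := fun f hf => by
    rw [← mem_centralizer_singleton_iff.1 (hFℓ hf), mul_inv_cancel_right]
  have hFn : ∀ k ∈ K, ∀ f ∈ F, k * f * k⁻¹ ∈ F := by
    rintro k hk _ ⟨f, hf, rfl⟩
    exact ⟨⟨k, hk⟩ * f * ⟨k, hk⟩⁻¹,
      (CfsgLib.Solvable.fittingSubgroup_normal (G := K)).conj_mem f hf _, rfl⟩
  have hstep : ∀ k ∈ K, k⁻¹ * (ℓ * k * ℓ⁻¹) ∈ F := by
    intro k hk
    have hk' : k⁻¹ * (ℓ * k * ℓ⁻¹) ∈ K := mul_mem (inv_mem hk) ((mem_normalizer_iff.1 hℓK k).1 hk)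
    refine ⟨⟨_, hk'⟩, CfsgLib.Fitting.centralizer_fittingSubgroup_le_of_solvable
      (mem_centralizer_iff.2 fun f hf => Subtype.ext ?_), rfl⟩
    have h1 := hFcomm _ (hFn k hk _ (mem_map_of_mem K.subtype hf))
    have h2 := hFcomm _ (mem_map_of_mem K.subtype hf)
    show (f : MulAut V) * (k⁻¹ * (ℓ * k * ℓ⁻¹)) = k⁻¹ * (ℓ * k * ℓ⁻¹) * (f : MulAut V)
    set g := (f : MulAut V)
    change ℓ * (k * g * k⁻¹) * ℓ⁻¹ = k * g * k⁻¹ at h1
    change ℓ * g * ℓ⁻¹ = g at h2
    calc g * (k⁻¹ * (ℓ * k * ℓ⁻¹))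
        = k⁻¹ * (k * g * k⁻¹) * (ℓ * k * ℓ⁻¹) := by group
      _ = k⁻¹ * (ℓ * (k * g * k⁻¹) * ℓ⁻¹) * (ℓ * k * ℓ⁻¹) := by rw [h1]
      _ = k⁻¹ * (ℓ * k * ℓ⁻¹) * (ℓ * g * ℓ⁻¹) := by group
      _ = _ := by rw [h2]
  have hfix : ∀ (n : ℕ), ∀ k ∈ K, k⁻¹ * (ℓ ^ n * k * (ℓ ^ n)⁻¹) ∈ F := by
    intro n
    induction n with
    | zero => intro k _; simp [one_mem]
    | succ n ih =>
      intro k hk
      have h := hFcomm _ (ih k hk)
      rw [show k⁻¹ * (ℓ ^ (n + 1) * k * (ℓ ^ (n + 1))⁻¹) =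
        k⁻¹ * (ℓ * k * ℓ⁻¹) * (ℓ * (k⁻¹ * (ℓ ^ n * k * (ℓ ^ n)⁻¹)) * ℓ⁻¹) by rw [pow_succ']; group, h]
      exact mul_mem (hstep k hk) (ih k hk)
  intro k hk
  have hAK : zpowers ℓ ≤ normalizer (K : Set (MulAut V)) := zpowers_le.2 hℓK
  have hc : (Nat.card (zpowers ℓ)).Coprime (Nat.card K) := by
    rw [Nat.card_zpowers, hℓ]
    exact (Fact.out : r.Prime).coprime_iff_not_dvd.2 hcop
  have hAF : zpowers ℓ ≤ normalizer (F : Set (MulAut V)) := by
    refine zpowers_le.2 (mem_normalizer_iff.2 fun f => ⟨fun hf => (hFcomm f hf).symm ▸ hf, fun hf => ?_⟩)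
    have := mem_centralizer_singleton_iff.1 (hFℓ hf)
    rw [show f = ℓ * f * ℓ⁻¹ by
      apply mul_left_cancel (a := ℓ)
      calc ℓ * f = ℓ * f * ℓ⁻¹ * ℓ := by group
        _ = ℓ * (ℓ * f * ℓ⁻¹) := this]
    exact hf
  obtain ⟨c, hc', hck⟩ := CfsgLib.CoprimeAct.exists_centralizing_mem_coset hAK hc
    (map_subtype_le _) hAF (Or.inl inferInstance) hk (fun a ha => by
      obtain ⟨n, rfl⟩ := Submonoid.mem_powers_iff _ _ |>.1 (mem_powers_iff_mem_zpowers.2 ha)
      exact hfix n k hk)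
  have h1 : c ∈ centralizer ({ℓ} : Set (MulAut V)) :=
    centralizer_le (Set.singleton_subset_iff.2 (mem_zpowers ℓ)) hc'.2
  have : k = c * (k⁻¹ * c)⁻¹ := by group
  rw [this]
  exact mul_mem h1 (inv_mem (hFℓ hck))

end CfsgLib.Bender.FpfCentral
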