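/-
Bender's theorem on strongly embedded subgroups: an automorphism of primitive prime order of an
elementary abelian two-group acts irreducibly, only the identity commutes with it and has a
nontrivial fixed point, and a group normalising it and fixing a nontrivial element is cyclic of
order dividing the rank.
-/
import Cfsg.Agent.GLElem.Singer
import Mathlib.Algebra.Module.ZMod
import Mathlib.GroupTheory.SpecificGroups.Cyclic

set_option autoImplicit false
set_option linter.style.haveILetI false
set_option linter.unusedSectionVars false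
set_option linter.unusedVariables false

namespace CfsgLib.Bender.Singer

section Linear

variable {V : Type*} [AddCommGroup V] [Module (ZMod 2) V] [Finite V] {k r : ℕ}
  {T : Module.End (ZMod 2) V}

theorem irred (hk : Nat.card V = 2 ^ k) (hr : r.Prime) (hp : orderOf (2 : ZMod r) = k)
    (hT : T ^ r = 1) (hT1 : T ≠ 1) : GLElem.Irred T := by
  have hfin : Module.finrank (ZMod 2) V = k := by
    have h := Module.natCard_eq_pow_finrank (K := ZMod 2) (V := V)
    rw [hk, Nat.card_zmod] at h
    exact (Nat.pow_right_injective le_rfl h).symm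
  have hr2 : r ≠ 2 := by
    rintro rfl
    have h0 : k = 0 := by
      rw [← hp, show (2 : ZMod 2) = 0 from rfl, orderOf_eq_zero_iff']
      intro n hn
      rw [zero_pow hn.ne']
      exact zero_ne_one
    have : Subsingleton V := (Nat.card_eq_one_iff_unique.mp (by rw [hk, h0, pow_zero])).1
    exact hT1 (LinearMap.ext fun v => Subsingleton.elim _ _)
  have hnd : ¬ r ∣ 2 := fun h => hr2 ((Nat.prime_dvd_prime_iff_eq hr Nat.prime_two).mp h)
  refine GLElem.irred_of_primitive (Nat.card_zmod 2) hr ?_ hnd ?_ hfin hT hT1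
  · rw [Ne, ZMod.natCast_eq_zero_iff]
    exact fun h => hr2 ((Nat.prime_dvd_prime_iff_eq Nat.prime_two hr).mp h).symm
  · exact_mod_cast hp

theorem eq_one_of_fixed (hT : GLElem.Irred T) {S : Module.End (ZMod 2) V} (hc : Commute S T) {v : V}
    (hv : v ≠ 0) (hS : S v = v) : S = 1 := by
  rcases hT (LinearMap.ker (S - 1)) (fun w hw => by
    rw [LinearMap.mem_ker, LinearMap.sub_apply, Module.End.one_apply, sub_eq_zero] at hw ⊢
    rw [← Module.End.mul_apply, hc.eq, Module.End.mul_apply, hw]) with h | h
  · exact absurd ((Submodule.eq_bot_iff _).mp h v (by simp [hS])) hv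
  · exact LinearMap.ext fun w => sub_eq_zero.mp (LinearMap.ker_eq_top.mp h ▸ rfl :
      (S - 1) w = 0)

theorem frobenius_pow_apply {K L : Type*} [Field K] [Fintype K] [Field L] [Algebra K L] (n : ℕ)
    (x : L) : (FiniteField.frobeniusAlgHom K L ^ n) x = x ^ Fintype.card K ^ n := by
  induction n with
  | zero => simp
  | succ n ih => rw [pow_succ', AlgHom.mul_apply, ih, FiniteField.coe_frobeniusAlgHom, pow_succ,
      pow_mul]

/-- A semilinear conjugation takes `T` to a conjugate of it under Frobenius. -/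
theorem exists_pow_two [Nontrivial V] (hT : GLElem.Irred T) (A : V ≃ₗ[ZMod 2] V) {j : ℕ}
    (h : ∀ v, A (T v) = (T ^ j) (A v)) : ∃ i : ℕ, T ^ j = T ^ 2 ^ i := by
  let 𝔸 := Algebra.adjoin (ZMod 2) ({T} : Set (Module.End (ZMod 2) V))
  haveI : Finite (Module.End (ZMod 2) V) :=
    Finite.of_injective (fun f : Module.End (ZMod 2) V => (f : V → V)) DFunLike.coe_injective
  haveI : Finite 𝔸 := Subtype.finite
  let Φ := LinearEquiv.conjAlgEquiv (ZMod 2) A
  have hΦ : Φ T = T ^ j := LinearMap.ext fun w => by
    show A (T (A.symm w)) = _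
    rw [h, A.apply_symm_apply]
  have hmem : ∀ a : 𝔸, (Φ.toAlgHom.comp 𝔸.val) a ∈ 𝔸 := fun a => by
    have : Subalgebra.map Φ.toAlgHom 𝔸 ≤ 𝔸 := by
      rw [AlgHom.map_adjoin, Algebra.adjoin_le_iff]
      rintro _ ⟨x, rfl, rfl⟩
      rw [show Φ.toAlgHom x = x ^ j from hΦ]
      exact pow_mem (Algebra.self_mem_adjoin_singleton _ _) j
    exact this ⟨a, a.2, rfl⟩
  letI : Field 𝔸 := (GLElem.isField_adjoin hT).toField
  let ψ : 𝔸 →ₐ[ZMod 2] 𝔸 := (Φ.toAlgHom.comp 𝔸.val).codRestrict 𝔸 hmem
  obtain ⟨i, hi⟩ := (FiniteField.bijective_frobeniusAlgHom_pow (ZMod 2) 𝔸).2 ψ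
  refine ⟨i, ?_⟩
  let τ : 𝔸 := ⟨T, Algebra.self_mem_adjoin_singleton _ _⟩
  have e := congrArg Subtype.val (DFunLike.congr_fun hi τ)
  rw [frobenius_pow_apply, ZMod.card, SubmonoidClass.coe_pow] at e
  exact hΦ.symm.trans e.symm

end Linear

section Group

variable {M : Type*} [CommGroup M] [Finite M] {k r : ℕ}

/-- An automorphism of primitive prime order of an elementary abelian two-group. -/
structure Prim (L : MulAut M) (k r : ℕ) : Prop where
  sq : ∀ m : M, m * m = 1
  card : Nat.card M = 2 ^ k
  prime : r.Prime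
  prim : orderOf (2 : ZMod r) = k
  order : orderOf L = r

theorem nsmul_two (hsq : ∀ m : M, m * m = 1) : ∀ x : Additive M, 2 • x = 0 := fun x =>
  (two_nsmul x).trans (hsq x.toMul)

/-- An automorphism as a linear map. -/
def endo [Module (ZMod 2) (Additive M)] (a : MulAut M) : Module.End (ZMod 2) (Additive M) :=
  (MulEquiv.toAdditive a).toAddMonoidHom.toZModLinearMap 2

theorem endo_apply [Module (ZMod 2) (Additive M)] (a : MulAut M) (m : M) :
    endo a (Additive.ofMul m) = Additive.ofMul (a m) := rfl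

theorem endo_mul [Module (ZMod 2) (Additive M)] (a b : MulAut M) :
    endo (a * b) = endo a * endo b := rfl

theorem endo_one [Module (ZMod 2) (Additive M)] : endo (1 : MulAut M) = 1 := rfl

theorem endo_pow [Module (ZMod 2) (Additive M)] (a : MulAut M) (n : ℕ) :
    endo (a ^ n) = endo a ^ n := by
  induction n with
  | zero => rw [pow_zero, pow_zero, endo_one]
  | succ n ih => rw [pow_succ, pow_succ, endo_mul, ih]

theorem endo_injective [Module (ZMod 2) (Additive M)] :
    Function.Injective (endo : MulAut M → Module.End (ZMod 2) (Additive M)) := fun a b h =>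
  MulEquiv.ext fun m => congrArg Additive.toMul (LinearMap.congr_fun h (Additive.ofMul m))

variable {L : MulAut M}

theorem Prim.exists_ne (hL : Prim L k r) : ∃ m : M, m ≠ 1 := by
  by_contra h
  push Not at h
  have : L = 1 := MulEquiv.ext fun m => (h _).trans (h m).symm
  exact hL.prime.ne_one (by rw [← hL.order, this, orderOf_one])

theorem Prim.irred_endo [Module (ZMod 2) (Additive M)] (hL : Prim L k r) :
    GLElem.Irred (endo L) := by
  refine irred (hk := ?_) hL.prime hL.prim ?_ ?_
  · rw [← hL.card]; exact Nat.card_congr Additive.toMul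
  · rw [← endo_pow, ← hL.order, pow_orderOf_eq_one, endo_one]
  · intro h
    rw [← endo_one] at h
    exact hL.prime.ne_one (by rw [← hL.order, endo_injective h, orderOf_one])

/-- A subgroup invariant under `L` is trivial or everything. -/
theorem Prim.eq_bot_or_top (hL : Prim L k r) {U : Subgroup M} (hU : ∀ u ∈ U, L u ∈ U) :
    U = ⊥ ∨ U = ⊤ := by
  letI : Module (ZMod 2) (Additive M) := AddCommGroup.zmodModule (nsmul_two hL.sq)
  rcases hL.irred_endo (AddSubgroup.toZModSubmodule 2 (Subgroup.toAddSubgroup U))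
    (fun w hw => hU w.toMul hw) with h | h
  · refine Or.inl ((Subgroup.eq_bot_iff_forall _).mpr fun u hu => ?_)
    exact congrArg Additive.toMul ((Submodule.eq_bot_iff _).mp h (Additive.ofMul u) hu)
  · refine Or.inr (eq_top_iff.mpr fun u _ => ?_)
    have : Additive.ofMul u ∈ AddSubgroup.toZModSubmodule 2 (Subgroup.toAddSubgroup U) := by
      rw [h]; trivial
    exact this

/-- Only the identity commutes with `L` and fixes a nontrivial element. -/
theorem Prim.eq_one_of_fixed (hL : Prim L k r) {a : MulAut M} (hc : Commute a L) {t : M}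
    (ht : t ≠ 1) (hat : a t = t) : a = 1 := by
  letI : Module (ZMod 2) (Additive M) := AddCommGroup.zmodModule (nsmul_two hL.sq)
  refine endo_injective ((Singer.eq_one_of_fixed hL.irred_endo (S := endo a) ?_
    (v := Additive.ofMul t) ht ?_).trans endo_one.symm)
  · show endo a * endo L = endo L * endo a
    rw [← endo_mul, ← endo_mul, hc.eq]
  · rw [endo_apply, hat]

/-- A conjugate of `L` that is a power of it is an iterated square. -/
theorem Prim.exists_pow_two (hL : Prim L k r) {a : MulAut M} {j : ℕ} (h : a * L * a⁻¹ = L ^ j) :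
    ∃ i : ℕ, L ^ j = L ^ 2 ^ i := by
  letI : Module (ZMod 2) (Additive M) := AddCommGroup.zmodModule (nsmul_two hL.sq)
  obtain ⟨m, hm⟩ := hL.exists_ne
  haveI : Nontrivial (Additive M) := ⟨⟨Additive.ofMul m, 0, hm⟩⟩
  let A : Additive M ≃ₗ[ZMod 2] Additive M :=
    { endo a with
      invFun := endo a⁻¹
      left_inv := fun v => congrArg Additive.ofMul (MulAut.inv_apply_self M a v.toMul)
      right_inv := fun v => congrArg Additive.ofMul (MulAut.apply_inv_self M a v.toMul) }
  obtain ⟨i, hi⟩ := Singer.exists_pow_two hL.irred_endo A (j := j) fun v => by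
    rw [← endo_pow]
    show (endo a * endo L) v = (endo (L ^ j) * endo a) v
    rw [← endo_mul, ← endo_mul, ← h, inv_mul_cancel_right]
  exact ⟨i, endo_injective (by rw [endo_pow, endo_pow, hi])⟩

/-- Automorphisms normalising `L` and fixing a nontrivial element form a cyclic group whose order
divides the rank. -/
theorem Prim.cyclic_of_fixed (hL : Prim L k r) {E : Subgroup (MulAut M)}
    (hN : ∀ e ∈ E, ∃ j : ℕ, e * L * e⁻¹ = L ^ j) {t : M} (ht : t ≠ 1) (hfix : ∀ e ∈ E, e t = t) :
    IsCyclic E ∧ Nat.card E ∣ k := by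
  classical
  haveI : Fact r.Prime := ⟨hL.prime⟩
  have hmod : ∀ a b : ℕ, L ^ a = L ^ b ↔ (a : ZMod r) = b := fun a b => by
    rw [pow_eq_pow_iff_modEq, hL.order, ZMod.natCast_eq_natCast_iff]
  choose j hj using fun e : E => hN e e.2
  have hmul : ∀ e f : E, (j (e * f) : ZMod r) = j e * j f := fun e f => by
    rw [← Nat.cast_mul, ← hmod, ← hj (e * f), Subgroup.coe_mul, mul_inv_rev,
      show (e : MulAut M) * f * L * ((f : MulAut M)⁻¹ * (e : MulAut M)⁻¹) =
        e * (f * L * (f : MulAut M)⁻¹) * (e : MulAut M)⁻¹ by group,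
      hj f, ← conj_pow, hj e, ← pow_mul]
  have hone : (j 1 : ZMod r) = 1 := by
    rw [← Nat.cast_one, ← hmod, ← hj 1, pow_one]
    simp
  let χ : E →* ZMod r :=
    { toFun := fun e => j e, map_one' := hone, map_mul' := hmul }
  have hinj : Function.Injective χ.toHomUnits := by
    rw [injective_iff_map_eq_one]
    intro e he
    have h1 : (j e : ZMod r) = (1 : ℕ) := by
      rw [Nat.cast_one]; exact congrArg Units.val he
    rw [← hmod, pow_one, ← hj e] at h1
    have hc : Commute (e : MulAut M) L := mul_inv_eq_iff_eq_mul.mp h1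
    exact Subtype.ext (hL.eq_one_of_fixed hc ht (hfix e e.2))
  have h2 : (2 : ZMod r) ≠ 0 := by
    intro h0
    have hk := hL.prim
    rw [h0, orderOf_eq_zero_iff'.mpr fun n hn => by rw [zero_pow hn.ne']; exact zero_ne_one] at hk
    obtain ⟨m, hm⟩ := hL.exists_ne
    haveI := (Nat.card_eq_one_iff_unique.mp (show Nat.card M = 1 by rw [hL.card, ← hk, pow_zero])).1
    exact hm (Subsingleton.elim _ _)
  let w : (ZMod r)ˣ := Units.mk0 2 h2
  have hw : ∀ e, χ.toHomUnits e ∈ Subgroup.zpowers w := fun e => by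
    obtain ⟨i, hi⟩ := hL.exists_pow_two (hj e)
    refine ⟨(i : ℤ), Units.ext ?_⟩
    rw [hmod, Nat.cast_pow] at hi
    show ((w ^ (i : ℤ) : (ZMod r)ˣ) : ZMod r) = (j e : ZMod r)
    rw [zpow_natCast, Units.val_pow_eq_pow_val, hi]
    simp [w]
  let ψ : E →* Subgroup.zpowers w := χ.toHomUnits.codRestrict _ hw
  have hψ : Function.Injective ψ := fun a b h => hinj (congrArg Subtype.val h)
  refine ⟨isCyclic_of_injective ψ hψ, ?_⟩
  have hcard : Nat.card (Subgroup.zpowers w) = k := by
    rw [Nat.card_zpowers, ← hL.prim, ← orderOf_units]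
    rfl
  rw [← hcard]
  exact Subgroup.card_dvd_of_injective ψ hψ

end Group

end CfsgLib.Bender.Singer
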