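/-
Bender's theorem on strongly embedded subgroups, the rank six case: a group of odd order permuting
the non-identity elements of an elementary abelian group of order 64 transitively is semilinear over
the field with 64 elements, so it has a normal subgroup of order 7 without fixed points and its
point stabilisers have order dividing 3.
-/
import Cfsg.Agent.Zassenhaus.Huppert
import Cfsg.Agent.S0205
import Cfsg.Agent.Bender.Singer

set_option autoImplicit false
set_option linter.style.haveILetI false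
set_option linter.unusedSectionVars false

namespace CfsgLib.Bender.KSix

universe u

variable {M : Type u} [CommGroup M] {F : Type} [Field F] (e : Additive M ≃+ F)

/-- The automorphism is `x ↦ a * x ^ 2 ^ i` in the coordinates of the field. -/
def Rep (g : MulAut M) (a : F) (i : ℕ) : Prop :=
  a ≠ 0 ∧ ∀ m : M, e (Additive.ofMul (g m)) = a * e (Additive.ofMul m) ^ 2 ^ i

variable {e} {g h : MulAut M} {a b : F} {i j : ℕ}

theorem Rep.one : Rep e (1 : MulAut M) (1 : F) 0 :=
  ⟨one_ne_zero, fun m => by rw [MulAut.one_apply]; simp⟩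

theorem Rep.mul (hg : Rep e g a i) (hh : Rep e h b j) : Rep e (g * h) (a * b ^ 2 ^ i) (i + j) := by
  refine ⟨mul_ne_zero hg.1 (pow_ne_zero _ hh.1), fun m => ?_⟩
  rw [MulAut.mul_apply, hg.2, hh.2, mul_pow, ← pow_mul, ← pow_add, add_comm i j, mul_assoc]

theorem Rep.pow (hg : Rep e g a i) : ∀ n : ℕ, ∃ c : F, Rep e (g ^ n) c (n * i)
  | 0 => ⟨1, by rw [pow_zero, Nat.zero_mul]; exact Rep.one⟩
  | n + 1 => by
    obtain ⟨c, hc⟩ := Rep.pow hg n
    exact ⟨_, by rw [pow_succ, Nat.succ_mul]; exact hc.mul hg⟩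

theorem Rep.frob_eq {i j : ℕ} [Finite F] (hF : Nat.card F = 64) (h : i % 6 = j % 6) (x : F) :
    x ^ 2 ^ i = x ^ 2 ^ j := by
  haveI := Fintype.ofFinite F
  have h64 : ∀ (n : ℕ) (y : F), y ^ 2 ^ (6 * n) = y := by
    intro n
    induction n with
    | zero => simp
    | succ n ih => intro y; rw [Nat.mul_succ, pow_add, pow_mul, ih, show (2 : ℕ) ^ 6 = Fintype.card F by
        rw [Fintype.card_eq_nat_card, hF]; rfl, FiniteField.pow_card]
  have hr : ∀ n : ℕ, x ^ 2 ^ n = x ^ 2 ^ (n % 6) := fun n => by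
    conv_lhs => rw [← Nat.div_add_mod n 6, pow_add, pow_mul x, h64]
  rw [hr i, hr j, h]

/-- The identity has only the trivial coordinates. -/
theorem Rep.eq_one [Finite F] (hF : Nat.card F = 64) (hg : Rep e (1 : MulAut M) a i) :
    a = 1 ∧ i % 6 = 0 := by
  obtain ⟨w, hw⟩ := IsCyclic.exists_monoid_generator (α := Fˣ)
  have hord : orderOf w = 63 := by
    rw [orderOf_eq_card_of_forall_mem_zpowers fun x => Submonoid.powers_le.mpr (Subgroup.mem_zpowers w) (hw x),
      Nat.card_units, hF]
  have key : ∀ x : F, x = a * x ^ 2 ^ i := fun x => by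
    have h := hg.2 (Additive.toMul (e.symm x))
    rwa [MulAut.one_apply, ofMul_toMul, e.apply_symm_apply] at h
  have ha : a = 1 := by simpa using (key 1).symm
  refine ⟨ha, ?_⟩
  have hw1 : w ^ 2 ^ i = w ^ 1 := Units.ext (by
    rw [Units.val_pow_eq_pow_val, pow_one]
    exact ((key w).trans (by rw [ha, one_mul])).symm)
  rw [pow_eq_pow_iff_modEq, hord, Nat.ModEq] at hw1
  rw [show 2 ^ i % 63 = 2 ^ (i % 6) % 63 by
    conv_lhs => rw [← Nat.div_add_mod i 6, pow_add, pow_mul, Nat.mul_mod, Nat.pow_mod]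
    norm_num] at hw1
  have h6 : i % 6 < 6 := Nat.mod_lt _ (by norm_num)
  interval_cases hi : i % 6 <;> first | rfl | (norm_num at hw1)

/-- Odd transitive groups on an elementary abelian group of order 64. -/
theorem main [Finite M] (hsq : ∀ m : M, m * m = 1) (hcard : Nat.card M = 2 ^ 6)
    (D : Subgroup (MulAut M)) (hodd : Odd (Nat.card D))
    (htr : ∀ s t : M, s ≠ 1 → t ≠ 1 → ∃ d ∈ D, d s = t) :
    (∃ L ∈ D, orderOf L = 7 ∧ (∀ m, L m = m → m = 1) ∧
      (∀ d ∈ D, ∃ n, d * L * d⁻¹ = L ^ 4 ^ n) ∧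
      ∀ d ∈ D, Commute d L → ∀ t : M, t ≠ 1 → d t = t → d = 1) ∧
    ∀ (E : Subgroup (MulAut M)) (t : M), E ≤ D → t ≠ 1 → (∀ d ∈ E, d t = t) →
      IsCyclic E ∧ Nat.card E ∣ 3 := by
  classical
  letI : Module (ZMod 2) (Additive M) := AddCommGroup.zmodModule (Singer.nsmul_two hsq)
  haveI : Fact (Nat.Prime 2) := ⟨Nat.prime_two⟩
  obtain ⟨m₀, hm₀⟩ : ∃ m : M, m ≠ 1 := by
    by_contra h
    push Not at h
    haveI : Subsingleton M := ⟨fun x y => (h x).trans (h y).symm⟩
    simp [Nat.card_unique] at hcard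
  haveI : Nontrivial (Additive M) := ⟨⟨Additive.ofMul m₀, 0, hm₀⟩⟩
  let toLin : MulAut M → (Additive M ≃ₗ[ZMod 2] Additive M) := fun g =>
    { Singer.endo g with
      invFun := Singer.endo g⁻¹
      left_inv := fun v => congrArg Additive.ofMul (MulAut.inv_apply_self M g v.toMul)
      right_inv := fun v => congrArg Additive.ofMul (MulAut.apply_inv_self M g v.toMul) }
  let ρ : D →* (Additive M ≃ₗ[ZMod 2] Additive M) :=
    { toFun := fun g => toLin g, map_one' := LinearEquiv.ext fun _ => rfl,
      map_mul' := fun _ _ => LinearEquiv.ext fun _ => rfl }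
  have hρ : Function.Injective ρ := fun g h hgh => Subtype.ext (MulEquiv.ext fun m =>
    congrArg Additive.toMul (LinearEquiv.congr_fun hgh (Additive.ofMul m)))
  rcases CfsgLib.Huppert.main (q := 2) (Cfsg.Agent.S0205.result hodd) ρ hρ
    (fun v w hv hw => by
      obtain ⟨d, hd, h⟩ := htr v.toMul w.toMul hv hw
      exact ⟨⟨d, hd⟩, congrArg Additive.ofMul h⟩) with h | h
  case inr =>
    rw [Nat.card_congr Additive.toMul, hcard] at h
    norm_num at h
  obtain ⟨F, _, hFfin, e, he⟩ := h
  haveI : Finite F := Finite.of_fintype F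
  have hF : Nat.card F = 64 := by
    rw [← Nat.card_congr e.toEquiv, Nat.card_congr Additive.toMul, hcard]; norm_num
  haveI : CharP F 2 := by
    have h2 : (2 : F) = 0 := by
      have := congrArg e (Singer.nsmul_two hsq (e.symm 1))
      rwa [map_zero, map_nsmul, e.apply_symm_apply, nsmul_eq_mul, mul_one, Nat.cast_ofNat] at this
    exact CharTwo.of_one_ne_zero_of_two_eq_zero one_ne_zero h2
  letI : Algebra (ZMod 2) F := ZMod.algebra F 2
  have hrep : ∀ d ∈ D, ∃ a i, Even i ∧ Rep e d a i := by
    intro d hd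
    obtain ⟨a, σ, h⟩ := he ⟨d, hd⟩
    have hσ : ∀ r : ZMod 2, σ (algebraMap (ZMod 2) F r) = algebraMap (ZMod 2) F r := fun r =>
      RingHom.congr_fun (Subsingleton.elim (σ.toRingHom.comp (algebraMap (ZMod 2) F)) (algebraMap (ZMod 2) F)) r
    obtain ⟨i, hi⟩ := (FiniteField.bijective_frobeniusAlgHom_pow (ZMod 2) F).2
      (AlgEquiv.ofRingEquiv hσ).toAlgHom
    have ha : a ≠ 0 := by
      intro h0
      have h' := h (e.symm 1)
      rw [h0, zero_mul, e.map_eq_zero_iff, LinearEquiv.map_eq_zero_iff, e.symm.map_eq_zero_iff] at h'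
      exact one_ne_zero h'
    have hr : Rep e d a i := ⟨ha, fun m => by
      have h' := h (Additive.ofMul m)
      have hs : σ (e (Additive.ofMul m)) = e (Additive.ofMul m) ^ 2 ^ (i : ℕ) := by
        have := DFunLike.congr_fun hi (e (Additive.ofMul m))
        rw [Singer.frobenius_pow_apply, ZMod.card] at this
        exact this.symm
      rw [← hs]; exact h'⟩
    refine ⟨a, i, ?_, hr⟩
    obtain ⟨c, hc⟩ := hr.pow (orderOf d)
    rw [pow_orderOf_eq_one] at hc
    have h6 := (hc.eq_one hF).2
    have ho : Odd (orderOf d) := hodd.of_dvd_nat (Subgroup.orderOf_dvd_natCard D hd)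
    have : Even (orderOf d * i) := even_iff_two_dvd.mpr ((by norm_num : 2 ∣ 6).trans (Nat.dvd_of_mod_eq_zero h6))
    rcases Nat.even_mul.mp this with h' | h'
    · exact absurd h' (Nat.not_even_iff_odd.mpr ho)
    · exact h'
  constructor
  · -- the subgroup of order seven
    have h7 : 7 ∣ Nat.card D := by
      letI : MulAction D M :=
        { smul := fun d m => (d : MulAut M) m, one_smul := fun m => rfl, mul_smul := fun a b m => rfl }
      have horb : MulAction.orbit D m₀ = {m | m ≠ 1} := by
        ext m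
        refine ⟨?_, fun hm => ?_⟩
        · rintro ⟨d, rfl⟩
          exact (MulEquiv.map_ne_one_iff (d : MulAut M)).mpr hm₀
        · obtain ⟨d, hd, h⟩ := htr m₀ m hm₀ hm
          exact ⟨⟨d, hd⟩, h⟩
      have h := MulAction.index_stabilizer D m₀
      rw [horb, show {m : M | m ≠ 1} = ({1}ᶜ : Set M) from rfl, Set.ncard_compl, Set.ncard_singleton,
        hcard] at h
      have h7' : 7 ∣ (MulAction.stabilizer D m₀).index := by rw [h]; norm_num
      exact h7'.trans (Subgroup.index_dvd_card _)
    haveI : Fact (Nat.Prime 7) := ⟨by norm_num⟩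
    obtain ⟨⟨L, hL⟩, hord⟩ := exists_prime_orderOf_dvd_card' 7 h7
    rw [Subgroup.orderOf_mk] at hord
    obtain ⟨a, i, hie, hr⟩ := hrep L hL
    obtain ⟨c, hc⟩ := hr.pow 7
    rw [← hord, pow_orderOf_eq_one, hord] at hc
    have hi6 : i % 6 = 0 := by
      have := (hc.eq_one hF).2
      omega
    have hLa : ∀ m, e (Additive.ofMul (L m)) = a * e (Additive.ofMul m) := fun m => by
      rw [hr.2, Rep.frob_eq hF (i := i) (j := 0) (by rw [hi6])]; simp
    have ha1 : a ≠ 1 := by
      intro ha
      have : L = 1 := MulEquiv.ext fun m => Additive.ofMul.injective (e.injective (by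
        rw [hLa, ha, one_mul]; rfl))
      rw [this, orderOf_one] at hord
      norm_num at hord
    have hLn : ∀ (n : ℕ) m, e (Additive.ofMul ((L ^ n) m)) = a ^ n * e (Additive.ofMul m) := by
      intro n
      induction n with
      | zero => intro m; simp
      | succ n ih => intro m; rw [pow_succ', MulAut.mul_apply, hLa, ih, pow_succ']; ring
    have ha7 : a ^ 7 = 1 := by
      have := hLn 7 (Additive.toMul (e.symm 1))
      rw [← hord, pow_orderOf_eq_one, hord, MulAut.one_apply, ofMul_toMul, e.apply_symm_apply,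
        mul_one] at this
      exact this.symm
    have hoa : orderOf a = 7 := orderOf_eq_prime ha7 ha1
    refine ⟨L, hL, hord, fun m hm => ?_, fun d hd => ?_, fun d hd hc t ht hdt => ?_⟩
    · have h := hLa m
      rw [hm] at h
      have : (a - 1) * e (Additive.ofMul m) = 0 := by rw [sub_mul, one_mul, ← h, sub_self]
      rcases mul_eq_zero.mp this with h' | h'
      · exact absurd (sub_eq_zero.mp h') ha1
      · exact (e.map_eq_zero_iff.mp h' :)
    · obtain ⟨b, j, ⟨n, rfl⟩, hdr⟩ := hrep d hd
      refine ⟨n, mul_inv_eq_iff_eq_mul.mpr (MulEquiv.ext fun m => Additive.ofMul.injective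
        (e.injective ?_))⟩
      rw [MulAut.mul_apply, MulAut.mul_apply, hdr.2, hLa, hLn, hdr.2, mul_pow,
        show (4 : ℕ) ^ n = 2 ^ (n + n) by rw [pow_add, ← mul_pow]; norm_num]
      ring
    · obtain ⟨b, j, hje, hdr⟩ := hrep d hd
      have hx : e (Additive.ofMul t) ≠ 0 := fun h => ht (e.map_eq_zero_iff.mp h :)
      have h1 := hdr.2 t
      rw [hdt] at h1
      have h2 : e (Additive.ofMul (d (L t))) = e (Additive.ofMul (L (d t))) := by
        rw [← MulAut.mul_apply, hc.eq, MulAut.mul_apply]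
      rw [hdr.2, hLa, hdt, hLa, mul_pow] at h2
      have h3 : a ^ 2 ^ j = a ^ 1 := by
        apply mul_right_cancel₀ hx
        calc a ^ 2 ^ j * e (Additive.ofMul t)
            = b * (a ^ 2 ^ j * e (Additive.ofMul t) ^ 2 ^ j) := by
              conv_lhs => rw [h1]
              ring
          _ = _ := by rw [h2, pow_one]
      rw [(orderOf_pos_iff.mp (by rw [hoa]; norm_num) : IsOfFinOrder a).pow_eq_pow_iff_modEq, hoa,
        Nat.ModEq] at h3
      have hj3 : j % 3 = 0 := by
        rw [show 2 ^ j % 7 = 2 ^ (j % 3) % 7 by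
          conv_lhs => rw [← Nat.div_add_mod j 3, pow_add, pow_mul, Nat.mul_mod, Nat.pow_mod]
          norm_num] at h3
        have : j % 3 < 3 := Nat.mod_lt _ (by norm_num)
        interval_cases hj : j % 3 <;> first | rfl | (norm_num at h3)
      have hj6 : j % 6 = 0 % 6 := by obtain ⟨n, rfl⟩ := hje; omega
      rw [Rep.frob_eq hF hj6, pow_zero, pow_one] at h1
      have hb : b = 1 := mul_right_cancel₀ hx (by rw [one_mul]; exact h1.symm)
      refine MulEquiv.ext fun m => Additive.ofMul.injective (e.injective ?_)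
      rw [hdr.2, Rep.frob_eq hF hj6, hb, pow_zero, pow_one, one_mul]
      rfl
  · intro E t hED ht hfix
    have hx : e (Additive.ofMul t) ≠ 0 := fun h => ht (e.map_eq_zero_iff.mp h :)
    choose b j hje hdr using fun d : E => hrep d.1 (hED d.2)
    let f : E → Fin 3 := fun d => ⟨(j d % 6) / 2, by omega⟩
    have hinj : Function.Injective f := by
      intro d d' hdd
      have hj : j d % 6 = j d' % 6 := by
        have := Fin.mk.inj_iff.mp hdd
        obtain ⟨n, hn⟩ := hje d
        obtain ⟨n', hn'⟩ := hje d'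
        omega
      have hb : b d = b d' := by
        have h1 := (hdr d).2 t
        have h2 := (hdr d').2 t
        rw [hfix d d.2] at h1
        rw [hfix d' d'.2, ← Rep.frob_eq hF hj] at h2
        exact mul_right_cancel₀ (pow_ne_zero _ hx) (h1.symm.trans h2)
      refine Subtype.ext (MulEquiv.ext fun m => Additive.ofMul.injective (e.injective ?_))
      rw [(hdr d).2, (hdr d').2, hb, Rep.frob_eq hF hj]
    have hle : Nat.card E ≤ 3 := (Nat.card_le_card_of_injective f hinj).trans (Nat.card_fin 3).le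
    have ho : Odd (Nat.card E) := hodd.of_dvd_nat (Subgroup.card_dvd_of_le hED)
    haveI : Fact (Nat.Prime 3) := ⟨Nat.prime_three⟩
    rcases ho with ⟨n, hn⟩
    have : n = 0 ∨ n = 1 := by omega
    rcases this with rfl | rfl
    · haveI : Subsingleton E := (Nat.card_eq_one_iff_unique.mp hn).1
      exact ⟨inferInstance, hn ▸ one_dvd 3⟩
    · exact ⟨isCyclic_of_prime_card hn, hn ▸ dvd_rfl⟩

end CfsgLib.Bender.KSix
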