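/-
Bender's theorem on strongly embedded subgroups: a group of odd order permuting the non-identity
elements of an elementary abelian two-group transitively is semilinear over the field of the same
order; properties of its linear part.
-/
import Cfsg.Agent.Bender.KSix
import Cfsg.Agent.KGroup.Primitive2

set_option autoImplicit false
set_option linter.style.haveILetI false
set_option linter.unusedSectionVars false

namespace CfsgLib.Bender.Semilinear

open CfsgLib.Bender.KSix (Rep)

universe u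

variable {M : Type u} [CommGroup M]

/-- An odd group permuting the non-identity elements transitively is semilinear. -/
theorem exists_coord [Finite M] (hsq : ∀ m : M, m * m = 1) {k : ℕ} (hk : 2 ≤ k)
    (hcard : Nat.card M = 2 ^ k) (D : Subgroup (MulAut M)) (hodd : Odd (Nat.card D))
    (htr : ∀ s t : M, s ≠ 1 → t ≠ 1 → ∃ d ∈ D, d s = t) :
    ∃ (F : Type) (_ : Field F) (_ : Finite F) (e : Additive M ≃+ F),
      Nat.card F = 2 ^ k ∧ ∀ d ∈ D, ∃ a i, Rep e d a i := by
  classical
  letI : Module (ZMod 2) (Additive M) := AddCommGroup.zmodModule (Singer.nsmul_two hsq)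
  haveI : Fact (Nat.Prime 2) := ⟨Nat.prime_two⟩
  obtain ⟨m₀, hm₀⟩ : ∃ m : M, m ≠ 1 := by
    by_contra h
    push Not at h
    haveI : Subsingleton M := ⟨fun x y => (h x).trans (h y).symm⟩
    rw [Nat.card_unique] at hcard
    have := Nat.pow_le_pow_right (show 1 ≤ 2 by norm_num) hk
    omega
  haveI : Nontrivial (Additive M) := ⟨⟨Additive.ofMul m₀, 0, hm₀⟩⟩
  let toLin : MulAut M → (Additive M ≃ₗ[ZMod 2] Additive M) := fun g =>
    { Singer.endo g with
      invFun := Singer.endo g⁻¹
      left_inv := fun v => congrArg Additive.ofMul (MulAut.inv_apply_self M g v.toMul)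
      right_inv := fun v => congrArg Additive.ofMul (MulAut.apply_inv_self M g v.toMul) }
  let ρ : D →* (Additive M ≃ₗ[ZMod 2] Additive M) :=
    { toFun := fun g => toLin g, map_one' := LinearEquiv.ext fun _ => rfl,
      map_mul' := fun _ _ => LinearEquiv.ext fun _ => rfl }
  have hρ : Function.Injective ρ := fun g h hgh => Subtype.ext (MulEquiv.ext fun m =>
    congrArg Additive.toMul (LinearEquiv.congr_fun hgh (Additive.ofMul m)))
  rcases CfsgLib.Huppert.main (q := 2) (Cfsg.Agent.S0205.result hodd) ρ hρ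
    (fun v w hv hw => by
      obtain ⟨d, hd, h⟩ := htr v.toMul w.toMul hv hw
      exact ⟨⟨d, hd⟩, congrArg Additive.ofMul h⟩) with h | h
  case inr =>
    exfalso
    rw [Nat.card_congr Additive.toMul, hcard] at h
    have heven : Even (2 ^ k) := even_two.pow_of_ne_zero (by omega)
    simp only [Set.mem_insert_iff, Set.mem_singleton_iff] at h
    rcases h with h | h | h | h | h | h <;> rw [h] at heven <;>
      exact absurd heven (by decide)
  obtain ⟨F, _, hFfin, e, he⟩ := h
  haveI : Finite F := Finite.of_fintype F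
  have hF : Nat.card F = 2 ^ k := by
    rw [← Nat.card_congr e.toEquiv, Nat.card_congr Additive.toMul, hcard]
  haveI : CharP F 2 := by
    have h2 : (2 : F) = 0 := by
      have := congrArg e (Singer.nsmul_two hsq (e.symm 1))
      rwa [map_zero, map_nsmul, e.apply_symm_apply, nsmul_eq_mul, mul_one, Nat.cast_ofNat] at this
    exact CharTwo.of_one_ne_zero_of_two_eq_zero one_ne_zero h2
  letI : Algebra (ZMod 2) F := ZMod.algebra F 2
  refine ⟨F, inferInstance, inferInstance, e, hF, fun d hd => ?_⟩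
  obtain ⟨a, σ, h⟩ := he ⟨d, hd⟩
  have hσ : ∀ r : ZMod 2, σ (algebraMap (ZMod 2) F r) = algebraMap (ZMod 2) F r := fun r =>
    RingHom.congr_fun (Subsingleton.elim (σ.toRingHom.comp (algebraMap (ZMod 2) F))
      (algebraMap (ZMod 2) F)) r
  obtain ⟨i, hi⟩ := (FiniteField.bijective_frobeniusAlgHom_pow (ZMod 2) F).2
    (AlgEquiv.ofRingEquiv hσ).toAlgHom
  refine ⟨a, i, ?_, fun m => ?_⟩
  · intro h0
    have h' := h (e.symm 1)
    rw [h0, zero_mul, e.map_eq_zero_iff, LinearEquiv.map_eq_zero_iff, e.symm.map_eq_zero_iff] at h'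
    exact one_ne_zero h'
  · have h' := h (Additive.ofMul m)
    have hs : σ (e (Additive.ofMul m)) = e (Additive.ofMul m) ^ 2 ^ (i : ℕ) := by
      have := DFunLike.congr_fun hi (e (Additive.ofMul m))
      rw [Singer.frobenius_pow_apply, ZMod.card] at this
      exact this.symm
    rw [← hs]; exact h'

/-- A prime dividing `2 ^ k - 1` that detects the exponent of a semilinear map of odd order. -/
theorem exists_detecting_prime {k : ℕ} (hk : 2 ≤ k) :
    ∃ r : ℕ, r.Prime ∧ r ∣ 2 ^ k - 1 ∧ ¬ r ∣ k ∧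
      ∀ i j : ℕ, Odd j → k ∣ j * i → r ∣ 2 ^ i - 1 → k ∣ i := by
  by_cases h6 : k = 6
  · subst h6
    refine ⟨7, by norm_num, by norm_num, by norm_num, fun i j hj hji hi => ?_⟩
    have h2 : Even i := by
      have : Even (j * i) := even_iff_two_dvd.2 ((by norm_num : 2 ∣ 6).trans hji)
      exact (Nat.even_mul.1 this).resolve_left (Nat.not_even_iff_odd.2 hj)
    have h3 : i % 3 = 0 := by
      have hm : 2 ^ i % 7 = 1 := by
        have h1 : 1 ≤ 2 ^ i := Nat.one_le_two_pow
        obtain ⟨c, hc⟩ := hi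
        omega
      rw [show 2 ^ i % 7 = 2 ^ (i % 3) % 7 by
        conv_lhs => rw [← Nat.div_add_mod i 3, pow_add, pow_mul, Nat.mul_mod, Nat.pow_mod]
        norm_num] at hm
      have : i % 3 < 3 := Nat.mod_lt _ (by norm_num)
      interval_cases h : i % 3 <;> first | rfl | (norm_num at hm)
    obtain ⟨c, rfl⟩ := h2
    omega
  obtain ⟨r, hr, hdvd⟩ := CfsgLib.Primitive2.exists_primitive hk h6
  refine ⟨r, hr, (hdvd k).2 dvd_rfl, fun h => ?_, fun i j _ _ hi => (hdvd i).1 hi⟩
  haveI := Fact.mk hr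
  have hr2 : r ≠ 2 := by
    rintro rfl
    have := (hdvd k).2 dvd_rfl
    have h1 : 1 ≤ 2 ^ k := Nat.one_le_two_pow
    obtain ⟨c, hc⟩ := this
    have : Even (2 ^ k) := even_two.pow_of_ne_zero (by omega)
    obtain ⟨d, hd⟩ := this
    omega
  have hf : r ∣ 2 ^ (r - 1) - 1 := by
    rw [← ZMod.natCast_eq_zero_iff, Nat.cast_sub Nat.one_le_two_pow, Nat.cast_pow, Nat.cast_one,
      sub_eq_zero]
    refine ZMod.pow_card_sub_one_eq_one fun h0 => hr2 ?_
    exact (Nat.prime_dvd_prime_iff_eq hr Nat.prime_two).1 ((ZMod.natCast_eq_zero_iff 2 r).1 h0)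
  have hle := Nat.le_of_dvd (by have := hr.two_le; omega) ((hdvd (r - 1)).1 hf)
  have := Nat.le_of_dvd (by omega) h
  omega

variable {F : Type} [Field F] [Finite F] {e : Additive M ≃+ F} {k : ℕ}

/-- The automorphism is multiplication by a scalar in the coordinates of the field. -/
def Lin (e : Additive M ≃+ F) (d : MulAut M) : Prop := ∃ a, Rep e d a 0

theorem lin_one : Lin e (1 : MulAut M) := ⟨1, Rep.one⟩

theorem Lin.mul {c d : MulAut M} (hc : Lin e c) (hd : Lin e d) : Lin e (c * d) := by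
  obtain ⟨a, ha⟩ := hc
  obtain ⟨b, hb⟩ := hd
  exact ⟨_, ha.mul hb⟩

theorem Lin.commute {c d : MulAut M} (hc : Lin e c) (hd : Lin e d) : Commute c d := by
  obtain ⟨a, ha⟩ := hc
  obtain ⟨b, hb⟩ := hd
  refine MulEquiv.ext fun m => Additive.ofMul.injective (e.injective ?_)
  rw [(ha.mul hb).2, (hb.mul ha).2]
  simp [mul_comm]

theorem Lin.inv {c : MulAut M} (hc : Lin e c) : Lin e c⁻¹ := by
  obtain ⟨a, ha⟩ := hc
  refine ⟨a⁻¹, inv_ne_zero ha.1, fun m => ?_⟩
  have h := ha.2 (c⁻¹ m)
  rw [MulAut.apply_inv_self] at h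
  simp only [pow_zero, pow_one] at h ⊢
  rw [h, inv_mul_cancel_left₀ ha.1]

/-- The linear maps in a group. -/
def linPart (e : Additive M ≃+ F) : Subgroup (MulAut M) where
  carrier := {d | Lin e d}
  one_mem' := lin_one
  mul_mem' := Lin.mul
  inv_mem' := Lin.inv

theorem mem_linPart {d : MulAut M} : d ∈ linPart e ↔ Lin e d := Iff.rfl

variable (hF : Nat.card F = 2 ^ k)
include hF

theorem frob_eq {i j : ℕ} (h : i % k = j % k) (x : F) : x ^ 2 ^ i = x ^ 2 ^ j := by
  haveI := Fintype.ofFinite F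
  have hcardF : Fintype.card F = 2 ^ k := by rw [Fintype.card_eq_nat_card, hF]
  have hk : ∀ (n : ℕ) (y : F), y ^ 2 ^ (k * n) = y := by
    intro n
    induction n with
    | zero => simp
    | succ n ih =>
      intro y
      rw [Nat.mul_succ, pow_add, pow_mul, ih, ← hcardF, FiniteField.pow_card]
  have hr : ∀ n : ℕ, x ^ 2 ^ n = x ^ 2 ^ (n % k) := fun n => by
    conv_lhs => rw [← Nat.div_add_mod n k, pow_add, pow_mul x, hk]
  rw [hr i, hr j, h]

theorem eq_one_rep (hk : 2 ≤ k) {a : F} {i : ℕ} (hg : Rep e (1 : MulAut M) a i) :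
    a = 1 ∧ k ∣ i := by
  obtain ⟨w, hw⟩ := IsCyclic.exists_monoid_generator (α := Fˣ)
  have hord : orderOf w = 2 ^ k - 1 := by
    rw [orderOf_eq_card_of_forall_mem_zpowers fun x =>
      Submonoid.powers_le.mpr (Subgroup.mem_zpowers w) (hw x), Nat.card_units, hF]
  have key : ∀ x : F, x = a * x ^ 2 ^ i := fun x => by
    have h := hg.2 (Additive.toMul (e.symm x))
    rwa [MulAut.one_apply, ofMul_toMul, e.apply_symm_apply] at h
  have ha : a = 1 := by simpa using (key 1).symm
  refine ⟨ha, ?_⟩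
  have hw1 : w ^ 2 ^ (i % k) = w ^ 1 := Units.ext (by
    rw [Units.val_pow_eq_pow_val, pow_one, frob_eq hF (j := i) (Nat.mod_mod i k)]
    exact ((key w).trans (by rw [ha, one_mul])).symm)
  rw [pow_eq_pow_iff_modEq, hord, Nat.ModEq] at hw1
  have h1 : i % k < k := Nat.mod_lt _ (by omega)
  have h2 : 2 ^ (i % k) * 2 ≤ 2 ^ k := by
    rw [← pow_succ]; exact Nat.pow_le_pow_right (by norm_num) h1
  have h4 : 4 ≤ 2 ^ k := by
    calc 4 = 2 ^ 2 := rfl
      _ ≤ 2 ^ k := Nat.pow_le_pow_right (by norm_num) hk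
  rw [Nat.mod_eq_of_lt (show 2 ^ (i % k) < 2 ^ k - 1 by omega),
    Nat.mod_eq_of_lt (show 1 < 2 ^ k - 1 by omega)] at hw1
  exact Nat.dvd_of_mod_eq_zero (by simpa using hw1)

theorem lin_of_dvd {d : MulAut M} {a : F} {i : ℕ} (hd : Rep e d a i) (h : k ∣ i) : Lin e d :=
  ⟨a, hd.1, fun m => by
    rw [hd.2, frob_eq hF (i := i) (j := 0) (by rw [Nat.dvd_iff_mod_eq_zero.1 h, Nat.zero_mod])]⟩

/-- An element of order prime to the rank is linear. -/
theorem lin_of_coprime (hk : 2 ≤ k) {d : MulAut M} {a : F} {i n : ℕ} (hd : Rep e d a i)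
    (hn : d ^ n = 1) (hc : n.Coprime k) : Lin e d := by
  obtain ⟨c, hc'⟩ := hd.pow n
  rw [hn] at hc'
  exact lin_of_dvd hF hd (hc.symm.dvd_of_dvd_mul_left (eq_one_rep hF hk hc').2)

/-- An element of odd order commuting with a linear map of detecting order is linear. -/
theorem lin_of_commute (hk : 2 ≤ k) {r : ℕ} (hr : r.Prime)
    (hdet : ∀ i j : ℕ, Odd j → k ∣ j * i → r ∣ 2 ^ i - 1 → k ∣ i) {L d : MulAut M}
    (hL : Lin e L) (hLo : orderOf L = r) {a : F} {i : ℕ} (hd : Rep e d a i)
    (hodd : Odd (orderOf d)) (hc : Commute d L) : Lin e d := by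
  obtain ⟨b, hb⟩ := hL
  obtain ⟨c, hc'⟩ := hd.pow (orderOf d)
  rw [pow_orderOf_eq_one] at hc'
  refine lin_of_dvd hF hd (hdet i _ hodd (eq_one_rep hF hk hc').2 ?_)
  have h1 := (hd.mul hb).2
  have h2 := (hb.mul hd).2
  obtain ⟨m, hm⟩ : ∃ m : M, e (Additive.ofMul m) = 1 :=
    ⟨Additive.toMul (e.symm 1), by rw [ofMul_toMul, e.apply_symm_apply]⟩
  have h3 := h1 m
  rw [hc.eq, h2 m, hm] at h3
  simp only [pow_zero, pow_one, one_pow, mul_one] at h3
  have hb' : b ^ 2 ^ i = b ^ 1 := by
    rw [pow_one]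
    exact mul_left_cancel₀ hd.1 (by rw [← h3, mul_comm])
  have hb1 : b ≠ 1 := by
    rintro rfl
    have : L = 1 := MulEquiv.ext fun m => Additive.ofMul.injective (e.injective (by
      rw [hb.2, MulAut.one_apply]; simp))
    rw [this, orderOf_one] at hLo
    exact hr.one_lt.ne hLo
  haveI := Fact.mk hr
  have hbr : b ^ r = 1 := by
    obtain ⟨c', hc''⟩ := hb.pow r
    have hLr : L ^ r = 1 := hLo ▸ pow_orderOf_eq_one L
    have hval : ∀ n, Rep e (L ^ n) (b ^ n) 0 := by
      intro n
      induction n with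
      | zero => simpa using (Rep.one (e := e))
      | succ n ih => simpa [pow_succ] using ih.mul hb
    have := hval r
    rw [hLr] at this
    exact (eq_one_rep hF hk this).1
  have hbo : orderOf b = r := orderOf_eq_prime hbr hb1
  rw [(orderOf_pos_iff.1 (hbo ▸ hr.pos)).pow_eq_pow_iff_modEq, hbo] at hb'
  exact (Nat.modEq_iff_dvd' Nat.one_le_two_pow).1 hb'.symm

/-- A linear map with a nontrivial fixed point is trivial. -/
theorem Lin.eq_one_of_fixed {d : MulAut M} (hd : Lin e d) {t : M} (ht : t ≠ 1) (hdt : d t = t) :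
    d = 1 := by
  obtain ⟨a, ha⟩ := hd
  have hx : e (Additive.ofMul t) ≠ 0 := fun h => ht (e.map_eq_zero_iff.mp h :)
  have h1 := ha.2 t
  rw [hdt, pow_zero, pow_one] at h1
  have ha1 : a = 1 := mul_right_cancel₀ hx (by rw [one_mul]; exact h1.symm)
  refine MulEquiv.ext fun m => Additive.ofMul.injective (e.injective ?_)
  rw [ha.2, ha1, pow_zero, pow_one, one_mul]
  rfl

omit hF in
/-- The linear part is cyclic. -/
theorem isCyclic_linPart (P : Subgroup (MulAut M)) (hP : P ≤ linPart e) : IsCyclic P := by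
  choose a ha using fun d : P => mem_linPart.1 (hP d.2)
  obtain ⟨m, hm⟩ : ∃ m : M, e (Additive.ofMul m) = 1 :=
    ⟨Additive.toMul (e.symm 1), by rw [ofMul_toMul, e.apply_symm_apply]⟩
  have hval : ∀ d : P, e (Additive.ofMul ((d : MulAut M) m)) = a d := fun d => by
    rw [(ha d).2, hm, pow_zero, pow_one, mul_one]
  let f : P →* Fˣ :=
    { toFun := fun d => Units.mk0 (a d) (ha d).1
      map_one' := Units.ext (by
        show a 1 = 1
        rw [← hval 1, Subgroup.coe_one, MulAut.one_apply, hm])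
      map_mul' := fun c d => Units.ext (by
        show a (c * d) = a c * a d
        rw [← hval (c * d), Subgroup.coe_mul, MulAut.mul_apply, (ha c).2, hval d, pow_zero, pow_one]) }
  refine isCyclic_of_injective f fun c d h => Subtype.ext (MulEquiv.ext fun x =>
    Additive.ofMul.injective (e.injective ?_))
  have h' : a c = a d := congrArg Units.val h
  rw [(ha c).2, (ha d).2, h']

/-- A conjugate of a linear map is one of its powers. -/
theorem Lin.conj {g d : MulAut M} {a : F} {i : ℕ} (hg : Rep e g a i) (hd : Lin e d) :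
    g * d * g⁻¹ = d ^ 2 ^ i := by
  obtain ⟨b, hb⟩ := hd
  have hval : ∀ n, Rep e (d ^ n) (b ^ n) 0 := by
    intro n
    induction n with
    | zero => simpa using (Rep.one (e := e))
    | succ n ih => simpa [pow_succ] using ih.mul hb
  refine mul_inv_eq_iff_eq_mul.2 (MulEquiv.ext fun m => Additive.ofMul.injective (e.injective ?_))
  rw [(hg.mul hb).2, ((hval _).mul hg).2]
  simp only [pow_zero, pow_one, zero_add, add_zero]
  ring

end CfsgLib.Bender.Semilinear
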