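import Cfsg.Agent.Bender.CoreC6
import Cfsg.Agent.Bender.CoreT
import Cfsg.Agent.Bender.Semilinear
import Cfsg.Agent.Bender.FpfCentral

/-!
The core of a strongly embedded subgroup, step C7, first part: the action of a point stabilizer on
the elementary abelian group of the involutions fixing the point, and two facts about elements of
prime order dividing the number of these involutions.
-/

set_option autoImplicit false
set_option linter.unusedSectionVars false
set_option linter.style.haveILetI false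

namespace CfsgLib.Bender.Core.CSeven

open Subgroup
open CfsgLib.FusionLift (cj mem_cj card_cj)
open CfsgLib.Bender.GSide
open CfsgLib.Bender.Core.CSix (InvolComm vee mem_vee invol_mem_vee st_le_normalizer_vee)
open CfsgLib.Bender.Semilinear (Lin)
open CfsgLib.Bender.KSix (Rep)

universe u

variable {G : Type u} [Group G] [Finite G] {H : Subgroup G}

section Group

variable {p : ℕ} [Fact p.Prime]

omit [Finite G] in
theorem mem_normalizer_zpowers [Finite G] {k x : G} (h : k * x * k⁻¹ ∈ zpowers x) :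
    k ∈ normalizer (zpowers x : Set G) := by
  refine mem_norm_iff.2 (cj_eq_of_le ?_ le_rfl)
  show (zpowers x).map _ ≤ _
  rw [MonoidHom.map_zpowers]
  exact zpowers_le.2 h

omit [Finite G] in
/-- A `p`-element normalizing a subgroup of order `p` centralizes it. -/
theorem commute_of_conj_pow {n : ℕ} {x y : G} (hx : orderOf x = p) (hy : y ^ p ^ n = 1)
    (h : y * x * y⁻¹ ∈ zpowers x) [Finite G] : Commute y x := by
  obtain ⟨i, hi⟩ := mem_powers_iff_mem_zpowers.2 h
  have hi' : y * x * y⁻¹ = x ^ i := hi.symm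
  have hk : ∀ j : ℕ, y ^ j * x * (y ^ j)⁻¹ = x ^ (i ^ j) := by
    intro j
    induction j with
    | zero => simp
    | succ j ihj =>
      calc y ^ (j + 1) * x * (y ^ (j + 1))⁻¹ = y * (y ^ j * x * (y ^ j)⁻¹) * y⁻¹ := by
            rw [pow_succ']; group
        _ = x ^ (i ^ (j + 1)) := by rw [ihj, ← conj_pow, hi', ← pow_mul, pow_succ']
  have h1 := hk (p ^ n)
  rw [hy, one_mul, inv_one, mul_one] at h1
  have h2 : x ^ (i ^ p ^ n) = x ^ i := by
    rw [pow_eq_pow_iff_modEq, hx, ← ZMod.natCast_eq_natCast_iff, Nat.cast_pow, ZMod.pow_card_pow]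
  exact mul_inv_eq_iff_eq_mul.1 (by rw [hi', ← h2, ← h1])

omit [Finite G] in
theorem exists_pow_eq_one {R : Subgroup G} (hR : IsPGroup p R) {g : G} (hg : g ∈ R) :
    ∃ n : ℕ, g ^ p ^ n = 1 := by
  obtain ⟨n, hn⟩ := hR ⟨g, hg⟩
  exact ⟨n, congrArg Subtype.val hn⟩

omit [Finite G] in
theorem orderOf_eq_of_prime {R : Subgroup G} (hR : IsPGroup p R) {g : G} (hg : g ∈ R)
    (hg' : (orderOf g).Prime) : orderOf g = p := by
  obtain ⟨n, hn⟩ := exists_pow_eq_one hR hg
  exact (Nat.prime_dvd_prime_iff_eq hg' Fact.out).1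
    (hg'.dvd_of_dvd_pow (orderOf_dvd_of_pow_eq_one hn))

theorem isPGroup_zpowers {x : G} (hx : orderOf x = p) : IsPGroup p (zpowers x) :=
  IsPGroup.of_card (n := 1) (by rw [Nat.card_zpowers, hx, pow_one])

/-- An element without commuting involution has centralizer of odd order. -/
theorem odd_centralizer {x : G} (h : ∀ w : G, orderOf w = 2 → ¬ Commute x w) :
    Odd (Nat.card (centralizer ({x} : Set G))) := by
  haveI : Fact (Nat.Prime 2) := ⟨Nat.prime_two⟩
  by_contra hev
  obtain ⟨w, hw⟩ := exists_prime_orderOf_dvd_card' (G := centralizer ({x} : Set G)) 2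
    (even_iff_two_dvd.1 (Nat.not_odd_iff_even.1 hev))
  exact h w (by rwa [Subgroup.orderOf_coe]) (mem_centralizer_singleton_iff.1 w.2).symm

/-- An element of odd order does not interchange two points. -/
theorem eq_of_odd_swap {α : Type*} [MulAction G α] {g : G} (hg : Odd (orderOf g)) {a b : α}
    (hga : g • a = b) (hgb : g • b = a) : a = b := by
  obtain ⟨m, hm⟩ := hg
  have h2 : ∀ j : ℕ, (g ^ (2 * j)) • a = a := by
    intro j
    induction j with
    | zero => simp
    | succ j ihj =>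
      rw [show 2 * (j + 1) = 2 + 2 * j by ring, pow_add, mul_smul, ihj, sq, mul_smul, hga, hgb]
  have h3 : (g ^ orderOf g) • a = b := by rw [hm, pow_succ', mul_smul, h2, hga]
  rwa [pow_orderOf_eq_one, one_smul] at h3

end Group

section Vee

variable (hV : InvolComm H) (a : G ⧸ H)

theorem sq_vee (v : vee hV a) : v * v = 1 := Subtype.ext v.2.1

instance commVee : CommGroup (vee hV a) :=
  { (inferInstance : Group (vee hV a)) with
    mul_comm := fun v w => by
      have h := sq_vee hV a (v * w)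
      rw [mul_eq_one_iff_eq_inv, mul_inv_rev] at h
      rwa [inv_eq_of_mul_eq_one_right (sq_vee hV a v),
        inv_eq_of_mul_eq_one_right (sq_vee hV a w)] at h }

/-- The action of the stabilizer of a point on its involutions. -/
def act : st a →* MulAut (vee hV a) :=
  (normalizerMonoidHom (vee hV a)).comp (Subgroup.inclusion (st_le_normalizer_vee hV a))

variable {hV a}

theorem act_apply (g : st a) (v : vee hV a) :
    ((act hV a g v : vee hV a) : G) = g * v * (g : G)⁻¹ := rfl

theorem act_eq_one {g : st a} :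
    act hV a g = 1 ↔ (g : G) ∈ centralizer (vee hV a : Set G) := by
  constructor
  · intro h
    refine mem_centralizer_iff.2 fun v hv => ?_
    have h1 := act_apply g (⟨v, hv⟩ : vee hV a)
    rw [h, MulAut.one_apply] at h1
    exact (mul_inv_eq_iff_eq_mul.1 h1.symm).symm
  · intro h
    refine MulEquiv.ext fun v => Subtype.ext ?_
    rw [act_apply, MulAut.one_apply, ← mem_centralizer_iff.1 h v v.2, mul_inv_cancel_right]

/-- An element commuting with the involutions at a point. -/
theorem commute_of_mem_centralizer {g t : G} (hg : g ∈ centralizer (vee hV a : Set G))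
    (ht : orderOf t = 2) (hta : t • a = a) : Commute g t :=
  (mem_centralizer_iff.1 hg t (invol_mem_vee ht hta)).symm

theorem mem_centralizer_vee {g : G}
    (h : ∀ t : G, orderOf t = 2 → t • a = a → Commute g t) :
    g ∈ centralizer (vee hV a : Set G) := by
  refine mem_centralizer_iff.2 fun v hv => ?_
  by_cases hv1 : v = 1
  · rw [hv1, one_mul, mul_one]
  · exact (h v (Invol.orderOf_eq_two hv.1 hv1) hv.2).symm.eq

theorem conj_mem_centralizer_vee {g d : G} (hg : g ∈ st a)
    (hd : d ∈ centralizer (vee hV a : Set G)) :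
    g * d * g⁻¹ ∈ centralizer (vee hV a : Set G) := by
  refine mem_centralizer_iff.2 fun v hv => ?_
  have hv' : g⁻¹ * v * g ∈ vee hV a := by
    simpa using (mem_normalizer_iff.1 (st_le_normalizer_vee hV a (inv_mem hg)) v).1 hv
  have h := (Commute.map (show Commute d (g⁻¹ * v * g) from
    (mem_centralizer_iff.1 hd _ hv').symm) (MulAut.conj g).toMonoidHom : _)
  simp only [MulEquiv.coe_toMonoidHom, MulAut.conj_apply] at h
  rw [show g * (g⁻¹ * v * g) * g⁻¹ = v by group] at h
  exact h.symm.eq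

variable (hV a)

/-- The image of the stabilizer of two points. -/
def barD (b : G ⧸ H) : Subgroup (MulAut (vee hV a)) :=
  ((st a ⊓ st b).subgroupOf (st a)).map (act hV a)

variable {hV a}

theorem act_mem_barD {b : G ⧸ H} {d : G} (hd : d ∈ st a ⊓ st b) :
    act hV a ⟨d, (mem_inf.1 hd).1⟩ ∈ barD hV a b :=
  mem_map_of_mem _ (mem_subgroupOf.2 hd)

theorem exists_of_mem_barD {b : G ⧸ H} {x : MulAut (vee hV a)} (hx : x ∈ barD hV a b) :
    ∃ (d : G) (hd : d ∈ st a ⊓ st b), act hV a ⟨d, (mem_inf.1 hd).1⟩ = x := by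
  obtain ⟨d, hd, rfl⟩ := hx
  exact ⟨d, mem_subgroupOf.1 hd, rfl⟩

variable (hV a)

theorem card_invol_add_one :
    Nat.card {t : G // orderOf t = 2 ∧ t • a = a} + 1 = Nat.card (vee hV a) := by
  have h1 : (vee hV a : Set G) = insert 1 {t : G | orderOf t = 2 ∧ t • a = a} := by
    ext v
    simp only [SetLike.mem_coe, mem_vee, Set.mem_insert_iff, Set.mem_ofPred_eq]
    constructor
    · rintro ⟨hv, hva⟩
      by_cases h : v = 1
      · exact Or.inl h
      · exact Or.inr ⟨Invol.orderOf_eq_two hv h, hva⟩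
    · rintro (rfl | ⟨hv, hva⟩)
      exacts [⟨one_mul 1, one_smul _ _⟩, ⟨Invol.mul_self_eq_one hv, hva⟩]
  rw [show Nat.card (vee hV a) = Nat.card ↥(vee hV a : Set G) from rfl, h1, Nat.card_coe_set_eq,
    Set.ncard_insert_of_notMem (fun h => by simp at h) (Set.toFinite _), ← Nat.card_coe_set_eq]
  rfl

end Vee

section Setting

variable (hS : Setting H) (hV : InvolComm H)
include hS

theorem exists_card_vee (a : G ⧸ H) : ∃ k, 2 ≤ k ∧ Nat.card (vee hV a) = 2 ^ k := by
  haveI : Fact (Nat.Prime 2) := ⟨Nat.prime_two⟩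
  have h2 : IsPGroup 2 (vee hV a) := fun v => ⟨1, by rw [pow_one, sq]; exact sq_vee hV a v⟩
  obtain ⟨k, hk⟩ := IsPGroup.iff_card.1 h2
  refine ⟨k, ?_, hk⟩
  obtain ⟨s, t, hs, ht, hne, hsa, hta⟩ := CSix.exists_two hS a
  have h := card_invol_add_one hV a
  haveI : Nontrivial {t : G // orderOf t = 2 ∧ t • a = a} :=
    ⟨⟨⟨s, hs, hsa⟩, ⟨t, ht, hta⟩, fun e => hne (congrArg Subtype.val e)⟩⟩
  have h1 : 1 < Nat.card {t : G // orderOf t = 2 ∧ t • a = a} := Finite.one_lt_card
  rcases k with _ | _ | k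
  · simp only [pow_zero] at hk; omega
  · simp only [zero_add, pow_one] at hk; omega
  · omega

/-- The number of involutions at a point. -/
theorem card_invol {a : G ⧸ H} {k : ℕ} (hk : Nat.card (vee hV a) = 2 ^ k) :
    2 ≤ k ∧ Nat.card {t : G // orderOf t = 2 ∧ t • a = a} = 2 ^ k - 1 := by
  obtain ⟨j, hj, hjk⟩ := exists_card_vee hS hV a
  have h := card_invol_add_one hV a
  exact ⟨(Nat.pow_right_injective le_rfl (hk.symm.trans hjk)) ▸ hj, by omega⟩

include hV in
theorem prime_ne_two {a : G ⧸ H} {p : ℕ} (hp : p.Prime)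
    (hdvd : p ∣ Nat.card {t : G // orderOf t = 2 ∧ t • a = a}) : p ≠ 2 := by
  rintro rfl
  obtain ⟨k, hk, hkc⟩ := exists_card_vee hS hV a
  have h := card_invol_add_one hV a
  obtain ⟨c, hc⟩ := hdvd
  have h4 : 2 ∣ 2 ^ k := dvd_pow_self 2 (by omega)
  omega

theorem exists_coord {a b : G ⧸ H} (hab : a ≠ b) {k : ℕ} (hk : Nat.card (vee hV a) = 2 ^ k) :
    ∃ (F : Type) (_ : Field F) (_ : Finite F) (e : Additive (vee hV a) ≃+ F),
      Nat.card F = 2 ^ k ∧ ∀ d ∈ barD hV a b, ∃ c i, Rep e d c i := by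
  refine Semilinear.exists_coord (sq_vee hV a) (card_invol hS hV hk).1 hk (barD hV a b) ?_ ?_
  · refine (odd_pair hS.se hab).of_dvd_nat ?_
    refine (card_map_dvd _ _).trans ?_
    rw [Nat.card_congr (subgroupOfEquivOfLe (inf_le_left : st a ⊓ st b ≤ st a)).toEquiv]
  · intro s t hs ht
    obtain ⟨d, hd, hdt⟩ := (transOdd_pair hS.se hab).2.2 (s : G) t s.2.2
      (Invol.orderOf_eq_two s.2.1 fun h => hs (Subtype.ext h)) t.2.2
      (Invol.orderOf_eq_two t.2.1 fun h => ht (Subtype.ext h))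
    exact ⟨_, act_mem_barD hd, Subtype.ext hdt⟩

/-- A `p`-element of a point stabilizer commuting with an involution there commutes with another
one, `p` dividing their number. -/
theorem exists_second_commute {a : G ⧸ H} {p n : ℕ} [Fact p.Prime]
    (hdvd : p ∣ Nat.card {t : G // orderOf t = 2 ∧ t • a = a}) {x : G} (hx : x ^ p ^ n = 1)
    (hxa : x • a = a) {t : G} (ht : orderOf t = 2) (hta : t • a = a) (hxt : Commute x t) :
    ∃ s : G, orderOf s = 2 ∧ s • a = a ∧ Commute x s ∧ t ≠ s := by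
  let α := {t : G // orderOf t = 2 ∧ t • a = a}
  let e : zpowers x → α → α := fun g t => ⟨(g : G) * t * (g : G)⁻¹,
    by rw [Invol.orderOf_conj_eq, t.2.1], by
      have hg : (g : G) • a = a := (zpowers_le.2 (show x ∈ st a from hxa) g.2 : _)
      rw [mul_smul, mul_smul, inv_smul_eq_iff.2 hg.symm, t.2.2, hg]⟩
  letI : MulAction (zpowers x) α :=
    { smul := e
      one_smul := fun t => Subtype.ext (show (1 : G) * t * (1 : G)⁻¹ = t by simp)
      mul_smul := fun g g' t => Subtype.ext
        (show ((g : G) * g') * t * ((g : G) * g')⁻¹ = (g : G) * ((g' : G) * t * (g' : G)⁻¹) * (g : G)⁻¹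
          by group) }
  have hp : IsPGroup p (zpowers x) := by
    rintro ⟨_, ⟨i, rfl⟩⟩
    refine ⟨n, Subtype.ext ?_⟩
    show (x ^ i) ^ p ^ n = 1
    rw [← zpow_natCast, ← zpow_mul, mul_comm, zpow_mul, zpow_natCast, hx, one_zpow]
  have hfix : (⟨t, ht, hta⟩ : α) ∈ MulAction.fixedPoints (zpowers x) α := by
    rintro ⟨_, ⟨i, rfl⟩⟩
    exact Subtype.ext (show x ^ i * t * (x ^ i)⁻¹ = t by
      rw [(hxt.zpow_left i).eq, mul_inv_cancel_right])
  obtain ⟨s, hs, hne⟩ := hp.exists_fixed_point_of_prime_dvd_card_of_fixed_point α hdvd hfix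
  exact ⟨s, s.2.1, s.2.2,
    mul_inv_eq_iff_eq_mul.1 (congrArg Subtype.val (hs ⟨x, mem_zpowers x⟩)),
    fun h => hne (Subtype.ext h)⟩

variable {q : ℕ} {N : G ⧸ H → Subgroup G} (hN : Family q N) (hsr : Semireg N) (hci : CentInv N)

include hN hsr hci hV in
/-- Every prime dividing the number of involutions of `H` is in case I. -/
theorem caseI_all (r : ℕ) (hr : r.Prime)
    (hdvd : r ∣ Nat.card {t : G // orderOf t = 2 ∧ t ∈ H}) : CaseI r H :=
  caseI_of_dvd hS hN hsr hci hr
    (prime_ne_two hS hV hr ((StrongEmbed.card_fix (QuotientGroup.mk 1 : G ⧸ H)).symm ▸ hdvd)) hdvd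

include hN hsr hV in
/-- A `p`-element fixing two points with a fixed point in the member of the family at one of them
commutes with no involution there, `p` dividing their number. -/
theorem not_commute_of_fixedN {a b : G ⧸ H} (hab : a ≠ b) {p n : ℕ} [Fact p.Prime]
    (hdvd : p ∣ Nat.card {t : G // orderOf t = 2 ∧ t • a = a}) {x : G} (hx1 : x ≠ 1)
    (hx : x ^ p ^ n = 1) (hxD : x ∈ st a ⊓ st b) {z : G} (hz : z ∈ N a) (hz1 : z ≠ 1)
    (hxz : Commute x z) {t : G} (ht : orderOf t = 2) (hta : t • a = a) : ¬ Commute x t := by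
  intro hxt
  obtain ⟨s, hs, hsa, hxs, hne⟩ := exists_second_commute hS hdvd hx hxD.1 ht hta hxt
  exact CSix.zlemma hS hN hsr hV hab hx1 hxD.1 hxD.2 ht hta hs hsa hne hxt hxs hz hz1 hxz

/-- An involution interchanging two points and normalizing a Sylow `p`-subgroup of their stabilizer
inverts an element of order `p` of it, `p` dividing the number of involutions at a point. -/
theorem exists_inverted {a b : G ⧸ H} (hab : a ≠ b) {p : ℕ} [Fact p.Prime]
    (hdvd : p ∣ Nat.card {t : G // orderOf t = 2 ∧ t • a = a}) {R : Subgroup G}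
    (hR : Syl p (st a ⊓ st b) R) {u : G} (hu : orderOf u = 2) (hua : u • a = b)
    (huR : u ∈ normalizer (R : Set G)) : ∃ y ∈ R, orderOf y = p ∧ u * y * u⁻¹ = y⁻¹ := by
  have hRodd : Odd (Nat.card R) := (odd_pair hS.se hab).of_dvd_nat (card_dvd_of_le hR.1)
  by_cases hc : ∃ y ∈ R, ¬ Commute u y
  · obtain ⟨x, hx, hxp, hinv⟩ := exists_inverted_prime hRodd hu huR hc
    exact ⟨x, hx, orderOf_eq_of_prime hR.2.1 hx hxp, hinv⟩
  exfalso
  push Not at hc
  have horb := card_orbit_mul (st a ⊓ st b) u (fun x => orderOf x = 2 ∧ x • a = b) fun x =>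
    ⟨fun hx => trans_swap hS.se hab hu hx.1 hua hx.2, by
      rintro ⟨k, hk, rfl⟩
      exact ⟨by rw [Invol.orderOf_conj_eq, hu],
        by rw [mul_smul, mul_smul, inv_smul_eq_iff.2 hk.1.symm, hua, hk.2]⟩⟩
  rw [StrongEmbed.card_swap hS.se hab, ← StrongEmbed.card_fix a] at horb
  have h2 := FusionLift.card_eq_relIndex_mul (centralizer ({u} : Set G)) (st a ⊓ st b)
  rw [h2, mul_comm] at horb
  have hm := Nat.eq_of_mul_eq_mul_left Nat.card_pos horb
  exact syl_not_dvd hR ((hm ▸ hdvd).trans (relIndex_dvd_of_le_left (st a ⊓ st b)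
    fun y hy => mem_centralizer_singleton_iff.2 (hc y hy).eq.symm))

/-- The centralizer `M` of odd order of an element of order `p` central in a Sylow subgroup of a
two-point stabilizer: a normal subgroup of `M` fixing both points contains its centralizer in `M`,
and contains the Sylow subgroup if this is abelian. -/
theorem exists_fixing_core {a b : G ⧸ H} (hab : a ≠ b) {p : ℕ} [Fact p.Prime] (hp2 : p ≠ 2)
    (hI : CaseI p H) {R : Subgroup G} (hR : Syl p (st a ⊓ st b) R) {x : G} (hx : orderOf x = p)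
    (hxR : x ∈ R) (hRx : ∀ r ∈ R, Commute r x)
    (hodd : Odd (Nat.card (centralizer ({x} : Set G)))) :
    ∃ A : Subgroup G, A ≤ st a ⊓ st b ∧
      (∀ g ∈ centralizer ({x} : Set G), ∀ v ∈ A, g * v * g⁻¹ ∈ A) ∧
      (∀ g ∈ centralizer ({x} : Set G), (∀ v ∈ A, Commute g v) → g ∈ A) ∧
      ((∀ c ∈ R, ∀ d ∈ R, Commute c d) → R ≤ A) := by
  set M := centralizer ({x} : Set G) with hM
  haveI := CSix.multPretrans hS
  have hRM : R ≤ M := fun r hr => mem_centralizer_singleton_iff.2 (hRx r hr).eq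
  have hfix := hI a b hab R hR
  have hxa : x • a = a := (hR.1 hxR).1
  have hxb : x • b = b := (hR.1 hxR).2
  have htop := CSix.syl_top_of_fix hS.se ((Fact.out : p.Prime).odd_of_ne_two hp2) hab hR hfix
  rcases St.core_fixes_or_transitive (Ω := G ⧸ H) (St.two_le_card_quotient hS.se.1) (Fact.out)
    (k := 1) (x := x) (by rw [hx, pow_one]) with hcore | htrans
  · haveI : Group.IsSolvable M := OddEnd.odd_solvable M hodd
    set O := Cfsg.pPrimeCore p M
    haveI : O.Normal := (Solvable.pPrimeCore_spec p).1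
    let π := QuotientGroup.mk' O
    set A := (Cfsg.pCore p (M ⧸ O)).comap π
    haveI hAn : A.Normal := (Solvable.pCore_spec p).1.comap π
    haveI : Group.IsSolvable (M ⧸ O) :=
      Group.isSolvable_of_surjective (QuotientGroup.mk'_surjective O)
    obtain ⟨S, hS'⟩ := (hR.2.1.comap_subtype : IsPGroup p (R.subgroupOf M)).exists_le_sylow
    have hSR : (S : Subgroup M) = R.subgroupOf M := (eq_of_le_of_card_ge hS' (by
      show Nat.card (S : Subgroup M) ≤ Nat.card (R.subgroupOf M)
      rw [Nat.card_congr (subgroupOfEquivOfLe hRM).toEquiv,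
        ← card_map_of_injective M.subtype_injective (K := (S : Subgroup M))]
      exact htop _ (S.isPGroup'.map _))).symm
    have hAO : ∀ m : M, m ∈ A → ∃ s : M, (s : G) ∈ R ∧ π s = π m := fun m hm => by
      obtain ⟨s, hs, hse⟩ := (Fitting.pCore_le_sylow
        (S.mapSurjective (QuotientGroup.mk'_surjective O)) hm : π m ∈ (S : Subgroup M).map π)
      exact ⟨s, (hSR ▸ hs : s ∈ R.subgroupOf M), hse⟩
    have hAD : ∀ m : M, m ∈ A → (m : G) ∈ st a ⊓ st b := by
      intro m hm
      obtain ⟨s, hs, hse⟩ := hAO m hm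
      have hO : m * s⁻¹ ∈ O := by
        refine (QuotientGroup.eq_one_iff _).1 ?_
        show π (m * s⁻¹) = 1
        rw [map_mul, map_inv, hse, mul_inv_cancel]
      have hO' : ((m * s⁻¹ : M) : G) ∈ st a ⊓ st b :=
        ⟨hcore _ ⟨_, hO, rfl⟩ a hxa, hcore _ ⟨_, hO, rfl⟩ b hxb⟩
      have := (st a ⊓ st b).mul_mem hO' (hR.1 hs)
      simpa using this
    refine ⟨A.map M.subtype, ?_, ?_, ?_, ?_⟩
    · rintro _ ⟨m, hm, rfl⟩
      exact hAD m hm
    · rintro g hg _ ⟨m, hm, rfl⟩
      exact ⟨⟨g, hg⟩ * m * ⟨g, hg⟩⁻¹, hAn.conj_mem m hm _, rfl⟩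
    · intro g hg hc
      refine ⟨⟨g, hg⟩, Fitting.centralizer_pCore_le (Fitting.pPrimeCore_quotient_eq_bot p) ?_, rfl⟩
      refine mem_centralizer_iff.2 fun y hy => ?_
      obtain ⟨y, rfl⟩ := QuotientGroup.mk'_surjective O y
      show π y * π ⟨g, hg⟩ = π ⟨g, hg⟩ * π y
      rw [← map_mul, ← map_mul]
      congr 1
      exact Subtype.ext (hc y ⟨y, hy, rfl⟩).eq.symm
    · intro hab' r hr
      refine ⟨⟨r, hRM hr⟩, Fitting.centralizer_pCore_le (Fitting.pPrimeCore_quotient_eq_bot p) ?_,
        rfl⟩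
      refine mem_centralizer_iff.2 fun y hy => ?_
      obtain ⟨y, rfl⟩ := QuotientGroup.mk'_surjective O y
      obtain ⟨s, hs, hse⟩ := hAO y hy
      show π y * π ⟨r, hRM hr⟩ = π ⟨r, hRM hr⟩ * π y
      rw [← hse, ← map_mul, ← map_mul]
      congr 1
      exact Subtype.ext (hab' r hr s hs).eq.symm
  · exfalso
    obtain ⟨g, hg, hga⟩ := htrans a b hxa hxb
    have hRD : R ≤ M ⊓ st b := le_inf hRM (hR.1.trans inf_le_right)
    have hgR : cj g R ≤ M ⊓ st b := le_inf
      (cj_le_iff.2 fun w hw => mul_mem (mul_mem hg (hRM hw)) (inv_mem hg))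
      (hga ▸ le_st_smul (hR.1.trans inf_le_left))
    obtain ⟨d, hd, hdR⟩ := syl_conj (D := M ⊓ st b) (Y := R)
      ⟨hRD, hR.2.1, fun P _ hP => htop P hP⟩ hgR (hR.2.1.map _)
    set n := d * g
    have hnR : n ∈ normalizer (R : Set G) := by
      refine mem_norm_iff.2 ?_
      rw [← cj_cj]
      exact eq_of_le_of_card_ge hdR (by rw [card_cj, card_cj])
    have hna : n • a = b := by rw [mul_smul, hga]; exact hd.2
    have hnb : n • b = a := by
      refine (hfix (n • b) fun w hw => ?_).resolve_right fun h =>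
        hab (smul_left_cancel n (hna.trans h.symm))
      have h1 : n⁻¹ * w * n ∈ R := by
        simpa using (mem_normalizer_iff.1 (inv_mem hnR) w).1 hw
      have h2 : (n⁻¹ * w * n) • b = b := (hR.1 h1).2
      show w • n • b = n • b
      rwa [mul_smul, mul_smul, inv_smul_eq_iff] at h2
    exact hab (eq_of_odd_swap (hodd.of_dvd_nat
      (Subgroup.orderOf_dvd_natCard M (mul_mem hd.1 hg))) hna hnb)

end Setting

section LinOn

variable {hV : InvolComm H} {a : G ⧸ H} {F : Type} [Field F] [Finite F]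

/-- The element fixes the point and acts linearly on its involutions. -/
def LinOn (e : Additive (vee hV a) ≃+ F) (d : G) : Prop :=
  ∃ h : d ∈ st a, Lin e (act hV a ⟨d, h⟩)

variable {e : Additive (vee hV a) ≃+ F} {c d : G}

theorem LinOn.lin (hd : LinOn e d) (h : d ∈ st a) : Lin e (act hV a ⟨d, h⟩) := hd.2

theorem LinOn.mul (hc : LinOn e c) (hd : LinOn e d) : LinOn e (c * d) := by
  obtain ⟨hca, hc⟩ := hc
  obtain ⟨hda, hd⟩ := hd
  exact ⟨mul_mem hca hda, map_mul (act hV a) ⟨c, hca⟩ ⟨d, hda⟩ ▸ hc.mul hd⟩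

theorem LinOn.inv (hd : LinOn e d) : LinOn e d⁻¹ := by
  obtain ⟨hda, hd⟩ := hd
  exact ⟨inv_mem hda, map_inv (act hV a) ⟨d, hda⟩ ▸ hd.inv⟩

/-- Linearly acting elements commute modulo the centralizer. -/
theorem LinOn.commutator (hc : LinOn e c) (hd : LinOn e d) :
    c * d * c⁻¹ * d⁻¹ ∈ centralizer (vee hV a : Set G) := by
  obtain ⟨hca, hc⟩ := hc
  obtain ⟨hda, hd⟩ := hd
  refine (act_eq_one (g := ⟨c, hca⟩ * ⟨d, hda⟩ * ⟨c, hca⟩⁻¹ * ⟨d, hda⟩⁻¹)).1 ?_
  simp only [map_mul, map_inv]
  rw [(hc.commute hd).eq, mul_inv_cancel_right, mul_inv_cancel]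

variable {k : ℕ} (hF : Nat.card F = 2 ^ k)
include hF

/-- A linearly acting element commuting with an involution centralizes all of them. -/
theorem LinOn.centralizes (hd : LinOn e d) {t : G} (ht : orderOf t = 2) (hta : t • a = a)
    (hdt : Commute d t) : d ∈ centralizer (vee hV a : Set G) := by
  obtain ⟨hda, hd⟩ := hd
  refine (act_eq_one (g := ⟨d, hda⟩)).1 (hd.eq_one_of_fixed hF
    (t := ⟨t, invol_mem_vee ht hta⟩) (fun h => ?_) (Subtype.ext ?_))
  · have h' : t = 1 := congrArg Subtype.val h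
    rw [h', orderOf_one] at ht
    exact absurd ht (by norm_num)
  · rw [act_apply]
    exact hdt.mul_inv_cancel

end LinOn

end CfsgLib.Bender.Core.CSeven
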