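import Cfsg.Agent.Bender.Defs
import Cfsg.Agent.Invol.StrongEmbedded
import Cfsg.Agent.Invol.IsolatedApps
import Cfsg.Agent.FusionLift.Basic

/-!
Bender's theorem, the side of the group: a good prime gives a doubly transitive action on the
cosets and no odd order subgroup transitive on the involutions.
-/

set_option autoImplicit false
set_option linter.unusedSectionVars false
set_option linter.style.haveILetI false

namespace CfsgLib.Bender.GSide

open Subgroup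
open CfsgLib.FusionLift (cj mem_cj card_cj)

variable {G : Type*} [Group G] [Finite G] {H : Subgroup G} {r : ℕ}

/-- The stabilizer of a coset. -/
abbrev st (x : G ⧸ H) : Subgroup G := MulAction.stabilizer G x

theorem cj_le_iff {g : G} {A B : Subgroup G} : cj g A ≤ B ↔ ∀ a ∈ A, g * a * g⁻¹ ∈ B :=
  ⟨fun h _ ha => h ⟨_, ha, rfl⟩, FusionLift.cj_le⟩

theorem cj_mono (g : G) {A B : Subgroup G} (h : A ≤ B) : cj g A ≤ cj g B := map_mono h

theorem cj_cj (a b : G) (A : Subgroup G) : cj a (cj b A) = cj (a * b) A := by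
  ext; simp [mem_cj, mul_assoc]

theorem cj_one (A : Subgroup G) : cj 1 A = A := by ext; simp [mem_cj]

theorem cj_inv (g : G) (A : Subgroup G) : cj g⁻¹ (cj g A) = A := by
  rw [cj_cj, inv_mul_cancel, cj_one]

theorem cj_inv' (g : G) (A : Subgroup G) : cj g (cj g⁻¹ A) = A := by
  rw [cj_cj, mul_inv_cancel, cj_one]

theorem mem_norm_iff {g : G} {A : Subgroup G} : g ∈ normalizer (A : Set G) ↔ cj g A = A := by
  constructor
  · intro h
    ext x
    rw [mem_cj, mem_normalizer_iff.1 h (g⁻¹ * x * g)]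
    simp [mul_assoc]
  · intro h
    refine mem_normalizer_iff.2 fun x => ?_
    conv_rhs => rw [← h, mem_cj]
    simp [mul_assoc]

theorem cj_eq_of_le {g : G} {A B : Subgroup G} (h : cj g A ≤ B) (hc : Nat.card B ≤ Nat.card A) :
    cj g A = B :=
  eq_of_le_of_card_ge h (by rwa [card_cj])

theorem st_smul (g : G) (x : G ⧸ H) : st (g • x) = cj g (st x) := by
  ext k
  rw [mem_cj, MulAction.mem_stabilizer_iff, MulAction.mem_stabilizer_iff, mul_smul, mul_smul,
    inv_smul_eq_iff]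

theorem st_one : st (QuotientGroup.mk 1 : G ⧸ H) = H := by
  ext k
  rw [MulAction.mem_stabilizer_iff, StrongEmbed.smul_mk_one_iff]

theorem le_st_smul {g : G} {x : G ⧸ H} {A : Subgroup G} (h : A ≤ st x) : cj g A ≤ st (g • x) := by
  rw [st_smul]; exact cj_mono g h

theorem le_st_smul_of_norm {g : G} {x : G ⧸ H} {A : Subgroup G} (hg : g ∈ normalizer (A : Set G))
    (h : A ≤ st x) : A ≤ st (g • x) :=
  (mem_norm_iff.1 hg).ge.trans (le_st_smul h)

theorem exists_smul (x y : G ⧸ H) : ∃ g : G, g • x = y := MulAction.exists_smul_eq G x y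

theorem swap_back {u : G} (hu : orderOf u = 2) {a b : G ⧸ H} (h : u • a = b) : u • b = a := by
  rw [← h, smul_smul, Invol.mul_self_eq_one hu, one_smul]

/-! ### Sylow subgroups of a subgroup -/

/-- `Y` is a largest `r`-subgroup of `D`. -/
def Syl (r : ℕ) (D Y : Subgroup G) : Prop :=
  Y ≤ D ∧ IsPGroup r Y ∧ ∀ P : Subgroup G, P ≤ D → IsPGroup r P → Nat.card P ≤ Nat.card Y

theorem exists_syl [Fact r.Prime] {X D : Subgroup G} (hX : X ≤ D) (hp : IsPGroup r X) :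
    ∃ Y : Subgroup G, X ≤ Y ∧ Syl r D Y := by
  classical
  obtain ⟨Y, ⟨h1, h2, h3⟩, hmax⟩ := Set.exists_max_image {Y : Subgroup G | X ≤ Y ∧ Y ≤ D ∧ IsPGroup r Y}
    (fun Y => Nat.card Y) (Set.toFinite _) ⟨X, le_rfl, hX, hp⟩
  refine ⟨Y, h1, h2, h3, fun P hP hPp => ?_⟩
  obtain ⟨x, -, hxP⟩ := FusionLift.conj_into h2 h3
    (fun T hT hTD hTp => hmax T ⟨h1.trans hT, hTD, hTp⟩) hP hPp
  rw [← card_cj x P]
  exact card_le_of_le (FusionLift.cj_le hxP)

theorem syl_conj [Fact r.Prime] {X D Y : Subgroup G} (hY : Syl r D Y) (hX : X ≤ D)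
    (hp : IsPGroup r X) : ∃ d ∈ D, cj d X ≤ Y := by
  obtain ⟨d, hd, h⟩ := FusionLift.conj_into hY.1 hY.2.1 (fun T _ hT hTp => hY.2.2 T hT hTp) hX hp
  exact ⟨d, hd, FusionLift.cj_le h⟩

theorem syl_not_dvd [Fact r.Prime] {D Y : Subgroup G} (hY : Syl r D Y) : ¬ r ∣ Y.relIndex D := by
  obtain ⟨P, hP⟩ := (hY.2.1.comap_subtype : IsPGroup r (Y.subgroupOf D)).exists_le_sylow
  have h := hY.2.2 _ (map_subtype_le (P : Subgroup D)) (P.isPGroup'.map _)
  rw [card_map_of_injective D.subtype_injective] at h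
  have he : Y.subgroupOf D = (P : Subgroup D) := eq_of_le_of_card_ge hP
    (by rwa [Nat.card_congr (subgroupOfEquivOfLe hY.1).toEquiv])
  rw [relIndex, he]
  exact P.not_dvd_index

theorem exists_between [Fact r.Prime] {Y R : Subgroup G} (hlt : Y < R) (hR : IsPGroup r R) :
    ∃ Z : Subgroup G, Y < Z ∧ Z ≤ R ∧ Z ≤ normalizer (Y : Set G) := by
  refine ⟨R ⊓ normalizer (Y : Set G), lt_of_le_of_ne (le_inf hlt.le le_normalizer) fun he => ?_,
    inf_le_left, inf_le_right⟩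
  haveI := hR.isNilpotent
  have hne : Y.subgroupOf R < ⊤ := lt_top_iff_ne_top.2 fun h => hlt.not_ge (subgroupOf_eq_top.1 h)
  obtain ⟨x, hx, hxY⟩ := SetLike.exists_of_lt (Group.normalizerCondition_of_isNilpotent _ hne)
  refine hxY (mem_subgroupOf.2 (he ▸ mem_inf.2 ⟨x.2, mem_normalizer_iff.2 fun a => ⟨fun ha => ?_, fun ha => ?_⟩⟩))
  · exact (mem_normalizer_iff.1 hx ⟨a, hlt.le ha⟩).1 ha
  · have haR : a ∈ R := by
      have := mul_mem (mul_mem (inv_mem x.2) (hlt.le ha)) x.2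
      simpa [mul_assoc] using this
    exact (mem_normalizer_iff.1 hx ⟨a, haR⟩).2 ha

/-! ### Points not fixed by involutions normalizing an `r`-group -/

/-- `Y` fixes `x` and contains a Sylow subgroup of an odd order transitive subgroup of the
stabilizer. -/
def NC (r : ℕ) (x : G ⧸ H) (Y : Subgroup G) : Prop :=
  Y ≤ st x ∧ IsPGroup r Y ∧
    ∃ D Y0 : Subgroup G, IsTransOdd (st x) D ∧ Y0 ≤ D ∧ Y0 ≤ Y ∧ ¬ r ∣ Y0.relIndex D

theorem transOdd_cj (g : G) {K D : Subgroup G} (h : IsTransOdd K D) :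
    IsTransOdd (cj g K) (cj g D) := by
  refine ⟨cj_mono g h.1, by rw [card_cj]; exact h.2.1, fun s t hs hs2 ht ht2 => ?_⟩
  rw [mem_cj] at hs ht
  obtain ⟨d, hd, hdt⟩ := h.2.2 (g⁻¹ * s * g) (g⁻¹ * t * g) hs
    (by simpa [inv_inv] using (Invol.orderOf_conj_eq g⁻¹ s).trans hs2) ht
    (by simpa [inv_inv] using (Invol.orderOf_conj_eq g⁻¹ t).trans ht2)
  refine ⟨g * d * g⁻¹, ⟨d, hd, rfl⟩, ?_⟩
  calc g * d * g⁻¹ * s * (g * d * g⁻¹)⁻¹ = g * (d * (g⁻¹ * s * g) * d⁻¹) * g⁻¹ := by group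
    _ = t := by rw [hdt]; group

theorem NC.smul {x : G ⧸ H} {Y : Subgroup G} (h : NC r x Y) (g : G) : NC r (g • x) (cj g Y) := by
  obtain ⟨h1, h2, D, Y0, hD, hY0, hY0Y, hr⟩ := h
  refine ⟨le_st_smul h1, h2.map _, cj g D, cj g Y0, ?_, cj_mono g hY0, cj_mono g hY0Y, ?_⟩
  · rw [st_smul]; exact transOdd_cj g hD
  · rwa [relIndex_map_map_of_injective _ _ (MulAut.conj g).injective]

theorem NC.smul_norm {x : G ⧸ H} {Y : Subgroup G} (h : NC r x Y) {g : G}
    (hg : g ∈ normalizer (Y : Set G)) : NC r (g • x) Y := by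
  have := h.smul g
  rwa [mem_norm_iff.1 hg] at this

theorem NC.mono {x : G ⧸ H} {Y Z : Subgroup G} (h : NC r x Y) (hYZ : Y ≤ Z) (hZ : Z ≤ st x)
    (hZp : IsPGroup r Z) : NC r x Z := by
  obtain ⟨-, -, D, Y0, hD, hY0, hY0Y, hr⟩ := h
  exact ⟨hZ, hZp, D, Y0, hD, hY0, hY0Y.trans hYZ, hr⟩

theorem NC.no_invol (hr : GoodPrime r H) {x : G ⧸ H} {Y : Subgroup G} (h : NC r x Y) {v : G}
    (hvx : v • x = x) (hv : orderOf v = 2) : v ∉ normalizer (Y : Set G) := by
  intro hvY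
  obtain ⟨g, hg⟩ := exists_smul x (QuotientGroup.mk 1 : G ⧸ H)
  have h' := h.smul g
  rw [hg] at h'
  obtain ⟨h1, h2, D, Y0, hD, hY0, hY0Y, hrel⟩ := h'
  rw [st_one] at h1 hD
  refine hr.2.2 D Y0 (cj g Y) (g * v * g⁻¹) hD hY0 (h2.to_le hY0Y) hrel hY0Y h1 h2 ?_ ?_ ?_
  · rw [← st_one (H := H), ← hg, st_smul]
    exact ⟨v, hvx, rfl⟩
  · rw [Invol.orderOf_conj_eq, hv]
  · rw [mem_norm_iff, cj_cj, inv_mul_cancel_right, ← cj_cj, mem_norm_iff.1 hvY]

/-! ### Two points -/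

variable (hH : Cfsg.IsStronglyEmbedded H)

include hH in
theorem odd_pair {a b : G ⧸ H} (hab : a ≠ b) : Odd (Nat.card ↥(st a ⊓ st b)) := by
  haveI : Fact (Nat.Prime 2) := ⟨Nat.prime_two⟩
  by_contra h
  obtain ⟨i, hi⟩ := exists_prime_orderOf_dvd_card' (G := ↥(st a ⊓ st b)) 2
    (even_iff_two_dvd.1 (Nat.not_odd_iff_even.1 h))
  exact hab (StrongEmbed.fix_unique hH (by rwa [Subgroup.orderOf_coe]) i.2.1 i.2.2)

include hH in
theorem transOdd_pair {a b : G ⧸ H} (hab : a ≠ b) : IsTransOdd (st a) (st a ⊓ st b) := by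
  refine ⟨inf_le_left, odd_pair hH hab, fun s t hs hs2 ht ht2 => ?_⟩
  obtain ⟨g, hg⟩ := exists_smul (QuotientGroup.mk 1 : G ⧸ H) a
  have hb : g⁻¹ • b ≠ QuotientGroup.mk 1 := fun h => hab (by rw [← hg, ← h, smul_inv_smul])
  obtain ⟨i, hi, hib⟩ := StrongEmbed.exists_swap hH hb.symm
  have hiH : i ∉ H := fun h => hb (hib.symm.trans (StrongEmbed.smul_mk_one_iff.2 h))
  have hmem : ∀ k ∈ st a, g⁻¹ * k * g ∈ H := fun k hk => by
    rw [← hg, st_smul, st_one] at hk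
    exact mem_cj.1 hk
  obtain ⟨d, hd, hdt⟩ := StrongEmbed.exists_conj_in_stabilizer hH hi hiH
    (s := g⁻¹ * s * g) (t := g⁻¹ * t * g)
    (by simpa [inv_inv] using (Invol.orderOf_conj_eq g⁻¹ s).trans hs2) (hmem s hs)
    (by simpa [inv_inv] using (Invol.orderOf_conj_eq g⁻¹ t).trans ht2) (hmem t ht)
  rw [← smul_inv_smul g b, ← hib, ← hg]
  refine ⟨g * d * g⁻¹, mem_inf.2 ⟨?_, ?_⟩, ?_⟩
  · rw [st_smul, st_one]
    exact ⟨d, hd.1, rfl⟩
  · rw [st_smul g, st_smul i, st_one]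
    exact ⟨d, hd.2, rfl⟩
  · calc g * d * g⁻¹ * s * (g * d * g⁻¹)⁻¹ = g * (d * (g⁻¹ * s * g) * d⁻¹) * g⁻¹ := by group
      _ = t := by rw [hdt]; group

include hH in
theorem nc_pair [Fact r.Prime] {a b : G ⧸ H} (hab : a ≠ b) {Y : Subgroup G}
    (hY : Syl r (st a ⊓ st b) Y) : NC r a Y :=
  ⟨hY.1.trans inf_le_left, hY.2.1, _, Y, transOdd_pair hH hab, hY.1, le_rfl, syl_not_dvd hY⟩

include hH in
theorem trans_swap {a b : G ⧸ H} (hab : a ≠ b) {k k' : G} (hk : orderOf k = 2)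
    (hk' : orderOf k' = 2) (hka : k • a = b) (hka' : k' • a = b) :
    ∃ d ∈ st a ⊓ st b, d * k * d⁻¹ = k' := by
  set d := k' * k with hd
  have hdD : d ∈ st a ⊓ st b := mem_inf.2
    ⟨MulAction.mem_stabilizer_iff.2 (by rw [hd, mul_smul, hka, swap_back hk' hka']),
      MulAction.mem_stabilizer_iff.2 (by rw [hd, mul_smul, swap_back hk hka, hka'])⟩
  obtain ⟨m, hm⟩ := (odd_pair hH hab).of_dvd_nat (Subgroup.orderOf_dvd_natCard _ hdD)
  have hinv : k * d * k⁻¹ = d⁻¹ := by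
    rw [hd, mul_inv_rev, Invol.inv_eq_self hk, Invol.inv_eq_self hk', mul_assoc k, mul_assoc k',
      Invol.mul_self_eq_one hk, mul_one]
  have hee : d ^ (m + 1) * d ^ (m + 1) = d := by
    rw [← pow_add, show m + 1 + (m + 1) = orderOf d + 1 by omega, pow_succ, pow_orderOf_eq_one,
      one_mul]
  refine ⟨d ^ (m + 1), pow_mem hdD _, ?_⟩
  have h1 : k * (d ^ (m + 1))⁻¹ * k⁻¹ = d ^ (m + 1) := by
    rw [← conj_inv, ← conj_pow, hinv, inv_pow, inv_inv]
  calc d ^ (m + 1) * k * (d ^ (m + 1))⁻¹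
      = d ^ (m + 1) * (k * (d ^ (m + 1))⁻¹ * k⁻¹) * k := by group
    _ = k' := by rw [h1, hee, hd, mul_assoc, Invol.mul_self_eq_one hk, mul_one]

/-- The size of a conjugacy orbit of a subgroup. -/
theorem card_orbit_mul (K : Subgroup G) (u : G) (P : G → Prop)
    (hP : ∀ x, P x ↔ ∃ k ∈ K, k * u * k⁻¹ = x) :
    Nat.card {x // P x} * Nat.card ↥(centralizer ({u} : Set G) ⊓ K) = Nat.card K := by
  rw [FusionLift.card_eq_relIndex_mul (centralizer ({u} : Set G)) K, mul_comm]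
  congr 1
  rw [relIndex, index_eq_card]
  refine (Nat.card_congr ?_).symm
  set C := (centralizer ({u} : Set G)).subgroupOf K
  have key : ∀ k l : K, k⁻¹ * l ∈ C ↔ (k : G) * u * (k : G)⁻¹ = (l : G) * u * (l : G)⁻¹ := by
    intro k l
    rw [mem_subgroupOf, mem_centralizer_singleton_iff, Subgroup.coe_mul, Subgroup.coe_inv]
    constructor
    · intro h
      calc (k : G) * u * (k : G)⁻¹
          = (k : G) * (u * ((k : G)⁻¹ * l)) * (l : G)⁻¹ := by group
        _ = (k : G) * (((k : G)⁻¹ * l) * u) * (l : G)⁻¹ := by rw [h]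
        _ = _ := by group
    · intro h
      calc (k : G)⁻¹ * l * u = (k : G)⁻¹ * ((l : G) * u * (l : G)⁻¹) * l := by group
        _ = (k : G)⁻¹ * ((k : G) * u * (k : G)⁻¹) * l := by rw [h]
        _ = _ := by group
  refine Equiv.ofBijective (Quotient.lift (fun k : K => (⟨_, (hP _).2 ⟨k, k.2, rfl⟩⟩ : {x // P x}))
    fun k l h => Subtype.ext ((key k l).1 (QuotientGroup.leftRel_apply.1 h))) ⟨?_, ?_⟩
  · intro x y
    induction x using Quotient.inductionOn' with | h k => ?_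
    induction y using Quotient.inductionOn' with | h l => ?_
    intro h
    exact Quotient.sound' (QuotientGroup.leftRel_apply.2 ((key k l).2 (congrArg Subtype.val h)))
  · rintro ⟨x, hx⟩
    obtain ⟨k, hk, rfl⟩ := (hP x).1 hx
    exact ⟨Quotient.mk'' ⟨k, hk⟩, rfl⟩

include hH in
theorem card_centre {a b e : G ⧸ H} (hab : a ≠ b) {u : G} (hu : orderOf u = 2) (hua : u • a = b)
    (hue : u • e = e) : Nat.card ↥(st e ⊓ st a) = Nat.card ↥(st a ⊓ st b) := by
  have hea : e ≠ a := fun h => hab (by rw [← hua, ← h, hue])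
  have hC : centralizer ({u} : Set G) ⊓ (st e ⊓ st a) =
      centralizer ({u} : Set G) ⊓ (st a ⊓ st b) := by
    ext c
    simp only [mem_inf, MulAction.mem_stabilizer_iff, mem_centralizer_singleton_iff]
    constructor
    · rintro ⟨hc, -, ha⟩
      exact ⟨hc, ha, by rw [← hua, smul_smul, hc, mul_smul, ha]⟩
    · rintro ⟨hc, ha, -⟩
      exact ⟨hc, StrongEmbed.fix_unique hH hu (by rw [smul_smul, ← hc, mul_smul, hue]) hue, ha⟩
  have h1 := card_orbit_mul (st e ⊓ st a) u (fun x => orderOf x = 2 ∧ x • e = e) fun x =>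
    ⟨fun hx => (transOdd_pair hH hea).2.2 u x hue hu hx.2 hx.1, by
      rintro ⟨k, hk, rfl⟩
      exact ⟨by rw [Invol.orderOf_conj_eq, hu],
        by rw [mul_smul, mul_smul, inv_smul_eq_iff.2 hk.1.symm, hue, hk.1]⟩⟩
  have h2 := card_orbit_mul (st a ⊓ st b) u (fun x => orderOf x = 2 ∧ x • a = b) fun x =>
    ⟨fun hx => trans_swap hH hab hu hx.1 hua hx.2, by
      rintro ⟨k, hk, rfl⟩
      exact ⟨by rw [Invol.orderOf_conj_eq, hu],
        by rw [mul_smul, mul_smul, inv_smul_eq_iff.2 hk.1.symm, hua, hk.2]⟩⟩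
  rw [StrongEmbed.card_fix, hC] at h1
  rw [StrongEmbed.card_swap hH hab] at h2
  rw [← h1, ← h2]

include hH in
theorem swapper_norm [Fact r.Prime] {a b : G ⧸ H} (hab : a ≠ b) {Y : Subgroup G}
    (hY : Syl r (st a ⊓ st b) Y) :
    ∃ u : G, orderOf u = 2 ∧ u • a = b ∧ u ∈ normalizer (Y : Set G) := by
  obtain ⟨u, hu, hua⟩ := StrongEmbed.exists_swap hH hab
  have hub := swap_back hu hua
  have hle : cj u Y ≤ st a ⊓ st b := le_inf
    (by have := le_st_smul (g := u) (hY.1.trans inf_le_right); rwa [hub] at this)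
    (by have := le_st_smul (g := u) (hY.1.trans inf_le_left); rwa [hua] at this)
  obtain ⟨d, hd, hdY⟩ := syl_conj hY hle (hY.2.1.map _)
  have hdY' : cj (d * u) Y = Y := by
    rw [← cj_cj]
    exact eq_of_le_of_card_ge hdY (by rw [card_cj, card_cj])
  set g := d * u
  have hga : g • a = b := by rw [mul_smul, hua, hd.2]
  have hgb : g • b = a := by rw [mul_smul, hub, hd.1]
  have hg2 : g * g ∈ st a ⊓ st b :=
    mem_inf.2 ⟨MulAction.mem_stabilizer_iff.2 (by rw [mul_smul, hga, hgb]),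
      MulAction.mem_stabilizer_iff.2 (by rw [mul_smul, hgb, hga])⟩
  obtain ⟨m, hm⟩ := (odd_pair hH hab).of_dvd_nat (Subgroup.orderOf_dvd_natCard _ hg2)
  have hswap : g ^ (2 * m + 1) • a = b := by
    rw [pow_succ, mul_smul, hga, pow_mul, sq]
    exact (pow_mem hg2 m).2
  refine ⟨g ^ (2 * m + 1), Invol.orderOf_eq_two ?_ fun h => hab ?_, hswap,
    pow_mem (mem_norm_iff.2 hdY') _⟩
  · rw [← pow_add, ← two_mul, pow_mul, sq, ← hm, pow_orderOf_eq_one]
  · rw [← hswap, h, one_smul]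

include hH in
theorem stepA [Fact r.Prime] (hr : GoodPrime r H) {a b e : G ⧸ H} (hab : a ≠ b) {Y : Subgroup G}
    (hY : Syl r (st a ⊓ st b) Y) {u : G} (hu : orderOf u = 2) (hua : u • a = b)
    (huY : u ∈ normalizer (Y : Set G)) (hue : u • e = e) : ¬ Y ≤ st e := by
  intro hYe
  have hea : e ≠ a := fun h => hab (by rw [← hua, ← h, hue])
  have hle : Y ≤ st e ⊓ st a := le_inf hYe (hY.1.trans inf_le_left)
  obtain ⟨Z, hYZ, hZ⟩ := exists_syl hle hY.2.1
  have hcard : Y.relIndex (st e ⊓ st a) = Y.relIndex (st a ⊓ st b) := by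
    have e1 := FusionLift.card_eq_relIndex_mul Y (st e ⊓ st a)
    have e2 := FusionLift.card_eq_relIndex_mul Y (st a ⊓ st b)
    rw [inf_eq_left.2 hle] at e1
    rw [inf_eq_left.2 hY.1] at e2
    exact Nat.eq_of_mul_eq_mul_left Nat.card_pos
      (e1.symm.trans ((card_centre hH hab hu hua hue).trans e2))
  have hZY : Y = Z := by
    have hdvd : ¬ r ∣ Y.relIndex Z := fun h => syl_not_dvd hY
      (hcard ▸ h.trans (Dvd.intro _ (relIndex_mul_relIndex _ _ _ hYZ hZ.1)))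
    obtain ⟨k, hk⟩ : ∃ k, (Y.subgroupOf Z).index = r ^ k := hZ.2.1.index _
    refine le_antisymm hYZ (relIndex_eq_one.1 ?_)
    rcases k with _ | k
    · exact hk.trans (pow_zero r)
    · exact absurd (by rw [relIndex, hk]; exact dvd_pow_self r k.succ_ne_zero) hdvd
  subst hZY
  exact (nc_pair hH hea hZ).no_invol hr hue hu huY

/-! ### Groups normalized by two commuting involutions -/

/-- An element of odd order splits as fixed times inverted. -/
theorem split {Y : Subgroup G} (hY : Odd (Nat.card Y)) {u y : G} (hu : u * u = 1)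
    (hy : y ∈ Y) (huy : u * y * u ∈ Y) :
    ∃ c ∈ Y, ∃ i ∈ Y, Commute u c ∧ u * i * u = i⁻¹ ∧ y = c * i := by
  set d := y⁻¹ * (u * y * u) with hd
  have hdY : d ∈ Y := mul_mem (inv_mem hy) huy
  obtain ⟨m, hm⟩ := hY.of_dvd_nat (Subgroup.orderOf_dvd_natCard _ hdY)
  have hui : u⁻¹ = u := inv_eq_of_mul_eq_one_right hu
  have hinv : u * d * u⁻¹ = d⁻¹ := by
    rw [hd, hui]
    simp only [mul_inv_rev, inv_inv, hui, mul_assoc, hu, mul_one]
  have hee : d ^ (m + 1) * d ^ (m + 1) = d := by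
    rw [← pow_add, show m + 1 + (m + 1) = orderOf d + 1 by omega, pow_succ, pow_orderOf_eq_one,
      one_mul]
  have he : u * d ^ (m + 1) * u⁻¹ = (d ^ (m + 1))⁻¹ := by rw [← conj_pow, hinv, inv_pow]
  refine ⟨y * d ^ (m + 1), mul_mem hy (pow_mem hdY _), (d ^ (m + 1))⁻¹,
    inv_mem (pow_mem hdY _), ?_, ?_, by group⟩
  · have : u * (y * d ^ (m + 1)) * u⁻¹ = y * d ^ (m + 1) := by
      calc u * (y * d ^ (m + 1)) * u⁻¹ = u * y * u⁻¹ * (u * d ^ (m + 1) * u⁻¹) := by group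
        _ = y * d * (d ^ (m + 1))⁻¹ := by rw [he, hd, hui]; group
        _ = y * (d ^ (m + 1) * d ^ (m + 1)) * (d ^ (m + 1))⁻¹ := by rw [hee]
        _ = _ := by group
    exact mul_inv_eq_iff_eq_mul.1 this
  · have h := congrArg Inv.inv he
    rw [conj_inv, hui] at h
    exact h

theorem le_of_four [Fact r.Prime] (hodd : Odd r) {Y : Subgroup G} (hY : IsPGroup r Y)
    {K : Subgroup G} {u v : G} (hu : orderOf u = 2) (hv : orderOf v = 2) (hc : Commute u v)
    (huY : u ∈ normalizer (Y : Set G)) (hvY : v ∈ normalizer (Y : Set G))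
    (huK : u ∈ normalizer (K : Set G)) (hvK : v ∈ normalizer (K : Set G))
    (hfix : ∀ w y : G, (w = u ∨ w = v ∨ w = u * v) → y ∈ Y → Commute w y → y ∈ K) : Y ≤ K := by
  by_contra hnot
  obtain ⟨N, hlt, hNY, hNK⟩ := exists_between
    (lt_of_le_of_ne inf_le_left fun h => hnot (h ▸ inf_le_right) : Y ⊓ K < Y) hY
  have hu2 := Invol.mul_self_eq_one hu
  have hv2 := Invol.mul_self_eq_one hv
  have hui := Invol.inv_eq_self hu
  have hvi := Invol.inv_eq_self hv
  obtain ⟨n, hn, hnK⟩ := SetLike.exists_of_lt hlt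
  set M := Y ⊓ normalizer (↑(Y ⊓ K) : Set G)
  have hnM : n ∈ M := mem_inf.2 ⟨hNY hn, hNK hn⟩
  have hoddY : ∀ A : Subgroup G, A ≤ Y → Odd (Nat.card A) := fun A hA => by
    obtain ⟨k, hk⟩ := IsPGroup.iff_card.1 (hY.to_le hA)
    rw [hk]; exact hodd.pow
  have hMM : ∀ w ∈ normalizer (Y : Set G), w ∈ normalizer (K : Set G) →
      ∀ m ∈ M, w * m * w⁻¹ ∈ M := by
    intro w hwY hwK m hm
    have hwYK : w ∈ normalizer (↑(Y ⊓ K) : Set G) := mem_normalizer_iff.2 fun x => by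
      rw [mem_inf, mem_inf, mem_normalizer_iff.1 hwY x, mem_normalizer_iff.1 hwK x]
    exact mem_inf.2 ⟨(mem_normalizer_iff.1 hwY m).1 hm.1, mul_mem (mul_mem hwYK hm.2) (inv_mem hwYK)⟩
  obtain ⟨c, hcM, i, hiM, hcu, hiu, rfl⟩ := split (hoddY M inf_le_left) hu2 hnM
    (by simpa [hui] using hMM u huY huK n hnM)
  obtain ⟨c', hcM', j, hjM, hcv, hjv, rfl⟩ := split (hoddY M inf_le_left) hv2 hiM
    (by simpa [hvi] using hMM v hvY hvK i hiM)
  have hcK : c ∈ Y ⊓ K := mem_inf.2 ⟨hcM.1, hfix u c (Or.inl rfl) hcM.1 hcu⟩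
  have hcK' : c' ∈ Y ⊓ K := mem_inf.2 ⟨hcM'.1, hfix v c' (Or.inr (Or.inl rfl)) hcM'.1 hcv⟩
  -- the image of `c' j` under `uv` is congruent to `c' j` modulo `Y ⊓ K`
  set w := u * v with hw
  have hw2 : w * w = 1 := by
    rw [hw, hc.symm.mul_mul_mul_comm, hu2, hv2, one_mul]
  have hjK : u * v * (c' * j) * (u * v)⁻¹ * (c' * j)⁻¹ ∈ Y ⊓ K := by
    have h1 : v * (c' * j) * v = c' * j⁻¹ := by
      rw [← mul_assoc v c', hcv.eq, mul_assoc c', mul_assoc c', hjv]
    have h2 : u * (c' * j) * u = j⁻¹ * c'⁻¹ := by rw [hiu, mul_inv_rev]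
    have hcu' : u * c' * u⁻¹ ∈ Y ⊓ K :=
      mem_inf.2 ⟨(mem_normalizer_iff.1 huY c').1 hcK'.1, (mem_normalizer_iff.1 huK c').1 hcK'.2⟩
    -- `u j u` is congruent to `j⁻¹`
    have h3 : u * j⁻¹ * u = c' * j * (u * c' * u⁻¹) := by
      have e : u * j⁻¹ * u⁻¹ = (u * (c' * j) * u⁻¹)⁻¹ * (u * c' * u⁻¹) := by group
      rw [hui] at e
      calc u * j⁻¹ * u = (u * (c' * j) * u)⁻¹ * (u * c' * u) := e
        _ = c' * j * (u * c' * u⁻¹) := by rw [h2, hui]; group
    have h4 : u * v * (c' * j) * (u * v)⁻¹ = u * c' * u⁻¹ * (c' * j * (u * c' * u⁻¹)) := by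
      calc u * v * (c' * j) * (u * v)⁻¹ = u * (v * (c' * j) * v) * u := by
            rw [mul_inv_rev, hui, hvi]; group
        _ = u * c' * u⁻¹ * (u * j⁻¹ * u) := by rw [h1]; group
        _ = _ := by rw [h3]
    rw [h4, show u * c' * u⁻¹ * (c' * j * (u * c' * u⁻¹)) * (c' * j)⁻¹ =
      u * c' * u⁻¹ * ((c' * j) * (u * c' * u⁻¹) * (c' * j)⁻¹) by group]
    exact mul_mem hcu' ((mem_normalizer_iff.1 (mem_inf.1 hiM).2 _).1 hcu')
  obtain ⟨x, hx, hxw⟩ := LocalB.exists_fixed_lift (hoddY _ inf_le_left) hw2 hjK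
  have hxY : x ∈ Y := by
    have := mul_mem (mem_inf.1 hx).1 hiM.1
    simpa [mul_assoc] using this
  have hxK : x ∈ Y ⊓ K := mem_inf.2 ⟨hxY, hfix w x (Or.inr (Or.inr rfl)) hxY hxw⟩
  refine hnK (mul_mem hcK ?_)
  have := mul_mem (inv_mem hx) hxK
  simpa [mul_assoc] using this

include hH in
/-- An `r`-group normalized by two commuting involutions fixes their common fixed point. -/
theorem le_st_of_pair [Fact r.Prime] (hodd : Odd r) {Y : Subgroup G} (hY : IsPGroup r Y) {u v : G}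
    (hu : orderOf u = 2) (hv : orderOf v = 2) (hne : u ≠ v) (hc : Commute u v)
    (huY : u ∈ normalizer (Y : Set G)) (hvY : v ∈ normalizer (Y : Set G)) {e : G ⧸ H}
    (hue : u • e = e) : Y ≤ st e := by
  have hve : v • e = e :=
    StrongEmbed.fix_unique hH hu (by rw [smul_smul, hc.eq, mul_smul, hue]) hue
  have hw : orderOf (u * v) = 2 := by
    refine Invol.orderOf_eq_two ?_ fun h => hne ?_
    · rw [hc.symm.mul_mul_mul_comm, Invol.mul_self_eq_one hu, Invol.mul_self_eq_one hv, one_mul]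
    · rw [eq_inv_of_mul_eq_one_left h, Invol.inv_eq_self hv]
  have hwe : (u * v) • e = e := by rw [mul_smul, hve, hue]
  refine le_of_four hodd hY hu hv hc huY hvY (le_normalizer (hue : u ∈ st e))
    (le_normalizer (hve : v ∈ st e)) fun w y hw' _ hwy => ?_
  have hw2 : orderOf w = 2 ∧ w • e = e := by
    rcases hw' with rfl | rfl | rfl
    exacts [⟨hu, hue⟩, ⟨hv, hve⟩, ⟨hw, hwe⟩]
  exact StrongEmbed.fix_unique hH hw2.1 (by rw [smul_smul, hwy.eq, mul_smul, hw2.2]) hw2.2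

/-- In a group with two commuting involutions every involution commutes with another one. -/
theorem exists_partner {N : Subgroup G} {u v w : G} (huN : u ∈ N) (hu : orderOf u = 2)
    (hvN : v ∈ N) (hv : orderOf v = 2) (hwN : w ∈ N) (hw : orderOf w = 2) (hne : v ≠ w)
    (hc : Commute v w) : ∃ z ∈ N, orderOf z = 2 ∧ z ≠ u ∧ Commute u z := by
  haveI : Fact (Nat.Prime 2) := ⟨Nat.prime_two⟩
  have huP : IsPGroup 2 (zpowers (⟨u, huN⟩ : N)) := IsPGroup.of_card (n := 1)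
    (by rw [Nat.card_zpowers, ← Subgroup.orderOf_coe, hu, pow_one])
  obtain ⟨P, hP⟩ := huP.exists_le_sylow
  have huP' : (⟨u, huN⟩ : N) ∈ (P : Subgroup N) := hP (mem_zpowers _)
  haveI : Nontrivial (P : Subgroup N) := ⟨⟨⟨_, huP'⟩, 1, fun h => by
    have h1 : u = 1 := congrArg (fun q : (P : Subgroup N) => ((q : N) : G)) h
    rw [h1, orderOf_one] at hu
    omega⟩⟩
  haveI := P.isPGroup'.center_nontrivial
  obtain ⟨z, hz⟩ := exists_prime_orderOf_dvd_card' (G := center (P : Subgroup N)) 2 (by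
    obtain ⟨k, hk, hk'⟩ := ((P.isPGroup'.to_subgroup (center (P : Subgroup N))).nontrivial_iff_card).1 inferInstance
    exact hk' ▸ dvd_pow_self 2 hk.ne')
  by_cases hzu : (((z : (P : Subgroup N)) : N) : G) = u
  · -- `u` is central in `P`: conjugate the four-group into `P`
    have hcen : ∀ p ∈ (P : Subgroup N), Commute u (p : G) := fun p hp => by
      have h := congrArg (fun q : (P : Subgroup N) => ((q : N) : G)) (mem_center_iff.1 z.2 ⟨p, hp⟩)
      simp only [Subgroup.coe_mul, hzu] at h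
      exact h.symm
    let E : Subgroup N := closure {(⟨v, hvN⟩ : N), ⟨w, hwN⟩}
    have hv' : (⟨v, hvN⟩ : N) * ⟨v, hvN⟩ = 1 := Subtype.ext (Invol.mul_self_eq_one hv)
    have hw' : (⟨w, hwN⟩ : N) * ⟨w, hwN⟩ = 1 := Subtype.ext (Invol.mul_self_eq_one hw)
    have hE : IsPGroup 2 E := by
      rintro ⟨x, hx⟩
      refine ⟨1, Subtype.ext ?_⟩
      show x ^ (2 ^ 1) = 1
      rw [pow_one]
      suffices h : x * x = 1 ∧ Commute x (⟨v, hvN⟩ : N) ∧ Commute x (⟨w, hwN⟩ : N) by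
        rw [sq]; exact h.1
      induction hx using closure_induction with
      | mem y hy =>
        have hvw : Commute (⟨v, hvN⟩ : N) ⟨w, hwN⟩ := Subtype.ext hc.eq
        rcases hy with rfl | rfl
        · exact ⟨hv', Commute.refl _, hvw⟩
        · exact ⟨hw', hvw.symm, Commute.refl _⟩
      | one => exact ⟨one_mul 1, Commute.one_left _, Commute.one_left _⟩
      | mul y y' hy hy' ihy ihy' =>
        have hyy : Commute y y' := by
          clear ihy'
          induction hy' using closure_induction with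
          | mem q hq =>
            rcases hq with rfl | rfl
            exacts [ihy.2.1, ihy.2.2]
          | one => exact Commute.one_right _
          | mul q q' _ _ h h' => exact h.mul_right h'
          | inv q _ h => exact h.inv_right
        exact ⟨by rw [hyy.symm.mul_mul_mul_comm, ihy.1, ihy'.1, one_mul],
          ihy.2.1.mul_left ihy'.2.1, ihy.2.2.mul_left ihy'.2.2⟩
      | inv y _ ih =>
        exact ⟨by rw [← mul_inv_rev, ih.1, inv_one], ih.2.1.inv_left, ih.2.2.inv_left⟩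
    obtain ⟨Q, hQ⟩ := hE.exists_le_sylow
    obtain ⟨g, hg⟩ := MulAction.exists_smul_eq N Q P
    have hconj : ∀ x ∈ E, g * x * g⁻¹ ∈ (P : Subgroup N) := fun x hx => by
      rw [← hg]; exact ⟨x, hQ hx, rfl⟩
    have hone : ∀ (x : G) (hxN : x ∈ N), orderOf x = 2 → (⟨x, hxN⟩ : N) ∈ E →
        (g : G) * x * (g : G)⁻¹ ≠ u → ∃ z ∈ N, orderOf z = 2 ∧ z ≠ u ∧ Commute u z :=
      fun x hxN hx hxE h =>
        ⟨_, mul_mem (mul_mem g.2 hxN) (inv_mem g.2), by rw [Invol.orderOf_conj_eq, hx], h,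
          hcen _ (hconj _ hxE)⟩
    by_cases hgv : (g : G) * v * (g : G)⁻¹ = u
    · refine hone w hwN hw (subset_closure (Or.inr rfl)) fun h => hne ?_
      exact mul_left_cancel (mul_right_cancel (hgv.trans h.symm))
    · exact hone v hvN hv (subset_closure (Or.inl rfl)) hgv
  · refine ⟨_, (((z : (P : Subgroup N)) : N)).2, by
      rw [Subgroup.orderOf_coe, Subgroup.orderOf_coe, Subgroup.orderOf_coe, hz], hzu, ?_⟩
    have h := congrArg (fun q : (P : Subgroup N) => ((q : N) : G)) (mem_center_iff.1 z.2 ⟨_, huP'⟩)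
    simp only [Subgroup.coe_mul] at h
    exact h

/-! ### An involution whose fixed point is not fixed by the `r`-group it normalizes -/

/-- The properties of the odd part of the normalizer. -/
def OneClass (H Y O : Subgroup G) (u : G) : Prop :=
  O ≤ normalizer (Y : Set G) ∧ Odd (Nat.card O) ∧
    (∀ g ∈ normalizer (Y : Set G), ∀ o ∈ O, g * o * g⁻¹ ∈ O) ∧
    (∀ g ∈ normalizer (Y : Set G), u * g * u⁻¹ * g⁻¹ ∈ O) ∧
    (∀ v ∈ normalizer (Y : Set G), orderOf v = 2 → v * u ∈ O) ∧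
    ∀ g ∈ normalizer (Y : Set G), ∀ x : G ⧸ H, Y ≤ st x → g • x = x → Odd (orderOf g)

include hH in
theorem exists_oneClass [Fact r.Prime] (hodd : Odd r) {Y : Subgroup G} (hY : IsPGroup r Y) {u : G}
    (hu : orderOf u = 2) (huY : u ∈ normalizer (Y : Set G)) {e : G ⧸ H} (hue : u • e = e)
    (he : ¬ Y ≤ st e) : ∃ O : Subgroup G, OneClass H Y O u := by
  set N := normalizer (Y : Set G) with hN
  have hnp : ∀ v w : N, orderOf v = 2 → orderOf w = 2 → Commute v w → v = w := by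
    intro v w hv hw hvw
    by_contra hne
    rw [← Subgroup.orderOf_coe] at hv hw
    obtain ⟨z, hzN, hz, hzu, hcz⟩ := exists_partner huY hu v.2 hv w.2 hw
      (fun h => hne (Subtype.ext h)) (congrArg Subtype.val hvw)
    exact he (le_st_of_pair hH hodd hY hu hz hzu.symm hcz huY hzN hue)
  have hu' : orderOf (⟨u, huY⟩ : N) = 2 := by rw [← Subgroup.orderOf_coe, hu]
  have hz := ZStar.isolated_of_commuting hnp hu'
  refine ⟨(Cfsg.oddCore N).map N.subtype, map_subtype_le _, ?_, ?_, ?_, ?_, ?_⟩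
  · rw [card_map_of_injective N.subtype_injective]
    exact IsoApps.odd_oddCore
  · rintro g hg _ ⟨o, ho, rfl⟩
    exact ⟨⟨g, hg⟩ * o * ⟨g, hg⟩⁻¹, (Solvable.pPrimeCore_normal 2).conj_mem o ho _, rfl⟩
  · intro g hg
    exact ⟨_, IsoApps.comm_mem_oddCore hz ⟨g, hg⟩, rfl⟩
  · intro v hv hv2
    have hv' : orderOf (⟨v, hv⟩ : N) = 2 := by rw [← Subgroup.orderOf_coe, hv2]
    have hoddm : Odd (orderOf ((⟨v, hv⟩ : N) * ⟨u, huY⟩)) := by
      by_contra hev
      rw [Nat.not_odd_iff_even] at hev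
      obtain ⟨hd2, hdv, hdu⟩ := Invol.half_props hv' hu' hev
      have h1 := hnp _ _ hv' hd2 hdv.symm
      have h2 := hnp _ _ hu' hd2 hdu.symm
      rw [h1, ← h2, Invol.mul_self_eq_one hu', orderOf_one] at hev
      exact absurd hev (by decide)
    refine ⟨_, IsoApps.mem_oddCore_of_inverted hz hoddm ?_, rfl⟩
    rw [Invol.mul_inv_rev_invol hv' hu', mul_assoc, mul_assoc, mul_inv_cancel, mul_one]
  · intro g hg x hx hgx
    by_contra hev
    obtain ⟨k, hk⟩ := Nat.not_odd_iff_even.1 hev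
    have hk0 : k ≠ 0 := fun h => by
      have := (isOfFinOrder_of_finite g).orderOf_pos
      omega
    have hv : orderOf (g ^ k) = 2 := by
      refine Invol.orderOf_eq_two (by rw [← pow_add, ← hk, pow_orderOf_eq_one]) fun h => ?_
      have := Nat.le_of_dvd (by omega) (orderOf_dvd_of_pow_eq_one h)
      omega
    have hvN : g ^ k ∈ N := pow_mem hg k
    have hvx : g ^ k • x = x := (st x).pow_mem hgx k
    -- `u` is conjugate in `N` to this involution
    have hv' : orderOf (⟨_, hvN⟩ : N) = 2 := by rw [← Subgroup.orderOf_coe, hv]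
    have hodd' : Odd (orderOf ((⟨_, hvN⟩ : N) * ⟨u, huY⟩)) := by
      by_contra hev
      rw [Nat.not_odd_iff_even] at hev
      obtain ⟨hd2, hdv, hdu⟩ := Invol.half_props hv' hu' hev
      have h1 := hnp _ _ hv' hd2 hdv.symm
      have h2 := hnp _ _ hu' hd2 hdu.symm
      rw [h1, ← h2, Invol.mul_self_eq_one hu', orderOf_one] at hev
      exact absurd hev (by decide)
    obtain ⟨m, hm⟩ := Invol.exists_pow_conj_of_odd hv' hu' hodd'
    set c : N := ((⟨_, hvN⟩ : N) * ⟨u, huY⟩) ^ m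
    have hcu : (c : G) * g ^ k * (c : G)⁻¹ = u := congrArg Subtype.val hm
    have hfix : u • ((c : G) • x) = (c : G) • x := by
      rw [smul_smul, ← hcu, inv_mul_cancel_right, mul_smul, hvx]
    exact he (StrongEmbed.fix_unique hH hu hfix hue ▸ le_st_smul_of_norm c.2 hx)

theorem OneClass.even {Y O : Subgroup G} {u : G} (hu : orderOf u = 2) (h : OneClass H Y O u)
    {w : G} (hwN : w ∈ normalizer (Y : Set G)) (hw : w * u ∈ O) : ¬ Odd (orderOf w) := by
  rintro ⟨m, hm⟩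
  obtain ⟨-, hO, -, hcomm, -, -⟩ := h
  have hui := Invol.inv_eq_self hu
  have hww : w * w ∈ O := by
    have h1 := hcomm w hwN
    have : w * w = (w * u) * ((u * w * u⁻¹ * w⁻¹)) * (w * u) * (1 : G) := by
      rw [hui, mul_one]
      calc w * w = w * (u * u) * w * (u * u) := by rw [Invol.mul_self_eq_one hu, mul_one, mul_one]
        _ = _ := by group
    rw [this]
    exact mul_mem (mul_mem (mul_mem hw h1) hw) (one_mem _)
  have hwO : w ∈ O := by
    have := pow_mem hww (m + 1)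
    rwa [← sq, ← pow_mul, show 2 * (m + 1) = orderOf w + 1 by omega, pow_succ,
      pow_orderOf_eq_one, one_mul] at this
  have huO : u ∈ O := by simpa using mul_mem (inv_mem hwO) hw
  have := hO.of_dvd_nat (Subgroup.orderOf_dvd_natCard _ huO)
  rw [hu] at this
  exact absurd this (by decide)

theorem OneClass.triangle {Y O : Subgroup G} {u : G} (hu : orderOf u = 2) (h : OneClass H Y O u)
    {a b c : G ⧸ H} (ha : Y ≤ st a) {i j k : G} (hi : orderOf i = 2) (hj : orderOf j = 2)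
    (hk : orderOf k = 2) (hiN : i ∈ normalizer (Y : Set G)) (hjN : j ∈ normalizer (Y : Set G))
    (hkN : k ∈ normalizer (Y : Set G)) (hia : i • a = b) (hjb : j • b = c) (hkc : k • c = a) :
    False := by
  have hwN : k * j * i ∈ normalizer (Y : Set G) := mul_mem (mul_mem hkN hjN) hiN
  refine h.even hu hwN ?_ (h.2.2.2.2.2 _ hwN a ha (by rw [mul_smul, hia, mul_smul, hjb, hkc]))
  have hI := h.2.2.2.2.1
  have : k * j * i * u = k * u * (j * u)⁻¹ * (i * u) := by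
    rw [mul_inv_rev, Invol.inv_eq_self hj, Invol.inv_eq_self hu]
    calc k * j * i * u = k * (u * u) * j * i * u := by rw [Invol.mul_self_eq_one hu, mul_one]
      _ = _ := by group
  rw [this]
  exact mul_mem (mul_mem (hI k hkN hk) (inv_mem (hI j hjN hj))) (hI i hiN hi)

/-! ### Largest `r`-subgroups of point stabilizers -/

/-- An `r`-subgroup of a point stabilizer of the largest possible order. -/
def Top (r : ℕ) (H R : Subgroup G) : Prop :=
  IsPGroup r R ∧ (∃ x : G ⧸ H, R ≤ st x) ∧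
    ∀ (P : Subgroup G) (x : G ⧸ H), IsPGroup r P → P ≤ st x → Nat.card P ≤ Nat.card R

/-- The pair is fixed by a largest `r`-subgroup of a point stabilizer. -/
def Full (r : ℕ) (a b : G ⧸ H) : Prop :=
  a ≠ b ∧ ∃ R : Subgroup G, Top r H R ∧ R ≤ st a ∧ R ≤ st b

include hH in
theorem stepB [Fact r.Prime] (hr : GoodPrime r H) :
    ∃ (a b : G ⧸ H) (Y : Subgroup G), a ≠ b ∧ Top r H Y ∧ Y ≤ st a ∧ Y ≤ st b ∧
      ∀ z : G ⧸ H, Y ≤ st z → z = a ∨ z = b := by
  obtain ⟨g, hg⟩ : ∃ g : G, g ∉ H := by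
    by_contra h
    push Not at h
    exact hH.1 (eq_top_iff.2 fun x _ => h x)
  obtain ⟨Y, ⟨hYp, a, b, hab, hYa, hYb⟩, hmax⟩ := Set.exists_max_image
    {Y : Subgroup G | IsPGroup r Y ∧ ∃ a b : G ⧸ H, a ≠ b ∧ Y ≤ st a ∧ Y ≤ st b}
    (fun Y => Nat.card Y) (Set.toFinite _)
    ⟨⊥, IsPGroup.of_bot, _, _, fun h => hg (StrongEmbed.smul_mk_one_iff.1
      (StrongEmbed.smul_mk_one_eq.trans h)), bot_le, bot_le⟩
  have hS : ∀ c d : G ⧸ H, c ≠ d → Y ≤ st c → Y ≤ st d → Syl r (st c ⊓ st d) Y :=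
    fun c d hcd hc hd => ⟨le_inf hc hd, hYp, fun P hP hPp =>
      hmax P ⟨hPp, c, d, hcd, hP.trans inf_le_left, hP.trans inf_le_right⟩⟩
  have hfix : ∀ z : G ⧸ H, Y ≤ st z → z = a ∨ z = b := by
    intro z hz
    by_contra hne
    push Not at hne
    obtain ⟨u, hu, hua, huY⟩ := swapper_norm hH hab (hS a b hab hYa hYb)
    obtain ⟨e, hue⟩ := StrongEmbed.exists_fix hH hu
    obtain ⟨O, hO⟩ := exists_oneClass hH hr.2.1 hYp hu huY hue
      (stepA hH hr hab (hS a b hab hYa hYb) hu hua huY hue)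
    obtain ⟨j, hj, hjb, hjY⟩ := swapper_norm hH hne.2.symm (hS b z hne.2.symm hYb hz)
    obtain ⟨k, hk, hkz, hkY⟩ := swapper_norm hH hne.1 (hS z a hne.1 hz hYa)
    exact hO.triangle hu hYa hu hj hk huY hjY hkY hua hjb hkz
  refine ⟨a, b, Y, hab, ⟨hYp, ⟨a, hYa⟩, fun P x hPp hPx => ?_⟩, hYa, hYb, hfix⟩
  obtain ⟨T, hYT, hT⟩ := exists_syl hYa hYp
  have hTY : T = Y := by
    by_contra hne
    obtain ⟨Z, hYZ, hZT, hZN⟩ := exists_between (lt_of_le_of_ne hYT (Ne.symm hne)) hT.2.1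
    have hZb : Z ≤ st b := fun z hz => by
      have hza : z • a = a := (hZT.trans hT.1) hz
      rcases hfix _ (le_st_smul_of_norm (hZN hz) hYb) with h | h
      · exact absurd (MulAction.injective z (hza.trans h.symm)) hab
      · exact h
    have := hmax Z ⟨hT.2.1.to_le hZT, a, b, hab, hZT.trans hT.1, hZb⟩
    exact hYZ.ne (eq_of_le_of_card_ge hYZ.le this)
  obtain ⟨g, rfl⟩ := exists_smul a x
  rw [← card_cj g⁻¹ P, ← hTY]
  exact hT.2.2 _ (by have := le_st_smul (g := g⁻¹) hPx; rwa [inv_smul_smul] at this) (hPp.map _)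

include hH in
theorem Top.fix [Fact r.Prime] (hr : GoodPrime r H) {R : Subgroup G} (hR : Top r H R) {x : G ⧸ H}
    (hx : R ≤ st x) :
    ∃ x' : G ⧸ H, x' ≠ x ∧ R ≤ st x' ∧ ∀ z : G ⧸ H, R ≤ st z → z = x ∨ z = x' := by
  obtain ⟨a, b, Y, hab, hY, hYa, hYb, hfix⟩ := stepB hH hr
  obtain ⟨g, rfl⟩ := exists_smul a x
  have hR' : cj g⁻¹ R ≤ st a := by
    have := le_st_smul (g := g⁻¹) hx
    rwa [inv_smul_smul] at this
  obtain ⟨d, hd, hdY⟩ := syl_conj (D := st a) (Y := Y)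
    ⟨hYa, hY.1, fun P hP hPp => hY.2.2 P a hPp hP⟩ hR' (hR.1.map _)
  rw [cj_cj] at hdY
  have heq := cj_eq_of_le hdY (hR.2.2 Y a hY.1 hYa)
  set h := d * g⁻¹ with hh
  have hha : h • g • a = a := by rw [hh, mul_smul, inv_smul_smul, hd]
  have hback : ∀ z : G ⧸ H, R ≤ st z → Y ≤ st (h • z) := fun z hz => heq ▸ le_st_smul hz
  refine ⟨h⁻¹ • b, fun e => hab ?_, ?_, fun z hz => ?_⟩
  · rw [← hha, ← e, smul_inv_smul]
  · have := le_st_smul (g := h⁻¹) hYb
    rwa [← heq, cj_inv] at this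
  · rcases hfix _ (hback z hz) with e | e
    · exact Or.inl (MulAction.injective h (e.trans hha.symm))
    · exact Or.inr (eq_inv_smul_iff.2 e)

include hH in
theorem exists_top [Fact r.Prime] (hr : GoodPrime r H) {X : Subgroup G} {x : G ⧸ H}
    (hX : X ≤ st x) (hp : IsPGroup r X) :
    ∃ R : Subgroup G, X ≤ R ∧ Top r H R ∧ R ≤ st x := by
  obtain ⟨R, hXR, hR⟩ := exists_syl hX hp
  obtain ⟨a, b, Y, -, hY, hYa, -⟩ := stepB hH hr
  refine ⟨R, hXR, ⟨hR.2.1, ⟨x, hR.1⟩, fun P z hPp hPz => (hY.2.2 P z hPp hPz).trans ?_⟩, hR.1⟩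
  obtain ⟨g, rfl⟩ := exists_smul a x
  rw [← card_cj g Y]
  exact hR.2.2 _ (le_st_smul hYa) (hY.1.map _)

include hH in
theorem Full.exists_smul [Fact r.Prime] (hr : GoodPrime r H) {a b b' : G ⧸ H} (h : Full r a b)
    (h' : Full r a b') : ∃ g ∈ st a, g • b = b' := by
  obtain ⟨hab, R, hR, hRa, hRb⟩ := h
  obtain ⟨hab', R', hR', hRa', hRb'⟩ := h'
  obtain ⟨d, hd, hdR⟩ := syl_conj (D := st a) (Y := R')
    ⟨hRa', hR'.1, fun P hP hPp => hR'.2.2 P a hPp hP⟩ hRa hR.1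
  have heq := cj_eq_of_le hdR (hR.2.2 R' a hR'.1 hRa')
  obtain ⟨z, -, -, hz⟩ := hR'.fix hH hr hRa'
  have h1 : R' ≤ st (d • b) := heq ▸ le_st_smul hRb
  have hne : d • b ≠ a := fun e => hab (MulAction.injective d (hd.trans e.symm))
  refine ⟨d, hd, ?_⟩
  rw [(hz _ h1).resolve_left hne, (hz _ hRb').resolve_left hab'.symm]

include hH in
/-- No `r`-group fixes three points, two of them without normalizing involutions, with all pairs
full. -/
theorem no_triple [Fact r.Prime] (hr : GoodPrime r H) {W0 : Subgroup G} (hp0 : IsPGroup r W0)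
    (hfull0 : ∀ x y : G ⧸ H, W0 ≤ st x → W0 ≤ st y → x ≠ y → Full r x y) {x0 y0 z0 : G ⧸ H}
    (hxy0 : x0 ≠ y0) (hxz0 : x0 ≠ z0) (hyz0 : y0 ≠ z0) (hx0 : NC r x0 W0) (hy0 : NC r y0 W0)
    (hz0 : W0 ≤ st z0) : False := by
  let P : Subgroup G → Prop := fun W => IsPGroup r W ∧
    (∀ x y : G ⧸ H, W ≤ st x → W ≤ st y → x ≠ y → Full r x y) ∧
    ∃ x y z : G ⧸ H, x ≠ y ∧ x ≠ z ∧ y ≠ z ∧ NC r x W ∧ NC r y W ∧ W ≤ st z
  obtain ⟨W, ⟨hWp, hfull, xa, xb, xc, hab, hac, hbc, hna, hnb, hWc⟩, hmax⟩ :=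
    Set.exists_max_image {W | P W} (fun W => Nat.card W) (Set.toFinite _)
      ⟨W0, hp0, hfull0, x0, y0, z0, hxy0, hxz0, hyz0, hx0, hy0, hz0⟩
  clear hp0 hfull0 hxy0 hxz0 hyz0 hx0 hy0 hz0
  set L := normalizer (W : Set G)
  -- larger groups fix only two points without normalizing involutions
  have key : ∀ (S : Subgroup G) (x y : G ⧸ H), W < S → IsPGroup r S → NC r x W → NC r y W →
      x ≠ y → S ≤ st x → S ≤ st y → ∀ z, S ≤ st z → z = x ∨ z = y := by
    intro S x y hWS hSp hx hy hxy hSx hSy z hz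
    by_contra hne
    push Not at hne
    exact hWS.ne (eq_of_le_of_card_ge hWS.le (hmax S ⟨hSp,
      fun p q hp hq => hfull p q (hWS.le.trans hp) (hWS.le.trans hq),
      x, y, z, hxy, hne.1.symm, hne.2.symm, hx.mono hWS.le hSx hSp, hy.mono hWS.le hSy hSp, hz⟩))
  -- a proper overgroup in the normalizer for a pair
  have grow : ∀ x y : G ⧸ H, W ≤ st x → W ≤ st y → x ≠ y →
      ∃ S : Subgroup G, ∃ Z : Subgroup G, W < Z ∧ Z ≤ S ∧ Z ≤ st y ∧ Syl r (L ⊓ st x) S := by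
    intro x y hx hy hxy
    obtain ⟨-, R0, hR0, hR0x, hR0y⟩ := hfull x y hx hy hxy
    obtain ⟨R, hWR, hR⟩ := exists_syl (le_inf hx hy) hWp
    have hRtop : Top r H R := ⟨hR.2.1, ⟨x, hR.1.trans inf_le_left⟩, fun P z hPp hPz =>
      (hR0.2.2 P z hPp hPz).trans (hR.2.2 R0 (le_inf hR0x hR0y) hR0.1)⟩
    have hlt : W < R := lt_of_le_of_ne hWR fun e => by
      subst e
      obtain ⟨w, -, -, hw⟩ := hRtop.fix hH hr (x := xa) hna.1
      rcases hw xb hnb.1 with e | e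
      · exact hab e.symm
      · rcases hw xc hWc with e' | e'
        · exact hac e'.symm
        · exact hbc (e.trans e'.symm)
    obtain ⟨Z, hWZ, hZR, hZN⟩ := exists_between hlt hR.2.1
    obtain ⟨S, hZS, hS⟩ := exists_syl (D := L ⊓ st x)
      (le_inf hZN (hZR.trans (hR.1.trans inf_le_left))) (hR.2.1.to_le hZR)
    exact ⟨S, Z, hWZ, hZS, hZR.trans (hR.1.trans inf_le_right), hS⟩
  -- for two such points some Sylow subgroup fixes exactly these
  have pairS : ∀ x y : G ⧸ H, NC r x W → NC r y W → x ≠ y →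
      ∃ S : Subgroup G, W < S ∧ Syl r (L ⊓ st x) S ∧ S ≤ st y := by
    intro x y hx hy hxy
    obtain ⟨S, Z, hWZ, hZS, hZy, hS⟩ := grow x y hx.1 hy.1 hxy
    obtain ⟨T, hST, hT, hTx⟩ := exists_top hH hr (hS.1.trans inf_le_right) hS.2.1
    obtain ⟨x', hne, hTx', -⟩ := hT.fix hH hr hTx
    have hx' : S ≤ st x' := hST.trans hTx'
    have := (key Z x y hWZ (hS.2.1.to_le hZS) hx hy hxy (hZS.trans (hS.1.trans inf_le_right)) hZy
      x' (hZS.trans hx')).resolve_left hne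
    exact ⟨S, hWZ.trans_le hZS, hS, this ▸ hx'⟩
  -- conjugating Sylow subgroups
  have conjS : ∀ (x y : G ⧸ H) (S S' : Subgroup G), W < S → Syl r (L ⊓ st x) S →
      Syl r (L ⊓ st x) S' → NC r y W → S ≤ st y → x ≠ y →
      ∃ d ∈ L, d • x = x ∧ NC r (d • y) W ∧ S' ≤ st (d • y) ∧ d • y ≠ x := by
    intro x y S S' hWS hS hS' hy hSy hxy
    obtain ⟨d, hd, hdS⟩ := syl_conj hS' hS.1 hS.2.1
    have heq := cj_eq_of_le hdS (hS.2.2 S' hS'.1 hS'.2.1)
    exact ⟨d, hd.1, hd.2, hy.smul_norm hd.1, heq ▸ le_st_smul hSy,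
      fun e => hxy (MulAction.injective d (hd.2.trans e.symm))⟩
  have allNC : ∀ y : G ⧸ H, W ≤ st y → NC r y W := by
    intro y hy
    by_cases hya : y = xa
    · exact hya ▸ hna
    obtain ⟨S0, hWS0, hS0, hS0b⟩ := pairS xa xb hna hnb hab
    obtain ⟨S, Z, hWZ, hZS, hZy, hS⟩ := grow xa y hna.1 hy (Ne.symm hya)
    obtain ⟨d, -, -, hdNC, hSd, hdne⟩ := conjS xa xb S0 S hWS0 hS0 hS hnb hS0b hab
    exact ((key Z xa (d • xb) hWZ (hS.2.1.to_le hZS) hna hdNC hdne.symm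
      (hZS.trans (hS.1.trans inf_le_right)) (hZS.trans hSd) y hZy).resolve_left hya) ▸ hdNC
  -- transitivity of the normalizer
  have htrans : ∀ x y y' : G ⧸ H, W ≤ st x → W ≤ st y → W ≤ st y' → y ≠ x → y' ≠ x →
      ∃ d ∈ L, d • x = x ∧ d • y = y' := by
    intro x y y' hx hy hy' hyx hy'x
    obtain ⟨S, hWS, hS, hSy⟩ := pairS x y (allNC x hx) (allNC y hy) hyx.symm
    obtain ⟨S', hWS', hS', hSy'⟩ := pairS x y' (allNC x hx) (allNC y' hy') hy'x.symm
    obtain ⟨d, hdL, hdx, hdNC, hdS', hdne⟩ := conjS x y S S' hWS hS hS' (allNC y hy) hSy hyx.symm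
    exact ⟨d, hdL, hdx, (key S' x y' hWS' hS'.2.1 (allNC x hx) (allNC y' hy') hy'x.symm
      (hS'.1.trans inf_le_right) hSy' (d • y) hdS').resolve_left hdne⟩
  have hswap : ∀ x y z : G ⧸ H, W ≤ st x → W ≤ st y → W ≤ st z → x ≠ y → x ≠ z → y ≠ z →
      ∃ g ∈ L, g • x = y ∧ g • y = x := by
    intro x y z hx hy hz hxy hxz hyz
    obtain ⟨g1, hg1, -, hg1x⟩ := htrans z x y hz hx hy hxz hyz
    have hy2 : W ≤ st (g1 • y) := le_st_smul_of_norm hg1 hy
    have hne : g1 • y ≠ y := fun e => hxy (MulAction.injective g1 (hg1x.trans e.symm))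
    obtain ⟨g2, hg2, hg2y, hg2y'⟩ := htrans y (g1 • y) x hy hy2 hx hne hxy
    exact ⟨g2 * g1, mul_mem hg2 hg1, by rw [mul_smul, hg1x, hg2y], by rw [mul_smul, hg2y']⟩
  have heven : ∀ g : G, ∀ x y : G ⧸ H, x ≠ y → g • x = y → g • y = x → ¬ Odd (orderOf g) := by
    rintro g x y hxy hgx hgy ⟨m, hm⟩
    refine hxy ?_
    have h2 : ∀ n, g ^ (2 * n) • x = x := fun n => by
      induction n with
      | zero => simp
      | succ n ih =>
        rw [show 2 * (n + 1) = 2 * n + 1 + 1 by omega, pow_succ, pow_succ, mul_smul, mul_smul,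
          hgx, hgy, ih]
    have h1 : g ^ (2 * m + 1) • x = y := by
      rw [pow_succ', mul_smul, h2, hgx]
    rw [← hm, pow_orderOf_eq_one, one_smul] at h1
    exact h1
  -- an involution of the normalizer
  obtain ⟨g, hgL, hgx, hgy⟩ := hswap xa xb xc hna.1 hnb.1 hWc hab hac hbc
  obtain ⟨k, hk⟩ := Nat.not_odd_iff_even.1 (heven g xa xb hab hgx hgy)
  have hv : orderOf (g ^ k) = 2 := by
    have := (isOfFinOrder_of_finite g).orderOf_pos
    refine Invol.orderOf_eq_two (by rw [← pow_add, ← hk, pow_orderOf_eq_one]) fun h => ?_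
    have := Nat.le_of_dvd (by omega) (orderOf_dvd_of_pow_eq_one h)
    omega
  obtain ⟨e, he⟩ := StrongEmbed.exists_fix hH hv
  obtain ⟨O, hO⟩ := exists_oneClass hH hr.2.1 hWp hv (pow_mem hgL k) he
    fun hWe => (allNC e hWe).no_invol hr he hv (pow_mem hgL k)
  have hinv : ∀ x y z : G ⧸ H, W ≤ st x → W ≤ st y → W ≤ st z → x ≠ y → x ≠ z → y ≠ z →
      ∃ i : G, orderOf i = 2 ∧ i ∈ L ∧ i • x = y := by
    intro x y z hx hy hz hxy hxz hyz
    obtain ⟨g, hgL, hgx, hgy⟩ := hswap x y z hx hy hz hxy hxz hyz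
    have hgg : (g * g) • x = x := by rw [mul_smul, hgx, hgy]
    obtain ⟨m, hm⟩ := hO.2.2.2.2.2 _ (mul_mem hgL hgL) x hx hgg
    have hp : g ^ (2 * m + 1) • x = y := by
      rw [pow_succ', mul_smul, pow_mul, sq, (st x).pow_mem hgg m, hgx]
    refine ⟨g ^ (2 * m + 1), Invol.orderOf_eq_two ?_ fun h => hxy ?_, pow_mem hgL _, hp⟩
    · rw [← pow_add, ← two_mul, pow_mul, sq, ← hm, pow_orderOf_eq_one]
    · rw [← hp, h, one_smul]
  obtain ⟨i, hi, hiL, hia⟩ := hinv xa xb xc hna.1 hnb.1 hWc hab hac hbc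
  obtain ⟨j, hj, hjL, hjb⟩ := hinv xb xc xa hnb.1 hWc hna.1 hbc hab.symm hac.symm
  obtain ⟨l, hl, hlL, hlc⟩ := hinv xc xa xb hWc hna.1 hnb.1 hac.symm hbc.symm hab
  exact hO.triangle hv hna.1 hi hj hl hiL hjL hlL hia hjb hlc

include hH in
theorem all_full [Fact r.Prime] (hr : GoodPrime r H) : ∀ a b : G ⧸ H, a ≠ b → Full r a b := by
  by_contra hnot
  push Not at hnot
  obtain ⟨a', b', hab', hnf'⟩ := hnot
  obtain ⟨Y, ⟨hYp, a, b, hab, hnf, hYa, hYb⟩, hmax⟩ := Set.exists_max_image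
    {Y : Subgroup G | IsPGroup r Y ∧
      ∃ a b : G ⧸ H, a ≠ b ∧ ¬ Full r a b ∧ Y ≤ st a ∧ Y ≤ st b}
    (fun Y => Nat.card Y) (Set.toFinite _) ⟨⊥, IsPGroup.of_bot, a', b', hab', hnf', bot_le, bot_le⟩
  have hS : ∀ c d : G ⧸ H, c ≠ d → ¬ Full r c d → Y ≤ st c → Y ≤ st d → Syl r (st c ⊓ st d) Y :=
    fun c d hcd hn hc hd => ⟨le_inf hc hd, hYp, fun P hP hPp =>
      hmax P ⟨hPp, c, d, hcd, hn, hP.trans inf_le_left, hP.trans inf_le_right⟩⟩
  have hab_syl := hS a b hab hnf hYa hYb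
  obtain ⟨u, hu, hua, huY⟩ := swapper_norm hH hab hab_syl
  obtain ⟨e, hue⟩ := StrongEmbed.exists_fix hH hu
  obtain ⟨O, hO⟩ := exists_oneClass hH hr.2.1 hYp hu huY hue
    (stepA hH hr hab hab_syl hu hua huY hue)
  have hncA := nc_pair hH hab hab_syl
  obtain ⟨hON, hOodd, hOnorm, hOcomm, hOinv, hOfix⟩ := hO
  have hO : OneClass H Y O u := ⟨hON, hOodd, hOnorm, hOcomm, hOinv, hOfix⟩
  have huu := Invol.mul_self_eq_one hu
  set N := normalizer (Y : Set G)
  -- the orbit of `a` and its image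
  set B : Set (G ⧸ H) := {p | ∃ o ∈ O, o • a = p} with hB
  set B' : Set (G ⧸ H) := {p | ∃ o ∈ O, u • o • a = p} with hB'
  have hdisj : ∀ p ∈ B, p ∉ B' := by
    rintro p ⟨o, ho, rfl⟩ ⟨o', ho', h⟩
    have hwN : o⁻¹ * (u * o') ∈ N := mul_mem (inv_mem (hON ho)) (mul_mem huY (hON ho'))
    have hwa : (o⁻¹ * (u * o')) • a = a := by rw [mul_smul, mul_smul, h, inv_smul_smul]
    refine hO.even hu hwN ?_ (hOfix _ hwN a hYa hwa)
    rw [show o⁻¹ * (u * o') * u = o⁻¹ * (u * o' * u) by group]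
    refine mul_mem (inv_mem ho) ?_
    have := hOnorm u huY o' ho'
    rwa [Invol.inv_eq_self hu] at this
  have hBinv : ∀ g ∈ N, g • a = a → ∀ p, (p ∈ B → g • p ∈ B) ∧ (p ∈ B' → g • p ∈ B') := by
    intro g hg hga p
    constructor
    · rintro ⟨o, ho, rfl⟩
      exact ⟨g * o * g⁻¹, hOnorm g hg o ho, by
        rw [mul_smul, mul_smul, inv_smul_eq_iff.2 hga.symm]⟩
    · rintro ⟨o, ho, rfl⟩
      refine ⟨u⁻¹ * g * u * g⁻¹ * (g * o * g⁻¹), mul_mem ?_ (hOnorm g hg o ho), ?_⟩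
      · rw [Invol.inv_eq_self hu]
        have := hOcomm g hg
        rwa [Invol.inv_eq_self hu] at this
      · rw [smul_smul, show u * (u⁻¹ * g * u * g⁻¹ * (g * o * g⁻¹)) = g * u * o * g⁻¹ by group,
          mul_smul, inv_smul_eq_iff.2 hga.symm, mul_smul, mul_smul]
  have haB : a ∈ B := ⟨1, one_mem _, one_smul _ _⟩
  have hbB : b ∈ B' := ⟨1, one_mem _, by rw [one_smul, hua]⟩
  -- a proper overgroup in the normalizer
  obtain ⟨R, hYR, hR, hRa⟩ := exists_top hH hr hYa hYp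
  have hne : Y < R := lt_of_le_of_ne hYR fun h => by
    subst h
    exact hnf ⟨hab, Y, hR, hYa, hYb⟩
  by_cases hsingle : ∀ p ∈ B, p = a
  · obtain ⟨Z, hYZ, hZR, hZN⟩ := exists_between hne hR.1
    have hZb : Z ≤ st b := fun z hz => by
      obtain ⟨o, ho, h⟩ := ((hBinv z (hZN hz) (hRa (hZR hz)) b).2 hbB)
      rw [hsingle _ ⟨o, ho, rfl⟩, hua] at h
      exact h.symm
    exact hYZ.ne (eq_of_le_of_card_ge hYZ.le
      (hmax Z ⟨hR.1.to_le hZR, a, b, hab, hnf, hRa.trans' hZR, hZb⟩))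
  push Not at hsingle
  obtain ⟨p, hpB, hpa⟩ := hsingle
  obtain ⟨o, ho, rfl⟩ := hpB
  have hYp' : Y ≤ st (o • a) := le_st_smul_of_norm (hON ho) hYa
  have hap : Full r a (o • a) := by
    by_contra hn
    obtain ⟨v, hv, hva, hvY⟩ := swapper_norm hH hpa.symm (hS a (o • a) hpa.symm hn hYa hYp')
    have hwN : o⁻¹ * v ∈ N := mul_mem (inv_mem (hON ho)) hvY
    refine hO.even hu hwN ?_ (hOfix _ hwN a hYa (by rw [mul_smul, hva, inv_smul_smul]))
    rw [mul_assoc]
    exact mul_mem (inv_mem ho) (hOinv v hvY hv)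
  obtain ⟨-, R0, hR0, hR0a, hR0p⟩ := hap
  obtain ⟨T, hYT, hT⟩ := exists_syl (le_inf hYa hYp') hYp
  have hTY : Y < T := lt_of_le_of_ne hYT fun h => by
    subst h
    have := hR.2.2
    have h1 := hT.2.2 R0 (le_inf hR0a hR0p) hR0.1
    have h2 := hR0.2.2 R a hR.1 hRa
    exact hne.ne (eq_of_le_of_card_ge hne.le (h2.trans h1))
  obtain ⟨Z, hYZ, hZT, hZN⟩ := exists_between hTY hT.2.1
  obtain ⟨S, hZS, hS'⟩ := exists_syl (D := N ⊓ st a)
    (le_inf hZN (hZT.trans (hT.1.trans inf_le_left))) (hT.2.1.to_le hZT)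
  have hncP : NC r (o • a) Y := hncA.smul_norm (hON ho)
  have hfixZ : ∀ z, Z ≤ st z → z = a ∨ z = o • a := by
    intro z hz
    by_contra hne'
    push Not at hne'
    refine no_triple hH hr (hT.2.1.to_le hZT) (fun c d hc hd hcd => ?_) hpa.symm hne'.1.symm
      hne'.2.symm (hncA.mono hYZ.le (hZT.trans (hT.1.trans inf_le_left)) (hT.2.1.to_le hZT))
      (hncP.mono hYZ.le (hZT.trans (hT.1.trans inf_le_right)) (hT.2.1.to_le hZT)) hz
    by_contra hn
    exact hYZ.ne (eq_of_le_of_card_ge hYZ.le (hmax Z ⟨hT.2.1.to_le hZT, c, d, hcd, hn, hc, hd⟩))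
  obtain ⟨U, hSU, hU, hUa⟩ := exists_top hH hr (hS'.1.trans inf_le_right) hS'.2.1
  obtain ⟨s, hsa, hUs, -⟩ := hU.fix hH hr hUa
  have hSs : S ≤ st (o • a) := by
    have := (hfixZ s (hZS.trans (hSU.trans hUs))).resolve_left hsa
    exact this ▸ hSU.trans hUs
  -- count fixed points of `S` on the two orbits
  let actB : SubMulAction S (G ⧸ H) :=
    { carrier := B
      smul_mem' := fun s p hp => (hBinv s (hS'.1 s.2).1 (hS'.1 s.2).2 p).1 hp }
  let actB' : SubMulAction S (G ⧸ H) :=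
    { carrier := B'
      smul_mem' := fun s p hp => (hBinv s (hS'.1 s.2).1 (hS'.1 s.2).2 p).2 hp }
  have hfB : ∀ q : actB, q ∈ MulAction.fixedPoints S actB ↔ (q : G ⧸ H) = a ∨ (q : G ⧸ H) = o • a := by
    intro q
    refine ⟨fun h => hfixZ _ (hZS.trans fun s hs => congrArg Subtype.val (h ⟨s, hs⟩)), fun h s => ?_⟩
    refine Subtype.ext ?_
    show (s : G) • (q : G ⧸ H) = q
    rcases h with h | h <;> rw [h]
    · exact (hS'.1 s.2).2
    · exact hSs s.2
  have hfB' : MulAction.fixedPoints S actB' = ∅ := by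
    refine Set.eq_empty_of_forall_notMem fun q h => ?_
    rcases hfixZ (q : G ⧸ H) (hZS.trans fun s hs => congrArg Subtype.val (h ⟨s, hs⟩)) with e | e
    · exact hdisj a haB (e ▸ q.2)
    · exact hdisj _ ⟨o, ho, rfl⟩ (e ▸ q.2)
  have hcard : Nat.card actB = Nat.card actB' := by
    refine Nat.card_congr (Equiv.subtypeEquiv (MulAction.toPerm u) fun q => ?_)
    show q ∈ B ↔ u • q ∈ B'
    constructor
    · rintro ⟨o', ho', rfl⟩
      exact ⟨o', ho', rfl⟩
    · rintro ⟨o', ho', h⟩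
      exact ⟨o', ho', MulAction.injective u h⟩
  have hcard2 : Nat.card (MulAction.fixedPoints S actB) = 2 := by
    have : MulAction.fixedPoints S actB = {⟨a, haB⟩, ⟨o • a, o, ho, rfl⟩} := by
      ext q
      rw [hfB, Set.mem_insert_iff, Set.mem_singleton_iff, Subtype.ext_iff, Subtype.ext_iff]
    rw [this, Nat.card_coe_set_eq, Set.ncard_pair fun h => hpa (congrArg Subtype.val h).symm]
  have h1 := hS'.2.1.card_modEq_card_fixedPoints actB
  have h2 := hS'.2.1.card_modEq_card_fixedPoints actB'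
  rw [hcard2, hcard] at h1
  rw [hfB', Nat.card_coe_set_eq, Set.ncard_empty] at h2
  have h3 : r ∣ 2 := Nat.modEq_zero_iff_dvd.1 (h1.symm.trans h2)
  have := (Nat.prime_dvd_prime_iff_eq hr.1 Nat.prime_two).1 h3
  exact Nat.not_odd_iff_even.2 (this ▸ even_two) hr.2.1

end CfsgLib.Bender.GSide

namespace CfsgLib.Bender

open Subgroup GSide
open CfsgLib.FusionLift (cj)

variable {G : Type*} [Group G] [Finite G] {H : Subgroup G} {r : ℕ}

theorem two_transitive (hH : Cfsg.IsStronglyEmbedded H) (hr : GoodPrime r H) (_hp : PairRank G) :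
    ∀ g₁ g₂ : G, g₁ ∉ H → g₂ ∉ H → ∃ h ∈ H, g₂⁻¹ * (h * g₁) ∈ H := by
  haveI : Fact r.Prime := ⟨hr.1⟩
  intro g₁ g₂ h₁ h₂
  have hne : ∀ g : G, g ∉ H → (QuotientGroup.mk 1 : G ⧸ H) ≠ QuotientGroup.mk g := fun g hg h =>
    hg (by simpa using QuotientGroup.eq.1 h)
  obtain ⟨h, hh, he⟩ := (all_full hH hr _ _ (hne g₁ h₁)).exists_smul hH hr
    (all_full hH hr _ _ (hne g₂ h₂))
  rw [st_one] at hh
  refine ⟨h, hh, ?_⟩
  rw [MulAction.Quotient.smul_mk, smul_eq_mul] at he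
  exact QuotientGroup.eq.1 he.symm

theorem noTransOdd (hH : Cfsg.IsStronglyEmbedded H) (hr : GoodPrime r H) (_hp : PairRank G) :
    NoTransOdd G := by
  haveI : Fact r.Prime := ⟨hr.1⟩
  rintro L ⟨-, hLodd, hLtr⟩
  set e : G ⧸ H := QuotientGroup.mk 1
  obtain ⟨s, hsH, hs⟩ := StrongEmbed.exists_invol hH
  have hse : s • e = e := StrongEmbed.smul_mk_one_iff.2 hsH
  have hinvol : ∀ x : G ⧸ H, ∃ i : G, orderOf i = 2 ∧ i • x = x := fun x => by
    obtain ⟨g, rfl⟩ := GSide.exists_smul e x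
    refine ⟨g * s * g⁻¹, by rw [Invol.orderOf_conj_eq, hs], ?_⟩
    rw [smul_smul, inv_mul_cancel_right, mul_smul, hse]
  have hmove : ∀ (x y : G ⧸ H) (i j : G), orderOf i = 2 → i • x = x → orderOf j = 2 → j • y = y →
      ∀ l : G, l * i * l⁻¹ = j → l • x = y := by
    rintro x y i j hi hix hj hjy l rfl
    refine StrongEmbed.fix_unique hH hj ?_ hjy
    rw [smul_smul, inv_mul_cancel_right, mul_smul, hix]
  have htrans : IsTransOdd (st e) (L ⊓ st e) := by
    refine ⟨inf_le_right, hLodd.of_dvd_nat (card_dvd_of_le inf_le_left), fun i j hi hi2 hj hj2 => ?_⟩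
    obtain ⟨l, hl, h⟩ := hLtr i j (mem_top i) hi2 (mem_top j) hj2
    exact ⟨l, mem_inf.2 ⟨hl, hmove e e i j hi2 hi hj2 hj l h⟩, h⟩
  obtain ⟨P, -, hP⟩ := exists_syl (r := r) (bot_le : ⊥ ≤ L ⊓ st e) IsPGroup.of_bot
  have hPe : P ≤ st e := hP.1.trans inf_le_right
  have hnc : NC r e P := ⟨hPe, hP.2.1, _, P, htrans, hP.1, le_rfl, syl_not_dvd hP⟩
  obtain ⟨R, hPR, hR, hRe⟩ := exists_top hH hr hPe hP.2.1
  obtain ⟨f, hfe, hRf, -⟩ := hR.fix hH hr hRe
  set M := L ⊓ normalizer (P : Set G) with hM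
  have horb : ∀ x : G ⧸ H, P ≤ st x → ∃ m ∈ M, m • e = x := by
    intro x hx
    obtain ⟨i, hi, hix⟩ := hinvol x
    obtain ⟨l, hl, h⟩ := hLtr s i (mem_top s) hs (mem_top i) hi
    have hle : l • e = x := hmove e x s i hs hse hi hix l h
    have hle' : cj l⁻¹ P ≤ L ⊓ st e := le_inf
      (FusionLift.cj_le fun p hp => mul_mem (mul_mem (inv_mem hl) (hP.1 hp).1) (inv_mem (inv_mem hl)))
      (by have := le_st_smul (g := l⁻¹) hx; rwa [← hle, inv_smul_smul] at this)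
    obtain ⟨d, hd, hdP⟩ := syl_conj hP hle' (hP.2.1.map _)
    rw [cj_cj] at hdP
    refine ⟨(d * l⁻¹)⁻¹, inv_mem (mem_inf.2 ⟨mul_mem hd.1 (inv_mem hl),
      mem_norm_iff.2 (cj_eq_of_le hdP le_rfl)⟩), ?_⟩
    rw [mul_inv_rev, inv_inv, mul_smul, inv_smul_eq_iff.2 hd.2.symm, hle]
  -- the fixed points form an orbit of odd size
  have hodd : Odd (Nat.card {x : G ⧸ H // P ≤ st x}) := by
    have h : {x : G ⧸ H | P ≤ st x} = MulAction.orbit M e := by
      ext x
      constructor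
      · intro hx
        obtain ⟨m, hm, rfl⟩ := horb x hx
        exact ⟨⟨m, hm⟩, rfl⟩
      · rintro ⟨m, rfl⟩
        exact le_st_smul_of_norm m.2.2 hPe
    refine (hLodd.of_dvd_nat (card_dvd_of_le (inf_le_left : M ≤ L))).of_dvd_nat ?_
    show Nat.card ↥{x : G ⧸ H | P ≤ st x} ∣ _
    rw [h, Nat.card_coe_set_eq, ← MulAction.index_stabilizer]
    exact index_dvd_card _
  obtain ⟨z, hz, hze, hzf⟩ : ∃ z : G ⧸ H, P ≤ st z ∧ z ≠ e ∧ z ≠ f := by
    by_contra hno
    push Not at hno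
    have h : {x : G ⧸ H | P ≤ st x} = {e, f} := by
      ext x
      refine ⟨fun hx => or_iff_not_imp_left.2 (hno x hx), ?_⟩
      rintro (rfl | rfl)
      exacts [hPe, hPR.trans hRf]
    have h2 : Nat.card {x : G ⧸ H // P ≤ st x} = 2 := by
      show Nat.card ↥{x : G ⧸ H | P ≤ st x} = 2
      rw [h, Nat.card_coe_set_eq, Set.ncard_pair hfe.symm]
    rw [h2] at hodd
    exact absurd hodd (by decide)
  have hncf : NC r f P := by
    obtain ⟨m, hm, hme⟩ := horb f (hPR.trans hRf)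
    exact hme ▸ hnc.smul_norm hm.2
  exact no_triple hH hr hP.2.1 (fun x y _ _ hxy => all_full hH hr x y hxy) hfe.symm hze.symm
    hzf.symm hnc hncf hz

end CfsgLib.Bender
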