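import Cfsg.Agent.Bender.Consumers
import Cfsg.Agent.Bender.NC.Main
import Cfsg.Agent.Bender.Commuting.Main

/-!
Bender's structure theorem, from the shape theorem of the commuting branch.
-/

set_option autoImplicit false

namespace CfsgLib.Bender.Consumers

universe u

/-- The structure theorem for strongly embedded subgroups, given the commuting branch. -/
theorem structure_of_shapeBelow (hS : ∀ n, Commuting.ShapeBelow.{u} n) : Structure.{u} :=
  fun _ _ _ _ hse ho hp => NC.shape_of_shapeBelow hS hse ho hp

/-- Bender's structure theorem for strongly embedded subgroups. -/
theorem structure_all : Structure.{u} := structure_of_shapeBelow Commuting.shapeBelow_all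

end CfsgLib.Bender.Consumers
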