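import Cfsg.Agent.Bender.SylowL

/-!
A minimal normal subgroup of `L` inside `O_r(L)` centralizing every `O_q(L)`.
-/

set_option autoImplicit false
set_option linter.style.haveILetI false

namespace CfsgLib.Bender

open Subgroup

universe u

variable {G : Type u} [Group G] [Finite G]

theorem exists_minW {r : ℕ} [Fact r.Prime] {L : Subgroup G} (hs : Group.IsSolvable L)
    (hne : coreOf r L ≠ ⊥) : ∃ W, MinW r L W := by
  haveI := hs
  set O := Cfsg.pCore r L
  haveI hOn : O.Normal := CfsgLib.Solvable.pCore_normal r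
  have hOp : IsPGroup r O := CfsgLib.Solvable.isPGroup_pCore r
  haveI := hOp.isNilpotent
  set Z := (center O).map O.subtype with hZ
  haveI : Z.Normal := ConjAct.normal_of_characteristic_of_normal
  have hZne : Z ≠ ⊥ := by
    have hO : O ≠ ⊥ := fun h => hne (by rw [coreOf, show Cfsg.pCore r L = ⊥ from h, Subgroup.map_bot])
    haveI := (nontrivial_iff_ne_bot O).2 hO
    rw [hZ, Ne, map_eq_bot_iff_of_injective _ O.subtype_injective]
    exact Group.IsNilpotent.center_ne_bot O
  obtain ⟨M, hM, hM1, hMZ, hmin⟩ := CfsgLib.Solvable.exists_minimal_normal_le hZne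
  haveI := hM
  obtain ⟨hMc, q, hq, hexp, hMq⟩ := CfsgLib.Solvable.minimal_normal_elementary hM1 hmin inferInstance
  have hMO : M ≤ O := hMZ.trans (map_subtype_le _)
  obtain rfl : q = r := by
    by_contra hqr
    obtain ⟨x, hx, hx1⟩ := (bot_or_exists_ne_one M).resolve_left hM1
    haveI : Fact q.Prime := ⟨hq⟩
    obtain ⟨k, hk⟩ := hOp ⟨x, hMO hx⟩
    refine hx1 (orderOf_eq_one_iff.1 (Nat.eq_one_of_dvd_coprimes
      (((Nat.coprime_primes hq Fact.out).2 hqr).pow_right k)
      (orderOf_dvd_of_pow_eq_one (hexp x hx))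
      (orderOf_dvd_of_pow_eq_one (congrArg Subtype.val hk))))
  refine ⟨M.map L.subtype,
    { le_core := map_mono hMO
      ne_bot := fun h => hM1 ((map_eq_bot_iff_of_injective _ L.subtype_injective).1 h)
      normal := ?_
      minimal := ?_
      comm := ?_
      exp := ?_
      central := ?_ }⟩
  · intro x hx
    rw [Functor.mem_normalizer_iff_cj]
    refine Functor.eq_of_le_of_card_le' ?_ (Functor.card_cj x _).ge
    rintro _ ⟨_, ⟨y, hy, rfl⟩, rfl⟩
    exact ⟨_, hM.conj_mem y hy ⟨x, hx⟩, rfl⟩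
  · intro V hVM hV1 hVn
    have hVL : V ≤ L := hVM.trans (map_subtype_le _)
    haveI : (V.subgroupOf L).Normal := by
      refine ⟨fun v hv x => ?_⟩
      exact (mem_normalizer_iff.1 (hVn x.2) v).1 hv
    rcases hmin (V.subgroupOf L) inferInstance
      (fun v hv => (mem_map_iff_mem L.subtype_injective).1 (hVM hv)) with h | h
    · refine absurd ?_ hV1
      rw [← map_subgroupOf_eq_of_le hVL, h, Subgroup.map_bot]
    · rw [← map_subgroupOf_eq_of_le hVL, h]
  · rintro _ ⟨v, hv, rfl⟩ _ ⟨w, hw, rfl⟩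
    exact congrArg (fun z : M => ((z : L) : G)) (hMc.is_comm.comm ⟨v, hv⟩ ⟨w, hw⟩)
  · rintro _ ⟨w, hw, rfl⟩
    rw [← map_pow, hexp w hw, map_one]
  · intro p hp
    rintro _ ⟨y, hy, rfl⟩
    rw [mem_centralizer_iff]
    rintro _ ⟨w, hw, rfl⟩
    rw [← map_mul, ← map_mul]
    congr 1
    by_cases hpq : p = q
    · subst hpq
      obtain ⟨z, hz, rfl⟩ := hMZ hw
      exact congrArg Subtype.val (mem_center_iff.1 hz ⟨y, hy⟩).symm
    · haveI : Fact p.Prime := ⟨hp⟩
      haveI := CfsgLib.Solvable.pCore_normal (G := L) p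
      have hd : Disjoint O (Cfsg.pCore p L) := by
        obtain ⟨i, hi⟩ := IsPGroup.iff_card.1 hOp
        obtain ⟨j, hj⟩ := IsPGroup.iff_card.1 (CfsgLib.Solvable.isPGroup_pCore (G := L) p)
        rw [disjoint_iff]
        exact inf_eq_bot_of_coprime (by
          rw [hi, hj]; exact ((Nat.coprime_primes Fact.out hp).2 (Ne.symm hpq)).pow i j)
      exact commute_of_normal_of_disjoint _ _ hOn inferInstance hd w y (hMO hw) hy

end CfsgLib.Bender
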