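import Cfsg.Agent.Bender.Defs
import Cfsg.Agent.OddLocal.OddStability
import Cfsg.Agent.OddEnd.FourteenFinal
import Cfsg.Agent.Functor.Sylow
import Cfsg.Agent.Solvable.Basics
import Cfsg.Agent.Turull.TowerExist

/-!
A Sylow subgroup of the transitive subgroup `L` is a Sylow subgroup of the group.
-/

set_option autoImplicit false
set_option linter.style.haveILetI false

namespace CfsgLib.Bender

open Subgroup CfsgLib.Functor
open scoped CfsgLib.Functor

universe u

theorem coreOf_le {G : Type*} [Group G] (r : ℕ) (L : Subgroup G) : coreOf r L ≤ L := map_subtype_le _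

theorem isPGroup_coreOf {G : Type*} [Group G] [Finite G] {r : ℕ} [Fact r.Prime] (L : Subgroup G) :
    IsPGroup r (coreOf r L) := (CfsgLib.Solvable.isPGroup_pCore r).map _

theorem le_normalizer_coreOf {G : Type*} [Group G] [Finite G] (r : ℕ) (L : Subgroup G) :
    L ≤ normalizer (coreOf r L : Set G) := by
  haveI := CfsgLib.Solvable.pCore_normal (G := L) r
  intro x hx
  rw [mem_normalizer_iff_cj]
  refine eq_of_le_of_card_le' ?_ (card_cj x _).ge
  rintro _ ⟨_, ⟨y, hy, rfl⟩, rfl⟩
  exact ⟨_, (inferInstance : (Cfsg.pCore r L).Normal).conj_mem y hy ⟨x, hx⟩, rfl⟩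

variable {G : Type u} [Group G] [Finite G] {r : ℕ} [Fact r.Prime] {L R : Subgroup G}

theorem le_sylow_of_normalized {U : Subgroup G} (hR : IsSylowIn r R L) (hU : IsPGroup r U)
    (hUL : U ≤ L) (hn : L ≤ normalizer (U : Set G)) : U ≤ R := by
  have h := hR.2.1.to_sup_of_normal_right' hU (hR.1.trans hn)
  rw [hR.eq_of_le h (sup_le hR.1 hUL) le_sup_left]
  exact le_sup_right

/-- With a transfer subgroup the normalizer of a Sylow subgroup of `L` lies in `L`. -/
theorem norm_le_of_transfer {W : Subgroup G} (hW : MinW r L W)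
    (htr : ∀ g : G, (∀ w ∈ W, g * w * g⁻¹ ∈ L) → (∀ w ∈ W, g⁻¹ * w * g ∈ L) → g ∈ L)
    (hR : IsSylowIn r R L) : normalizer (R : Set G) ≤ L := by
  have hWR : W ≤ R := le_sylow_of_normalized hR ((isPGroup_coreOf L).to_le hW.le_core)
    (hW.le_core.trans (coreOf_le r L)) hW.normal
  intro g hg
  exact htr g (fun w hw => hR.1 ((mem_normalizer_iff.1 hg w).1 (hWR hw)))
    (fun w hw => hR.1 ((mem_normalizer_iff''.1 hg w).1 (hWR hw)))

/-- With a single prime the normalizer of a Sylow subgroup of `L` lies in `L`. -/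
theorem norm_le_of_single (hr : r ≠ 2) (hc : Ctx L)
    (honly : ∀ q, q.Prime → q ≠ r → coreOf q L = ⊥) (hne : coreOf r L ≠ ⊥)
    (hR : IsSylowIn r R L) : normalizer (R : Set G) ≤ L := by
  haveI := CfsgLib.OddEnd.odd_solvable L hc.odd
  obtain ⟨S, rfl⟩ := hR.exists_sylow
  have hN : Cfsg.pPrimeCore r L = ⊥ := by
    by_contra hN
    haveI := CfsgLib.Solvable.pPrimeCore_normal (G := L) r
    obtain ⟨M, hM, hM1, hMN, hmin⟩ := CfsgLib.Solvable.exists_minimal_normal_le hN
    haveI := hM
    obtain ⟨-, q, hq, -, hMq⟩ := CfsgLib.Solvable.minimal_normal_elementary hM1 hmin inferInstance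
    have hqr : q ≠ r := by
      rintro rfl
      obtain ⟨k, hk⟩ := IsPGroup.iff_card.1 hMq
      refine hM1 (eq_bot_of_card_eq _ (Nat.eq_one_of_dvd_coprimes
        ((CfsgLib.Solvable.coprime_card_pPrimeCore (p := q)).pow_right k)
        (card_dvd_of_le hMN) (hk ▸ dvd_rfl)))
    refine hM1 (map_injective L.subtype_injective ?_)
    rw [Subgroup.map_bot, eq_bot_iff, ← honly q hq hqr]
    exact map_mono (CfsgLib.Solvable.le_pCore q hM hMq)
  have hZn : (Cfsg.centerThompsonOf r (S : Subgroup L)).Normal := by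
    have h := CfsgLib.OddLocal.Stability.centerThompsonOf_sup_normal hc.odd S
    rwa [hN, sup_bot_eq] at h
  set Z := Cfsg.centerThompsonOf r ((S : Subgroup L).map L.subtype) with hZdef
  have hZ : Z = (Cfsg.centerThompsonOf r (S : Subgroup L)).map L.subtype :=
    CfsgLib.ZJ.centerThompsonOf_map _ L.subtype_injective _
  have hRne : (S : Subgroup L).map L.subtype ≠ ⊥ := by
    intro h
    refine hne (le_bot_iff.1 (h ▸ map_mono ?_))
    exact CfsgLib.CharP.le_sylow_of_le_normalizer S (CfsgLib.Solvable.isPGroup_pCore r)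
      (by haveI := CfsgLib.Solvable.pCore_normal (G := L) r; exact le_normalizer_of_normal)
  have hZne : Z ≠ ⊥ := fun h => CfsgLib.ZJ.omega_centerThompsonOf_ne_bot (S.2.map _) hRne <| by
    rw [← hZdef, h]
    exact le_bot_iff.1 (CfsgLib.Thompson.omegaOne_le _)
  have hLZ : L ≤ normalizer (Z : Set G) := by
    intro x hx
    rw [mem_normalizer_iff_cj]
    refine eq_of_le_of_card_le' ?_ (card_cj x _).ge
    rw [hZ]
    rintro _ ⟨_, ⟨y, hy, rfl⟩, rfl⟩
    exact ⟨_, hZn.conj_mem y hy ⟨x, hx⟩, rfl⟩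
  exact (CfsgLib.ZJ.normalizer_le_centerThompsonOf _).trans
    (hc.norm Z ((CfsgLib.ZJ.centerThompsonOf_le _).trans (map_subtype_le _)) hZne hLZ).le

/-- It is then a Sylow subgroup of the group. -/
theorem sylow_of_norm_le (hR : IsSylowIn r R L) (hN : normalizer (R : Set G) ≤ L) :
    IsSylowIn r R (⊤ : Subgroup G) := by
  obtain ⟨T, hT, hRT⟩ := exists_sylowIn_ge hR.2.1 (le_top : R ≤ (⊤ : Subgroup G))
  rcases eq_or_lt_of_le hRT with rfl | hlt
  · exact hT
  · exfalso
    have h := lt_inf_normalizer hT.2.1 hlt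
    exact h.ne (hR.eq_of_le (hT.2.1.to_le inf_le_left) (inf_le_right.trans hN) h.le)

theorem sylowInside_of_norm_le (hR : IsSylowIn r R L) (hN : normalizer (R : Set G) ≤ L) :
    SylowInside r L := by
  intro Y hY
  obtain ⟨g, -, hg⟩ := (sylow_of_norm_le hR hN).exists_cj_le hY le_top
  exact ⟨g, fun y hy => hR.1 (hg (conj_mem_cj hy))⟩

/-- The prime divides the number of involutions. -/
theorem dvd_card_invol (hc : Ctx L) (hR : IsSylowIn r R L) (hN : normalizer (R : Set G) ≤ L) :
    r ∣ Nat.card {t : G // orderOf t = 2} := by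
  classical
  obtain ⟨t, ht⟩ := hc.invol
  let C := L ⊓ centralizer ({t} : Set G)
  let f : L ⧸ C.subgroupOf L → {s : G // orderOf s = 2} :=
    Quotient.lift (fun l : L => ⟨(l : G) * t * (l : G)⁻¹, by
      rw [show (l : G) * t * (l : G)⁻¹ = MulAut.conj (l : G) t from rfl, MulEquiv.orderOf_eq, ht]⟩)
      fun a b hab => by
        have h : (a⁻¹ * b : L) ∈ C.subgroupOf L := QuotientGroup.leftRel_apply.1 hab
        have h' := mem_centralizer_singleton_iff.1 (mem_subgroupOf.1 h).2
        apply Subtype.ext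
        show (a : G) * t * (a : G)⁻¹ = (b : G) * t * (b : G)⁻¹
        calc (a : G) * t * (a : G)⁻¹
            = a * (t * ((a : G)⁻¹ * b)) * (b : G)⁻¹ := by group
          _ = a * (((a : G)⁻¹ * b) * t) * (b : G)⁻¹ := by
            rw [show t * ((a : G)⁻¹ * b) = ((a : G)⁻¹ * b) * t from h'.symm]
          _ = _ := by group
  have hbij : Function.Bijective f := by
    refine ⟨?_, fun s => ?_⟩
    · intro x y
      induction x using QuotientGroup.induction_on with
      | H a =>
        induction y using QuotientGroup.induction_on with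
        | H b =>
          intro hab
          have h : (a : G) * t * (a : G)⁻¹ = (b : G) * t * (b : G)⁻¹ := congrArg Subtype.val hab
          refine (QuotientGroup.eq).2 (mem_subgroupOf.2 ⟨(a⁻¹ * b).2, ?_⟩)
          refine mem_centralizer_singleton_iff.2 ?_
          show (a : G)⁻¹ * b * t = t * ((a : G)⁻¹ * b)
          calc (a : G)⁻¹ * b * t = (a : G)⁻¹ * ((b : G) * t * (b : G)⁻¹) * b := by group
            _ = _ := by rw [← h]; group
    · obtain ⟨l, hl, e⟩ := hc.trans t s ht s.2
      exact ⟨QuotientGroup.mk (⟨l, hl⟩ : L), Subtype.ext e⟩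
  rw [← Nat.card_congr (Equiv.ofBijective f hbij), ← index_eq_card]
  by_contra hnd
  obtain ⟨T, hT⟩ := exists_sylowIn (p := r) C
  have hTL : IsSylowIn r T L := ⟨hT.1.trans inf_le_left, hT.2.1, fun hd => by
    rw [← relIndex_mul_relIndex T C L hT.1 inf_le_left] at hd
    exact ((Fact.out : r.Prime).dvd_mul.1 hd).elim hT.2.2 hnd⟩
  obtain ⟨n, hn, hnT⟩ := hR.exists_cj_eq hTL
  have hmem : n * t * n⁻¹ ∈ normalizer (R : Set G) := by
    refine centralizer_le_normalizer _ (mem_centralizer_iff.2 fun y hy => ?_)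
    rw [SetLike.mem_coe, ← hnT, mem_cj] at hy
    have h := mem_centralizer_singleton_iff.1 (hT.1 hy).2
    calc y * (n * t * n⁻¹) = n * (n⁻¹ * y * n * t) * n⁻¹ := by group
      _ = n * (t * (n⁻¹ * y * n)) * n⁻¹ := by rw [h]
      _ = n * t * n⁻¹ * y := by group
  have htL : t ∈ L := by
    have h := mul_mem (mul_mem (inv_mem hn) (hN hmem)) hn
    simpa [mul_assoc] using h
  have h2 : (2 : ℕ) ∣ Nat.card L := ht ▸ L.orderOf_dvd_natCard htL
  exact (Nat.not_even_iff_odd.2 hc.odd) (even_iff_two_dvd.2 h2)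

end CfsgLib.Bender
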