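import Cfsg.Agent.Bender.Climb
import Cfsg.Agent.Bender.SylowL
import Cfsg.Agent.Bender.MinW
import Cfsg.Prelude.Def_CaseTheorems
import Cfsg.Agent.LocalB.OddSignalizer
import Cfsg.Agent.Invol.Dihedral

/-!
The quotient `X = H/O(H)`: the structure `Ctx` of a largest transitive subgroup of odd order, and
`RealFree` once no moved `r`-subgroup exists.
-/

set_option autoImplicit false
set_option linter.style.haveILetI false

namespace CfsgLib.Bender

open Subgroup CfsgLib.Functor
open scoped CfsgLib.Functor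

universe u

variable {X : Type u} [Group X] [Finite X]

theorem invol_ne_one {u : X} (hu : orderOf u = 2) : u ≠ 1 := fun h => by
  rw [h, orderOf_one] at hu; omega

theorem PairRank.exists_ne (hp : PairRank X) : ∃ u v : X, orderOf u = 2 ∧ orderOf v = 2 ∧ u ≠ v :=
  let ⟨u, v, hu, hv, huv, _⟩ := hp; ⟨u, v, hu, hv, huv⟩

/-- A largest transitive subgroup of odd order is a context, unless all involutions commute. -/
theorem exists_ctx (hO : Cfsg.oddCore X = ⊥) (hp : PairRank X)
    (hnc : ∃ u v : X, orderOf u = 2 ∧ orderOf v = 2 ∧ u * v ≠ v * u)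
    (hD : ∃ D : Subgroup X, IsTransOdd (⊤ : Subgroup X) D) :
    ∃ L : Subgroup X, Ctx L ∧ L ≠ ⊥ := by
  obtain ⟨L, hL, hmax⟩ := Set.exists_max_image {D : Subgroup X | IsTransOdd (⊤ : Subgroup X) D}
    (fun D => Nat.card D) (Set.toFinite _) hD
  obtain ⟨-, hLo, hLt⟩ := hL
  have htr : ∀ s t : X, orderOf s = 2 → orderOf t = 2 → ∃ l ∈ L, l * s * l⁻¹ = t :=
    fun s t hs ht => hLt s t (mem_top _) hs (mem_top _) ht
  obtain ⟨t₀, t₁, ht₀, ht₁, hne⟩ := hp.exists_ne
  refine ⟨L, ⟨hLo, htr, fun U hUL hU hLN => ?_, ⟨t₀, ht₀⟩⟩, fun h => hne ?_⟩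
  · by_cases hodd : Odd (Nat.card ↥(normalizer (U : Set X)))
    · exact (eq_of_le_of_card_le' hLN (hmax _ ⟨le_top, hodd, fun s t _ hs _ ht => by
        obtain ⟨l, hl, e⟩ := htr s t hs ht
        exact ⟨l, hLN hl, e⟩⟩)).symm
    exfalso
    haveI : Fact (Nat.Prime 2) := ⟨Nat.prime_two⟩
    obtain ⟨t, ht⟩ := exists_prime_orderOf_dvd_card' 2
      (even_iff_two_dvd.1 (Nat.not_odd_iff_even.1 hodd) : 2 ∣ Nat.card ↥(normalizer (U : Set X)))
    have hIN : ∀ s : X, orderOf s = 2 → s ∈ normalizer (U : Set X) := by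
      intro s hs
      obtain ⟨l, hl, e⟩ := htr (t : X) s (by rwa [orderOf_coe]) hs
      rw [← e]
      exact mul_mem (mul_mem (hLN hl) t.2) (inv_mem (hLN hl))
    set M : Subgroup X := closure {s : X | orderOf s = 2}
    haveI hMn : M.Normal := by
      refine ⟨fun x hx g => ?_⟩
      have h : M.map (MulAut.conj g).toMonoidHom ≤ M := by
        rw [MonoidHom.map_closure, closure_le]
        rintro _ ⟨s, hs, rfl⟩
        exact subset_closure (show orderOf ((MulAut.conj g) s) = 2 by rw [MulEquiv.orderOf_eq]; exact hs)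
      exact h ⟨x, hx, rfl⟩
    have hMN : M ≤ normalizer (U : Set X) := (closure_le _).2 hIN
    set C := centralizer (M : Set X)
    haveI : C.Normal := Subgroup.normal_centralizer
    have hUM : U ⊓ M = ⊥ := by
      have hn : ((U ⊓ M).subgroupOf M).Normal := ⟨fun x hx m => by
        refine mem_subgroupOf.2 ⟨?_, (m * x * m⁻¹).2⟩
        exact (mem_normalizer_iff.1 (hMN m.2) x).1 (mem_subgroupOf.1 hx).1⟩
      have hc : (Nat.card ↥((U ⊓ M).subgroupOf M)).Coprime 2 := by
        rw [Nat.card_congr (subgroupOfEquivOfLe inf_le_right).toEquiv]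
        exact Nat.coprime_two_right.2 ((hLo.of_dvd_nat (card_dvd_of_le (inf_le_left.trans hUL))))
      have h1 : (U ⊓ M).subgroupOf M ≤ Cfsg.pPrimeCore 2 M := CfsgLib.Solvable.le_pPrimeCore 2 hn hc
      have h2 : (Cfsg.pPrimeCore 2 M).map M.subtype ≤ ⊥ := by
        rw [← hO]
        haveI : (Cfsg.pPrimeCore 2 M).Characteristic := characteristic_iff_map_le.2 fun φ =>
          CfsgLib.Solvable.le_pPrimeCore 2 ((CfsgLib.Solvable.pPrimeCore_normal 2).map _ φ.surjective)
            ((CfsgLib.Solvable.coprime_card_pPrimeCore 2).coprime_dvd_left (card_map_dvd _ _))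
        refine CfsgLib.Solvable.le_pPrimeCore 2 ConjAct.normal_of_characteristic_of_normal ?_
        rw [card_map_of_injective M.subtype_injective]
        exact CfsgLib.Solvable.coprime_card_pPrimeCore 2
      rw [eq_bot_iff, ← map_subgroupOf_eq_of_le (inf_le_right : U ⊓ M ≤ M)]
      exact (map_mono h1).trans h2
    have hUC : U ≤ C := by
      intro u hu
      refine mem_centralizer_iff.2 fun m hm => ?_
      have h : u * m * u⁻¹ * m⁻¹ ∈ U ⊓ M := by
        refine mem_inf.2 ⟨?_, mul_mem (hMn.conj_mem m hm u) (inv_mem (hm : m ∈ M))⟩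
        rw [show u * m * u⁻¹ * m⁻¹ = u * (m * u⁻¹ * m⁻¹) by group]
        exact mul_mem hu ((mem_normalizer_iff.1 (hMN (hm : m ∈ M)) _).1 (inv_mem hu))
      rw [hUM, mem_bot, mul_inv_eq_one, mul_inv_eq_iff_eq_mul] at h
      exact h.symm
    have hCodd : Odd (Nat.card C) := by
      by_contra hCe
      obtain ⟨c, hc⟩ := exists_prime_orderOf_dvd_card' 2
        (even_iff_two_dvd.1 (Nat.not_odd_iff_even.1 hCe) : 2 ∣ Nat.card C)
      obtain ⟨u, v, hu, hv, huv⟩ := hnc
      obtain ⟨l, hl, e⟩ := htr (c : X) u (by rwa [orderOf_coe]) hu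
      have huC : u ∈ C := e ▸ (inferInstance : C.Normal).conj_mem _ c.2 l
      exact huv (mem_centralizer_iff.1 huC v (subset_closure hv)).symm
    refine hU (le_bot_iff.1 (hUC.trans ?_))
    rw [← hO]
    exact CfsgLib.Solvable.le_pPrimeCore 2 inferInstance (Nat.coprime_two_right.2 hCodd)
  · obtain ⟨l, hl, e⟩ := htr t₀ t₁ ht₀ ht₁
    rw [h, mem_bot] at hl
    simpa [hl] using e

/-- If all involutions commute, any prime dividing their number works. -/
theorem exists_realFree_commuting (hp : PairRank X)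
    (hc : ∀ u v : X, orderOf u = 2 → orderOf v = 2 → u * v = v * u) :
    ∃ r : ℕ, r.Prime ∧ Odd r ∧ r ∣ Nat.card {t : X // orderOf t = 2} ∧ RealFree r X := by
  classical
  let E : Subgroup X :=
    { carrier := {x | x * x = 1 ∧ ∀ v : X, orderOf v = 2 → x * v = v * x}
      one_mem' := ⟨one_mul 1, fun v _ => by simp⟩
      mul_mem' := fun {a b} ha hb => by
        refine ⟨?_, fun v hv => ?_⟩
        · by_cases hb1 : b = 1
          · simpa [hb1] using ha.1
          · have hab : a * b = b * a := ha.2 b (orderOf_eq_prime (by rw [pow_two, hb.1]) hb1)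
            calc a * b * (a * b) = a * b * (b * a) := by rw [← hab]
              _ = a * (b * b) * a := by group
              _ = 1 := by rw [hb.1, mul_one, ha.1]
        · rw [mul_assoc, hb.2 v hv, ← mul_assoc, ha.2 v hv, mul_assoc]
      inv_mem' := fun {a} ha => by
        rwa [show a⁻¹ = a from inv_eq_of_mul_eq_one_right ha.1] }
  have hmem : ∀ u : X, orderOf u = 2 → u ∈ E := fun u hu =>
    ⟨CfsgLib.Invol.mul_self_eq_one hu, fun v hv => hc u v hu hv⟩
  have hE : IsPGroup 2 E := fun x => ⟨1, Subtype.ext (by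
    show (x : X) ^ 2 ^ 1 = 1
    rw [pow_one, pow_two]; exact x.2.1)⟩
  haveI : Fact (Nat.Prime 2) := ⟨Nat.prime_two⟩
  obtain ⟨k, hk⟩ := IsPGroup.iff_card.1 hE
  let f : {x : E // x ≠ 1} ≃ {t : X // orderOf t = 2} :=
    { toFun := fun x => ⟨(x.1 : X), orderOf_eq_prime (by rw [pow_two]; exact x.1.2.1)
        (fun h => x.2 (Subtype.ext h))⟩
      invFun := fun t => ⟨⟨t.1, hmem _ t.2⟩, fun h => invol_ne_one t.2 (congrArg Subtype.val h)⟩
      left_inv := fun x => rfl
      right_inv := fun x => rfl }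
  have hcard : Nat.card {t : X // orderOf t = 2} = 2 ^ k - 1 := by
    rw [← Nat.card_congr f, ← hk]
    haveI := Fintype.ofFinite E
    rw [Nat.card_eq_fintype_card, Nat.card_eq_fintype_card,
      Fintype.card_subtype_compl, Fintype.card_subtype_eq]
  obtain ⟨u, v, hu, hv, huv⟩ := hp.exists_ne
  have h2 : Nat.card {t : X // orderOf t = 2} ≠ 1 := fun h1 => by
    haveI := (Nat.card_eq_one_iff_unique.1 h1).1
    exact huv (congrArg Subtype.val (Subsingleton.elim
      (⟨u, hu⟩ : {t : X // orderOf t = 2}) ⟨v, hv⟩))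
  obtain ⟨r, hr, hrd⟩ := Nat.exists_prime_and_dvd h2
  have hodd : Odd r := by
    refine hr.odd_of_ne_two ?_
    rintro rfl
    rw [hcard] at hrd h2
    rcases k with _ | k
    · haveI : Nonempty {t : X // orderOf t = 2} := ⟨⟨u, hu⟩⟩
      have := Nat.card_pos (α := {t : X // orderOf t = 2})
      rw [hcard] at this
      simp at this
    · rw [pow_succ] at hrd
      have : 1 ≤ 2 ^ k := Nat.one_le_two_pow
      omega
  refine ⟨r, hr, hodd, hrd, fun w y hw ⟨j, hj⟩ hwy => ?_⟩
  have hyw : orderOf (y * w * y⁻¹) = 2 := by rw [CfsgLib.Invol.orderOf_conj_eq, hw]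
  have hyy : y * y ∈ E := by
    have h := mul_mem (hmem _ hyw) (hmem w hw)
    have e : y * w * y⁻¹ * w = y * y := by
      calc y * w * y⁻¹ * w = y * (w * y⁻¹ * w⁻¹) * (w * w) := by group
        _ = y * (w * y * w⁻¹)⁻¹ * (w * w) := by group
        _ = y * y := by rw [hwy, inv_inv, CfsgLib.Invol.mul_self_eq_one hw, mul_one]
    rwa [e] at h
  have h4 : y ^ 4 = 1 := by
    rw [show y ^ 4 = (y * y) * (y * y) by rw [pow_succ, pow_succ, pow_succ, pow_one]; group]
    exact hyy.1
  exact orderOf_eq_one_iff.1 (Nat.eq_one_of_dvd_coprimes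
    (((Nat.coprime_primes Nat.prime_two hr).2 (fun h => by rw [← h] at hodd; exact absurd hodd (by decide))).pow 2 j)
    (orderOf_dvd_of_pow_eq_one (n := 2 ^ 2) h4) (orderOf_dvd_of_pow_eq_one hj))

/-- Without moved `r`-subgroups no `r`-element is inverted. -/
theorem realFree_of_no_max {r : ℕ} (hr2 : Odd r)
    (h : ∀ Y : Subgroup X, ¬ MaxReal r Y) : RealFree r X := by
  intro v y hv ⟨j, hj⟩ hvy
  by_contra hy
  have hreal : RealSub r (zpowers y) := by
    refine ⟨?_, v, ?_, ⟨1, by rw [pow_one, ← hv]; exact pow_orderOf_eq_one v⟩, y, mem_zpowers y, ?_⟩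
    · rintro ⟨_, i, rfl⟩
      refine ⟨j, Subtype.ext ?_⟩
      show (y ^ i) ^ r ^ j = 1
      rw [← zpow_natCast (y ^ i), ← zpow_mul, mul_comm i, zpow_mul, zpow_natCast, hj, one_zpow]
    · rw [mem_normalizer_iff_cj]
      refine eq_of_le_of_card_le' ?_ (card_cj _ _).ge
      rw [MonoidHom.map_zpowers, zpowers_le]
      show v * y * v⁻¹ ∈ zpowers y
      rw [hvy]
      exact inv_mem (mem_zpowers y)
    · intro e
      rw [hvy] at e
      have h2 : y ^ 2 = 1 := by
        rw [pow_two]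
        calc y * y = y⁻¹ * y := by rw [e]
          _ = 1 := inv_mul_cancel y
      have hcop : Nat.Coprime 2 (r ^ j) := (Nat.coprime_two_left.2 hr2).pow_right j
      exact hy (orderOf_eq_one_iff.1 (Nat.eq_one_of_dvd_coprimes hcop
        (orderOf_dvd_of_pow_eq_one h2) (orderOf_dvd_of_pow_eq_one hj)))
  obtain ⟨Y, hY, hmax⟩ := Set.exists_max_image {Y : Subgroup X | RealSub r Y}
    (fun Y => Nat.card Y) (Set.toFinite _) ⟨_, hreal⟩
  exact h Y ⟨hY, hmax⟩

/-- With a transfer subgroup there is no moved `r`-subgroup. -/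
theorem no_maxReal_of_transfer {r : ℕ} [Fact r.Prime] (hr : r ≠ 2) {L W : Subgroup X} (hc : Ctx L)
    (hS : SylowInside r L) (hW : MinW r L W)
    (htr : ∀ g : X, (∀ w ∈ W, g * w * g⁻¹ ∈ L) → (∀ w ∈ W, g⁻¹ * w * g ∈ L) → g ∈ L) :
    ∀ Y : Subgroup X, ¬ MaxReal r Y := by
  intro Y hY
  obtain ⟨g, hg⟩ := hS Y hY.1.1
  obtain ⟨z, hzN, hz⟩ := hY.exists_invol
  have hzi : z⁻¹ = z := CfsgLib.Invol.inv_eq_self hz
  have hWY := hY.minW_le hr hW g hg
  have key : ∀ w ∈ W, g * z * g⁻¹ * w * (g * z * g⁻¹)⁻¹ ∈ L := by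
    intro w hw
    have h := hg _ ((mem_normalizer_iff.1 hzN _).1 (hWY w hw))
    have e : g * z * g⁻¹ * w * (g * z * g⁻¹)⁻¹ = g * (z * (g⁻¹ * w * g) * z⁻¹) * g⁻¹ := by group
    rwa [e]
  have hgz : orderOf (g * z * g⁻¹) = 2 := by rw [CfsgLib.Invol.orderOf_conj_eq, hz]
  have hmem := htr (g * z * g⁻¹) key (fun w hw => by
    have h := key w hw
    rw [CfsgLib.Invol.inv_eq_self hgz] at h ⊢
    exact h)
  have h2 : 2 ∣ Nat.card L := hgz ▸ L.orderOf_dvd_natCard hmem
  exact (Nat.not_even_iff_odd.2 hc.odd) (even_iff_two_dvd.2 h2)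

end CfsgLib.Bender
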