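import Cfsg.Agent.Bender.MinW
import Cfsg.Agent.OddLocal.Bender
import Cfsg.Agent.OddEnd.FourteenFinal
import Cfsg.Agent.LocalB.CharP
import Cfsg.Agent.ZJ.PStable
import Cfsg.Agent.KGroup.Invariant
import Cfsg.Agent.Coprime.Sylow
import Cfsg.Agent.Signalizer.Basic
import Cfsg.Agent.Invol.Dihedral

/-!
The part of Bender's theorem on strongly embedded subgroups in which the transitive subgroup of
odd order has two primes in its Fitting subgroup.
-/

set_option autoImplicit false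
set_option linter.unusedSectionVars false
set_option linter.style.haveILetI false

namespace CfsgLib.Bender.Multi

open Subgroup
open scoped commutatorElement

universe u

variable {G : Type u} [Group G] [Finite G]

/-- The conjugate subgroup `g H g⁻¹`. -/
abbrev cj (g : G) (H : Subgroup G) : Subgroup G := H.map (MulAut.conj g).toMonoidHom

theorem mem_cj {g y : G} {H : Subgroup G} : y ∈ cj g H ↔ g⁻¹ * y * g ∈ H := by
  constructor
  · rintro ⟨x, hx, rfl⟩
    simpa [mul_assoc] using hx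
  · intro h
    exact ⟨_, h, by simp [mul_assoc]⟩

theorem conj_mem_cj {g x : G} {H : Subgroup G} (hx : x ∈ H) : g * x * g⁻¹ ∈ cj g H :=
  ⟨x, hx, rfl⟩

theorem centralizer_cj_le {g : G} {P H : Subgroup G} (h : centralizer (P : Set G) ≤ H) :
    centralizer (cj g P : Set G) ≤ cj g H := by
  intro y hy
  refine mem_cj.2 (h (mem_centralizer_iff.2 fun p hp => ?_))
  have h1 := mem_centralizer_iff.1 hy _ (conj_mem_cj (g := g) hp)
  calc p * (g⁻¹ * y * g) = g⁻¹ * (g * p * g⁻¹ * y) * g := by group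
    _ = g⁻¹ * (y * (g * p * g⁻¹)) * g := by rw [h1]
    _ = g⁻¹ * y * g * p := by group

theorem cj_le_normalizer {g : G} {P H : Subgroup G} (h : P ≤ normalizer (H : Set G)) :
    cj g P ≤ normalizer (cj g H : Set G) :=
  (map_mono h).trans (le_normalizer_map _)

theorem cj_le_centralizer {g : G} {P H : Subgroup G} (h : P ≤ centralizer (H : Set G)) :
    cj g P ≤ centralizer (cj g H : Set G) := by
  rintro _ ⟨p, hp, rfl⟩
  refine mem_centralizer_iff.2 ?_
  rintro _ ⟨x, hx, rfl⟩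
  rw [← map_mul, ← map_mul, mem_centralizer_iff.1 (h hp) x hx]

theorem cj_cj (g h : G) (H : Subgroup G) : cj g (cj h H) = cj (g * h) H := by
  rw [cj, cj, cj, Subgroup.map_map]
  congr 1
  ext x
  simp [mul_assoc]

theorem cj_one (H : Subgroup G) : cj 1 H = H := by
  ext x
  simp

theorem card_cj (g : G) (H : Subgroup G) : Nat.card (cj g H) = Nat.card H :=
  card_map_of_injective (MulAut.conj g).injective

theorem isPGroup_cj {p : ℕ} {H : Subgroup G} (h : IsPGroup p H) (g : G) : IsPGroup p (cj g H) :=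
  h.map _

theorem coprime_card_of_pgroups {p q : ℕ} (hp : p.Prime) (hq : q.Prime) (hpq : p ≠ q)
    {A B : Subgroup G} (hA : IsPGroup p A) (hB : IsPGroup q B) :
    (Nat.card A).Coprime (Nat.card B) := by
  haveI := Fact.mk hp
  haveI := Fact.mk hq
  exact IsPGroup.coprime_card_of_ne p q hpq A B hA hB

theorem coprime_card_prime {p q : ℕ} (hp : p.Prime) (hq : q.Prime) (hpq : p ≠ q)
    {A : Subgroup G} (hA : IsPGroup p A) : (Nat.card A).Coprime q := by
  haveI := Fact.mk hp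
  obtain ⟨k, hk⟩ := IsPGroup.iff_card.1 hA
  exact hk ▸ ((Nat.coprime_primes hp hq).2 hpq).pow_left k

/-- An element acting coprimely on a solvable group and fixing its Fitting subgroup acts trivially. -/
theorem commute_of_fixes_fitting {K : Subgroup G} (hK : Group.IsSolvable K) {a : G}
    (haK : a ∈ normalizer (K : Set G)) (hco : (orderOf a).Coprime (Nat.card K))
    (hF : ∀ f ∈ Cfsg.fittingOf K, Commute a f) : ∀ k ∈ K, Commute a k := by
  intro k hk
  set c := a * k * a⁻¹ * k⁻¹ with hc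
  have hcK : c ∈ K := mul_mem ((mem_normalizer_iff.1 haK k).1 hk) (inv_mem hk)
  have hcF : c ∈ Cfsg.fittingOf K := by
    refine OddLocal.Bender.centralizer_fitting_le hK
      (mem_inf.2 ⟨hcK, mem_centralizer_iff.2 fun f hf => ?_⟩)
    have hf' : k⁻¹ * f * k ∈ Cfsg.fittingOf K :=
      (mem_normalizer_iff''.1 (OddLocal.Bender.le_normalizer_fitting K hk) f).1 hf
    have h1 : a * f * a⁻¹ = f := by rw [(hF f hf).eq, mul_inv_cancel_right]
    have h2 : a⁻¹ * (k⁻¹ * f * k) = (k⁻¹ * f * k) * a⁻¹ := (hF _ hf').inv_left.eq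
    calc f * c = a * f * a⁻¹ * c := by rw [h1]
      _ = a * k * ((k⁻¹ * f * k) * a⁻¹) * k⁻¹ := by rw [hc]; group
      _ = a * k * (a⁻¹ * (k⁻¹ * f * k)) * k⁻¹ := by rw [h2]
      _ = c * f := by rw [hc]; group
  have hac : Commute a c := hF c hcF
  have key : ∀ n : ℕ, a ^ n * k * (a ^ n)⁻¹ = c ^ n * k := by
    intro n
    induction n with
    | zero => simp
    | succ n ih =>
      calc a ^ (n + 1) * k * (a ^ (n + 1))⁻¹ = a * (a ^ n * k * (a ^ n)⁻¹) * a⁻¹ := by
            rw [pow_succ']; group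
        _ = a * c ^ n * k * a⁻¹ := by rw [ih]; group
        _ = c ^ n * (a * k * a⁻¹) := by rw [(hac.pow_right n).eq]; group
        _ = c ^ (n + 1) * k := by rw [pow_succ, hc]; group
  have h0 : c ^ orderOf a = 1 := by simpa [pow_orderOf_eq_one] using (key (orderOf a)).symm
  have h1 : c = 1 := orderOf_eq_one_iff.1 (Nat.eq_one_of_dvd_coprimes hco
    (orderOf_dvd_of_pow_eq_one h0) (K.orderOf_dvd_natCard hcK))
  rw [hc] at h1
  exact mul_inv_eq_iff_eq_mul.1 (mul_inv_eq_one.1 h1)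

variable {L : Subgroup G}

/-- The primes with a nontrivial core in `L`. -/
def primesF (L : Subgroup G) : Set ℕ := {t | t.Prime ∧ coreOf t L ≠ ⊥}

theorem ctx_solvable (hL : Ctx L) {K : Subgroup G} (hK : K ≤ L) : Group.IsSolvable K :=
  OddEnd.odd_solvable K (hL.odd.of_dvd_nat (card_dvd_of_le hK))

theorem primesF_ne_two (hL : Ctx L) {t : ℕ} (ht : t ∈ primesF L) : t ≠ 2 := by
  rintro rfl
  obtain ⟨htp, htne⟩ := ht
  haveI := Fact.mk htp
  obtain ⟨k, hk⟩ := IsPGroup.iff_card.1 (isPGroup_coreOf (r := 2) L)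
  have hodd := hL.odd.of_dvd_nat (card_dvd_of_le (coreOf_le 2 L))
  rw [hk] at hodd
  rcases Nat.eq_zero_or_pos k with rfl | hk0
  · exact htne (eq_bot_of_card_eq _ (by rw [hk, pow_zero]))
  · exact Nat.not_odd_iff_even.2 (Nat.even_pow.2 ⟨even_two, hk0.ne'⟩) hodd

theorem minW_le {t : ℕ} {W : Subgroup G} (hW : MinW t L W) : W ≤ L :=
  hW.le_core.trans (coreOf_le t L)

theorem minW_isPGroup {t : ℕ} {W : Subgroup G} (hW : MinW t L W) : IsPGroup t W :=
  ((CfsgLib.Solvable.isPGroup_pCore t).map _).to_le hW.le_core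

theorem centralizer_minW_le (hL : Ctx L) {t : ℕ} {W : Subgroup G} (hW : MinW t L W) :
    centralizer (W : Set G) ≤ L :=
  (centralizer_le_normalizer _).trans (hL.norm W (minW_le hW) hW.ne_bot hW.normal).le

/-- **KEY**: if `x` carries every chosen minimal normal subgroup into `L` then `x ∈ L`. -/
theorem mem_of_cj_minW_le (hL : Ctx L) (Wf : ℕ → Subgroup G)
    (hWf : ∀ t ∈ primesF L, MinW t L (Wf t)) {r s₀ : ℕ} (hr : r ∈ primesF L)
    (hs₀ : s₀ ∈ primesF L) (hrs : r ≠ s₀) {x : G} (hx : ∀ t ∈ primesF L, cj x (Wf t) ≤ L) :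
    x ∈ L := by
  -- the conjugate of `W_s` centralizes the other cores
  have hA : ∀ s ∈ primesF L, ∀ t ∈ primesF L, s ≠ t →
      cj x (Wf s) ≤ centralizer (coreOf t L : Set G) := by
    intro s hs t ht hst
    haveI := Fact.mk ht.1
    have hWs := hWf s hs
    have hWt := hWf t ht
    intro w hw
    have hwp : (orderOf w).Coprime t :=
      (coprime_card_prime hs.1 ht.1 hst (isPGroup_cj (minW_isPGroup hWs) x)).coprime_dvd_left
        ((cj x (Wf s)).orderOf_dvd_natCard hw)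
    refine mem_centralizer_iff.2 fun a ha => (LocalB.commute_of_pxq
      (P := cj x (Wf t)) (R := coreOf t L) (isPGroup_cj (minW_isPGroup hWt) x) (isPGroup_coreOf (r := t) L)
      ((hx t ht).trans (le_normalizer_coreOf t L)) hwp (le_normalizer_coreOf t L (hx s hs hw))
      (fun π hπ => ?_) (fun b hb hbc => ?_) a ha).eq.symm
    · exact mem_centralizer_iff.1
        (cj_le_centralizer (hWs.le_core.trans (hWt.central s hs.1)) hw) π hπ
    · have hbL : b ∈ cj x L :=
        centralizer_cj_le (centralizer_minW_le hL hWt) (mem_centralizer_iff.2 hbc)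
      have h1 : w * b * w⁻¹ * b⁻¹ ∈ coreOf t L :=
        mul_mem ((mem_normalizer_iff.1 (le_normalizer_coreOf t L (hx s hs hw)) b).1 hb) (inv_mem hb)
      have h2 : w * b * w⁻¹ * b⁻¹ ∈ cj x (Wf s) := by
        rw [mul_assoc w, mul_assoc w]
        exact mul_mem hw ((mem_normalizer_iff.1 (cj_le_normalizer hWs.normal hbL) _).1 (inv_mem hw))
      exact mul_inv_eq_iff_eq_mul.1 (mul_inv_eq_one.1 (orderOf_eq_one_iff.1
        (Nat.eq_one_of_dvd_coprimes
          (coprime_card_of_pgroups hs.1 ht.1 hst (isPGroup_cj (minW_isPGroup hWs) x)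
            (isPGroup_coreOf (r := t) L))
          ((cj x (Wf s)).orderOf_dvd_natCard h2) ((coreOf t L).orderOf_dvd_natCard h1))))
  haveI := Fact.mk hr.1
  set K := OddLocal.Uniq.coreOf r L
  have hKL : K ≤ L := OddLocal.Uniq.coreOf_le L
  have hKn : L ≤ normalizer (K : Set G) := OddLocal.Uniq.le_normalizer_coreOf L
  have hKc : (Nat.card K).Coprime r := OddLocal.Uniq.coprime_coreOf L
  have hWr := hWf r hr
  have hK1 : K ≠ ⊥ := by
    have hle : coreOf s₀ L ≤ K := by
      rintro _ ⟨y, hy, rfl⟩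
      exact mem_map_of_mem _ (CfsgLib.Solvable.le_pPrimeCore r (CfsgLib.Solvable.pCore_normal s₀)
        (by
          haveI := Fact.mk hs₀.1
          obtain ⟨k, hk⟩ := IsPGroup.iff_card.1 (CfsgLib.Solvable.isPGroup_pCore (G := L) s₀)
          exact hk ▸ ((Nat.coprime_primes hs₀.1 hr.1).2 hrs.symm).pow_left k) hy)
    exact fun h => hs₀.2 (le_bot_iff.1 (h ▸ hle))
  -- `K` commutes with `W_r`
  have hKW : K ≤ centralizer (Wf r : Set G) := by
    intro k hk
    refine mem_centralizer_iff.2 fun w hw => ?_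
    have h1 : w * k * w⁻¹ * k⁻¹ ∈ K :=
      mul_mem ((mem_normalizer_iff.1 (hKn (minW_le hWr hw)) k).1 hk) (inv_mem hk)
    have h2 : w * k * w⁻¹ * k⁻¹ ∈ Wf r := by
      rw [mul_assoc w, mul_assoc w]
      exact mul_mem hw ((mem_normalizer_iff.1 (hWr.normal (hKL hk)) _).1 (inv_mem hw))
    exact mul_inv_eq_iff_eq_mul.1 (mul_inv_eq_one.1 (CharP.eq_one_of_mem_pgroup (minW_isPGroup hWr)
      h2 (hKc.coprime_dvd_left (K.orderOf_dvd_natCard h1))))
  -- the conjugate of `W_r` centralizes `K`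
  have hxK : cj x (Wf r) ≤ centralizer (K : Set G) := by
    intro w hw
    refine mem_centralizer_iff.2 fun k hk => (commute_of_fixes_fitting (ctx_solvable hL hKL)
      (hKn (hx r hr hw)) ?_ (fun f hf => ?_) k hk).eq.symm
    · obtain ⟨i, hi⟩ := IsPGroup.iff_card.1 (isPGroup_cj (minW_isPGroup hWr) x)
      exact (hi ▸ (hKc.pow_right i).symm).coprime_dvd_left
        ((cj x (Wf r)).orderOf_dvd_natCard hw)
    refine (mem_centralizer_singleton_iff.1 (?_ : f ∈ centralizer ({w} : Set G))).symm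
    refine CfsgLib.FGSA.le_of_prime_power_mem (A := Cfsg.fittingOf K)
      (fun t ht a ha ⟨j, hj⟩ => ?_) hf
    haveI := Fact.mk ht
    refine mem_centralizer_singleton_iff.2 ?_
    rcases eq_or_ne a 1 with rfl | ha1
    · simp
    have hFK : Cfsg.fittingOf K ≤ Cfsg.fittingOf L :=
      OddLocal.Bender.le_fitting ((OddLocal.Bender.fitting_le K).trans hKL) (fun h hh => by
        refine OddLocal.Uniq.mem_normalizer_of_map_le (OddLocal.Bender.le_fitting ?_ ?_ ?_)
        · exact (map_mono (OddLocal.Bender.fitting_le K)).trans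
            (OddLocal.Uniq.conj_map_eq_of_mem (hKn hh)).le
        · conv_lhs => rw [← OddLocal.Uniq.conj_map_eq_of_mem (hKn hh)]
          exact (map_mono (OddLocal.Bender.le_normalizer_fitting K)).trans (le_normalizer_map _)
        · exact CfsgLib.CN.nilpotent_map (OddLocal.Bender.nilpotent_fitting K) _)
        (OddLocal.Bender.nilpotent_fitting K)
    have haT : a ∈ coreOf t L := OddLocal.Bender.mem_qc (hFK ha) hj
    have htr : r ≠ t := by
      rintro rfl
      exact ha1 (orderOf_eq_one_iff.1 (Nat.eq_one_of_dvd_coprimes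
        ((hKc.coprime_dvd_left (K.orderOf_dvd_natCard (OddLocal.Bender.fitting_le K ha))).pow_right j)
        (dvd_refl _) hj.dvd))
    exact mem_centralizer_iff.1
      (hA r hr t ⟨ht, fun h => ha1 (mem_bot.1 (h ▸ haT))⟩ htr hw) a haT
  -- move back by `x⁻¹`
  set U := cj x⁻¹ K
  set Z := cj x⁻¹ (Wf r)
  have hUC : U ≤ centralizer (Wf r : Set G) := by
    have := cj_le_centralizer (g := x⁻¹) (le_centralizer_iff.1 hxK)
    rwa [cj_cj, inv_mul_cancel, cj_one] at this
  have hUL : U ≤ L := hUC.trans (centralizer_minW_le hL hWr)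
  have hTL : ∀ t ∈ primesF L, cj x⁻¹ (coreOf t L) ≤ L := by
    intro t ht
    obtain ⟨s, hs, hst⟩ : ∃ s ∈ primesF L, s ≠ t := by
      by_cases h : r = t
      · exact ⟨s₀, hs₀, fun e => hrs (h.trans e.symm)⟩
      · exact ⟨r, hr, h⟩
    refine le_trans ?_ (centralizer_minW_le hL (hWf s hs))
    have := cj_le_centralizer (g := x⁻¹) (le_centralizer_iff.1 (hA s hs t ht hst))
    rwa [cj_cj, inv_mul_cancel, cj_one] at this
  have hZL : Z ≤ L := (map_mono hWr.le_core).trans (hTL r hr)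
  haveI : (Cfsg.pPrimeCore r L).Normal := CfsgLib.Solvable.pPrimeCore_normal r
  haveI : Group.IsSolvable L := ctx_solvable hL le_rfl
  have hUr : (Nat.card U).Coprime r := by rw [card_cj]; exact hKc
  have hc := OddLocal.Bender.cross (H := cj x⁻¹ L) (Zs := Z) (U := U) (X := L)
    (isPGroup_cj (minW_isPGroup hWr) x⁻¹) (centralizer_cj_le (centralizer_minW_le hL hWr))
    (cj_le_normalizer hKn) hUr (cj_le_centralizer hKW) hZL hUL (Cfsg.pPrimeCore r L)
    (CfsgLib.Solvable.coprime_card_pPrimeCore r)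
  have hUK : U ≤ K := by
    intro o ho
    set f := QuotientGroup.mk' (Cfsg.pPrimeCore r L)
    have h1 : f ⟨o, hUL ho⟩ ∈ Cfsg.pCore r (L ⧸ Cfsg.pPrimeCore r L) :=
      CfsgLib.Fitting.centralizer_pCore_le (CfsgLib.Fitting.pPrimeCore_quotient_eq_bot r)
        (hc (mem_map_of_mem f (mem_subgroupOf.2 ho : (⟨o, hUL ho⟩ : L) ∈ U.subgroupOf L)))
    refine ⟨⟨o, hUL ho⟩, (QuotientGroup.eq_one_iff _).1 ?_, rfl⟩
    refine CfsgLib.CharP.eq_one_of_mem_pgroup (CfsgLib.Solvable.isPGroup_pCore r) h1 ?_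
    refine (hUr.coprime_dvd_left ?_).coprime_dvd_left (orderOf_map_dvd f _)
    rw [orderOf_mk]
    exact U.orderOf_dvd_natCard ho
  have hxn : x⁻¹ ∈ normalizer (K : Set G) := OddLocal.Uniq.mem_normalizer_of_map_le hUK
  have := hL.norm K hKL hK1 hKn
  rw [this] at hxn
  exact inv_mem_iff.1 hxn

/-- In a subgroup of odd order containing every chosen minimal normal subgroup, `W_r` lies in
`O_{π',r}`, `π` the primes of the Fitting subgroup of `L`. -/
theorem image_minW_le_pCore (hL : Ctx L) (Wf : ℕ → Subgroup G)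
    (hWf : ∀ t ∈ primesF L, MinW t L (Wf t)) {r s : ℕ} (hr : r ∈ primesF L) (hs : s ∈ primesF L)
    (hrs : r ≠ s) {M : Subgroup G} (hM : Odd (Nat.card M)) (hWM : ∀ t ∈ primesF L, Wf t ≤ M) :
    ((Wf r).subgroupOf M).map (QuotientGroup.mk' (Cfsg.piCore {p | p ∉ primesF L} M)) ≤
      Cfsg.pCore r (M ⧸ Cfsg.piCore {p | p ∉ primesF L} M) := by
  haveI := Fact.mk hr.1
  set σ : Set ℕ := {p | p ∉ primesF L} with hσ
  set N := Cfsg.piCore σ M
  set f := QuotientGroup.mk' N
  haveI hMs : Group.IsSolvable M := OddEnd.odd_solvable M hM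
  have hNσ : ∀ p : ℕ, p.Prime → p ∣ Nat.card N → p ∈ σ := fun p hp hd =>
    Cfsg.Agent.S3743.isPi_of_sup _ (fun M hM => hM.1) (fun M hM => hM.2) p hp hd
  have hNc : ∀ t ∈ primesF L, (Nat.card N).Coprime t := fun t ht =>
    Nat.coprime_comm.1 (ht.1.coprime_iff_not_dvd.2 fun hd => hNσ t ht.1 hd ht)
  have hcore : ∀ (t : ℕ) [Fact t.Prime], t ∈ σ → Cfsg.pCore t (M ⧸ N) = ⊥ := by
    intro t _ ht
    set R := (Cfsg.pCore t (M ⧸ N)).comap f with hR
    have hle : R ≤ N := le_sSup ⟨(CfsgLib.Solvable.pCore_normal t).comap f, fun q hq hqd => by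
      have hcard : Nat.card R ∣ Nat.card N * Nat.card (Cfsg.pCore t (M ⧸ N)) := by
        have h1 := relIndex_ker (f := f) R
        have h2 : N ≤ R := fun x hx => by
          simp only [R, mem_comap, f, QuotientGroup.mk'_apply, (QuotientGroup.eq_one_iff x).2 hx,
            one_mem]
        rw [QuotientGroup.ker_mk'] at h1
        rw [← relIndex_bot_left R, ← relIndex_mul_relIndex ⊥ N R bot_le h2, relIndex_bot_left, h1]
        exact Nat.mul_dvd_mul_left _ (card_dvd_of_le (map_comap_le _ _))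
      rcases hq.dvd_mul.1 (hqd.trans hcard) with h | h
      · exact hNσ q hq h
      · obtain ⟨k, hk⟩ := IsPGroup.iff_card.1 (CfsgLib.Solvable.isPGroup_pCore (G := M ⧸ N) t)
        rw [hk] at h
        exact (Nat.prime_dvd_prime_iff_eq hq Fact.out).1 (hq.dvd_of_dvd_pow h) ▸ ht⟩
    rw [← map_comap_eq_self_of_surjective (QuotientGroup.mk'_surjective N) (Cfsg.pCore t (M ⧸ N)),
      Subgroup.map_eq_bot_iff, QuotientGroup.ker_mk']
    exact hle
  set Wb := ((Wf r).subgroupOf M).map f with hWb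
  have hWr := hWf r hr
  -- `W_r` centralizes the other cores of the quotient
  have hcen : ∀ t : ℕ, t.Prime → t ≠ r →
      Wb ≤ centralizer (Cfsg.pCore t (M ⧸ N) : Set (M ⧸ N)) := by
    intro t ht htr
    haveI := Fact.mk ht
    by_cases htL : t ∈ primesF L
    · have hWt := hWf t htL
      exact OddLocal.Bender.cross (H := L) (minW_isPGroup hWt) (centralizer_minW_le hL hWt) hWr.normal
        (coprime_card_prime hr.1 ht htr.symm (minW_isPGroup hWr))
        (hWr.le_core.trans (hWt.central r hr.1)) (hWM t htL) (hWM r hr) N (hNc t htL)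
    · rw [hcore t htL]
      intro x _
      exact mem_centralizer_iff.2 fun y hy => by rw [SetLike.mem_coe, mem_bot] at hy; simp [hy]
  -- the `r`-core lifts into `C(W_s) ≤ L`, so normalizes the image of `W_r`
  set P := Cfsg.pCore r (M ⧸ N)
  haveI : P.Normal := CfsgLib.Solvable.pCore_normal r
  have hP : IsPGroup r P := CfsgLib.Solvable.isPGroup_pCore r
  have hWs := hWf s hs
  have hZc : ((Wf s).subgroupOf M).map f ≤ centralizer (P : Set (M ⧸ N)) :=
    OddLocal.Bender.cross (H := L) (minW_isPGroup hWr) (centralizer_minW_le hL hWr) hWs.normal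
      (coprime_card_prime hs.1 hr.1 hrs.symm (minW_isPGroup hWs))
      (hWs.le_core.trans (hWr.central s hs.1)) (hWM r hr) (hWM s hs) N (hNc r hr)
  have hPn : ∀ g ∈ P, ∀ a ∈ Wb, g * a * g⁻¹ ∈ Wb := by
    intro g hg a ha
    obtain ⟨g, rfl⟩ := QuotientGroup.mk'_surjective N g
    haveI := Fact.mk hs.1
    set Z := (Wf s).subgroupOf M
    have hZp : IsPGroup s Z := (minW_isPGroup hWs).of_equiv (subgroupOfEquivOfLe (hWM s hs)).symm
    haveI := hZp.isNilpotent
    obtain ⟨j, hj⟩ := IsPGroup.iff_card.1 hZp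
    obtain ⟨c, hc1, hc2⟩ := CfsgLib.Coprime.exists_commute_mem_coset Z N le_normalizer_of_normal
      (hj ▸ ((hNc s hs).pow_right j).symm) g (fun z hz => by
        rw [← QuotientGroup.ker_mk' N, MonoidHom.mem_ker]
        change f (g⁻¹ * (z * g * z⁻¹)) = 1
        rw [map_mul, map_mul, map_mul, map_inv, map_inv,
          ← mem_centralizer_iff.1 (hZc (mem_map_of_mem f hz)) (f g) hg,
          mul_inv_cancel_right, inv_mul_cancel])
    have hcg : f c = f g := by
      have h1 : f (g⁻¹ * c) = 1 := (QuotientGroup.eq_one_iff _).2 hc2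
      rw [map_mul, map_inv, inv_mul_eq_one] at h1
      exact h1.symm
    have hcL : (c : G) ∈ L := centralizer_minW_le hL hWs (mem_centralizer_iff.2 fun z hz =>
      congrArg Subtype.val (hc1 ⟨z, hWM s hs hz⟩ (mem_subgroupOf.2 hz)))
    obtain ⟨b, hb, rfl⟩ := ha
    rw [← hcg, ← map_inv, ← map_mul, ← map_mul]
    exact mem_map_of_mem f (mem_subgroupOf.2 ((mem_normalizer_iff.1 (hWr.normal hcL) _).1
      (mem_subgroupOf.1 hb)))
  have hWcomm : ∀ a ∈ Wb, ∀ b ∈ Wb, Commute a b := by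
    rintro _ ⟨a, ha, rfl⟩ _ ⟨b, hb, rfl⟩
    exact (show Commute a b from Subtype.ext (hWr.comm _ ha _ hb)).map f
  have hodd : Odd (Nat.card (M ⧸ N)) := hM.of_dvd_nat (card_quotient_dvd_card N)
  have hr2 : r ≠ 2 := primesF_ne_two hL hr
  haveI : Group.IsSolvable (M ⧸ N) :=
    Group.isSolvable_of_surjective (QuotientGroup.mk'_surjective N)
  intro a ha
  have hquad : ⁅⁅P, zpowers a⁆, zpowers a⁆ = ⊥ := by
    rw [commutator_eq_bot_iff_le_centralizer, commutator_le]
    rintro u hu _ ⟨k, rfl⟩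
    have hak : a ^ k ∈ Wb := zpow_mem ha k
    have hm : ⁅u, a ^ k⁆ ∈ Wb := mul_mem (hPn u hu _ hak) (inv_mem hak)
    refine mem_centralizer_iff.2 ?_
    rintro _ ⟨l, rfl⟩
    exact (hWcomm _ (zpow_mem ha l) _ hm).eq
  obtain ⟨D, hD, haD, hDp⟩ := CfsgLib.ZJ.pcoreMod_of_quadratic hr2
    (CfsgLib.Invariant.not_involves_qd_of_odd hodd hr2) P hP a hquad
  set C' : Subgroup (M ⧸ N) := ⨅ t : {t : ℕ // t.Prime ∧ t ≠ r},
    centralizer (Cfsg.pCore t.1 (M ⧸ N) : Set (M ⧸ N))
  haveI : C'.Normal := normal_iInf_normal fun t => by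
    haveI := CfsgLib.Solvable.pCore_normal (G := M ⧸ N) t.1
    exact Subgroup.normal_centralizer
  set E := D ⊓ C'
  haveI : D.Normal := hD
  have haE : a ∈ E := ⟨haD, mem_iInf.2 fun t => hcen t.1 t.2.1 t.2.2 ha⟩
  have hEC : ∀ e ∈ E, ∀ t : ℕ, t.Prime → t ≠ r → ∀ y ∈ Cfsg.pCore t (M ⧸ N), Commute y e :=
    fun e he t ht htr y hy => mem_centralizer_iff.1 (mem_iInf.1 he.2 ⟨t, ht, htr⟩) y hy
  -- every element of `E` has an `r`-power in the centre of `E`
  have hEp : ∀ d ∈ E, ∃ k : ℕ, ∀ e ∈ E, Commute (d ^ r ^ k) e := by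
    intro d hd
    obtain ⟨k, hk⟩ := hDp d hd.1
    set z := d ^ r ^ k
    have hzE : z ∈ E := pow_mem hd _
    have hzF : z ∈ Cfsg.fittingSubgroup (M ⧸ N) := by
      refine CfsgLib.Fitting.centralizer_fittingSubgroup_le_of_solvable
        (mem_centralizer_iff.2 fun y hy => ?_)
      refine mem_centralizer_singleton_iff.1 (?_ : y ∈ centralizer ({z} : Set (M ⧸ N)))
      refine CfsgLib.FGSA.le_of_prime_power_mem (A := Cfsg.fittingSubgroup (M ⧸ N))
        (fun t ht b hb ⟨i, hi⟩ => ?_) hy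
      haveI := Fact.mk ht
      have hbt := CfsgLib.FGSA.RankTwoSolvable.mem_pCore_of_mem_fitting ht hi hb
      refine mem_centralizer_singleton_iff.2 ?_
      rcases eq_or_ne t r with rfl | htr
      · exact mem_centralizer_iff.1 hk b hbt
      · exact (hEC z hzE t ht htr b hbt).eq
    obtain ⟨j, m, hm, hjm⟩ :=
      Nat.exists_eq_pow_mul_and_not_dvd (orderOf_pos z).ne' r hr.1.ne_one
    refine ⟨k + j, fun e he => ?_⟩
    rw [pow_add, pow_mul]
    change Commute (z ^ r ^ j) e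
    have hz' : (orderOf (z ^ r ^ j)).Coprime r := by
      rw [orderOf_pow' _ (pow_ne_zero j hr.1.ne_zero), hjm, Nat.gcd_eq_right (dvd_mul_right _ _),
        Nat.mul_div_cancel_left _ (Nat.pos_of_ne_zero (pow_ne_zero j hr.1.ne_zero))]
      exact (hr.1.coprime_iff_not_dvd.mpr hm).symm
    refine mem_centralizer_singleton_iff.1
      (?_ : z ^ r ^ j ∈ centralizer ({e} : Set (M ⧸ N)))
    refine CfsgLib.FGSA.le_of_prime_power_mem (A := zpowers (z ^ r ^ j))
      (fun t ht b hb ⟨i, hi⟩ => ?_) (mem_zpowers _)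
    refine mem_centralizer_singleton_iff.2 ?_
    have hbF : b ∈ Cfsg.fittingSubgroup (M ⧸ N) :=
      (zpowers_le.2 (pow_mem hzF _)) hb
    rcases eq_or_ne t r with rfl | htr
    · have hb1 : orderOf b = 1 := by
        refine Nat.eq_one_of_dvd_coprimes (hz'.pow_right i) ?_ hi.dvd
        exact (Nat.card_zpowers (z ^ t ^ j)) ▸ Subgroup.orderOf_dvd_natCard _ hb
      rw [orderOf_eq_one_iff.1 hb1, one_mul, mul_one]
    · exact (hEC e he t ht htr b (CfsgLib.FGSA.RankTwoSolvable.mem_pCore_of_mem_fitting ht hi hbF)).eq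
  have hEn : Group.IsNilpotent E := by
    refine Group.of_quotient_center_nilpotent ?_
    refine (show IsPGroup r (E ⧸ center E) from fun q => ?_).isNilpotent
    obtain ⟨d, rfl⟩ := QuotientGroup.mk_surjective q
    obtain ⟨k, hk⟩ := hEp d d.2
    refine ⟨k, ?_⟩
    rw [← QuotientGroup.mk_pow, QuotientGroup.eq_one_iff, mem_center_iff]
    exact fun e => Subtype.ext (by simpa using (hk e e.2).eq.symm)
  obtain ⟨w, hw, rfl⟩ := ha
  have hwr : orderOf (f w) ∣ r := by
    refine orderOf_dvd_of_pow_eq_one ?_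
    rw [← map_pow, show w ^ r = 1 from Subtype.ext (by simpa using hWr.exp _ (mem_subgroupOf.1 hw)),
      map_one]
  have haF : f w ∈ Cfsg.fittingSubgroup (M ⧸ N) :=
    CfsgLib.Solvable.le_fittingSubgroup (inferInstance : E.Normal) hEn haE
  rcases (Nat.dvd_prime hr.1).1 hwr with h | h
  · rw [orderOf_eq_one_iff.1 h]
    exact one_mem _
  · exact CfsgLib.FGSA.RankTwoSolvable.mem_pCore_of_mem_fitting hr.1 (h.trans (pow_one r).symm) haF

/-- A subgroup containing one of index `r` is that one or the whole group. -/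
theorem eq_of_card_hyperplane {r : ℕ} (hr : r.Prime) {B B' W : Subgroup G}
    (hcard : Nat.card B * r = Nat.card W) (h1 : B ≤ B') (h2 : B' ≤ W) : B' = B ∨ B' = W := by
  obtain ⟨d, hd⟩ := card_dvd_of_le h1
  have hdr : d ∣ r := by
    have h := card_dvd_of_le h2
    rw [hd, ← hcard] at h
    exact Nat.dvd_of_mul_dvd_mul_left Nat.card_pos h
  rcases (Nat.dvd_prime hr).1 hdr with rfl | rfl
  · exact .inl (CfsgLib.Solvable.eq_of_le_of_card_le h1 (by rw [hd, mul_one])).symm
  · exact .inr (CfsgLib.Solvable.eq_of_le_of_card_le h2 (by rw [hd, hcard]))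

theorem invol_not_mem (hL : Ctx L) {v : G} (hv : orderOf v = 2) : v ∉ L := fun h =>
  Nat.not_even_iff_odd.2 hL.odd (even_iff_two_dvd.2 (hv ▸ orderOf_dvd_natCard L h))

/-- The fixed points of `v` on `W`. -/
abbrev fixW (W : Subgroup G) (v : G) : Subgroup G := W ⊓ centralizer ({v} : Set G)

theorem mem_fixW {W : Subgroup G} {v x : G} : x ∈ fixW W v ↔ x ∈ W ∧ x * v = v * x := by
  simp [mem_centralizer_singleton_iff]

theorem conj_eq_self_of_fixW {W : Subgroup G} {v x : G} (hv : orderOf v = 2) (hx : x ∈ fixW W v) :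
    v * x * v = x := by
  rw [mul_assoc, (mem_fixW.1 hx).2, ← mul_assoc, CfsgLib.Invol.mul_self_eq_one hv, one_mul]

/-- There are commuting involutions with distinct fixed points on `W`. -/
theorem exists_commuting_pair (hL : Ctx L) (hSE : ∀ S : Subgroup G, ¬ Cfsg.IsStronglyEmbedded S)
    {W : Subgroup G} {r : ℕ} (hW : MinW r L W)
    (hne : ∀ v : G, orderOf v = 2 → fixW W v ≠ W ∧ fixW W v ≠ ⊥) :
    ∃ v w : G, orderOf v = 2 ∧ orderOf w = 2 ∧ Commute v w ∧ fixW W v ≠ fixW W w := by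
  by_contra hno
  push Not at hno
  obtain ⟨v₀, hv₀⟩ := hL.invol
  let R : G → G → Prop := fun a b => orderOf a = 2 ∧ orderOf b = 2 ∧ Commute a b
  let Γ : G → G → Prop := Relation.ReflTransGen R
  have hsym : ∀ a b, Γ a b → Γ b a := fun a b h => by
    induction h with
    | refl => exact .refl
    | tail _ h ih => exact (Relation.ReflTransGen.single ⟨h.2.1, h.1, h.2.2.symm⟩).trans ih
  have hconj : ∀ g a b, Γ a b → Γ (g * a * g⁻¹) (g * b * g⁻¹) := fun g a b h => by
    induction h with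
    | refl => exact .refl
    | tail _ h ih =>
      exact ih.tail ⟨by rw [CfsgLib.Invol.orderOf_conj_eq, h.1],
        by rw [CfsgLib.Invol.orderOf_conj_eq, h.2.1], h.2.2.map (MulAut.conj g).toMonoidHom⟩
  have hconst : ∀ u, Γ v₀ u → fixW W u = fixW W v₀ := fun u h => by
    induction h with
    | refl => rfl
    | tail _ h ih => exact (hno _ _ h.1 h.2.1 h.2.2).symm.trans ih
  let S : Subgroup G :=
    { carrier := {g | Γ v₀ (g * v₀ * g⁻¹)}
      one_mem' := by simpa [Γ] using Relation.ReflTransGen.refl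
      mul_mem' := fun {g h} (hg : Γ v₀ (g * v₀ * g⁻¹)) (hh : Γ v₀ (h * v₀ * h⁻¹)) => by
        have h1 := hg.trans (hconj g _ _ hh)
        simpa [mul_assoc] using h1
      inv_mem' := fun {g} (hg : Γ v₀ (g * v₀ * g⁻¹)) => by
        have h1 := hsym _ _ (hconj g⁻¹ _ _ hg)
        simpa [mul_assoc] using h1 }
  have hmemS : ∀ g, g ∈ S ↔ Γ v₀ (g * v₀ * g⁻¹) := fun g => Iff.rfl
  have hcent : ∀ u, Γ v₀ u → ∀ g, Commute g u → g ∈ S := fun u hu g hg => by
    have h1 := hconj g _ _ hu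
    rw [hg.eq, mul_inv_cancel_right] at h1
    exact (hmemS g).2 (hu.trans (hsym _ _ h1))
  have hv₀S : v₀ ∈ S := hcent v₀ .refl v₀ (Commute.refl _)
  haveI : Fact (Nat.Prime 2) := ⟨Nat.prime_two⟩
  -- every involution of `S` is in the component
  obtain ⟨T, hT⟩ := (show IsPGroup 2 (zpowers v₀) from
    IsPGroup.of_card (n := 1) (by rw [Nat.card_zpowers, hv₀, pow_one])).exists_le_sylow
  have hv₀T : v₀ ∈ (T : Subgroup G) := hT (mem_zpowers v₀)
  haveI : Nontrivial (T : Subgroup G) := (nontrivial_iff_ne_bot _).2 fun h =>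
    CfsgLib.Invol.ne_one hv₀ (mem_bot.1 (h ▸ hv₀T))
  haveI := T.isPGroup'.center_nontrivial
  obtain ⟨z, hz⟩ : ∃ z : center (T : Subgroup G), orderOf z = 2 := exists_prime_orderOf_dvd_card' 2
    (by
      obtain ⟨k, hk⟩ := IsPGroup.iff_card.1 (T.isPGroup'.to_subgroup (center (T : Subgroup G)))
      rcases Nat.eq_zero_or_pos k with rfl | hk0
      · exact absurd hk (by simpa using (Finite.one_lt_card (α := center (T : Subgroup G))).ne')
      · exact hk ▸ dvd_pow_self 2 hk0.ne')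
  have hzo : orderOf ((z : (T : Subgroup G)) : G) = 2 := by rw [orderOf_coe, orderOf_coe, hz]
  have hzc : ∀ y ∈ (T : Subgroup G), Commute y ((z : (T : Subgroup G)) : G) := fun y hy =>
    congrArg Subtype.val (mem_center_iff.1 z.2 ⟨y, hy⟩)
  have hzΓ : Γ v₀ ((z : (T : Subgroup G)) : G) :=
    Relation.ReflTransGen.single ⟨hv₀, hzo, hzc v₀ hv₀T⟩
  have hTS : (T : Subgroup G) ≤ S := fun y hy => hcent _ hzΓ y (hzc y hy)
  have hinv : ∀ a ∈ S, orderOf a = 2 → Γ v₀ a := by
    intro a ha hao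
    obtain ⟨Q, hQ⟩ := (show IsPGroup 2 (zpowers (⟨a, ha⟩ : S)) from
      IsPGroup.of_card (n := 1) (by rw [Nat.card_zpowers, orderOf_mk, hao, pow_one])).exists_le_sylow
    obtain ⟨g, hg⟩ := MulAction.exists_smul_eq S Q (T.subtype hTS)
    have hmem : (g * ⟨a, ha⟩ * g⁻¹ : S) ∈ (T.subtype hTS : Subgroup S) := by
      rw [← hg, Sylow.coe_subgroup_smul]
      exact ⟨⟨a, ha⟩, hQ (mem_zpowers _), rfl⟩
    have hmem' : (g : G) * a * (g : G)⁻¹ ∈ (T : Subgroup G) := mem_subgroupOf.1 hmem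
    have h1 : Γ v₀ ((g : G) * a * (g : G)⁻¹) := hzΓ.tail
      ⟨hzo, by rw [CfsgLib.Invol.orderOf_conj_eq, hao], (hzc _ hmem').symm⟩
    have h2 := hconj (g : G)⁻¹ _ _ h1
    have h3 : Γ v₀ ((g : G)⁻¹ * v₀ * (g : G)⁻¹⁻¹) := (hmemS _).1 (inv_mem g.2)
    have h4 := h3.trans h2
    simpa [mul_assoc] using h4
  refine hSE S ⟨fun htop => ?_, even_iff_two_dvd.2 (hv₀ ▸ orderOf_dvd_natCard S hv₀S), fun g hg => ?_⟩
  · -- otherwise all involutions centralize one subgroup of `W`, which is normal in `L`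
    have hall : ∀ v, orderOf v = 2 → fixW W v = fixW W v₀ := fun v hv =>
      hconst v (hinv v (htop ▸ mem_top v) hv)
    obtain ⟨h1, h2⟩ := hne v₀ hv₀
    refine h1 (hW.minimal _ inf_le_left h2 fun l hl => OddLocal.Uniq.mem_normalizer_of_map_le ?_)
    rintro _ ⟨x, hx, rfl⟩
    have hv' : orderOf (l⁻¹ * v₀ * l) = 2 := by
      have := CfsgLib.Invol.orderOf_conj_eq l⁻¹ v₀
      rwa [inv_inv, hv₀] at this
    rw [← hall _ hv'] at hx
    refine mem_fixW.2 ⟨(mem_normalizer_iff.1 (hW.normal hl) x).1 (mem_fixW.1 hx).1, ?_⟩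
    show l * x * l⁻¹ * v₀ = v₀ * (l * x * l⁻¹)
    calc l * x * l⁻¹ * v₀ = l * (x * (l⁻¹ * v₀ * l)) * l⁻¹ := by group
      _ = l * ((l⁻¹ * v₀ * l) * x) * l⁻¹ := by rw [(mem_fixW.1 hx).2]
      _ = v₀ * (l * x * l⁻¹) := by group
  · by_contra hev
    obtain ⟨a, ha⟩ := exists_prime_orderOf_dvd_card'
      (G := ↥(S ⊓ S.map (MulAut.conj g).toMonoidHom)) 2
      (even_iff_two_dvd.1 (Nat.not_odd_iff_even.1 hev))
    obtain ⟨ha1, b, hb, hab⟩ := mem_inf.1 a.2
    have hao : orderOf (a : G) = 2 := by rw [orderOf_coe, ha]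
    have hab' : g * b * g⁻¹ = a := hab
    have hbo : orderOf b = 2 := by rw [← hao, ← hab', CfsgLib.Invol.orderOf_conj_eq]
    have h1 := hconj g _ _ (hinv b hb hbo)
    rw [hab'] at h1
    exact hg ((hmemS g).2 ((hinv _ ha1 hao).trans (hsym _ _ h1)))

/-- **Goodness**: a subgroup of index at most `r` of a noncyclic `W_r` has a centralizer of odd
order. -/
theorem odd_centralizer_hyperplane (hL : Ctx L) (hSE : ∀ S : Subgroup G, ¬ Cfsg.IsStronglyEmbedded S)
    (Wf : ℕ → Subgroup G) (hWf : ∀ t ∈ primesF L, MinW t L (Wf t)) {r s : ℕ}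
    (hr : r ∈ primesF L) (hs : s ∈ primesF L) (hrs : r ≠ s) (hnc : r ^ 2 ≤ Nat.card (Wf r))
    {B : Subgroup G} (hBW : B ≤ Wf r) (hi : B.relIndex (Wf r) ≤ r) :
    Odd (Nat.card (centralizer (B : Set G))) := by
  haveI := Fact.mk hr.1
  haveI : Fact (Nat.Prime 2) := ⟨Nat.prime_two⟩
  have hW := hWf r hr
  set W := Wf r
  have hWL : centralizer (W : Set G) ≤ L := centralizer_minW_le hL hW
  by_contra hev
  obtain ⟨⟨v₀, hv₀C⟩, hv₀⟩ := exists_prime_orderOf_dvd_card' (G := centralizer (B : Set G)) 2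
    (even_iff_two_dvd.1 (Nat.not_odd_iff_even.1 hev))
  rw [orderOf_mk] at hv₀
  have hcardB : Nat.card B * r = Nat.card W := by
    have hmul : Nat.card B * B.relIndex W = Nat.card W := by
      rw [← relIndex_bot_left B, relIndex_mul_relIndex ⊥ B W bot_le hBW, relIndex_bot_left]
    obtain ⟨n, hn⟩ := IsPGroup.iff_card.1 (minW_isPGroup hW)
    have hd : B.relIndex W ∣ r ^ n := hn ▸ Dvd.intro_left _ hmul
    obtain ⟨i, -, hi'⟩ := (Nat.dvd_prime_pow hr.1).1 hd
    rcases i with _ | _ | i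
    · exfalso
      rw [hi', pow_zero, mul_one] at hmul
      rw [CfsgLib.Solvable.eq_of_le_of_card_le hBW hmul.ge] at hv₀C
      exact invol_not_mem hL hv₀ (hWL hv₀C)
    · rwa [hi', zero_add, pow_one] at hmul
    · exfalso
      have : r ^ 2 ≤ r ^ (i + 1 + 1) := Nat.pow_le_pow_right hr.1.pos (by omega)
      rw [← hi'] at this
      have := this.trans hi
      nlinarith [hr.1.two_le]
  -- every involution fixes a subgroup of index `r`
  have hfix : ∀ v, orderOf v = 2 → Nat.card (fixW W v) * r = Nat.card W := by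
    intro v hv
    obtain ⟨l, hl, rfl⟩ := hL.trans v₀ v hv₀ hv
    have hle : cj l B ≤ fixW W (l * v₀ * l⁻¹) := by
      rintro _ ⟨b, hb, rfl⟩
      refine mem_fixW.2 ⟨(mem_normalizer_iff.1 (hW.normal hl) b).1 (hBW hb), ?_⟩
      show l * b * l⁻¹ * (l * v₀ * l⁻¹) = l * v₀ * l⁻¹ * (l * b * l⁻¹)
      calc l * b * l⁻¹ * (l * v₀ * l⁻¹) = l * (b * v₀) * l⁻¹ := by group
        _ = l * (v₀ * b) * l⁻¹ := by rw [mem_centralizer_iff.1 hv₀C b hb]
        _ = l * v₀ * l⁻¹ * (l * b * l⁻¹) := by group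
    rcases eq_of_card_hyperplane hr.1 (by rw [card_cj, hcardB]) hle inf_le_left with h | h
    · rw [h, card_cj, hcardB]
    · refine absurd (hWL (mem_centralizer_iff.2 fun x hx => ?_)) (invol_not_mem hL hv)
      rw [← h] at hx
      exact (mem_fixW.1 hx).2
  have hne : ∀ v, orderOf v = 2 → fixW W v ≠ W ∧ fixW W v ≠ ⊥ := fun v hv => by
    constructor <;> intro h <;> have h' := hfix v hv <;> rw [h] at h'
    · exact absurd h' (by
        intro e
        have := Nat.card_pos (α := W)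
        nlinarith [hr.1.two_le])
    · rw [card_bot, one_mul] at h'
      rw [← h'] at hnc
      nlinarith [hr.1.two_le]
  obtain ⟨v, w, hv, hw, hvw, hBvw⟩ := exists_commuting_pair hL hSE hW hne
  have hWc : ∀ a ∈ W, ∀ b ∈ W, Commute a b := fun a ha b hb => hW.comm a ha b hb
  set u := v * w with hu
  have hu2 : orderOf u = 2 := CfsgLib.Invol.orderOf_eq_two
    (by rw [hu, mul_assoc, ← mul_assoc w v, ← hvw.eq, mul_assoc, CfsgLib.Invol.mul_self_eq_one hw,
      mul_one, CfsgLib.Invol.mul_self_eq_one hv])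
    (fun h => hBvw (by rw [eq_inv_of_mul_eq_one_left h, CfsgLib.Invol.inv_eq_self hw]))
  have hwu : w = v * u := by rw [hu, ← mul_assoc, CfsgLib.Invol.mul_self_eq_one hv, one_mul]
  have hle_eq : ∀ a b, orderOf a = 2 → orderOf b = 2 → fixW W a ≤ fixW W b → fixW W a = fixW W b :=
    fun a b ha hb h => CfsgLib.Solvable.eq_of_le_of_card_le h
      (Nat.eq_of_mul_eq_mul_right hr.1.pos ((hfix b hb).trans (hfix a ha).symm)).le
  have hinf : fixW W u ⊓ fixW W v ≤ fixW W w := fun x hx => by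
    obtain ⟨h1, h2⟩ := mem_inf.1 hx
    exact mem_fixW.2 ⟨(mem_fixW.1 h1).1, by
      rw [hwu]; exact (Commute.mul_right (mem_fixW.1 h2).2 (mem_fixW.1 h1).2).eq⟩
  obtain ⟨b, hbu, hbv⟩ : ∃ b ∈ fixW W u, b ∉ fixW W v := by
    by_contra h
    push Not at h
    have h1 := hle_eq u v hu2 hv h
    exact hBvw (hle_eq v w hv hw ((le_inf h1.ge le_rfl).trans hinf))
  have hbW : b ∈ W := (mem_fixW.1 hbu).1
  have hbw : b ∉ fixW W w := fun h => hbv (mem_fixW.2 ⟨hbW, by
    have : v = u * w := by rw [hu, mul_assoc, CfsgLib.Invol.mul_self_eq_one hw, mul_one]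
    rw [this]; exact (Commute.mul_right (mem_fixW.1 hbu).2 (mem_fixW.1 h).2).eq⟩)
  have hgen : ∀ a, orderOf a = 2 → b ∉ fixW W a → fixW W a ⊔ zpowers b = W := fun a ha hba => by
    rcases eq_of_card_hyperplane hr.1 (hfix a ha) (le_sup_left : fixW W a ≤ fixW W a ⊔ zpowers b)
      (sup_le inf_le_left (zpowers_le.2 hbW)) with h | h
    · exact absurd (h.le (mem_sup_right (mem_zpowers b))) hba
    · exact h
  have hsupvw : fixW W v ⊔ fixW W w = W := by
    rcases eq_of_card_hyperplane hr.1 (hfix v hv) (le_sup_left : fixW W v ≤ fixW W v ⊔ fixW W w)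
      (sup_le inf_le_left inf_le_left) with h | h
    · exact absurd (hle_eq w v hw hv (sup_eq_left.1 h)).symm hBvw
    · exact h
  set x := v * b * v with hx
  have hxw : x = w * b * w := by
    have h1 : v * w * b = b * (v * w) := ((mem_fixW.1 hbu).2).symm
    calc x = v * (b * (v * w)) * w := by
          rw [hx]; simp only [mul_assoc, CfsgLib.Invol.mul_self_eq_one hw, mul_one]
      _ = v * (v * w * b) * w := by rw [h1]
      _ = w * b * w := by
          simp only [← mul_assoc, CfsgLib.Invol.mul_self_eq_one hv, one_mul]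
  have hcomm_x : ∀ (a : G), orderOf a = 2 → x = a * b * a → ∀ y ∈ fixW W a, Commute y x :=
    fun a ha hxa y hy => by
      rw [hxa]
      exact ((show Commute y a from (mem_fixW.1 hy).2).mul_right
        (hWc y (mem_fixW.1 hy).1 b hbW)).mul_right (mem_fixW.1 hy).2
  have hxL : x ∈ L := hWL (mem_centralizer_iff.2 fun y hy => by
    have hle : fixW W v ⊔ fixW W w ≤ centralizer ({x} : Set G) := sup_le
      (fun y hy => mem_centralizer_singleton_iff.2 (hcomm_x v hv hx y hy))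
      (fun y hy => mem_centralizer_singleton_iff.2 (hcomm_x w hw hxw y hy))
    exact mem_centralizer_singleton_iff.1 (hle (hsupvw.ge hy)))
  -- `v` carries `W` into `L`
  have hvW : ∀ y ∈ W, v * y * v ∈ L := by
    intro y hy
    have hle : fixW W v ⊔ zpowers b ≤ L.comap (MulAut.conj v).toMonoidHom := sup_le
      (fun z hz => by
        show v * z * v⁻¹ ∈ L
        rw [CfsgLib.Invol.inv_eq_self hv, conj_eq_self_of_fixW hv hz]
        exact minW_le hW (mem_fixW.1 hz).1)
      (zpowers_le.2 (by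
        show v * b * v⁻¹ ∈ L
        rwa [CfsgLib.Invol.inv_eq_self hv]))
    have h1 : v * y * v⁻¹ ∈ L := hle ((hgen v hv hbv).ge hy)
    rwa [CfsgLib.Invol.inv_eq_self hv] at h1
  -- a core on which the conjugate of `W` acts nontrivially
  obtain ⟨q, hq, hqn⟩ : ∃ q ∈ primesF L, ∃ y ∈ W,
      v * y * v ∉ centralizer (coreOf q L : Set G) := by
    by_contra hno
    push Not at hno
    refine invol_not_mem hL hv (mem_of_cj_minW_le hL Wf hWf hr hs hrs fun t ht => ?_)
    have hcjW : cj v W ≤ centralizer (coreOf t L : Set G) := by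
      rintro _ ⟨y, hy, rfl⟩
      simpa [CfsgLib.Invol.inv_eq_self hv] using hno t ht y hy
    have h1 : coreOf t L ≤ cj v L :=
      (le_centralizer_iff.1 hcjW).trans (centralizer_cj_le hWL)
    refine le_trans (map_mono ((hWf t ht).le_core.trans h1)) (le_of_eq ?_)
    rw [← cj, cj_cj, CfsgLib.Invol.mul_self_eq_one hv, cj_one]
  set C := centralizer (coreOf q L : Set G)
  have hWC : W ≤ C := le_centralizer_iff.1 (hW.central q hq.1)
  have hLC : L ≤ normalizer (C : Set G) :=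
    (le_normalizer_coreOf q L).trans (CfsgLib.CharP.normalizer_le_normalizer_centralizer' _)
  have hker : ∀ y ∈ W, v * y * v ∈ C → y ∈ fixW W v := by
    intro y hy hyC
    have hle : fixW W v ≤ W ⊓ C.comap (MulAut.conj v).toMonoidHom := le_inf inf_le_left fun z hz => by
      show v * z * v⁻¹ ∈ C
      rw [CfsgLib.Invol.inv_eq_self hv, conj_eq_self_of_fixW hv hz]
      exact hWC (mem_fixW.1 hz).1
    rcases eq_of_card_hyperplane hr.1 (hfix v hv) hle inf_le_left with h | h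
    · refine h.le ⟨hy, ?_⟩
      show v * y * v⁻¹ ∈ C
      rwa [CfsgLib.Invol.inv_eq_self hv]
    · obtain ⟨z, hz, hzn⟩ := hqn
      have h1 : v * z * v⁻¹ ∈ C := (mem_inf.1 (h.ge hz)).2
      rw [CfsgLib.Invol.inv_eq_self hv] at h1
      exact absurd h1 hzn
  have hxC : x ∉ C := fun h => hbv (hker b hbW h)
  -- the contradiction
  obtain ⟨c, hcv, hcw⟩ : ∃ c ∈ fixW W v, c ∉ fixW W w := by
    by_contra h
    push Not at h
    exact hBvw (hle_eq v w hv hw h)
  have hcW : c ∈ W := (mem_fixW.1 hcv).1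
  obtain ⟨j, hj⟩ : ∃ j : ℤ, b ^ j * c ∈ fixW W w := by
    have hn : zpowers b ≤ normalizer (fixW W w : Set G) := zpowers_le.2
      (mem_normalizer_iff.2 fun y => by
        constructor <;> intro hy
        · rwa [(hWc b hbW y (mem_fixW.1 hy).1).eq, mul_inv_cancel_right]
        · have hyW : y ∈ W := by
            simpa [mul_assoc] using mul_mem (mul_mem (inv_mem hbW) (mem_fixW.1 hy).1) hbW
          rwa [(hWc b hbW y hyW).eq, mul_inv_cancel_right] at hy)
    obtain ⟨p, ⟨i, rfl⟩, y, hy, h⟩ := (CfsgLib.Solvable.mem_sup_of_le_normalizer hn).1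
      (by rw [sup_comm, hgen w hw hbw]; exact hcW)
    refine ⟨-i, ?_⟩
    simpa [← h] using hy
  set y := w * c * w
  have hvy : v * y * v = y := by
    calc v * (w * c * w) * v = v * w * c * (w * v) := by group
      _ = w * v * c * (v * w) := by rw [hvw.eq]
      _ = w * (v * c * v) * w := by group
      _ = y := by rw [conj_eq_self_of_fixW hv hcv]
  have hvb : v * b ^ j * v = x ^ j := by
    have := (conj_zpow (i := j) (a := v) (b := b)).symm
    rwa [CfsgLib.Invol.inv_eq_self hv] at this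
  have hwb : w * b ^ j * w = x ^ j := by
    have := (conj_zpow (i := j) (a := w) (b := b)).symm
    rwa [CfsgLib.Invol.inv_eq_self hw, ← hxw] at this
  have h1 : x ^ j * y = b ^ j * c := by
    rw [← conj_eq_self_of_fixW hw hj, ← hwb]
    simp only [y, mul_assoc, mul_left_cancel_iff]
    rw [← mul_assoc w w, CfsgLib.Invol.mul_self_eq_one hw, one_mul]
  have h2 : b ^ j * y = x ^ j * c := by
    have hvv := CfsgLib.Invol.mul_self_eq_one hv
    calc b ^ j * y = (v * (v * b ^ j * v) * v) * (v * y * v) := by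
          rw [hvy]; simp only [mul_assoc, hvv, mul_one]; rw [← mul_assoc v v, hvv, one_mul]
      _ = v * (x ^ j * y) * v := by
          rw [hvb]; simp only [mul_assoc]; rw [← mul_assoc v v, hvv, one_mul]
      _ = (v * b ^ j * v) * (v * c * v) := by
          rw [h1]; simp only [mul_assoc]; rw [← mul_assoc v v, hvv, one_mul]
      _ = x ^ j * c := by rw [hvb, conj_eq_self_of_fixW hv hcv]
  have hbj : b ^ j ∈ C := hWC (zpow_mem hbW j)
  have hcC : c ∈ C := hWC hcW
  have h3 : x ^ j * (b ^ j)⁻¹ * x ^ j ∈ C := by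
    have : x ^ j * (b ^ j)⁻¹ * x ^ j = b ^ j * c * c⁻¹ := by
      rw [← h1, eq_inv_mul_of_mul_eq h2]; group
    rw [this]
    exact mul_mem (mul_mem hbj hcC) (inv_mem hcC)
  have h4 : x ^ (2 * j) ∈ C := by
    have hcn : x ^ j * (b ^ j)⁻¹ * (x ^ j)⁻¹ ∈ C :=
      (mem_normalizer_iff.1 (hLC (zpow_mem hxL j)) _).1 (inv_mem hbj)
    have : x ^ (2 * j) = (x ^ j * (b ^ j)⁻¹ * (x ^ j)⁻¹)⁻¹ * (x ^ j * (b ^ j)⁻¹ * x ^ j) := by
      rw [two_mul, zpow_add]; group
    rw [this]
    exact mul_mem (inv_mem hcn) h3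
  have hbr : b ^ (r : ℤ) = 1 := by rw [zpow_natCast]; exact hW.exp b hbW
  have hxr : x ^ (r : ℤ) = 1 := by
    have := (conj_zpow (i := (r : ℤ)) (a := v) (b := b))
    rwa [hbr, mul_one, mul_inv_cancel, CfsgLib.Invol.inv_eq_self hv] at this
  have hrj : ¬ (r : ℤ) ∣ j := by
    rintro ⟨k, rfl⟩
    rw [zpow_mul, hbr, one_zpow, one_mul] at hj
    exact hcw hj
  have hrp : Prime (r : ℤ) := Nat.prime_iff_prime_int.1 hr.1
  have hr2j : ¬ (r : ℤ) ∣ 2 * j := fun h => by
    rcases hrp.dvd_or_dvd h with h | h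
    · exact primesF_ne_two hL hr ((Nat.prime_dvd_prime_iff_eq hr.1 Nat.prime_two).1
        (Int.natCast_dvd_natCast.1 (by simpa using h)))
    · exact hrj h
  obtain ⟨a, d, had⟩ := (hrp.coprime_iff_not_dvd).2 hr2j
  refine hxC ?_
  rw [show x = (x ^ (r : ℤ)) ^ a * (x ^ (2 * j)) ^ d by
    rw [← zpow_mul, ← zpow_mul, ← zpow_add, mul_comm (r : ℤ), mul_comm (2 * j), had, zpow_one]]
  rw [hxr, one_zpow, one_mul]
  exact zpow_mem h4 d

/-- Conjugate back by `g⁻¹`. -/
theorem cj_inv_le {g : G} {P H : Subgroup G} (h : P ≤ cj g H) : cj g⁻¹ P ≤ H := by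
  refine le_trans (map_mono h) (le_of_eq ?_)
  rw [← cj, cj_cj, inv_mul_cancel, cj_one]

/-- Transfer when `W_r` is not of prime order. -/
theorem transfer_of_noncyclic (hL : Ctx L) (hSE : ∀ S : Subgroup G, ¬ Cfsg.IsStronglyEmbedded S)
    (Wf : ℕ → Subgroup G) (hWf : ∀ t ∈ primesF L, MinW t L (Wf t)) {r s : ℕ}
    (hr : r ∈ primesF L) (hs : s ∈ primesF L) (hrs : r ≠ s) (hnc : r ^ 2 ≤ Nat.card (Wf r))
    {g : G} (h1 : cj g (Wf r) ≤ L) (h2 : Wf r ≤ cj g L) : g ∈ L := by
  haveI := Fact.mk hr.1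
  have hW := hWf r hr
  set W := Wf r
  refine inv_mem_iff.1 (mem_of_cj_minW_le hL Wf hWf hr hs hrs fun t ht => ?_)
  rcases eq_or_ne t r with rfl | htr
  · exact cj_inv_le h2
  haveI := Fact.mk ht.1
  refine le_trans (map_mono (hWf t ht).le_core) ?_
  set T := cj g⁻¹ (coreOf t L)
  have hT : IsPGroup t T := isPGroup_cj (isPGroup_coreOf (r := t) L) g⁻¹
  have hWT : W ≤ normalizer (T : Set G) := by
    have := cj_le_normalizer (g := g⁻¹) (h1.trans (le_normalizer_coreOf t L))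
    rwa [cj_cj, inv_mul_cancel, cj_one] at this
  have hA : Cfsg.IsElementaryAbelian r W :=
    ⟨⟨⟨fun a b => Subtype.ext (hW.comm a a.2 b b.2)⟩⟩, hW.exp⟩
  have hTr : ¬ r ∣ Nat.card T := fun hd => hr.1.ne_one
    (Nat.eq_one_of_dvd_coprimes (coprime_card_prime ht.1 hr.1 htr hT) hd dvd_rfl)
  refine CfsgLib.Signalizer.le_of_forall_hyperplane hA hWT hTr fun B hBW hi => ?_
  set M := centralizer (B : Set G)
  have hMo : Odd (Nat.card M) := odd_centralizer_hyperplane hL hSE Wf hWf hr hs hrs hnc hBW hi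
  have hWM : ∀ t' ∈ primesF L, Wf t' ≤ M := fun t' ht' =>
    ((hWf t' ht').le_core.trans (hW.central t' ht'.1)).trans (centralizer_le hBW)
  have himg := image_minW_le_pCore hL Wf hWf hr hs hrs hMo hWM
  set σ : Set ℕ := {p | p ∉ primesF L}
  set N := Cfsg.piCore σ M
  set f := QuotientGroup.mk' N
  have hN : (Nat.card N).Coprime t :=
    Nat.coprime_comm.1 (ht.1.coprime_iff_not_dvd.2 fun hd =>
      (Cfsg.Agent.S3743.isPi_of_sup _ (fun M hM => hM.1) (fun M hM => hM.2) t ht.1 hd :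
        t ∈ σ) ht)
  haveI : (Cfsg.pCore r (M ⧸ N)).Normal := CfsgLib.Solvable.pCore_normal r
  intro q hq
  refine centralizer_minW_le hL hW (mem_centralizer_iff.2 fun w hw => ?_)
  have hwM : w ∈ M := hWM r hr hw
  obtain ⟨qM, rfl⟩ : ∃ x : M, (x : G) = q := ⟨⟨q, (mem_inf.1 hq).2⟩, rfl⟩
  have hc : w * (qM : G) * w⁻¹ * (qM : G)⁻¹ ∈ T ⊓ centralizer (B : Set G) := by
    refine mul_mem (mem_inf.2 ⟨(mem_normalizer_iff.1 (hWT hw) _).1 hq.1, ?_⟩) (inv_mem hq)
    exact mul_mem (mul_mem hwM hq.2) (inv_mem hwM)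
  have hf : f (⟨w, hwM⟩ * qM * (⟨w, hwM⟩ : M)⁻¹ * qM⁻¹) ∈
      Cfsg.pCore r (M ⧸ N) := by
    rw [map_mul, map_mul, map_mul, map_inv, map_inv, mul_assoc, mul_assoc]
    have hfw : f ⟨w, hwM⟩ ∈ Cfsg.pCore r (M ⧸ N) :=
      himg (mem_map_of_mem f (mem_subgroupOf.2 hw : (⟨w, hwM⟩ : M) ∈ W.subgroupOf M))
    refine mul_mem hfw ?_
    rw [← mul_assoc]
    exact Normal.conj_mem inferInstance _ (inv_mem hfw) _
  set c : M := ⟨w, hwM⟩ * qM * (⟨w, hwM⟩ : M)⁻¹ * qM⁻¹
  have hcT : (c : G) ∈ T := hc.1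
  have hco : (orderOf c).Coprime r := by
    rw [← orderOf_coe]
    exact (coprime_card_prime ht.1 hr.1 htr hT).coprime_dvd_left (T.orderOf_dvd_natCard hcT)
  have h3 : f c = 1 := CharP.eq_one_of_mem_pgroup (CfsgLib.Solvable.isPGroup_pCore r) hf
    (hco.coprime_dvd_left (orderOf_map_dvd f c))
  have h4 : c ∈ N := (QuotientGroup.eq_one_iff c).1 h3
  have h5 : (c : G) = 1 := CharP.eq_one_of_mem_pgroup hT hcT (by
    rw [orderOf_coe]; exact hN.coprime_dvd_left (N.orderOf_dvd_natCard h4))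
  exact mul_inv_eq_iff_eq_mul.1 (mul_inv_eq_one.1 h5)

/-- Transfer when all chosen minimal normal subgroups have prime order and `r` is the largest prime. -/
theorem transfer_of_cyclic (hL : Ctx L) (Wf : ℕ → Subgroup G)
    (hWf : ∀ t ∈ primesF L, MinW t L (Wf t)) (hcyc : ∀ t ∈ primesF L, Nat.card (Wf t) = t)
    {r s : ℕ} (hr : r ∈ primesF L) (hs : s ∈ primesF L) (hrs : r ≠ s)
    (hmax : ∀ t ∈ primesF L, t ≤ r)
    {g : G} (h1 : cj g (Wf r) ≤ L) (h2 : Wf r ≤ cj g L) : g ∈ L := by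
  refine inv_mem_iff.1 (mem_of_cj_minW_le hL Wf hWf hr hs hrs fun t ht => ?_)
  rcases eq_or_ne t r with rfl | htr
  · exact cj_inv_le h2
  have hlt : t < r := lt_of_le_of_ne (hmax t ht) htr
  refine cj_inv_le (le_trans ?_ (centralizer_cj_le (centralizer_minW_le hL (hWf r hr))))
  intro a ha
  refine mem_centralizer_iff.2 fun y hy => ?_
  have hyr : y ^ r = 1 := by
    obtain ⟨w, hw, rfl⟩ := hy
    rw [← map_pow, (hWf r hr).exp w hw, map_one]
  by_contra hne
  have hyn : ∀ i : ℕ, y ^ i * a * (y ^ i)⁻¹ ∈ Wf t := fun i =>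
    (mem_normalizer_iff.1 ((hWf t ht).normal (pow_mem (h1 hy) i)) a).1 ha
  have key : ∀ i j : Fin r, i < j →
      y ^ (i : ℕ) * a * (y ^ (i : ℕ))⁻¹ ≠ y ^ (j : ℕ) * a * (y ^ (j : ℕ))⁻¹ := by
    intro i j hij heq
    obtain ⟨d, hd⟩ := Nat.exists_eq_add_of_le (Fin.le_def.1 hij.le)
    have hd0 : d ≠ 0 := fun h => (Fin.lt_def.1 hij).ne (by omega)
    have hdr : d < r := by omega
    have hc : Commute (y ^ d) a := by
      rw [hd, pow_add, mul_inv_rev] at heq
      have : a = y ^ d * a * (y ^ d)⁻¹ := by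
        simpa [mul_assoc] using congrArg (fun x => (y ^ (i : ℕ))⁻¹ * x * y ^ (i : ℕ)) heq
      exact (mul_inv_eq_iff_eq_mul.1 this.symm)
    have hcop : d.Coprime (orderOf y) :=
      ((hr.1.coprime_iff_not_dvd.2 (Nat.not_dvd_of_pos_of_lt (Nat.pos_of_ne_zero hd0) hdr)).symm
        ).coprime_dvd_right (orderOf_dvd_of_pow_eq_one hyr)
    obtain ⟨m, hm⟩ := exists_pow_eq_self_of_coprime hcop
    exact hne (hm ▸ (hc.pow_left m)).eq
  have hinj : Function.Injective
      (fun i : Fin r => (⟨y ^ (i : ℕ) * a * (y ^ (i : ℕ))⁻¹, hyn i⟩ : Wf t)) := by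
    intro i j h
    rcases lt_trichotomy i j with h' | h' | h'
    · exact absurd (congrArg Subtype.val h) (key i j h')
    · exact h'
    · exact absurd (congrArg Subtype.val h).symm (key j i h')
  have := Nat.card_le_card_of_injective _ hinj
  rw [Nat.card_eq_fintype_card, Fintype.card_fin, hcyc t ht] at this
  omega

end CfsgLib.Bender.Multi

namespace CfsgLib.Bender

open Subgroup

universe u

variable {G : Type u} [Group G] [Finite G]

/-- **Bender, the case of two primes**: some minimal normal subgroup `W` of `L` controls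
transfer between `L` and its conjugates. -/
theorem exists_transfer {L : Subgroup G} (hc : Ctx L)
    (hSE : ∀ S : Subgroup G, ¬ Cfsg.IsStronglyEmbedded S)
    (_hnc : ∃ u v : G, orderOf u = 2 ∧ orderOf v = 2 ∧ u * v ≠ v * u) (_hpair : PairRank G)
    (htwo : ∃ p q : ℕ, p.Prime ∧ q.Prime ∧ p ≠ q ∧ coreOf p L ≠ ⊥ ∧ coreOf q L ≠ ⊥) :
    ∃ (r : ℕ) (W : Subgroup G), r.Prime ∧ Odd r ∧ MinW r L W ∧
      ∀ g : G, (∀ w ∈ W, g * w * g⁻¹ ∈ L) → (∀ w ∈ W, g⁻¹ * w * g ∈ L) → g ∈ L := by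
  obtain ⟨q₁, q₂, hp₁, hp₂, hne, h₁, h₂⟩ := htwo
  classical
  let Wf : ℕ → Subgroup G := fun t =>
    if h : ∃ W, MinW t L W then h.choose else ⊥
  have hWf : ∀ t ∈ Multi.primesF L, MinW t L (Wf t) := fun t ht => by
    haveI := Fact.mk ht.1
    have h := exists_minW (Multi.ctx_solvable hc le_rfl) ht.2
    simp only [Wf, dif_pos h]
    exact h.choose_spec
  have hother : ∀ r, ∃ s ∈ Multi.primesF L, r ≠ s := fun r => by
    by_cases h : r = q₁
    · exact ⟨q₂, ⟨hp₂, h₂⟩, h ▸ hne⟩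
    · exact ⟨q₁, ⟨hp₁, h₁⟩, h⟩
  have hodd : ∀ r ∈ Multi.primesF L, Odd r := fun r hr =>
    hr.1.odd_of_ne_two (Multi.primesF_ne_two hc hr)
  by_cases hnc : ∃ r ∈ Multi.primesF L, r ^ 2 ≤ Nat.card (Wf r)
  · obtain ⟨r, hr, hnc⟩ := hnc
    obtain ⟨s, hs, hrs⟩ := hother r
    exact ⟨r, Wf r, hr.1, hodd r hr, hWf r hr, fun g hg hg' =>
      Multi.transfer_of_noncyclic hc hSE Wf hWf hr hs hrs hnc (map_le_iff_le_comap.2 hg)
        fun w hw => Multi.mem_cj.2 (hg' w hw)⟩
  · push Not at hnc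
    have hcyc : ∀ t ∈ Multi.primesF L, Nat.card (Wf t) = t := fun t ht => by
      haveI := Fact.mk ht.1
      obtain ⟨k, hk⟩ := IsPGroup.iff_card.1 (Multi.minW_isPGroup (hWf t ht))
      have hlt := hnc t ht
      rw [hk, Nat.pow_lt_pow_iff_right ht.1.one_lt] at hlt
      rcases k with _ | _ | k
      · exact absurd (eq_bot_of_card_eq _ (by rw [hk, pow_zero])) (hWf t ht).ne_bot
      · rw [hk, zero_add, pow_one]
      · omega
    obtain ⟨r, hr, hmax⟩ := Set.exists_max_image (Multi.primesF L) id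
      ((Set.finite_le_nat (Nat.card G)).subset fun t ht => by
        haveI := Fact.mk ht.1
        obtain ⟨k, hk⟩ := IsPGroup.iff_card.1 (isPGroup_coreOf (r := t) L)
        have hk0 : k ≠ 0 := fun e => ht.2 (eq_bot_of_card_eq _ (by rw [hk, e, pow_zero]))
        exact Nat.le_of_dvd Nat.card_pos
          ((hk ▸ dvd_pow_self t hk0).trans (card_subgroup_dvd_card _)))
      ⟨q₁, hp₁, h₁⟩
    obtain ⟨s, hs, hrs⟩ := hother r
    exact ⟨r, Wf r, hr.1, hodd r hr, hWf r hr, fun g hg hg' =>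
      Multi.transfer_of_cyclic hc Wf hWf hcyc hr hs hrs hmax (map_le_iff_le_comap.2 hg)
        fun w hw => Multi.mem_cj.2 (hg' w hw)⟩

end CfsgLib.Bender
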