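import Cfsg.Agent.Bender.Defs
import Cfsg.Agent.Invol.StrongEmbedded
import Cfsg.Agent.Invol.IsolatedApps
import Cfsg.Prelude.Def_CaseTheorems

/-!
Bender's theorem: groups without commuting pairs of involutions.
-/

set_option autoImplicit false
set_option linter.style.haveILetI false

namespace CfsgLib.Bender

open Subgroup

variable {G : Type*} [Group G] [Finite G] {H : Subgroup G}

/-- Without commuting involutions every Sylow 2-subgroup is cyclic or generalized quaternion and
`G = O(G) H`. -/
theorem rankOne_branch (hH : Cfsg.IsStronglyEmbedded H) (hp : ¬ PairRank G) :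
    (∀ S : Sylow 2 G, IsCyclic S ∨
        ∃ m : ℕ, 1 ≤ m ∧ Nonempty ((S : Subgroup G) ≃* QuaternionGroup (2 ^ m))) ∧
      Cfsg.oddCore G ⊔ H = ⊤ := by
  haveI : Fact (Nat.Prime 2) := ⟨Nat.prime_two⟩
  have heq : ∀ u v : G, orderOf u = 2 → orderOf v = 2 → Commute u v → u = v := fun u v hu hv hc =>
    by_contra fun hne => hp ⟨u, v, hu, hv, hne, hc⟩
  refine ⟨fun S => ?_, ?_⟩
  · refine (UniqueInvol.cyclic_or_quaternion S.isPGroup' fun x y hx hy => ?_).imp_right And.right
    haveI : Nontrivial (S : Subgroup G) := ⟨⟨x, 1, Invol.ne_one hx⟩⟩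
    haveI := S.isPGroup'.center_nontrivial
    obtain ⟨k, hk, hk'⟩ :=
      ((S.isPGroup'.to_subgroup (center (S : Subgroup G))).nontrivial_iff_card).1 inferInstance
    obtain ⟨z, hz⟩ := exists_prime_orderOf_dvd_card' (G := center (S : Subgroup G)) 2
      (hk' ▸ dvd_pow_self 2 hk.ne')
    rw [← Subgroup.orderOf_coe] at hz
    have hall : ∀ w : (S : Subgroup G), orderOf w = 2 → w = z := fun w hw => Subtype.ext
      (heq _ _ (by rw [Subgroup.orderOf_coe, hw]) (by rw [Subgroup.orderOf_coe, hz])
        (congrArg Subtype.val (mem_center_iff.1 z.2 w)))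
    rw [hall x hx, hall y hy]
    exact mem_zpowers _
  · obtain ⟨t, ht, ht2⟩ := StrongEmbed.exists_invol hH
    have hiso := ZStar.isolated_of_commuting heq ht2
    refine eq_top_iff.2 fun g _ => ?_
    obtain ⟨o, ho, c, hc, rfl⟩ := IsoApps.exists_mul hiso g
    exact mul_mem_sup ho (StrongEmbed.mem_of_commute hH ht ht2 (mem_centralizer_singleton_iff.1 hc))

end CfsgLib.Bender
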