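import Cfsg.Agent.Bender.GSide
import Cfsg.Agent.LocalB.OddSignalizer
import Cfsg.Prelude.Def_CaseTheorems

/-!
Bender's theorem: the passage from `G` to `H/O(H)`.
-/

set_option autoImplicit false
set_option linter.unusedSectionVars false
set_option linter.style.haveILetI false

namespace CfsgLib.Bender

open Subgroup

variable {G : Type*} [Group G] [Finite G] {H : Subgroup G} {r : ℕ}

/-- An involution of the quotient by the odd core lifts to an involution. -/
theorem exists_lift_invol {K : Type*} [Group K] [Finite K] {x : K ⧸ Cfsg.oddCore K}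
    (hx : orderOf x = 2) : ∃ h : K, orderOf h = 2 ∧ QuotientGroup.mk' (Cfsg.oddCore K) h = x := by
  obtain ⟨h, rfl⟩ := QuotientGroup.mk'_surjective _ x
  have h0 : QuotientGroup.mk' (Cfsg.oddCore K) h ^ 2 = 1 := by
    rw [sq]; exact Invol.mul_self_eq_one hx
  have hsq : h ^ 2 ∈ Cfsg.oddCore K := by
    refine (QuotientGroup.eq_one_iff _).1 ?_
    show QuotientGroup.mk' (Cfsg.oddCore K) (h ^ 2) = 1
    rw [map_pow, h0]
  obtain ⟨m, hm⟩ := IsoApps.odd_of_mem_oddCore hsq
  have h2 : QuotientGroup.mk' (Cfsg.oddCore K) (h ^ (2 * m + 1)) = QuotientGroup.mk' _ h := by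
    rw [map_pow, pow_succ, pow_mul, h0, one_pow, one_mul]
  refine ⟨h ^ (2 * m + 1), Invol.orderOf_eq_two ?_ fun h1 => Invol.ne_one hx ?_, h2⟩
  · rw [← pow_add, ← two_mul, pow_mul, ← hm, pow_orderOf_eq_one]
  · rw [← h2, h1, map_one]

/-- Reduction to `X = H/O(H)`. -/
theorem quotient_setup (hH : Cfsg.IsStronglyEmbedded H) (hp : PairRank G) :
    PairRank (↥H ⧸ Cfsg.oddCore ↥H) ∧
      (∃ D : Subgroup (↥H ⧸ Cfsg.oddCore ↥H), IsTransOdd ⊤ D) ∧
      Cfsg.oddCore (↥H ⧸ Cfsg.oddCore ↥H) = ⊥ ∧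
      Nat.card (↥H ⧸ Cfsg.oddCore ↥H) < Nat.card G := by
  set π := QuotientGroup.mk' (Cfsg.oddCore ↥H) with hπ
  set o : G ⧸ H := QuotientGroup.mk 1
  have hne1 : ∀ t : H, orderOf t = 2 → π t ≠ 1 := fun t ht h => by
    have := IsoApps.odd_of_mem_oddCore ((QuotientGroup.eq_one_iff t).1 h)
    rw [ht] at this
    exact absurd this (by decide)
  refine ⟨?_, ?_, LocalB.oddCore_quotient, ?_⟩
  · obtain ⟨u, v, hu, hv, hne, hc⟩ := hp
    obtain ⟨e, hue⟩ := StrongEmbed.exists_fix hH hu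
    have hve : v • e = e :=
      StrongEmbed.fix_unique hH hu (by rw [smul_smul, hc.eq, mul_smul, hue]) hue
    obtain ⟨g, hg⟩ := MulAction.exists_smul_eq G e o
    have hmem : ∀ w : G, w • e = e → g * w * g⁻¹ ∈ H := fun w hw => by
      refine StrongEmbed.smul_mk_one_iff.1 ?_
      rw [mul_smul, mul_smul, inv_smul_eq_iff.2 hg.symm, hw, hg]
    set u' : H := ⟨_, hmem u hue⟩
    set v' : H := ⟨_, hmem v hve⟩
    have hu' : orderOf u' = 2 := by rw [← Subgroup.orderOf_coe, Invol.orderOf_conj_eq, hu]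
    have hv' : orderOf v' = 2 := by rw [← Subgroup.orderOf_coe, Invol.orderOf_conj_eq, hv]
    have hc' : Commute u' v' := Subtype.ext (by
      show g * u * g⁻¹ * (g * v * g⁻¹) = g * v * g⁻¹ * (g * u * g⁻¹)
      rw [conj_mul, conj_mul, hc.eq])
    have hord : ∀ t : H, orderOf t = 2 → orderOf (π t) = 2 := fun t ht =>
      Invol.orderOf_eq_two (by rw [← map_mul, Invol.mul_self_eq_one ht, map_one]) (hne1 t ht)
    refine ⟨π u', π v', hord u' hu', hord v' hv', fun h => hne1 (u' * v') ?_ ?_, hc'.map π⟩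
    · refine Invol.orderOf_eq_two ?_ fun h1 => hne ?_
      · rw [hc'.symm.mul_mul_mul_comm, Invol.mul_self_eq_one hu', Invol.mul_self_eq_one hv', one_mul]
      · have h2 : u' = v' := by rw [eq_inv_of_mul_eq_one_left h1, Invol.inv_eq_self hv']
        exact mul_left_cancel (mul_right_cancel (congrArg Subtype.val h2))
    · rw [map_mul, h, ← map_mul, Invol.mul_self_eq_one hv', map_one]
  · obtain ⟨g, hg⟩ : ∃ g : G, g ∉ H := by
      by_contra h
      push Not at h
      exact hH.1 (eq_top_iff.2 fun x _ => h x)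
    have hgo : (QuotientGroup.mk 1 : G ⧸ H) ≠ QuotientGroup.mk g := fun h =>
      hg (by simpa using QuotientGroup.eq.1 h)
    obtain ⟨hle, hodd, htr⟩ := GSide.transOdd_pair hH hgo
    rw [GSide.st_one] at hle hodd htr
    set D := H ⊓ GSide.st (QuotientGroup.mk g : G ⧸ H)
    refine ⟨(D.subgroupOf H).map π, le_top, ?_, fun s t _ hs _ ht => ?_⟩
    · refine hodd.of_dvd_nat ((card_map_dvd _ π).trans ?_)
      rw [Nat.card_congr (subgroupOfEquivOfLe hle).toEquiv]
    obtain ⟨s', hs', rfl⟩ := exists_lift_invol hs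
    obtain ⟨t', ht', rfl⟩ := exists_lift_invol ht
    obtain ⟨d, hd, he⟩ := htr s' t' s'.2 (by rw [Subgroup.orderOf_coe, hs']) t'.2
      (by rw [Subgroup.orderOf_coe, ht'])
    refine ⟨π ⟨d, hle hd⟩, ⟨_, hd, rfl⟩, ?_⟩
    rw [← map_inv, ← map_mul, ← map_mul]
    exact congrArg π (Subtype.ext he)
  · exact (Nat.le_of_dvd Nat.card_pos (card_quotient_dvd_card _)).trans_lt
      (Solvable.card_lt_of_ne_top hH.1)

/-- A prime dividing the number of involutions of `H/O(H)` without real elements is good. -/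
theorem goodPrime_of_realFree (_hH : Cfsg.IsStronglyEmbedded H) (hr : r.Prime) (hodd : Odd r)
    (hdvd : r ∣ Nat.card {t : ↥H ⧸ Cfsg.oddCore ↥H // orderOf t = 2})
    (hfree : RealFree r (↥H ⧸ Cfsg.oddCore ↥H)) : GoodPrime r H := by
  haveI : Fact r.Prime := ⟨hr⟩
  refine ⟨hr, hodd, fun D Y Y' v hD hYD _ hrel hYY' hY'H hY'p hv hv2 hvY' => ?_⟩
  set π := QuotientGroup.mk' (Cfsg.oddCore ↥H) with hπ
  set v' : H := ⟨v, hv⟩
  have hv' : orderOf v' = 2 := by rw [← Subgroup.orderOf_coe, hv2]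
  have hvb : orderOf (π v') = 2 := by
    refine Invol.orderOf_eq_two (by rw [← map_mul, Invol.mul_self_eq_one hv', map_one]) fun h => ?_
    have := IsoApps.odd_of_mem_oddCore ((QuotientGroup.eq_one_iff v').1 h)
    rw [hv'] at this
    exact absurd this (by decide)
  let f : D →* ↥H ⧸ Cfsg.oddCore ↥H := π.comp (inclusion hD.1)
  set C := centralizer ({π v'} : Set (↥H ⧸ Cfsg.oddCore ↥H)) with hC
  have hYC : Y.subgroupOf D ≤ C.comap f := by
    intro y hy
    have hyY' : (y : G) ∈ Y' := hYY' hy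
    set y' : H := inclusion hD.1 y
    have hc : v * y * v⁻¹ * (y : G)⁻¹ ∈ Y' :=
      mul_mem ((mem_normalizer_iff.1 hvY' _).1 hyY') (inv_mem hyY')
    obtain ⟨k, hk⟩ := hY'p ⟨_, hc⟩
    have hck : (v * y * v⁻¹ * (y : G)⁻¹) ^ r ^ k = 1 := congrArg Subtype.val hk
    set c : H := v' * y' * v'⁻¹ * y'⁻¹ with hcdef
    have hck' : (π c) ^ r ^ k = 1 := by
      rw [← map_pow, show c ^ r ^ k = 1 from Subtype.ext hck, map_one]
    have hone := hfree (π v') (π c) hvb ⟨k, hck'⟩ (by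
      have hi := Invol.inv_eq_self hv'
      have e : v' * c * v'⁻¹ = c⁻¹ := by
        rw [hcdef]
        simp only [mul_inv_rev, inv_inv, hi, mul_assoc]
        rw [← mul_assoc v' v', Invol.mul_self_eq_one hv', one_mul]
      rw [← map_inv, ← map_mul, ← map_mul, e, map_inv])
    show π y' ∈ C
    refine mem_centralizer_singleton_iff.2 ?_
    rw [hcdef, map_mul, map_mul, map_mul, map_inv, map_inv, mul_inv_eq_one,
      mul_inv_eq_iff_eq_mul] at hone
    exact hone.symm
  have horb := GSide.card_orbit_mul f.range (π v') (fun x => orderOf x = 2) fun x => ⟨fun hx => by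
    obtain ⟨t, ht, rfl⟩ := exists_lift_invol hx
    obtain ⟨d, hd, he⟩ := hD.2.2 v t hv hv2 t.2 (by rw [Subgroup.orderOf_coe, ht])
    refine ⟨f ⟨d, hd⟩, ⟨_, rfl⟩, ?_⟩
    show π _ * π v' * (π _)⁻¹ = π t
    rw [← map_inv, ← map_mul, ← map_mul]
    exact congrArg π (Subtype.ext he), by
    rintro ⟨k, -, rfl⟩
    rw [Invol.orderOf_conj_eq, hvb]⟩
  have hcard := FusionLift.card_eq_relIndex_mul C f.range
  rw [hcard, mul_comm] at horb
  have hI : Nat.card {t : ↥H ⧸ Cfsg.oddCore ↥H // orderOf t = 2} = C.relIndex f.range :=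
    Nat.eq_of_mul_eq_mul_left Nat.card_pos horb
  rw [hI, ← index_comap] at hdvd
  exact hrel (hdvd.trans (index_dvd_of_le hYC))

end CfsgLib.Bender
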