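import Cfsg.Agent.Bender.SingleBase
import Cfsg.Agent.Solvable.Fitting
import Cfsg.Agent.OddEnd.FourteenFinal

/-!
Bender's theorem, the case of one prime: no largest `r`-subgroup acted on nontrivially by a
2-element exists when all other cores of `L` are trivial.
-/

set_option autoImplicit false
set_option linter.style.haveILetI false
set_option linter.unusedSectionVars false

namespace CfsgLib.Bender

open Subgroup CfsgLib.Functor
open scoped CfsgLib.Functor commutatorElement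

universe u

variable {G : Type u} [Group G] [Finite G] {r : ℕ} [Fact r.Prime] {L W : Subgroup G}

/-- The order of the largest elementary abelian subgroups. -/
noncomputable def rankE (r : ℕ) (P : Subgroup G) : ℕ :=
  Nat.card ↥(Classical.choose (Thompson.exists_maxIn (p := r) P))

theorem card_eq_rankE {P A : Subgroup G} (hA : A ∈ Thompson.maxIn r P) :
    Nat.card A = rankE r P := by
  have hB := Classical.choose_spec (Thompson.exists_maxIn (p := r) P)
  exact le_antisymm (hB.2.2 A hA.1 hA.2.1) (hA.2.2 _ hB.1 hB.2.1)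

theorem mem_maxIn_of_card {P A : Subgroup G} (hAP : A ≤ P)
    (hA : Cfsg.IsElementaryAbelian r A) (hc : rankE r P ≤ Nat.card A) : A ∈ Thompson.maxIn r P :=
  ⟨hAP, hA, fun B hB hB' => by
    have h := Classical.choose_spec (Thompson.exists_maxIn (p := r) P)
    exact (h.2.2 B hB hB').trans hc⟩

theorem le_rankE {P A : Subgroup G} (hAP : A ≤ P) (hA : Cfsg.IsElementaryAbelian r A) :
    Nat.card A ≤ rankE r P :=
  (Classical.choose_spec (Thompson.exists_maxIn (p := r) P)).2.2 A hAP hA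

/-- Every intersection of two conjugates of `L` exchanged by an involution contains the
corresponding conjugates of `W`, and an `r`-subgroup as large as `Y`. -/
theorem One.edge (h : One r L W) {Y : Subgroup G} (hY : MaxReal r Y) (g : G) {z : G}
    (hz : orderOf z = 2) :
    g ⋆ W ≤ g ⋆ L ⊓ z ⋆ (g ⋆ L) ∧
      ∃ Q : Subgroup G, IsPGroup r Q ∧ Q ≤ g ⋆ L ⊓ z ⋆ (g ⋆ L) ∧ Nat.card Q = Nat.card Y := by
  obtain ⟨s, hs, hs2⟩ := h.invol Y hY
  obtain ⟨k, hk⟩ := h.exists_point hY.1.1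
  have hWY := h.good_of_maxReal hY k hk
  have hYs : Y ≤ s ⋆ (k ⋆ L) := (mem_normalizer_iff_cj.1 hs).ge.trans (cj_mono s hk)
  have hord : ∀ (x v : G), orderOf v = 2 → orderOf (x⁻¹ * v * x) = 2 := fun x v hv => by
    rw [show x⁻¹ * v * x = MulAut.conj x⁻¹ v by simp, MulEquiv.orderOf_eq, hv]
  obtain ⟨l, hl, hls⟩ := h.ctx.trans (k⁻¹ * s * k) (g⁻¹ * z * g) (hord k s hs2) (hord g z hz)
  set c := g * l * k⁻¹ with hc
  have e1 : c ⋆ (k ⋆ L) = g ⋆ L := by
    rw [cj_cj, show c * k = g * l by rw [hc]; group, ← cj_cj, cj_eq_self_of_mem hl]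
  have e2 : c ⋆ (s ⋆ (k ⋆ L)) = z ⋆ (g ⋆ L) := by
    have : c * s * k = z * g * l := by
      rw [hc]
      calc g * l * k⁻¹ * s * k = g * (l * (k⁻¹ * s * k) * l⁻¹) * l := by group
        _ = z * g * l := by rw [hls]; group
    rw [cj_cj, cj_cj, this, ← cj_cj (z * g) l, cj_eq_self_of_mem hl, ← cj_cj]
  have e3 : c ⋆ (k ⋆ W) = g ⋆ W := by
    rw [cj_cj, show c * k = g * l by rw [hc]; group, ← cj_cj,
      mem_normalizer_iff_cj.1 (h.minW.normal hl)]
  refine ⟨e3 ▸ le_inf ((cj_mono c (hWY.trans hk)).trans e1.le)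
    ((cj_mono c (hWY.trans hYs)).trans e2.le), c ⋆ Y, isPGroup_cj c hY.1.1,
    le_inf ((cj_mono c hk).trans e1.le) ((cj_mono c hYs).trans e2.le), card_cj c Y⟩

/-- An `r`-subgroup normalized by an involution grows inside a conjugate of `L` to a largest
real subgroup. -/
theorem One.grow (h : One r L W) {Y : Subgroup G} (hY : MaxReal r Y) {H : Subgroup G}
    (hH : IsPGroup r H) {z : G} (hzH : z ∈ normalizer (H : Set G)) (hz : orderOf z = 2) {g : G}
    (hHg : H ≤ g ⋆ L) : ∃ P, H ≤ P ∧ MaxReal r P ∧ P ≤ g ⋆ L := by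
  classical
  set M := g ⋆ L with hM
  set D := M ⊓ z ⋆ M with hD
  have hHD : H ≤ D := le_inf hHg ((mem_normalizer_iff_cj.1 hzH).ge.trans (cj_mono z hHg))
  have hDodd : Odd (Nat.card D) := (h.odd_cj g).of_dvd_nat (card_dvd_of_le inf_le_left)
  obtain ⟨K, ⟨hKp, hHK, hKD, z', hz'K, hz', hz'M⟩, hmax⟩ := Set.exists_max_image
    {K : Subgroup G | IsPGroup r K ∧ H ≤ K ∧ K ≤ D ∧
      ∃ z', z' ∈ normalizer (K : Set G) ∧ orderOf z' = 2 ∧ z' ⋆ M = z ⋆ M}
    (fun K => Nat.card K) (Set.toFinite _) ⟨H, hH, le_rfl, hHD, z, hzH, hz, rfl⟩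
  have hzz : z' * z' = 1 := by rw [← pow_two, ← hz', pow_orderOf_eq_one]
  have hz'D : z' ⋆ D = D := by
    have e : z' ⋆ (z' ⋆ M) = M := by rw [cj_cj z' z' M, hzz, cj_one]
    rw [hD, ← hz'M, cj_inf, e, inf_comm]
  set E := D ⊓ normalizer (K : Set G) with hE
  have hz'E : z' ∈ normalizer (E : Set G) := by
    rw [mem_normalizer_iff_cj, hE, cj_inf, hz'D, cj_normalizer, mem_normalizer_iff_cj.1 hz'K]
  have hEodd : Odd (Nat.card E) := hDodd.of_dvd_nat (card_dvd_of_le inf_le_left)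
  obtain ⟨T, hT, hKT⟩ := exists_sylowIn_ge hKp (show K ≤ E from le_inf hKD le_normalizer)
  obtain ⟨d, hd, hd2, hdT⟩ := frat_invol hEodd hz'E (by rw [hzz]; exact one_mem _)
    (not_mem_of_odd hz' hEodd) hT
  have hTK : K = T := eq_of_le_of_card_le' hKT (hmax T ⟨hT.2.1, hHK.trans hKT,
    hT.1.trans inf_le_left, z' * d, hdT, hd2, by rw [← cj_cj, cj_eq_self_of_mem hd.1.1, hz'M]⟩)
  obtain ⟨P, hP, hKP⟩ := exists_sylowIn_ge hKp hKD
  have hPK : K = P := by
    by_contra hne
    have hlt := lt_inf_normalizer hP.2.1 (lt_of_le_of_ne hKP hne)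
    have hle : P ⊓ normalizer (K : Set G) ≤ E := inf_le_inf_right _ hP.1
    exact hlt.ne ((hTK ▸ hT).eq_of_le (hP.2.1.to_le inf_le_left) hle hlt.le)
  have hKsyl : IsSylowIn r K D := hPK.symm ▸ hP
  obtain ⟨hWD, Q, hQ, hQD, hQY⟩ := h.edge hY g hz
  obtain ⟨n, hn, hnW⟩ := hKsyl.exists_cj_le (isPGroup_cj g h.isPGroup_W) hWD
  rw [mem_normalizer_iff_cj.1 (h.le_normalizer_cj g hn.1)] at hnW
  have hreal : RealSub r K := by
    refine ⟨hKp, z', hz'K, ⟨1, by rw [pow_one, pow_two, hzz]⟩, ?_⟩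
    by_contra hcon
    push Not at hcon
    refine not_mem_of_odd hz' (h.odd_cj g) (h.centralizer_cj_le g ?_)
    exact mem_centralizer_iff.2 fun w hw => (mul_inv_eq_iff_eq_mul.1 (hcon w (hnW hw))).symm
  exact ⟨K, hHK, ⟨hreal, fun Y' hY' =>
    (hY.2 Y' hY').trans (hQY ▸ hKsyl.card_le hQ hQD)⟩, hKD.trans inf_le_left⟩

/-- A largest real subgroup with as large as possible elementary abelian subgroups and Thompson
subgroup. -/
structure Best (r : ℕ) (Y : Subgroup G) : Prop where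
  max : MaxReal r Y
  rank : ∀ P : Subgroup G, MaxReal r P → rankE r P ≤ rankE r Y
  size : ∀ P : Subgroup G, MaxReal r P → rankE r P = rankE r Y →
    Nat.card ↥(Cfsg.thompsonSubgroupOf r P) ≤ Nat.card ↥(Cfsg.thompsonSubgroupOf r Y)

theorem exists_best {Y : Subgroup G} (hY : MaxReal r Y) : ∃ Z : Subgroup G, Best r Z := by
  obtain ⟨P, hP, hPmax⟩ := Set.exists_max_image {P : Subgroup G | MaxReal r P}
    (fun P => rankE r P) (Set.toFinite _) ⟨Y, hY⟩
  obtain ⟨Z, ⟨hZ, hZr⟩, hZmax⟩ := Set.exists_max_image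
    {Z : Subgroup G | MaxReal r Z ∧ rankE r Z = rankE r P}
    (fun Z => Nat.card ↥(Cfsg.thompsonSubgroupOf r Z)) (Set.toFinite _) ⟨P, hP, rfl⟩
  exact ⟨Z, hZ, fun Q hQ => hZr ▸ hPmax Q hQ, fun Q hQ hr => hZmax Q ⟨hQ, hr.trans hZr⟩⟩

theorem le_thompsonOf {P A : Subgroup G} (hA : A ∈ Thompson.maxIn r P) :
    A ≤ Cfsg.thompsonSubgroupOf r P := by
  rw [Thompson.thompsonSubgroupOf_eq]; exact le_sSup hA

theorem Best.maxIn_mono {Y P : Subgroup G} (b : Best r Y) (hP : MaxReal r P)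
    (hJP : Cfsg.thompsonSubgroupOf r Y ≤ P) :
    rankE r P = rankE r Y ∧ Cfsg.thompsonSubgroupOf r P = Cfsg.thompsonSubgroupOf r Y := by
  obtain ⟨A, hA⟩ := Thompson.exists_maxIn (p := r) Y
  have hrk : rankE r P = rankE r Y := le_antisymm (b.rank P hP)
    (card_eq_rankE hA ▸ le_rankE ((le_thompsonOf hA).trans hJP) hA.2.1)
  refine ⟨hrk, (eq_of_le_of_card_le' ?_ (b.size P hP hrk)).symm⟩
  rw [Thompson.thompsonSubgroupOf_eq Y]
  exact sSup_le fun B hB => le_thompsonOf (mem_maxIn_of_card ((le_thompsonOf hB).trans hJP)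
    hB.2.1 (hrk.trans_le (card_eq_rankE hB).ge))

/-- The subgroups above the Thompson subgroup with a normalizer of even order. -/
theorem One.above (h : One r L W) {Y : Subgroup G} (b : Best r Y) {H : Subgroup G}
    (hH : IsPGroup r H) (hJH : Cfsg.thompsonSubgroupOf r Y ≤ H) {z : G}
    (hzH : z ∈ normalizer (H : Set G)) (hz : orderOf z = 2) :
    Good L W H ∧ span L W H ≤ Cfsg.thompsonSubgroupOf r Y ∧
      Cfsg.thompsonSubgroupOf r H = Cfsg.thompsonSubgroupOf r Y ∧ rankE r H = rankE r Y := by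
  have key : ∀ g, H ≤ g ⋆ L → ∃ P, H ≤ P ∧ MaxReal r P ∧ P ≤ g ⋆ L := fun g hg =>
    h.grow b.max hH hzH hz hg
  have hle : ∀ g, H ≤ g ⋆ L → g ⋆ W ≤ Cfsg.thompsonSubgroupOf r Y := fun g hg => by
    obtain ⟨P, hHP, hP, hPg⟩ := key g hg
    obtain ⟨A, hA⟩ := Thompson.exists_maxIn (p := r) P
    exact ((cj_le_span hPg).trans ((h.span_le_maxIn (h.good_of_maxReal hP) hA).trans
      (le_thompsonOf hA))).trans (b.maxIn_mono hP (hJH.trans hHP)).2.le
  obtain ⟨g, hg⟩ := h.exists_point hH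
  obtain ⟨P, hHP, hP, -⟩ := key g hg
  obtain ⟨hrk, hJ⟩ := b.maxIn_mono hP (hJH.trans hHP)
  obtain ⟨A, hA⟩ := Thompson.exists_maxIn (p := r) Y
  obtain ⟨B, hB⟩ := Thompson.exists_maxIn (p := r) H
  have hrH : rankE r H = rankE r Y := le_antisymm
    (by rw [← card_eq_rankE hB, ← hrk]; exact le_rankE (hB.1.trans hHP) hB.2.1)
    (card_eq_rankE hA ▸ le_rankE ((le_thompsonOf hA).trans hJH) hA.2.1)
  refine ⟨fun g hg => (hle g hg).trans hJH, iSup₂_le hle, le_antisymm ?_ ?_, hrH⟩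
  · rw [← hJ, Thompson.thompsonSubgroupOf_eq H]
    exact sSup_le fun C hC => le_thompsonOf
      (mem_maxIn_of_card (hC.1.trans hHP) hC.2.1 (by rw [hrk, ← hrH, card_eq_rankE hC]))
  · rw [Thompson.thompsonSubgroupOf_eq Y]
    exact sSup_le fun C hC => le_thompsonOf
      (mem_maxIn_of_card ((le_thompsonOf hC).trans hJH) hC.2.1 (by rw [hrH, card_eq_rankE hC]))

/-- A subgroup between `H` and its normalizer cannot enlarge `H`. -/
theorem sylow_of_max {J A H : Subgroup G} (hA : IsPGroup r A) (hH : IsPGroup r H) (hJH : J ≤ H)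
    (hAH : A ≤ normalizer (H : Set G))
    (hmax : ∀ P : Subgroup G, IsPGroup r P → J ≤ P → A ≤ normalizer (P : Set G) →
      ∀ i ∈ normalizer (P : Set G), orderOf i = 2 → Nat.card P ≤ Nat.card H)
    {D : Subgroup G} (hHD : H ≤ D) (hD : Odd (Nat.card D)) (hAD : A ≤ normalizer (D : Set G))
    {t : G} (ht : t ∈ normalizer (D : Set G)) (htD : t ∉ D) (ht2 : t * t ∈ D) :
    IsSylowIn r H D := by
  have hAHp : IsPGroup r ↥(A ⊔ H) := hA.to_sup_of_normal_right' hH hAH
  obtain ⟨Q, hQ, hle⟩ := exists_sylowIn_ge hAHp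
    (show A ⊔ H ≤ D ⊔ A from sup_le le_sup_right (hHD.trans le_sup_left))
  have hn : D ⊔ A ≤ normalizer (D : Set G) := sup_le le_normalizer hAD
  have hP := hQ.inf_normal le_sup_left hn
  have hHP : H ≤ Q ⊓ D := le_inf (le_sup_right.trans hle) hHD
  have hAP : A ≤ normalizer ((Q ⊓ D : Subgroup G) : Set G) := fun a ha => by
    have haQ : a ∈ Q := hle (mem_sup_left ha)
    rw [mem_normalizer_iff_cj, cj_inf, cj_eq_self_of_mem haQ, mem_normalizer_iff_cj.1 (hAD ha)]
  obtain ⟨d, -, hd2, hdP⟩ := frat_invol hD ht ht2 htD hP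
  have hc := hmax _ hP.2.1 (hJH.trans hHP) hAP _ hdP hd2
  exact (eq_of_le_of_card_le' hHP hc).symm ▸ hP

/-- In a Sylow subgroup of `N(J)` every largest elementary abelian subgroup lies in `J`. -/
theorem One.le_thompson (h : One r L W) {Y : Subgroup G} (b : Best r Y) {T : Subgroup G}
    (hT : IsPGroup r T) (hTN : T ≤ normalizer ((Cfsg.thompsonSubgroupOf r Y : Subgroup G) : Set G))
    (hJT : Cfsg.thompsonSubgroupOf r Y ≤ T) {A : Subgroup G} (hA : A ∈ Thompson.maxIn r T) :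
    A ≤ Cfsg.thompsonSubgroupOf r Y := by
  classical
  set J := Cfsg.thompsonSubgroupOf r Y with hJdef
  have hJp : IsPGroup r J := b.max.1.1.to_le (Thompson.thompsonSubgroupOf_le Y)
  have hAp : IsPGroup r A := hT.to_le hA.1
  obtain ⟨s, hs, hs2⟩ := h.invol Y b.max
  obtain ⟨H, ⟨hHp, hJH, hAH, z, hzH, hz⟩, hmax'⟩ := Set.exists_max_image
    {H : Subgroup G | IsPGroup r H ∧ J ≤ H ∧ A ≤ normalizer (H : Set G) ∧
      ∃ z, z ∈ normalizer (H : Set G) ∧ orderOf z = 2}
    (fun H => Nat.card H) (Set.toFinite _)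
    ⟨J, hJp, le_rfl, hA.1.trans hTN, s, Thompson.normalizer_le_normalizer_thompsonSubgroupOf Y hs, hs2⟩
  have hmax : ∀ P : Subgroup G, IsPGroup r P → J ≤ P → A ≤ normalizer (P : Set G) →
      ∀ i ∈ normalizer (P : Set G), orderOf i = 2 → Nat.card P ≤ Nat.card H :=
    fun P h1 h2 h3 i h4 h5 => hmax' P ⟨h1, h2, h3, i, h4, h5⟩
  obtain ⟨hG, hUJ, hJeq, hrk⟩ := h.above b hHp hJH hzH hz
  obtain ⟨g0, hg0⟩ := h.exists_point hHp
  have hzz : z * z = 1 := by rw [← pow_two, ← hz, pow_orderOf_eq_one]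
  set U := span L W H with hUdef
  have hUe := h.elab_span hG
  set C := normalizer (H : Set G) ⊓ centralizer (U : Set G) with hCdef
  have hCodd : Odd (Nat.card C) := (h.odd_cj g0).of_dvd_nat
    (card_dvd_of_le (inf_le_right.trans (h.centralizer_span_le hg0)))
  have hNC : normalizer (H : Set G) ≤ normalizer (C : Set G) := fun n hn => by
    rw [mem_normalizer_iff_cj, hCdef, cj_inf, cj_eq_self_of_mem hn, cj_centralizer,
      mem_normalizer_iff_cj.1 (normalizer_le_span H hn)]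
  have hHodd : Odd (Nat.card H) := (h.odd_cj g0).of_dvd_nat (card_dvd_of_le hg0)
  set K := H ⊔ C with hKdef
  have hKodd : Odd (Nat.card K) := (hHodd.mul hCodd).of_dvd_nat
    (CfsgLib.Solvable.card_sup_dvd (le_normalizer.trans hNC))
  have hKN : K ≤ normalizer (H : Set G) := sup_le le_normalizer inf_le_left
  have hNK : normalizer (H : Set G) ≤ normalizer (K : Set G) := fun n hn => by
    rw [mem_normalizer_iff_cj, hKdef, Subgroup.map_sup, mem_normalizer_iff_cj.1 hn,
      mem_normalizer_iff_cj.1 (hNC hn)]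
  have hKsyl : IsSylowIn r H K := sylow_of_max hAp hHp hJH hAH hmax le_sup_left hKodd
    (hAH.trans hNK) (hNK hzH) (not_mem_of_odd hz hKodd) (by rw [hzz]; exact one_mem _)
  have habsorb : ∀ D : Subgroup G, IsSylowIn r H D → D ≤ normalizer (H : Set G) → ∀ X : Subgroup G,
      IsPGroup r X → X ≤ D → X ≤ H := fun D hD hDN X hX hXD => by
    have := hD.eq_of_le (hX.to_sup_of_normal_right' hHp (hXD.trans hDN)) (sup_le hXD hD.1) le_sup_right
    exact le_sup_left.trans this.ge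
  have hAHle : A ≤ H := by
    by_cases hc : A ≤ centralizer (U : Set G)
    · exact habsorb K hKsyl hKN A hAp ((le_inf hAH hc).trans le_sup_right)
    exfalso
    obtain ⟨a, haA, hac, hq⟩ := quad_witness hUe (hUJ.trans hJT) hA
      (hAH.trans (normalizer_le_span H)) hc
    have haH : a ∉ H := fun haH => by
      refine hac ?_
      have hall : U ≤ centralizer {a} := iSup₂_le fun g hg u hu =>
        mem_centralizer_singleton_iff.2 (mem_centralizer_iff.1
          (h.cent_of_quad_cj g (hg haH) fun v hv => hq v (cj_le_span hg hv)) u hu)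
      exact mem_centralizer_iff.2 fun u hu => mem_centralizer_singleton_iff.1 (hall hu)
    have hap : IsPGroup r (zpowers a) := hAp.to_le (zpowers_le.2 haA)
    obtain ⟨t, htN, htc, ht2, hta⟩ := exists_invol_mod_centralizer h.odd_r
      (normalizer_le_span (L := L) (W := W) H) (fun v hv w hw => Thompson.elab_commute hUe hv hw)
      hUe.2 (hAH haA) hq fun D hDN hND hDp haD => haH <| by
        have hDodd : Odd (Nat.card D) := by
          by_contra hcon
          obtain ⟨⟨i, hiD⟩, hi⟩ := exists_prime_orderOf_dvd_card' 2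
            (even_iff_two_dvd.1 (Nat.not_odd_iff_even.1 hcon) : 2 ∣ Nat.card D)
          rw [Subgroup.orderOf_mk] at hi
          obtain ⟨k, hk⟩ := hDp i hiD
          have hodd : Odd (r ^ k) := ((Fact.out : r.Prime).odd_of_ne_two h.odd_r).pow
          obtain ⟨j, hj⟩ := hodd
          have hii : i ^ 2 = 1 := by rw [← hi, pow_orderOf_eq_one]
          rw [hj, pow_succ, pow_mul, hii, one_pow, one_mul] at hk
          exact not_mem_of_odd hi (h.odd_cj g0) (h.centralizer_span_le hg0 hk)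
        set D' := H ⊔ D with hD'
        have hD'odd : Odd (Nat.card D') := (hHodd.mul hDodd).of_dvd_nat
          (CfsgLib.Solvable.card_sup_dvd (le_normalizer.trans hND))
        have hND' : normalizer (H : Set G) ≤ normalizer (D' : Set G) := fun n hn => by
          rw [mem_normalizer_iff_cj, hD', Subgroup.map_sup, mem_normalizer_iff_cj.1 hn,
            mem_normalizer_iff_cj.1 (hND hn)]
        refine habsorb D' (sylow_of_max hAp hHp hJH hAH hmax le_sup_left hD'odd (hAH.trans hND')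
          (hND' hzH) (not_mem_of_odd hz hD'odd) (by rw [hzz]; exact one_mem _))
          (sup_le le_normalizer hDN) _ hap (zpowers_le.2 (mem_sup_right haD)) (mem_zpowers a)
    set D := zpowers a ⊔ K with hDdef
    have haK : zpowers a ≤ normalizer (K : Set G) := zpowers_le.2 (hNK (hAH haA))
    have hDodd : Odd (Nat.card D) := by
      obtain ⟨k, hk⟩ := IsPGroup.iff_card.1 hap
      refine ((Odd.pow ((Fact.out : r.Prime).odd_of_ne_two h.odd_r)).mul hKodd).of_dvd_nat
        (hk ▸ CfsgLib.Solvable.card_sup_dvd haK : Nat.card D ∣ r ^ k * Nat.card K)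
    have hDN : D ≤ normalizer (H : Set G) := sup_le (zpowers_le.2 (hAH haA)) hKN
    have hAD : A ≤ normalizer (D : Set G) := fun x hx => by
      have e : x ⋆ zpowers a = zpowers a := by
        rw [MonoidHom.map_zpowers]
        congr 1
        simp [Thompson.elab_commute hA.2.1 hx haA]
      rw [mem_normalizer_iff_cj, hDdef, Subgroup.map_sup, e, mem_normalizer_iff_cj.1 (hNK (hAH hx))]
    have htD' : t * a * t⁻¹ ∈ D := by
      rw [show t * a * t⁻¹ = (t * a * t⁻¹ * a⁻¹) * a by group]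
      have hn : t * a * t⁻¹ * a⁻¹ ∈ normalizer (H : Set G) :=
        mul_mem (mul_mem (mul_mem htN (hAH haA)) (inv_mem htN)) (inv_mem (hAH haA))
      exact mul_mem (mem_sup_right (mem_sup_right ⟨hn, hta⟩)) (mem_sup_left (mem_zpowers a))
    have htD : t ∈ normalizer (D : Set G) := mem_normalizer_of_conj_le <| cj_le_iff.1 <| by
      rw [hDdef, Subgroup.map_sup, mem_normalizer_iff_cj.1 (hNK htN), MonoidHom.map_zpowers]
      exact sup_le (zpowers_le.2 (by simpa using htD')) le_sup_right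
    have hsyl := sylow_of_max hAp hHp hJH hAH hmax (le_sup_left.trans le_sup_right) hDodd hAD htD
      (fun htmem => htc (mem_zpowers_sq hDodd htmem ht2))
      (mem_sup_right (mem_sup_right ⟨mul_mem htN htN, ht2⟩))
    exact haH (habsorb D hsyl hDN _ hap le_sup_left (mem_zpowers a))
  rw [hJdef, ← hJeq]
  obtain ⟨B, hB⟩ := Thompson.exists_maxIn (p := r) Y
  refine le_thompsonOf (mem_maxIn_of_card hAHle hA.2.1 ?_)
  rw [hrk, ← card_eq_rankE hB]
  exact hA.2.2 B ((le_thompsonOf hB).trans hJT) hB.2.1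

theorem pCore_eq_bot_of_only (h : One r L W) {q : ℕ} (hq : q.Prime) (hne : q ≠ r) :
    Cfsg.pCore q L = ⊥ :=
  (Subgroup.map_eq_bot_iff_of_injective _ L.subtype_injective).1 (h.only q hq hne)

theorem One.centralizer_pCore_le (h : One r L W) :
    centralizer (Cfsg.pCore r L : Set L) ≤ Cfsg.pCore r L := by
  haveI : Group.IsSolvable L := CfsgLib.OddEnd.odd_solvable L h.ctx.odd
  have e : Cfsg.fittingSubgroup L = Cfsg.pCore r L := by
    refine le_antisymm ?_ (CfsgLib.Solvable.pCore_le_fittingSubgroup (p := r))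
    rw [CfsgLib.Solvable.fittingSubgroup_eq_iSup_pCore]
    refine iSup_le fun q => ?_
    by_cases hq : (q : ℕ) = r
    · rw [hq]
    · rw [pCore_eq_bot_of_only h q.2 hq]; exact bot_le
  have := CfsgLib.Fitting.centralizer_fittingSubgroup_le_of_solvable (G := L)
  rwa [e] at this

/-- In the one-prime case there is no largest real `r`-subgroup. -/
theorem false_of_single {L W : Subgroup G} {r : ℕ} [Fact r.Prime] (hr : r ≠ 2) (hc : Ctx L)
    (honly : ∀ q, q.Prime → q ≠ r → coreOf q L = ⊥) (hW : MinW r L W) (hS : SylowInside r L)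
    (hinv : ∀ Y : Subgroup G, MaxReal r Y → ∃ z ∈ normalizer (Y : Set G), orderOf z = 2)
    (hWY : ∀ Y : Subgroup G, MaxReal r Y → ∀ g : G, (∀ y ∈ Y, g * y * g⁻¹ ∈ L) →
      ∀ w ∈ W, g⁻¹ * w * g ∈ Y)
    {Y : Subgroup G} (hY : MaxReal r Y) : False := by
  have h : One r L W := ⟨hr, hc, honly, hW, hS, hinv, hWY⟩
  obtain ⟨Z, b⟩ := exists_best hY
  set J := Cfsg.thompsonSubgroupOf r Z with hJdef
  have hJp : IsPGroup r J := b.max.1.1.to_le (Thompson.thompsonSubgroupOf_le Z)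
  obtain ⟨T, hT, hJT⟩ := exists_sylowIn_ge hJp (le_normalizer (H := J))
  obtain ⟨B, hB⟩ := Thompson.exists_maxIn (p := r) Z
  have hsub : ∀ A ∈ Thompson.maxIn r T, A ≤ J := fun A hA => h.le_thompson b hT.2.1 hT.1 hJT hA
  obtain ⟨A0, hA0⟩ := Thompson.exists_maxIn (p := r) T
  have hrT : rankE r T = rankE r Z := le_antisymm
    (by rw [← card_eq_rankE hA0]
        exact le_rankE ((hsub A0 hA0).trans (Thompson.thompsonSubgroupOf_le Z)) hA0.2.1)
    (card_eq_rankE hB ▸ le_rankE ((le_thompsonOf hB).trans hJT) hB.2.1)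
  have hJ : Cfsg.thompsonSubgroupOf r T = J := by
    refine le_antisymm ?_ ?_
    · rw [Thompson.thompsonSubgroupOf_eq T]; exact sSup_le hsub
    · rw [hJdef, Thompson.thompsonSubgroupOf_eq Z]
      exact sSup_le fun C hC => le_thompsonOf
        (mem_maxIn_of_card ((le_thompsonOf hC).trans hJT) hC.2.1 (by rw [hrT, card_eq_rankE hC]))
  have hTtop : IsSylowIn r T ⊤ := by
    obtain ⟨P, hP, hTP⟩ := exists_sylowIn_ge hT.2.1 (le_top : T ≤ ⊤)
    by_cases he : T = P
    · exact he ▸ hP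
    exfalso
    have hlt := lt_inf_normalizer hP.2.1 (lt_of_le_of_ne hTP he)
    refine hlt.ne (hT.eq_of_le (hP.2.1.to_le inf_le_left) (inf_le_right.trans ?_) hlt.le)
    rw [← hJ]
    exact Thompson.normalizer_le_normalizer_thompsonSubgroupOf T
  obtain ⟨g, hg⟩ := h.exists_point hT.2.1
  set T0 := g⁻¹ ⋆ T with hT0
  have hT0L : IsSylowIn r T0 L := by
    have := (hTtop.of_le hg le_top).cj g⁻¹
    rwa [cj_inv_cj] at this
  obtain ⟨S, hS'⟩ := hT0L.exists_sylow
  set ZL := Cfsg.omegaOne r (Cfsg.centerThompsonOf r (S : Subgroup L)) with hZL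
  have hZn : ZL.Normal := by
    rw [hZL, ← CfsgLib.ZJ.famCenter_elab_eq]
    exact CfsgLib.ZJ.famCenter_normal hr (CfsgLib.ZJ.admissible_elab hr) S S
      (CfsgLib.ZJ.stronglyClosed_self S)
      (CfsgLib.ZJ.stableNormal_of_free hr (CfsgLib.Invariant.not_involves_qd_of_odd hc.odd hr))
      h.centralizer_pCore_le
  set Z0 := Cfsg.omegaOne r (Cfsg.centerThompsonOf r T0) with hZ0
  have hmap : ZL.map L.subtype = Z0 := by
    rw [hZL, hZ0, Thompson.map_omegaOne _ L.subtype_injective,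
      ← CfsgLib.ZJ.centerThompsonOf_map _ L.subtype_injective, hS']
  have hT0ne : T0 ≠ ⊥ := fun e => by
    obtain ⟨n, -, hn⟩ := hT0L.exists_cj_le h.isPGroup_W h.W_le_L
    rw [e, le_bot_iff, cj_eq_bot_iff] at hn
    exact h.minW.ne_bot hn
  have hZ0L : Z0 ≤ L := hmap ▸ map_subtype_le _
  have hZ0ne : Z0 ≠ ⊥ := CfsgLib.ZJ.omega_centerThompsonOf_ne_bot hT0L.2.1 hT0ne
  have hLn : L ≤ normalizer (Z0 : Set G) := fun l hl => mem_normalizer_of_conj_le <| by
    rw [← hmap]
    rintro _ ⟨x, hx, rfl⟩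
    exact ⟨_, hZn.conj_mem x hx ⟨l, hl⟩, rfl⟩
  have hN := h.ctx.norm Z0 hZ0L hZ0ne hLn
  obtain ⟨s, hs, hs2⟩ := h.invol Z b.max
  have hsJ : s ∈ normalizer (J : Set G) := Thompson.normalizer_le_normalizer_thompsonSubgroupOf Z hs
  have hsZ : s ∈ normalizer ((Cfsg.omegaOne r (Cfsg.centerThompsonOf r T) : Subgroup G) : Set G) := by
    rw [mem_normalizer_iff_cj, Thompson.map_omegaOne _ (MulAut.conj s).injective]
    congr 1
    rw [Cfsg.centerThompsonOf, hJ, cj_inf, cj_centralizer, mem_normalizer_iff_cj.1 hsJ]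
  have hs0 : g⁻¹ * s * g ∈ normalizer (Z0 : Set G) := by
    have e : Z0 = g⁻¹ ⋆ Cfsg.omegaOne r (Cfsg.centerThompsonOf r T) := by
      rw [hZ0, hT0, CfsgLib.ZJ.centerThompsonOf_map _ (MulAut.conj g⁻¹).injective,
        Thompson.map_omegaOne _ (MulAut.conj g⁻¹).injective]
    rw [e, ← cj_normalizer, mem_cj]
    simpa [mul_assoc] using hsZ
  rw [hN] at hs0
  refine not_mem_of_odd ?_ hc.odd hs0
  rw [show g⁻¹ * s * g = MulAut.conj g⁻¹ s by simp, MulEquiv.orderOf_eq, hs2]

end CfsgLib.Bender
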