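import Cfsg.Agent.Bender.GSide
import Cfsg.Agent.Bender.Multi
import Cfsg.Agent.Bender.Single
import Cfsg.Agent.Bender.GoodX
import Cfsg.Agent.Bender.Reduction
import Cfsg.Agent.Bender.RankOne

/-!
Bender's dichotomy for a strongly embedded subgroup.
-/

set_option autoImplicit false
set_option linter.style.haveILetI false

namespace CfsgLib.Bender

open Subgroup CfsgLib.Functor

universe u

/-- In `X = H/O(H)` some prime dividing the number of involutions is `RealFree`. -/
theorem exists_realFree {X : Type u} [Group X] [Finite X] (hO : Cfsg.oddCore X = ⊥) (hp : PairRank X)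
    (hSE : ∀ S : Subgroup X, ¬ Cfsg.IsStronglyEmbedded S)
    (hD : ∃ D : Subgroup X, IsTransOdd (⊤ : Subgroup X) D) :
    ∃ r : ℕ, r.Prime ∧ Odd r ∧ r ∣ Nat.card {t : X // orderOf t = 2} ∧ RealFree r X := by
  by_cases hnc : ∃ u v : X, orderOf u = 2 ∧ orderOf v = 2 ∧ u * v ≠ v * u
  swap
  · push Not at hnc
    exact exists_realFree_commuting hp hnc
  obtain ⟨L, hc, hL⟩ := exists_ctx hO hp hnc hD
  have hs : Group.IsSolvable L := CfsgLib.OddEnd.odd_solvable L hc.odd
  haveI := (nontrivial_iff_ne_bot L).2 hL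
  obtain ⟨q, hq, hq1⟩ := CfsgLib.Turull.exists_pCore_ne_bot hs
  have hqL : coreOf q L ≠ ⊥ := fun h => hq1 ((map_eq_bot_iff_of_injective _ L.subtype_injective).1 h)
  have hodd : ∀ p : ℕ, p.Prime → coreOf p L ≠ ⊥ → p ≠ 2 := by
    rintro p hp' hne rfl
    haveI : Fact (Nat.Prime 2) := ⟨Nat.prime_two⟩
    obtain ⟨k, hk⟩ := IsPGroup.iff_card.1 (isPGroup_coreOf (r := 2) L)
    refine hne (eq_bot_of_card_eq _ ?_)
    have h := hc.odd.of_dvd_nat (card_dvd_of_le (coreOf_le 2 L))
    rw [hk] at h ⊢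
    rcases k with _ | k
    · rfl
    · rw [Nat.odd_pow_iff (Nat.succ_ne_zero k)] at h
      exact absurd h (by decide)
  by_cases htwo : ∃ p s : ℕ, p.Prime ∧ s.Prime ∧ p ≠ s ∧ coreOf p L ≠ ⊥ ∧ coreOf s L ≠ ⊥
  · obtain ⟨r, W, hr, hr2, hW, htr⟩ := exists_transfer hc hSE hnc hp htwo
    haveI : Fact r.Prime := ⟨hr⟩
    have hr2' : r ≠ 2 := fun h => by rw [h] at hr2; exact absurd hr2 (by decide)
    obtain ⟨R, hR⟩ := exists_sylowIn (p := r) L
    have hN := norm_le_of_transfer hW htr hR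
    exact ⟨r, hr, hr2, dvd_card_invol hc hR hN, realFree_of_no_max hr2
      (no_maxReal_of_transfer hr2' hc (sylowInside_of_norm_le hR hN) hW htr)⟩
  · haveI : Fact q.Prime := ⟨hq⟩
    have hq2 := hodd q hq hqL
    have honly : ∀ p, p.Prime → p ≠ q → coreOf p L = ⊥ := by
      intro p hp' hne
      by_contra h
      exact htwo ⟨p, q, hp', hq, hne, h, hqL⟩
    obtain ⟨R, hR⟩ := exists_sylowIn (p := q) L
    have hN := norm_le_of_single hq2 hc honly hqL hR
    obtain ⟨W, hW⟩ := exists_minW hs hqL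
    refine ⟨q, hq, hq.odd_of_ne_two hq2, dvd_card_invol hc hR hN,
      realFree_of_no_max (hq.odd_of_ne_two hq2) fun Y hY => ?_⟩
    exact false_of_single hq2 hc honly hW (sylowInside_of_norm_le hR hN)
      (fun Y hY => hY.exists_invol) (fun Y hY g hg => hY.minW_le hq2 hW g hg) hY

theorem exists_goodPrime : ∀ (n : ℕ) (G : Type u) [Group G] [Finite G], Nat.card G = n →
    ∀ H : Subgroup G, Cfsg.IsStronglyEmbedded H → PairRank G → ∃ r, GoodPrime r H := by
  intro n
  induction n using Nat.strong_induction_on with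
  | _ n ih =>
    intro G _ _ hn H hH hp
    subst hn
    obtain ⟨hpX, hD, hO, hlt⟩ := quotient_setup hH hp
    have hSE : ∀ S : Subgroup (↥H ⧸ Cfsg.oddCore ↥H), ¬ Cfsg.IsStronglyEmbedded S := by
      intro S hS
      obtain ⟨r, hr⟩ := ih _ hlt _ rfl S hS hpX
      obtain ⟨D, hD⟩ := hD
      exact noTransOdd hS hr hpX D hD
    obtain ⟨r, hr, hr2, hdvd, hfree⟩ := exists_realFree hO hpX hSE hD
    exact ⟨r, goodPrime_of_realFree hH hr hr2 hdvd hfree⟩

/-- With two commuting involutions the action on the cosets is doubly transitive. -/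
theorem two_transitive_of_pair {G : Type u} [Group G] [Finite G] {H : Subgroup G}
    (hH : Cfsg.IsStronglyEmbedded H) (hp : PairRank G) :
    ∀ g₁ g₂ : G, g₁ ∉ H → g₂ ∉ H → ∃ h ∈ H, g₂⁻¹ * (h * g₁) ∈ H := by
  obtain ⟨r, hr⟩ := exists_goodPrime _ G rfl H hH hp
  exact two_transitive hH hr hp

/-- No subgroup of odd order permutes the involutions transitively. -/
theorem noTransOdd_of_pair {G : Type u} [Group G] [Finite G] {H : Subgroup G}
    (hH : Cfsg.IsStronglyEmbedded H) (hp : PairRank G) : NoTransOdd G := by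
  obtain ⟨r, hr⟩ := exists_goodPrime _ G rfl H hH hp
  exact noTransOdd hH hr hp

end CfsgLib.Bender
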