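import Cfsg.Agent.Bender.GSide
import Cfsg.Agent.Bender.Dichotomy
import Cfsg.Agent.Solvable.CoprimeAct
import Cfsg.Agent.Solvable.Basics
import Cfsg.Agent.OddEnd.FourteenFinal
import Cfsg.Prelude.Def_CaseTheorems

/-!
The core of a strongly embedded subgroup: the setting of the minimal counterexample and the first
standing facts.
-/

set_option autoImplicit false
set_option linter.unusedSectionVars false
set_option linter.style.haveILetI false

namespace CfsgLib.Bender.Core

open Subgroup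
open CfsgLib.FusionLift (cj mem_cj card_cj)
open CfsgLib.Bender.GSide

variable {G : Type*} [Group G] [Finite G] {H : Subgroup G}

/-- `M` contains two distinct commuting involutions. -/
def HasPair (M : Subgroup G) : Prop :=
  ∃ u v : G, u ∈ M ∧ v ∈ M ∧ orderOf u = 2 ∧ orderOf v = 2 ∧ u ≠ v ∧ Commute u v

/-- A group with a strongly embedded subgroup whose proper subgroups satisfy the core theorem. -/
structure Setting (H : Subgroup G) : Prop where
  se : Cfsg.IsStronglyEmbedded H
  pair : PairRank G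
  core : H.normalCore = ⊥
  gen : Subgroup.closure {t : G | orderOf t = 2} = ⊤
  ind : ∀ M : Subgroup G, M ≠ ⊤ → ∀ K : Subgroup M, Cfsg.IsStronglyEmbedded K →
    (Cfsg.oddCore K).map K.subtype ≤ Cfsg.oddCore M

/-- A family, compatible with the action, of elementary abelian `q`-subgroups, each minimal
normal in the stabilizer of its point. -/
structure Family (q : ℕ) (N : G ⧸ H → Subgroup G) : Prop where
  prime : q.Prime
  odd : Odd q
  le_st : ∀ x, N x ≤ st x
  smul : ∀ (g : G) (x : G ⧸ H), cj g (N x) = N (g • x)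
  ne_bot : ∀ x, N x ≠ ⊥
  comm : ∀ x, ∀ z ∈ N x, ∀ w ∈ N x, z * w = w * z
  exp : ∀ x, ∀ z ∈ N x, z ^ q = 1
  minimal : ∀ x, ∀ V : Subgroup G, V ≤ N x → V ≠ ⊥ → st x ≤ normalizer (V : Set G) → V = N x

/-- Every nontrivial element of the family fixes only its own point. -/
def Semireg (N : G ⧸ H → Subgroup G) : Prop :=
  ∀ x, ∀ z ∈ N x, z ≠ 1 → ∀ y : G ⧸ H, z • y = y → y = x

/-- The involutions fixing a point centralize the member of the family at that point. -/
def CentInv (N : G ⧸ H → Subgroup G) : Prop :=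
  ∀ x, ∀ t : G, orderOf t = 2 → t • x = x → ∀ z ∈ N x, Commute t z

section Family

variable {q : ℕ} {N : G ⧸ H → Subgroup G}

theorem Family.st_le_normalizer (hN : Family q N) (x : G ⧸ H) :
    st x ≤ normalizer (N x : Set G) := fun g hg =>
  mem_norm_iff.2 (by rw [hN.smul, show g • x = x from hg])

theorem Family.conj_mem (hN : Family q N) {g z : G} {x y : G ⧸ H} (hz : z ∈ N x)
    (h : g • x = y) : g * z * g⁻¹ ∈ N y := by
  rw [← h, ← hN.smul]
  exact ⟨z, hz, rfl⟩

theorem Family.isPGroup (hN : Family q N) (x : G ⧸ H) : IsPGroup q (N x) := fun z =>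
  ⟨1, Subtype.ext (by simpa using hN.exp x z z.2)⟩

theorem Family.odd_card (hN : Family q N) (x : G ⧸ H) : Odd (Nat.card (N x)) := by
  haveI : Fact q.Prime := ⟨hN.prime⟩
  obtain ⟨k, hk⟩ := IsPGroup.iff_card.1 (hN.isPGroup x)
  rw [hk]; exact hN.odd.pow

theorem Family.exists_ne_one (hN : Family q N) (x : G ⧸ H) : ∃ z ∈ N x, z ≠ 1 := by
  by_contra h
  push Not at h
  exact hN.ne_bot x ((eq_bot_iff_forall _).2 h)

/-- A minimal normal elementary abelian subgroup of `H` gives a family. -/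
theorem exists_family {q : ℕ} (hq : q.Prime) (hodd : Odd q) {N₀ : Subgroup G} (hle : N₀ ≤ H)
    (hne : N₀ ≠ ⊥) (hn : H ≤ normalizer (N₀ : Set G))
    (hc : ∀ z ∈ N₀, ∀ w ∈ N₀, z * w = w * z) (hexp : ∀ z ∈ N₀, z ^ q = 1)
    (hmin : ∀ V : Subgroup G, V ≤ N₀ → V ≠ ⊥ → H ≤ normalizer (V : Set G) → V = N₀) :
    ∃ N : G ⧸ H → Subgroup G, Family q N ∧ N (QuotientGroup.mk 1) = N₀ := by
  have hout : ∀ x : G ⧸ H, x.out • (QuotientGroup.mk 1 : G ⧸ H) = x := fun x => by
    rw [StrongEmbed.smul_mk_one_eq]; exact QuotientGroup.out_eq' x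
  have hcj : ∀ (g : G) (x : G ⧸ H), g • (QuotientGroup.mk 1 : G ⧸ H) = x →
      cj g N₀ = cj x.out N₀ := by
    intro g x hg
    have hh : x.out⁻¹ * g ∈ H := by
      refine StrongEmbed.smul_mk_one_iff.1 ?_
      rw [mul_smul, hg, inv_smul_eq_iff, hout]
    rw [← mul_inv_cancel_left x.out g, ← cj_cj, mem_norm_iff.1 (hn hh)]
  refine ⟨fun x => cj x.out N₀, ⟨hq, hodd, fun x => ?_, fun g x => ?_, fun x h => hne ?_,
    fun x => ?_, fun x => ?_, fun x V hV hV1 hVn => ?_⟩, ?_⟩
  · conv_rhs => rw [← hout x]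
    exact le_st_smul (hle.trans_eq st_one.symm)
  · show cj g (cj x.out N₀) = cj (g • x).out N₀
    rw [cj_cj]
    exact hcj _ _ (by rw [mul_smul, hout])
  · rw [← cj_inv x.out N₀, show cj x.out N₀ = ⊥ from h]
    exact map_bot _
  · rintro _ ⟨z, hz, rfl⟩ _ ⟨w, hw, rfl⟩
    rw [← map_mul, hc z hz w hw, map_mul]
  · rintro _ ⟨z, hz, rfl⟩
    rw [← map_pow, hexp z hz, map_one]
  · have h1 := hmin (cj x.out⁻¹ V) ((cj_mono _ hV).trans_eq (cj_inv _ _)) (fun h => hV1 ?_) ?_
    · rw [← cj_inv' x.out V, h1]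
    · rw [← cj_inv' x.out V, h]
      exact map_bot _
    · intro h hh
      refine mem_norm_iff.2 ?_
      have h2 : x.out * h * x.out⁻¹ ∈ st x := by
        show (x.out * h * x.out⁻¹) • x = x
        rw [mul_smul, mul_smul, inv_smul_eq_iff.2 (hout x).symm,
          StrongEmbed.smul_mk_one_iff.2 hh, hout]
      have h3 := congrArg (cj x.out⁻¹) (mem_norm_iff.1 (hVn h2))
      rw [cj_cj] at h3
      rw [cj_cj, ← h3]
      congr 1
      group
  · show cj (QuotientGroup.mk 1 : G ⧸ H).out N₀ = N₀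
    rw [← hcj 1 _ (one_smul _ _), cj_one]

end Family

/-- An involution in `M` and a distinct involution of `M` commuting with it. -/
theorem HasPair.exists_partner {M : Subgroup G} (h : HasPair M) {t : G} (ht : t ∈ M)
    (ht2 : orderOf t = 2) : ∃ z ∈ M, orderOf z = 2 ∧ z ≠ t ∧ Commute t z := by
  obtain ⟨u, v, hu, hv, hu2, hv2, hne, hc⟩ := h
  exact GSide.exists_partner ht ht2 hu hu2 hv hv2 hne hc

theorem HasPair.mono {M M' : Subgroup G} (h : HasPair M) (hle : M ≤ M') : HasPair M' := by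
  obtain ⟨u, v, hu, hv, hu2, hv2, hne, hc⟩ := h
  exact ⟨u, v, hle hu, hle hv, hu2, hv2, hne, hc⟩

/-- Without commuting involutions every involution of `M` is isolated in `M`. -/
theorem isolated {M : Subgroup G} (hp : ¬ HasPair M) {t : G} (ht : t ∈ M) (ht2 : orderOf t = 2) :
    Cfsg.IsIsolatedInvolution (⟨t, ht⟩ : M) := by
  refine ZStar.isolated_of_commuting (fun v w hv hw hvw => ?_)
    (by rw [← Subgroup.orderOf_coe, ht2])
  by_contra hne
  exact hp ⟨v, w, v.2, w.2, by rw [Subgroup.orderOf_coe, hv], by rw [Subgroup.orderOf_coe, hw],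
    fun h => hne (Subtype.ext h), congrArg Subtype.val hvw⟩

/-- Without commuting involutions two involutions of `M` are conjugate by an element of `O(M)`. -/
theorem exists_conj_of_not_pair {M : Subgroup G} (hp : ¬ HasPair M) {t s : G} (ht : t ∈ M)
    (ht2 : orderOf t = 2) (hs : s ∈ M) (hs2 : orderOf s = 2) :
    ∃ o ∈ (Cfsg.oddCore M).map M.subtype, o * t * o⁻¹ = s := by
  set t' : M := ⟨t, ht⟩
  set s' : M := ⟨s, hs⟩
  have ht' : orderOf t' = 2 := by rw [← Subgroup.orderOf_coe, ht2]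
  have hs' : orderOf s' = 2 := by rw [← Subgroup.orderOf_coe, hs2]
  have hnp : ∀ v w : M, orderOf v = 2 → orderOf w = 2 → Commute v w → v = w := by
    intro v w hv hw hvw
    by_contra hne
    exact hp ⟨v, w, v.2, w.2, by rw [Subgroup.orderOf_coe, hv], by rw [Subgroup.orderOf_coe, hw],
      fun h => hne (Subtype.ext h), congrArg Subtype.val hvw⟩
  have hodd : Odd (orderOf (t' * s')) := by
    by_contra hev
    rw [Nat.not_odd_iff_even] at hev
    obtain ⟨hd2, hdv, hdu⟩ := Invol.half_props ht' hs' hev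
    have h1 := hnp _ _ ht' hd2 hdv.symm
    have h2 := hnp _ _ hs' hd2 hdu.symm
    rw [h1, ← h2, Invol.mul_self_eq_one hs', orderOf_one] at hev
    exact absurd hev (by decide)
  obtain ⟨m, hm⟩ := Invol.exists_pow_conj_of_odd ht' hs' hodd
  refine ⟨((t' * s') ^ m : M), ⟨_, pow_mem ?_ m, rfl⟩, congrArg Subtype.val hm⟩
  refine IsoApps.mem_oddCore_of_inverted (isolated hp ht ht2) hodd ?_
  show t' * (t' * s') * t'⁻¹ = (t' * s')⁻¹
  rw [Invol.mul_inv_rev_invol ht' hs', ← mul_assoc, Invol.mul_self_eq_one ht',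
    one_mul, Invol.inv_eq_self ht']

section Setting

variable (hS : Setting H)
include hS

/-- An odd order subgroup normalized by two commuting involutions fixes their common point. -/
theorem le_st_of_four {X : Subgroup G} (hX : Odd (Nat.card X)) {u v : G} (hu : orderOf u = 2)
    (hv : orderOf v = 2) (hne : u ≠ v) (hc : Commute u v) (huX : u ∈ normalizer (X : Set G))
    (hvX : v ∈ normalizer (X : Set G)) {e : G ⧸ H} (hue : u • e = e) : X ≤ st e := by
  set A := zpowers u ⊔ zpowers v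
  have hAX : A ≤ normalizer (X : Set G) := sup_le (zpowers_le.2 huX) (zpowers_le.2 hvX)
  have hA2 : IsPGroup 2 A := by
    have h1 : ∀ w : G, orderOf w = 2 → IsPGroup 2 (zpowers w) := fun w hw =>
      IsPGroup.of_card (n := 1) (by rw [Nat.card_zpowers, hw, pow_one])
    refine (h1 u hu).to_sup_of_normal_left' (h1 v hv) (zpowers_le.2 ?_)
    exact mem_normalizer_iff_map_conj_eq.2 (by
      rw [MonoidHom.map_zpowers]
      congr 1
      simp [hc.symm.eq])
  have hcop : (Nat.card A).Coprime (Nat.card X) := by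
    haveI : Fact (Nat.Prime 2) := ⟨Nat.prime_two⟩
    obtain ⟨k, hk⟩ := IsPGroup.iff_card.1 hA2
    rw [hk]
    exact (Nat.coprime_two_left.2 hX).pow_left k
  have hsolv : Group.IsSolvable A ∨ Group.IsSolvable X := Or.inr (OddEnd.odd_solvable X hX)
  suffices h : X ⊓ st e = X from h ▸ inf_le_right
  refine eq_of_le_of_card_ge inf_le_left (Nat.le_of_dvd Nat.card_pos ?_)
  refine (Nat.dvd_iff_prime_pow_dvd_dvd _ _).2 fun p k hp hpk => ?_
  haveI : Fact p.Prime := ⟨hp⟩
  rcases Nat.eq_zero_or_pos k with rfl | hk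
  · exact one_dvd _
  have hpodd : Odd p := hX.of_dvd_nat ((dvd_pow_self p hk.ne').trans hpk)
  obtain ⟨P, hP⟩ := CoprimeAct.exists_invariant_sylow hAX hcop hsolv p
  have hPe : (P : Subgroup X).map X.subtype ≤ st e :=
    le_st_of_pair hS.se hpodd (P.isPGroup'.map _) hu hv hne hc
      (hP (mem_sup_left (mem_zpowers _))) (hP (mem_sup_right (mem_zpowers _))) hue
  refine dvd_trans ?_ (card_dvd_of_le (le_inf (map_subtype_le _) hPe))
  rw [card_map_of_injective X.subtype_injective, P.card_eq_multiplicity]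
  exact pow_dvd_pow p ((hp.pow_dvd_iff_le_factorization Nat.card_pos.ne').1 hpk)

/-- An odd order subgroup normalized by `M`, which has commuting involutions, fixes the point of
every involution of `M`. -/
theorem le_st_of_hasPair {X M : Subgroup G} (hX : Odd (Nat.card X))
    (hMX : M ≤ normalizer (X : Set G)) (hp : HasPair M) {t : G} (ht : t ∈ M) (ht2 : orderOf t = 2)
    {e : G ⧸ H} (hte : t • e = e) : X ≤ st e := by
  obtain ⟨z, hz, hz2, hne, hc⟩ := hp.exists_partner ht ht2
  exact le_st_of_four hS hX ht2 hz2 hne.symm hc (hMX ht) (hMX hz) hte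

/-- The normalizer of a nontrivial subgroup of a point stabilizer is proper. -/
theorem normalizer_ne_top {Y : Subgroup G} {x : G ⧸ H} (hY : Y ≠ ⊥) (hYx : Y ≤ st x) :
    normalizer (Y : Set G) ≠ ⊤ := by
  intro h
  refine hY (le_bot_iff.1 (hS.core ▸ fun y hy g => ?_))
  obtain ⟨k, hk⟩ := exists_smul (QuotientGroup.mk 1 : G ⧸ H) x
  have h1 : k * (k⁻¹ * g * y * (k⁻¹ * g)⁻¹) * k⁻¹ = g * y * g⁻¹ := by group
  have h2 : k * g * y * (k * g)⁻¹ ∈ st x :=
    hYx ((mem_normalizer_iff.1 (h ▸ mem_top (k * g) : k * g ∈ normalizer (Y : Set G)) y).1 hy)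
  rw [← hk, st_smul, st_one, mem_cj] at h2
  simpa [mul_assoc] using h2

/-- The centralizer of a nontrivial element of a point stabilizer is proper. -/
theorem centralizer_ne_top {y : G} {x : G ⧸ H} (hy : y ≠ 1) (hyx : y • x = x) :
    centralizer ({y} : Set G) ≠ ⊤ := by
  intro h
  refine normalizer_ne_top hS (Y := zpowers y) (by simpa using hy) (zpowers_le.2 hyx) ?_
  rw [eq_top_iff, ← h]
  intro g hg
  exact mem_normalizer_iff.2 fun z => by
    constructor
    · rintro ⟨i, rfl⟩
      exact ⟨i, by rw [← conj_zpow, mem_centralizer_singleton_iff.1 hg, mul_inv_cancel_right]⟩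
    · rintro ⟨i, hi⟩
      refine ⟨i, ?_⟩
      have h1 : g * y ^ i * g⁻¹ = g * z * g⁻¹ := by
        rw [← conj_zpow, mem_centralizer_singleton_iff.1 hg, mul_inv_cancel_right]; exact hi
      exact mul_left_cancel (mul_right_cancel h1)

/-- If the stabilizer in `M` of `c` is even and `M` has commuting involutions, every odd order
normal subgroup of that stabilizer fixes the `M`-orbit of `c` pointwise. -/
theorem fixes_orbit {M : Subgroup G} (hM : M ≠ ⊤) (hp : HasPair M) {c : G ⧸ H} {t : G}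
    (ht : t ∈ M) (ht2 : orderOf t = 2) (htc : t • c = c) {Z : Subgroup G} (hZ : Z ≤ M ⊓ st c)
    (hodd : Odd (Nat.card Z)) (hnorm : M ⊓ st c ≤ normalizer (Z : Set G)) {g z : G} (hg : g ∈ M)
    (hz : z ∈ Z) : z • g • c = g • c := by
  by_cases hMc : M ≤ st c
  · have := hMc hg
    rw [show g • c = c from this]
    exact (hZ hz).2
  let K : Subgroup M := (st c).subgroupOf M
  have hK : Cfsg.IsStronglyEmbedded K := by
    refine ⟨fun h => hMc (subgroupOf_eq_top.1 h), ?_, fun m hm => ?_⟩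
    · rw [even_iff_two_dvd, ← ht2]
      exact (Subgroup.orderOf_mk (H := M) t ht).symm ▸
        Subgroup.orderOf_dvd_natCard K (x := ⟨t, ht⟩) htc
    · have hne : (m : G) • c ≠ c := fun h => hm h
      refine (odd_pair hS.se hne.symm).of_dvd_nat ?_
      rw [← card_map_of_injective M.subtype_injective]
      refine card_dvd_of_le ?_
      rintro _ ⟨k, ⟨hk1, j, hj, rfl⟩, rfl⟩
      refine ⟨hk1, ?_⟩
      show ((m : G) * (j : G) * (m : G)⁻¹) • (m : G) • c = (m : G) • c
      rw [mul_smul, mul_smul, inv_smul_smul, show (j : G) • c = c from hj]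
  haveI hn : ((Z.subgroupOf M).subgroupOf K).Normal := by
    constructor
    intro a ha b
    exact (mem_normalizer_iff.1 (hnorm ⟨(b : M).2, b.2⟩) _).1 ha
  have hle : Z.subgroupOf M ≤ K := fun a ha => (hZ ha).2
  have hZK : (Z.subgroupOf M).subgroupOf K ≤ Cfsg.oddCore K := by
    refine Solvable.le_pPrimeCore 2 hn (Nat.coprime_two_right.2 ?_)
    rwa [Nat.card_congr (subgroupOfEquivOfLe hle).toEquiv,
      Nat.card_congr (subgroupOfEquivOfLe (hZ.trans inf_le_left)).toEquiv]
  set O := (Cfsg.oddCore M).map M.subtype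
  have hOodd : Odd (Nat.card O) := by
    rw [card_map_of_injective M.subtype_injective]; exact IsoApps.odd_oddCore
  have hOM : M ≤ normalizer (O : Set G) := by
    refine fun m hm => mem_norm_iff.2 (cj_eq_of_le ?_ le_rfl)
    rintro _ ⟨_, ⟨o, ho, rfl⟩, rfl⟩
    exact ⟨⟨m, hm⟩ * o * ⟨m, hm⟩⁻¹, (Solvable.pPrimeCore_normal 2).conj_mem o ho _, rfl⟩
  have hOc : O ≤ st c := le_st_of_hasPair hS hOodd hOM hp ht ht2 htc
  have hzO : z ∈ O := by
    have hzM : z ∈ M := (hZ hz).1
    refine ⟨⟨z, hzM⟩, hS.ind M hM K hK ⟨⟨⟨z, hzM⟩, (hZ hz).2⟩, hZK ?_, rfl⟩, rfl⟩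
    exact hz
  have h2 : g⁻¹ * z * g⁻¹⁻¹ ∈ O := (mem_normalizer_iff.1 (hOM (inv_mem hg)) z).1 hzO
  have h3 : (g⁻¹ * z * g⁻¹⁻¹) • c = c := hOc h2
  rw [inv_inv, mul_smul, mul_smul, inv_smul_eq_iff] at h3
  exact h3

end Setting

end CfsgLib.Bender.Core
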