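import Cfsg.Agent.Bender.CharFinal
import Cfsg.Agent.Bender.CoreDefs
import Cfsg.Agent.LocalB.CharP
import Cfsg.Agent.FGSA.Nilpotent
import Cfsg.Agent.OddLocal.UniquenessTools
import Mathlib.GroupTheory.Transfer

/-!
# From the shape of the point stabilizer to the data of the character part

`L₀` is the centralizer in `H` of `N`, nilpotent and of odd index in `H`; `S` is its 2-core, `J` the
largest normal subgroup of odd order of `H`, and `K` the odd part of its core of order prime to `q`.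
-/

set_option autoImplicit false
set_option linter.unusedSectionVars false
set_option linter.style.haveILetI false

namespace CfsgLib.Bender.CharShape

open Subgroup CfsgLib.Bender
open scoped Pointwise

variable {G : Type*} [Group G] [Finite G]

/-- The shape of the point stabilizer needed for the character computation. -/
structure Shape (H N L₀ : Subgroup G) (q : ℕ) : Prop where
  se : Cfsg.IsStronglyEmbedded H
  gen : Subgroup.closure {t : G | orderOf t = 2} = ⊤
  oddCore : Cfsg.oddCore G = ⊥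
  prime : q.Prime
  odd : Odd q
  qgroup : IsPGroup q N
  nne : N ≠ ⊥
  nle : N ≤ L₀
  nnorm : H ≤ normalizer (N : Set G)
  le : L₀ ≤ H
  lnorm : H ≤ normalizer (L₀ : Set G)
  nilpotent : Group.IsNilpotent L₀
  cent : ∀ h ∈ H, (h ∈ L₀ ↔ ∀ z ∈ N, Commute h z)
  oddIndex : ¬ 2 ∣ L₀.relIndex H
  semireg : ∀ z ∈ N, z ≠ 1 → centralizer ({z} : Set G) ≤ H

/-- A subgroup, normal in `H`, given by a characteristic core of one normal in `H`. -/
theorem map_norm {H L : Subgroup G} (hL : H ≤ normalizer (L : Set G)) (C : Subgroup L)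
    [C.Characteristic] : H ≤ normalizer ((C.map L.subtype : Subgroup G) : Set G) :=
  hL.trans (CfsgLib.OddLocal.UTool.normalizer_le_normalizer_map L C inferInstance)

/-- The odd elements of a subgroup with central Sylow 2-subgroup form a subgroup. -/
theorem exists_odd_part {C P : Subgroup G} (hPC : P ≤ C) (hP : IsPGroup 2 P)
    (hidx : ¬ 2 ∣ P.relIndex C) (hc : ∀ x ∈ P, ∀ c ∈ C, Commute x c) :
    ∃ W : Subgroup G, Odd (Nat.card W) ∧ W ≤ C ∧ ∀ c ∈ C, Odd (orderOf c) → c ∈ W := by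
  haveI : Fact (2 : ℕ).Prime := ⟨Nat.prime_two⟩
  let Q : Sylow 2 C := IsPGroup.toSylow (P := P.subgroupOf C)
    (hP.of_equiv (subgroupOfEquivOfLe hPC).symm) hidx
  have hQ : normalizer ((Q : Subgroup C) : Set C) ≤ centralizer ((Q : Subgroup C) : Set C) := by
    intro c _
    rw [mem_centralizer_iff]
    exact fun x hx => Subtype.ext (hc _ hx _ c.2).eq
  have hcomp := MonoidHom.ker_transferSylow_isComplement' Q hQ
  set K := (MonoidHom.transferSylow Q hQ).ker
  have hKodd : Odd (Nat.card K) := by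
    rw [← Nat.not_even_iff_odd, even_iff_two_dvd]
    exact MonoidHom.not_dvd_card_ker_transferSylow Q hQ
  refine ⟨K.map C.subtype, by rwa [card_map_of_injective C.subtype_injective],
    map_subtype_le _, fun c hc hodd => ⟨⟨c, hc⟩, ?_, rfl⟩⟩
  rw [SetLike.mem_coe, MonoidHom.mem_ker]
  set f := MonoidHom.transferSylow Q hQ
  obtain ⟨k, hk⟩ := Q.2 (f ⟨c, hc⟩)
  refine orderOf_eq_one_iff.1 (Nat.eq_one_of_dvd_coprimes (a := 2 ^ k) (b := orderOf c)
    ((Nat.coprime_two_left.2 hodd).pow_left k) ?_ ?_)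
  · exact orderOf_dvd_of_pow_eq_one hk
  · rw [← Subgroup.orderOf_mk (H := C) c hc]
    exact orderOf_map_dvd f _

/-- Two subgroups normalizing each other and meeting trivially commute. -/
theorem commute_of_disjoint {A B : Subgroup G} (hd : Disjoint A B) {a b : G}
    (hb : b ∈ normalizer (A : Set G)) (ha : a ∈ normalizer (B : Set G)) (haA : a ∈ A)
    (hbB : b ∈ B) : Commute a b := by
  have h1 : a * b * a⁻¹ * b⁻¹ ∈ A := by
    have := mul_mem haA ((mem_normalizer_iff.1 hb a⁻¹).1 (inv_mem haA))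
    simpa [mul_assoc] using this
  have h2 : a * b * a⁻¹ * b⁻¹ ∈ B := mul_mem ((mem_normalizer_iff.1 ha b).1 hbB) (inv_mem hbB)
  have h3 : a * b * a⁻¹ * b⁻¹ = 1 := disjoint_def.1 hd h1 h2
  exact commutatorElement_eq_one_iff_commute.1 (by rw [commutatorElement_def]; exact h3)

variable {H N L₀ : Subgroup G} {q : ℕ}

/-- The largest normal subgroup of odd order of `H`. -/
def oddH (H : Subgroup G) : Subgroup G := (Cfsg.oddCore H).map H.subtype

/-- The core of order prime to `q` of `L₀`. -/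
def coreQ (q : ℕ) (L₀ : Subgroup G) : Subgroup G := (Cfsg.pPrimeCore q L₀).map L₀.subtype

namespace Shape

variable (S : Shape H N L₀ q)

include S

theorem odd_oddH : Odd (Nat.card (oddH H)) := by
  show Odd (Nat.card ((Cfsg.oddCore H).map H.subtype))
  rw [card_map_of_injective H.subtype_injective]
  exact IsoApps.odd_oddCore

theorem le_oddH {W : Subgroup G} (hW : W ≤ H) (hn : H ≤ normalizer (W : Set G))
    (hodd : Odd (Nat.card W)) : W ≤ oddH H := by
  intro w hw
  refine ⟨⟨w, hW hw⟩, ?_, rfl⟩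
  refine Solvable.le_pPrimeCore 2 (N := W.subgroupOf H) ?_ ?_ (show (⟨w, hW hw⟩ : H) ∈ _ from hw)
  · exact ⟨fun a ha g => (mem_normalizer_iff.1 (hn g.2) a).1 ha⟩
  · rw [Nat.card_congr (subgroupOfEquivOfLe hW).toEquiv]
    exact Nat.coprime_two_right.2 hodd

theorem oddH_le : oddH H ≤ H := map_subtype_le _

theorem oddH_norm : H ≤ normalizer ((oddH H : Subgroup G) : Set G) := by
  intro h hh
  refine CfsgLib.LocalB.mem_normalizer_of_conj_le fun d hd => ?_
  obtain ⟨d', hd', rfl⟩ := hd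
  exact ⟨⟨h, hh⟩ * d' * ⟨h, hh⟩⁻¹, (Solvable.pPrimeCore_normal 2).conj_mem d' hd' _, rfl⟩

/-- Two-elements of `L₀` make up its 2-core, a Sylow 2-subgroup of `H`. -/
theorem sylow_two : ∃ P : Sylow 2 L₀, coreOf 2 L₀ = (P : Subgroup L₀).map L₀.subtype ∧
    (P : Subgroup L₀).Normal := by
  haveI : Fact (2 : ℕ).Prime := ⟨Nat.prime_two⟩
  haveI := S.nilpotent
  obtain ⟨P⟩ := (inferInstance : Nonempty (Sylow 2 L₀))
  haveI hn : (P : Subgroup L₀).Normal := inferInstance
  refine ⟨P, ?_, hn⟩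
  rw [coreOf]
  congr 1
  exact (P.3 (Solvable.isPGroup_pCore 2) (Solvable.le_pCore 2 hn P.2)).symm ▸ rfl

theorem isPGroup_core : IsPGroup 2 (coreOf 2 L₀) :=
  (Solvable.isPGroup_pCore 2).map _

theorem core_le : coreOf 2 L₀ ≤ H := (map_subtype_le _).trans S.le

theorem core_norm : H ≤ normalizer ((coreOf 2 L₀ : Subgroup G) : Set G) := by
  haveI : Fact (2 : ℕ).Prime := ⟨Nat.prime_two⟩
  intro h hh
  haveI := S.nilpotent
  obtain ⟨P, hP, hn⟩ := S.sylow_two
  rw [hP]
  haveI : (P : Subgroup L₀).Characteristic := Sylow.characteristic_of_normal P hn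
  exact map_norm S.lnorm _ hh

theorem not_dvd_index : ¬ 2 ∣ (coreOf 2 L₀).relIndex H := by
  haveI : Fact (2 : ℕ).Prime := ⟨Nat.prime_two⟩
  obtain ⟨P, hP, -⟩ := S.sylow_two
  have hle : coreOf 2 L₀ ≤ L₀ := map_subtype_le _
  rw [← relIndex_mul_relIndex _ _ _ hle S.le]
  refine Nat.prime_two.not_dvd_mul ?_ S.oddIndex
  rw [hP, relIndex, subgroupOf, comap_map_eq_self_of_injective L₀.subtype_injective]
  exact P.not_dvd_index

/-- The 2-elements of `H` lie in `S`. -/
theorem mem_core {x : G} (hx : x ∈ H) {k : ℕ} (hk : x ^ 2 ^ k = 1) : x ∈ coreOf 2 L₀ := by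
  haveI : Fact (2 : ℕ).Prime := ⟨Nat.prime_two⟩
  set S₂ := coreOf 2 L₀
  let Q : Sylow 2 H := IsPGroup.toSylow (P := S₂.subgroupOf H)
    (S.isPGroup_core.of_equiv (subgroupOfEquivOfLe S.core_le).symm) S.not_dvd_index
  haveI hn : (Q : Subgroup H).Normal := ⟨fun a ha g =>
    (mem_normalizer_iff.1 (S.core_norm g.2) a).1 ha⟩
  have hzp : IsPGroup 2 (zpowers (⟨x, hx⟩ : H)) := by
    refine IsPGroup.of_card_dvd_pow (n := k) ?_
    rw [Nat.card_zpowers]
    exact orderOf_dvd_of_pow_eq_one (Subtype.ext (by simpa using hk))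
  obtain ⟨Q', hQ'⟩ := hzp.exists_le_sylow
  haveI := Sylow.unique_of_normal Q hn
  have : (⟨x, hx⟩ : H) ∈ (Q : Subgroup H) := by
    rw [show Q = Q' from Subsingleton.elim _ _]
    exact hQ' (mem_zpowers _)
  exact this

theorem mem_core_invol {i : G} (hi : i ∈ H) (h2 : orderOf i = 2) : i ∈ coreOf 2 L₀ :=
  S.mem_core hi (k := 1) (by rw [pow_one, ← h2, pow_orderOf_eq_one])

theorem move {g s : G} (hs : s ∈ coreOf 2 L₀) (hs1 : s ≠ 1) (hg : g * s * g⁻¹ ∈ H) : g ∈ H := by
  obtain ⟨k, hk⟩ := S.isPGroup_core ⟨s, hs⟩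
  have hk' : s ^ 2 ^ k = 1 := congrArg Subtype.val hk
  obtain ⟨j, -, hj⟩ := (Nat.dvd_prime_pow Nat.prime_two).1 (orderOf_dvd_of_pow_eq_one hk')
  have hj0 : 0 < j := Nat.pos_of_ne_zero fun h => hs1 (orderOf_eq_one_iff.1 (by rw [hj, h, pow_zero]))
  have ho : orderOf (s ^ 2 ^ (j - 1)) = 2 := by
    rw [orderOf_pow' _ (by positivity), hj, Nat.gcd_eq_right (pow_dvd_pow 2 (Nat.sub_le j 1)),
      Nat.pow_div (Nat.sub_le j 1) two_pos]
    rw [Nat.sub_sub_self hj0, pow_one]
  rw [← inv_mem_iff]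
  refine StrongEmbed.mem_of_conj_mem S.se (pow_mem (S.core_le hs) _) ho ?_
  rw [inv_inv, ← conj_pow]
  exact pow_mem hg _

theorem commute_oddH {s j : G} (hs : s ∈ coreOf 2 L₀) (hj : j ∈ oddH H) : Commute s j := by
  refine commute_of_disjoint ?_ (S.core_norm (S.oddH_le hj))
    (S.oddH_norm (S.core_le hs)) hs hj
  haveI : Fact (2 : ℕ).Prime := ⟨Nat.prime_two⟩
  obtain ⟨k, hk⟩ := IsPGroup.iff_card.1 S.isPGroup_core
  refine disjoint_of_coprime_natCard ?_
  rw [hk]
  exact (Nat.coprime_two_left.2 S.odd_oddH).pow_left k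

/-- The odd elements of `H` centralizing `S` lie in the odd core. -/
theorem mem_oddH_of_commute {w : G} (hw : w ∈ H) (hodd : Odd (orderOf w))
    (hc : ∀ s ∈ coreOf 2 L₀, Commute w s) : w ∈ oddH H := by
  haveI : Fact (2 : ℕ).Prime := ⟨Nat.prime_two⟩
  set S₂ := coreOf 2 L₀
  set C := H ⊓ centralizer (S₂ : Set G)
  set P := S₂ ⊓ centralizer (S₂ : Set G)
  have hCP : ∀ x ∈ P, ∀ c ∈ C, Commute x c := fun x hx c hc =>
    mem_centralizer_iff.1 hc.2 x hx.1
  have hidx : ¬ 2 ∣ P.relIndex C := by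
    intro h
    refine S.not_dvd_index (h.trans ?_)
    rw [show P = S₂ ⊓ C from le_antisymm (le_inf inf_le_left (le_inf (inf_le_left.trans S.core_le)
      inf_le_right)) (le_inf inf_le_left (inf_le_right.trans inf_le_right)), inf_relIndex_right]
    haveI : (S₂.subgroupOf H).Normal := ⟨fun a ha g =>
      (mem_normalizer_iff.1 (S.core_norm g.2) a).1 ha⟩
    rw [← relIndex_subgroupOf (show C ≤ H from inf_le_left)]
    exact relIndex_dvd_index_of_normal _ _
  obtain ⟨W, hWodd, hWC, hW⟩ := exists_odd_part (le_inf (inf_le_left.trans S.core_le) inf_le_right)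
    (S.isPGroup_core.to_le inf_le_left) hidx hCP
  refine S.le_oddH (hWC.trans inf_le_left) ?_ hWodd (hW w ⟨hw, mem_centralizer_iff.2
    fun s hs => (hc s hs).eq.symm⟩ hodd)
  intro h hh
  refine CfsgLib.LocalB.mem_normalizer_of_conj_le fun d hd => ?_
  refine hW _ ⟨H.mul_mem (H.mul_mem hh (hWC hd).1) (H.inv_mem hh), mem_centralizer_iff.2 ?_⟩ ?_
  · intro s hs
    have h1 : h⁻¹ * s * h ∈ S₂ := by
      simpa using (mem_normalizer_iff.1 (S.core_norm (H.inv_mem hh)) s).1 hs
    have h2 := mem_centralizer_iff.1 (hWC hd).2 _ h1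
    calc s * (h * d * h⁻¹) = h * (h⁻¹ * s * h * d) * h⁻¹ := by group
      _ = h * (d * (h⁻¹ * s * h)) * h⁻¹ := by rw [h2]
      _ = h * d * h⁻¹ * s := by group
  · rw [← MulAut.conj_apply, MulEquiv.orderOf_eq]
    exact hWodd.of_dvd_nat (orderOf_dvd_natCard W hd)

theorem coreTwo {s : G} (hs : s ∈ coreOf 2 L₀) (hs1 : s ≠ 1) :
    Cfsg.centralizerPPrimeCore 2 s = oddH H := by
  haveI : Fact (2 : ℕ).Prime := ⟨Nat.prime_two⟩
  set C := centralizer ({s} : Set G)
  have hCH : C ≤ H := fun g hg => S.move hs hs1 (by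
    rw [mem_centralizer_singleton_iff.1 hg, mul_inv_cancel_right]; exact S.core_le hs)
  refine le_antisymm ?_ ?_
  · set S₂ := coreOf 2 L₀
    set O := Cfsg.centralizerPPrimeCore 2 s
    rintro w hw
    obtain ⟨w', hw', rfl⟩ := Subgroup.mem_map.1 hw
    have hco : (orderOf (w' : G)).Coprime 2 := by
      rw [orderOf_coe]
      exact (Solvable.coprime_card_pPrimeCore (G := C) 2).coprime_dvd_left
        (orderOf_dvd_natCard _ hw')
    refine S.mem_oddH_of_commute (hCH w'.2) (Nat.coprime_two_right.1 hco) fun r hr => ?_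
    refine CfsgLib.LocalB.commute_of_pxq (p := 2) (P := zpowers s) (R := S₂)
      ((S.isPGroup_core).to_le (zpowers_le.2 hs)) S.isPGroup_core
      (zpowers_le.2 (S.core_norm (S.core_le hs))) hco (S.core_norm (hCH w'.2))
      (fun π hπ => ?_) (fun x hx hxs => ?_) r hr
    · obtain ⟨i, rfl⟩ := hπ
      exact (show Commute s (w' : G) from (mem_centralizer_singleton_iff.1 w'.2).symm).zpow_left i
    · have hxC : x ∈ C := mem_centralizer_singleton_iff.2 (hxs s (mem_zpowers s)).symm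
      set O' := Cfsg.pPrimeCore 2 C
      set T := S₂.subgroupOf C
      haveI hT : T.Normal := ⟨fun a ha g =>
        (mem_normalizer_iff.1 (S.core_norm (hCH g.2)) a).1 ha⟩
      have hTp : IsPGroup 2 T := S.isPGroup_core.comap_of_injective _ C.subtype_injective
      have hd : Disjoint O' T := by
        obtain ⟨k, hk⟩ := IsPGroup.iff_card.1 hTp
        refine disjoint_of_coprime_natCard ?_
        rw [hk]
        exact (Solvable.coprime_card_pPrimeCore (G := C) 2).pow_right k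
      have := commute_of_normal_of_disjoint O' T (Solvable.pPrimeCore_normal 2) hT hd w' ⟨x, hxC⟩
        hw' hx
      exact congrArg Subtype.val this.eq
  · intro j hj
    have hjC : j ∈ C := mem_centralizer_singleton_iff.2 (S.commute_oddH hs hj).eq.symm
    refine ⟨⟨j, hjC⟩, ?_, rfl⟩
    refine Solvable.le_pPrimeCore 2 (N := (oddH H).subgroupOf C) ⟨fun a ha g =>
      (mem_normalizer_iff.1 (S.oddH_norm (hCH g.2)) a).1 ha⟩ ?_ (show (⟨j, hjC⟩ : C) ∈ _ from hj)
    have hle : oddH H ≤ C := fun y hy =>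
      mem_centralizer_singleton_iff.2 (S.commute_oddH hs hy).eq.symm
    rw [Nat.card_congr (subgroupOfEquivOfLe hle).toEquiv]
    exact Nat.coprime_two_right.2 S.odd_oddH

theorem solvable : Group.IsSolvable H := by
  haveI := S.nilpotent
  haveI hn : (L₀.subgroupOf H).Normal := ⟨fun a ha g => (mem_normalizer_iff.1 (S.lnorm g.2) a).1 ha⟩
  haveI : Group.IsSolvable (L₀.subgroupOf H) :=
    Group.isSolvable_of_isSolvable_injective (f := (subgroupOfEquivOfLe S.le).toMonoidHom)
      (subgroupOfEquivOfLe S.le).injective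
  haveI : Group.IsSolvable (H ⧸ L₀.subgroupOf H) := by
    refine CfsgLib.OddEnd.odd_solvable _ ?_
    rw [← index_eq_card, ← Nat.not_even_iff_odd, even_iff_two_dvd]
    exact S.oddIndex
  exact Group.isSolvable_of_ker_le_range (L₀.subgroupOf H).subtype (QuotientGroup.mk' (L₀.subgroupOf H))
    (by rw [QuotientGroup.ker_mk', range_subtype])

theorem solvable_le {C : Subgroup G} (hC : C ≤ H) : Group.IsSolvable C := by
  haveI := S.solvable
  exact Group.isSolvable_of_isSolvable_injective (inclusion_injective hC)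

theorem coreQ_le : coreQ q L₀ ≤ L₀ := map_subtype_le _

theorem coreQ_eq {y : G} (hy : y ∈ N) (hy1 : y ≠ 1) :
    Cfsg.centralizerPPrimeCore q y = coreQ q L₀ := by
  haveI : Fact q.Prime := ⟨S.prime⟩
  set C := centralizer ({y} : Set G)
  have hCH : C ≤ H := S.semireg y hy hy1
  have hLC : L₀ ≤ C := fun l hl => mem_centralizer_singleton_iff.2
    ((S.cent l (S.le hl)).1 hl y hy).eq
  have hN : N ≤ C := S.nle.trans hLC
  refine le_antisymm ?_ ?_
  · have hO : ∀ w ∈ Cfsg.centralizerPPrimeCore q y, w ∈ L₀ := by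
      intro w hw
      obtain ⟨w', hw', rfl⟩ := Subgroup.mem_map.1 hw
      refine (S.cent _ (hCH w'.2)).2 fun z hz => ?_
      haveI hNn : (N.subgroupOf C).Normal := ⟨fun a ha g =>
        (mem_normalizer_iff.1 (S.nnorm (hCH g.2)) a).1 ha⟩
      have hd : Disjoint (Cfsg.pPrimeCore q C) (N.subgroupOf C) := by
        obtain ⟨k, hk⟩ := IsPGroup.iff_card.1
          (S.qgroup.comap_of_injective _ C.subtype_injective : IsPGroup q (N.subgroupOf C))
        refine disjoint_of_coprime_natCard ?_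
        rw [show Nat.card (N.subgroupOf C) = _ from hk]
        exact (Solvable.coprime_card_pPrimeCore (G := C) q).pow_right k
      exact congrArg Subtype.val (commute_of_normal_of_disjoint _ _ (Solvable.pPrimeCore_normal q)
        hNn hd w' ⟨z, hN hz⟩ hw' hz).eq
    intro w hw
    refine ⟨⟨w, hO w hw⟩, ?_, rfl⟩
    refine Solvable.le_pPrimeCore q (N := (Cfsg.centralizerPPrimeCore q y).subgroupOf L₀) ?_ ?_
      (show (⟨w, hO w hw⟩ : L₀) ∈ _ from hw)
    · constructor
      intro a ha g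
      obtain ⟨a', ha', hae⟩ := Subgroup.mem_map.1 ha
      refine ⟨⟨g, hLC g.2⟩ * a' * ⟨g, hLC g.2⟩⁻¹,
        (Solvable.pPrimeCore_normal q).conj_mem a' ha' _, ?_⟩
      have hae' : (a' : G) = (a : G) := hae
      simp [hae']
    · rw [Nat.card_congr (subgroupOfEquivOfLe hO).toEquiv, Cfsg.centralizerPPrimeCore,
        card_map_of_injective C.subtype_injective]
      exact Solvable.coprime_card_pPrimeCore (G := C) q
  · intro w hw
    have hwC : w ∈ C := hLC (S.coreQ_le hw)
    refine ⟨⟨w, hwC⟩, ?_, rfl⟩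
    have hle : coreQ q L₀ ≤ C := S.coreQ_le.trans hLC
    refine Solvable.le_pPrimeCore q (N := (coreQ q L₀).subgroupOf C) ?_ ?_
      (show (⟨w, hwC⟩ : C) ∈ _ from hw)
    · haveI : (Cfsg.pPrimeCore q L₀).Characteristic := by
        haveI : Fact q.Prime := ⟨S.prime⟩
        exact characteristic_iff_map_le.2 fun φ => Solvable.le_pPrimeCore q
          (Subgroup.Normal.map (Solvable.pPrimeCore_normal q) _ φ.surjective)
          (by rw [card_map_of_injective φ.injective]; exact Solvable.coprime_card_pPrimeCore q)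
      exact ⟨fun a ha g => (mem_normalizer_iff.1 (map_norm S.lnorm _ (hCH g.2)) a).1 ha⟩
    · rw [Nat.card_congr (subgroupOfEquivOfLe hle).toEquiv, coreQ,
        card_map_of_injective L₀.subtype_injective]
      exact Solvable.coprime_card_pPrimeCore (G := L₀) q

theorem core_le_coreQ : coreOf 2 L₀ ≤ coreQ q L₀ := by
  haveI : Fact (2 : ℕ).Prime := ⟨Nat.prime_two⟩
  obtain ⟨P, hP, hn⟩ := S.sylow_two
  rw [hP]
  refine map_mono (Solvable.le_pPrimeCore q hn ?_)
  obtain ⟨k, hk⟩ := IsPGroup.iff_card.1 P.2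
  rw [hk]
  exact ((Nat.coprime_primes Nat.prime_two S.prime).2 fun h =>
    absurd (h.symm ▸ S.odd : Odd 2) (by decide)).pow_left k

theorem n_le_oddH : N ≤ oddH H := by
  haveI : Fact q.Prime := ⟨S.prime⟩
  refine S.le_oddH (S.nle.trans S.le) S.nnorm ?_
  obtain ⟨k, hk⟩ := IsPGroup.iff_card.1 S.qgroup
  rw [hk]; exact S.odd.pow

theorem mem_coreQ_iff (z : G) :
    z ∈ coreQ q L₀ ↔ ∃ s ∈ coreOf 2 L₀, ∃ k ∈ coreQ q L₀ ⊓ oddH H, z = s * k := by
  haveI : Fact (2 : ℕ).Prime := ⟨Nat.prime_two⟩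
  refine ⟨fun hz => ?_, fun ⟨s, hs, k, hk, e⟩ => e ▸ mul_mem (S.core_le_coreQ hs) hk.1⟩
  obtain ⟨⟨n, hn⟩, -⟩ : (∃ a, orderOf z = 2 ^ (orderOf z).factorization 2 * a) ∧ True :=
    ⟨Nat.ordProj_dvd _ 2, trivial⟩
  set e := (orderOf z).factorization 2
  have hodd : Odd n := by
    rw [← Nat.not_even_iff_odd, even_iff_two_dvd]
    intro h
    refine Nat.pow_succ_factorization_not_dvd (orderOf_pos z).ne' Nat.prime_two ?_
    rw [pow_succ]
    conv_rhs => rw [hn]
    exact Nat.mul_dvd_mul_left _ h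
  have hco : Nat.Coprime (2 ^ e) n := (Nat.coprime_two_left.2 hodd).pow_left e
  obtain ⟨a, ha1, ha2⟩ := Nat.chineseRemainder hco 1 0
  obtain ⟨b, hb1, hb2⟩ := Nat.chineseRemainder hco 0 1
  have hs : z ^ a ∈ coreOf 2 L₀ := by
    refine S.mem_core (S.le (pow_mem (S.coreQ_le hz) a)) (k := e) ?_
    rw [← pow_mul, ← orderOf_dvd_iff_pow_eq_one, hn, mul_comm (2 ^ e) n]
    exact Nat.mul_dvd_mul (Nat.modEq_zero_iff_dvd.1 ha2) dvd_rfl
  have hab : z ^ a * z ^ b = z := by
    rw [← pow_add]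
    conv_rhs => rw [← pow_one z]
    rw [pow_eq_pow_iff_modEq, hn]
    exact (Nat.modEq_and_modEq_iff_modEq_mul hco).1 ⟨ha1.add hb1, ha2.add hb2⟩
  refine ⟨z ^ a, hs, z ^ b, ⟨pow_mem hz b, ?_⟩, hab.symm⟩
  have hbo : Odd (orderOf (z ^ b)) := by
    refine hodd.of_dvd_nat (orderOf_dvd_of_pow_eq_one ?_)
    rw [← pow_mul, ← orderOf_dvd_iff_pow_eq_one, hn]
    exact Nat.mul_dvd_mul (Nat.modEq_zero_iff_dvd.1 hb1) dvd_rfl
  refine S.mem_oddH_of_commute (S.le (pow_mem (S.coreQ_le hz) b)) hbo fun s hs => ?_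
  haveI := S.nilpotent
  obtain ⟨k, hk⟩ := S.isPGroup_core ⟨s, hs⟩
  have hsL : s ∈ L₀ := map_subtype_le _ hs
  have := CfsgLib.FGSA.commute_of_coprime_orderOf (G := L₀)
    ⟨z ^ b, pow_mem (S.coreQ_le hz) b⟩ ⟨s, hsL⟩ (by
      rw [Subgroup.orderOf_mk, Subgroup.orderOf_mk]
      exact ((Nat.coprime_two_right.2 hbo).pow_right k).coprime_dvd_right
        (orderOf_dvd_of_pow_eq_one (congrArg Subtype.val hk)))
  exact congrArg Subtype.val this.eq

theorem ker {R : Subgroup G} (hR : R.Normal) (hNR : N ≤ R) : R = ⊤ := by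
  haveI := hR
  have heven : ¬ Odd (Nat.card R) := fun h => S.nne (le_bot_iff.1 (hNR.trans
    ((Solvable.le_pPrimeCore 2 hR (Nat.coprime_two_right.2 h)).trans_eq S.oddCore)))
  obtain ⟨i, hi⟩ := exists_prime_orderOf_dvd_card' (G := R) 2
    (even_iff_two_dvd.1 (Nat.not_odd_iff_even.1 heven))
  rw [eq_top_iff, ← S.gen, closure_le]
  intro t ht
  obtain ⟨c, hc⟩ := isConj_iff.1 (StrongEmbed.isConj_of_invols S.se
    (a := (i : G)) (b := t) (by rwa [orderOf_coe]) ht)
  rw [← hc]
  exact hR.conj_mem _ i.2 c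

/-- The data of the character part. -/
theorem data {A : Subgroup G} (hA : A ≤ normalizer (N : Set G)) (hodd : Odd (Nat.card A))
    (hfix : ∀ a ∈ A, a ≠ 1 → ∀ y ∈ N, a * y = y * a → y = 1) {t : G} (ht : t ∈ H)
    (ht2 : orderOf t = 2) :
    CharPart.Data H (coreOf 2 L₀) (oddH H) N (coreQ q L₀ ⊓ oddH H) A q t where
  two := S.isPGroup_core
  le := S.core_le
  norm h hh s hs := (mem_normalizer_iff.1 (S.core_norm hh) s).1 hs
  move _ _ := S.move
  mem_t := S.mem_core_invol ht ht2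
  ord_t := ht2
  invol _ := S.mem_core_invol
  trans i _ hi := StrongEmbed.isConj_of_invols S.se ht2 hi
  odd := S.odd_oddH
  coreTwo _ := S.coreTwo
  solvTwo s hs hs1 := S.solvable_le fun g hg => S.move hs hs1 (by
    rw [mem_centralizer_singleton_iff.1 hg, mul_inv_cancel_right]; exact S.core_le hs)
  prime := S.prime
  qgroup := S.qgroup
  nle := S.n_le_oddH
  kle := inf_le_right
  ne_bot := S.nne
  coreQ y hy hy1 z := by rw [S.coreQ_eq hy hy1]; exact S.mem_coreQ_iff z
  solvQ y hy hy1 := S.solvable_le (S.semireg y hy hy1)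
  ker _ := S.ker
  anorm a ha y hy := (mem_normalizer_iff.1 (hA ha) y).1 hy
  aodd := hodd
  afix := hfix

end Shape

end CfsgLib.Bender.CharShape
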