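import Cfsg.Agent.Bender.CoreDefs
import Cfsg.Agent.Bender.RankOne

/-!
Bender's theorem on the core of a strongly embedded subgroup: reduction to the setting of a minimal
counterexample.
-/

set_option autoImplicit false
set_option linter.unusedSectionVars false
set_option linter.style.haveILetI false

namespace CfsgLib.Bender.Core

open Subgroup
open CfsgLib.FusionLift (cj mem_cj card_cj)
open CfsgLib.Bender.GSide

universe u

section Pre

variable {G : Type u} [Group G] [Finite G] {H : Subgroup G}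

/-- An odd order subgroup normalized by two commuting involutions fixes their common point. -/
theorem odd_le_st (hse : Cfsg.IsStronglyEmbedded H) {X : Subgroup G} (hX : Odd (Nat.card X))
    {u v : G} (hu : orderOf u = 2) (hv : orderOf v = 2) (hne : u ≠ v) (hc : Commute u v)
    (huX : u ∈ normalizer (X : Set G)) (hvX : v ∈ normalizer (X : Set G)) {e : G ⧸ H}
    (hue : u • e = e) : X ≤ st e := by
  set A := zpowers u ⊔ zpowers v
  have hAX : A ≤ normalizer (X : Set G) := sup_le (zpowers_le.2 huX) (zpowers_le.2 hvX)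
  have hA2 : IsPGroup 2 A := by
    have h1 : ∀ w : G, orderOf w = 2 → IsPGroup 2 (zpowers w) := fun w hw =>
      IsPGroup.of_card (n := 1) (by rw [Nat.card_zpowers, hw, pow_one])
    refine (h1 u hu).to_sup_of_normal_left' (h1 v hv) (zpowers_le.2 ?_)
    exact mem_normalizer_iff_map_conj_eq.2 (by
      rw [MonoidHom.map_zpowers]
      congr 1
      simp [hc.symm.eq])
  have hcop : (Nat.card A).Coprime (Nat.card X) := by
    haveI : Fact (Nat.Prime 2) := ⟨Nat.prime_two⟩
    obtain ⟨k, hk⟩ := IsPGroup.iff_card.1 hA2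
    rw [hk]
    exact (Nat.coprime_two_left.2 hX).pow_left k
  have hsolv : Group.IsSolvable A ∨ Group.IsSolvable X := Or.inr (OddEnd.odd_solvable X hX)
  suffices h : X ⊓ st e = X from h ▸ inf_le_right
  refine eq_of_le_of_card_ge inf_le_left (Nat.le_of_dvd Nat.card_pos ?_)
  refine (Nat.dvd_iff_prime_pow_dvd_dvd _ _).2 fun p k hp hpk => ?_
  haveI : Fact p.Prime := ⟨hp⟩
  rcases Nat.eq_zero_or_pos k with rfl | hk
  · exact one_dvd _
  have hpodd : Odd p := hX.of_dvd_nat ((dvd_pow_self p hk.ne').trans hpk)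
  obtain ⟨P, hP⟩ := CoprimeAct.exists_invariant_sylow hAX hcop hsolv p
  have hPe : (P : Subgroup X).map X.subtype ≤ st e :=
    le_st_of_pair hse hpodd (P.isPGroup'.map _) hu hv hne hc
      (hP (mem_sup_left (mem_zpowers _))) (hP (mem_sup_right (mem_zpowers _))) hue
  refine dvd_trans ?_ (card_dvd_of_le (le_inf (map_subtype_le _) hPe))
  rw [card_map_of_injective X.subtype_injective, P.card_eq_multiplicity]
  exact pow_dvd_pow p ((hp.pow_dvd_iff_le_factorization Nat.card_pos.ne').1 hpk)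

/-- A normal subgroup of odd order lies in a strongly embedded subgroup, for rank at least two. -/
theorem normal_odd_le (hse : Cfsg.IsStronglyEmbedded H) (hp : PairRank G) {X : Subgroup G}
    (hn : X.Normal) (hX : Odd (Nat.card X)) : X ≤ H := by
  obtain ⟨a, haH, ha⟩ := StrongEmbed.exists_invol hse
  obtain ⟨u, v, hu, hv, hne, hc⟩ := hp
  obtain ⟨z, -, hz, hza, hcz⟩ :=
    GSide.exists_partner (N := (⊤ : Subgroup G)) (mem_top a) ha (mem_top u) hu (mem_top v) hv hne hc
  have h := odd_le_st hse hX ha hz hza.symm hcz (by rw [normalizer_eq_top_iff.2 hn]; exact mem_top a)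
    (by rw [normalizer_eq_top_iff.2 hn]; exact mem_top z) (e := (QuotientGroup.mk 1 : G ⧸ H))
    (StrongEmbed.smul_mk_one_iff.2 haH)
  rwa [st_one] at h

/-- A subgroup containing all involutions inherits a strongly embedded subgroup. -/
theorem se_subgroupOf (hse : Cfsg.IsStronglyEmbedded H) {G0 : Subgroup G}
    (hinv : ∀ t : G, orderOf t = 2 → t ∈ G0) : Cfsg.IsStronglyEmbedded (H.subgroupOf G0) := by
  obtain ⟨z, hzH, hz⟩ := StrongEmbed.exists_invol hse
  refine ⟨?_, ?_, fun m hm => ?_⟩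
  · intro h
    refine hse.1 (eq_top_iff.2 fun g _ => ?_)
    by_contra hg
    obtain ⟨i, hi, hix⟩ := StrongEmbed.exists_swap hse
      (x := (QuotientGroup.mk 1 : G ⧸ H)) (y := g • QuotientGroup.mk 1)
      (fun h' => hg (StrongEmbed.smul_mk_one_iff.1 h'.symm))
    refine hg (StrongEmbed.smul_mk_one_iff.1 ?_)
    rw [← hix, StrongEmbed.smul_mk_one_iff]
    exact subgroupOf_eq_top.1 h (hinv i hi)
  · rw [even_iff_two_dvd, ← hz]
    exact (Subgroup.orderOf_mk (H := G0) z (hinv z hz)).symm ▸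
      Subgroup.orderOf_dvd_natCard (H.subgroupOf G0) (x := ⟨z, hinv z hz⟩) hzH
  · refine (hse.2.2 m fun h => hm h).of_dvd_nat ?_
    rw [← card_map_of_injective G0.subtype_injective]
    refine card_dvd_of_le ?_
    rintro _ ⟨k, ⟨hk1, j, hj, rfl⟩, rfl⟩
    exact ⟨hk1, _, hj, rfl⟩

/-- A subgroup containing all involutions is doubly transitive. -/
theorem pair_move (hse : Cfsg.IsStronglyEmbedded H) {G0 : Subgroup G}
    (hinv : ∀ t : G, orderOf t = 2 → t ∈ G0) (hp : PairRank G) {a b c d : G ⧸ H} (hab : a ≠ b)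
    (hcd : c ≠ d) : ∃ g ∈ G0, g • a = c ∧ g • b = d := by
  have hmove : ∀ x : G ⧸ H, ∃ g ∈ G0, g • (QuotientGroup.mk 1 : G ⧸ H) = x := fun x => by
    by_cases h : x = QuotientGroup.mk 1
    · exact ⟨1, one_mem _, by rw [one_smul, h]⟩
    · obtain ⟨i, hi, hix⟩ := StrongEmbed.exists_swap hse (Ne.symm h)
      exact ⟨i, hinv i hi, hix⟩
  have hK := se_subgroupOf hse hinv
  have hpp : PairRank G0 := by
    obtain ⟨u, v, hu, hv, hne, hc⟩ := hp
    exact ⟨⟨u, hinv u hu⟩, ⟨v, hinv v hv⟩, by rw [Subgroup.orderOf_mk, hu],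
      by rw [Subgroup.orderOf_mk, hv], fun h => hne (congrArg Subtype.val h), Subtype.ext hc⟩
  have hbase : ∀ x y : G ⧸ H, x ≠ QuotientGroup.mk 1 → y ≠ QuotientGroup.mk 1 →
      ∃ g ∈ G0, g • (QuotientGroup.mk 1 : G ⧸ H) = QuotientGroup.mk 1 ∧ g • x = y := by
    intro x y hx hy
    obtain ⟨i, hi, rfl⟩ := hmove x
    obtain ⟨j, hj, rfl⟩ := hmove y
    obtain ⟨k, hk, hkj⟩ := two_transitive_of_pair hK hpp ⟨i, hi⟩ ⟨j, hj⟩
      (fun h => hx (StrongEmbed.smul_mk_one_iff.2 h)) (fun h => hy (StrongEmbed.smul_mk_one_iff.2 h))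
    refine ⟨k, k.2, StrongEmbed.smul_mk_one_iff.2 hk, ?_⟩
    have hkj' : (j⁻¹ * ((k : G) * i)) • (QuotientGroup.mk 1 : G ⧸ H) = QuotientGroup.mk 1 :=
      StrongEmbed.smul_mk_one_iff.2 hkj
    rw [mul_smul, mul_smul, inv_smul_eq_iff] at hkj'
    exact hkj' 
  obtain ⟨g, hg, hga⟩ := hmove a
  obtain ⟨g', hg', hgc⟩ := hmove c
  obtain ⟨k, hk, hk1, hk2⟩ := hbase (g⁻¹ • b) (g'⁻¹ • d)
    (fun h => hab (by rw [← hga, ← h, smul_inv_smul]))
    (fun h => hcd (by rw [← hgc, ← h, smul_inv_smul]))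
  refine ⟨g' * k * g⁻¹, mul_mem (mul_mem hg' hk) (inv_mem hg), ?_, ?_⟩
  · rw [mul_smul, inv_smul_eq_iff.2 hga.symm, mul_smul, hk1, hgc]
  · rw [mul_smul, mul_smul, hk2, smul_inv_smul]

/-- Two involutions at a point are conjugate by an element of any subgroup containing all
involutions which fixes this point and a second one. -/
theorem trans_pair_mem (hse : Cfsg.IsStronglyEmbedded H) {G0 : Subgroup G}
    (hinv : ∀ t : G, orderOf t = 2 → t ∈ G0) (hp : PairRank G) {e f : G ⧸ H} (hef : e ≠ f) {v z : G}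
    (hv : orderOf v = 2) (hz : orderOf z = 2) (hve : v • e = e) (hze : z • e = e) :
    ∃ d ∈ G0 ⊓ (st e ⊓ st f), d * v * d⁻¹ = z := by
  obtain ⟨a0, ha0⟩ : ∃ a0 : G ⧸ H, a0 = QuotientGroup.mk 1 := ⟨_, rfl⟩
  obtain ⟨g₁, hg₁⟩ := exists_smul a0 e
  set y := g₁⁻¹ • f with hy
  have hya : y ≠ a0 := fun h => hef (by rw [← hg₁, ← h, hy, smul_inv_smul])
  obtain ⟨g, hg, hga, hgy⟩ := pair_move hse hinv hp hya.symm hef
  obtain ⟨u, hu, huy⟩ := StrongEmbed.exists_swap hse hya.symm
  have hconj : ∀ w : G, orderOf w = 2 → w • e = e →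
      orderOf (g⁻¹ * w * g) = 2 ∧ g⁻¹ * w * g ∈ H := by
    intro w hw hwe
    refine ⟨by rw [show g⁻¹ * w * g = g⁻¹ * w * g⁻¹⁻¹ by group, Invol.orderOf_conj_eq, hw], ?_⟩
    rw [← StrongEmbed.smul_mk_one_iff (H := H), ← ha0, mul_smul, mul_smul, hga, hwe,
      inv_smul_eq_iff, hga]
  obtain ⟨hs2, hsH⟩ := hconj v hv hve
  obtain ⟨ht2, htH⟩ := hconj z hz hze
  set s := g⁻¹ * v * g with hs
  set t := g⁻¹ * z * g with ht
  have hv'y : (u * s * u) • y = y := by
    have := StrongEmbed.link_fix hse hsH hu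
    rwa [← ha0, huy] at this
  have hv'2 : orderOf (u * s * u) = 2 := StrongEmbed.orderOf_link hs2 hu
  have hv'H : u * s * u ∉ H := fun h =>
    hya (StrongEmbed.fix_unique hse hv'2 hv'y (ha0 ▸ StrongEmbed.smul_mk_one_iff.2 h))
  obtain ⟨k, hk, -, hkv⟩ := StrongEmbed.exists_link hse htH ht2 hv'2 hv'H
  have hky : k • a0 = y :=
    StrongEmbed.fix_unique hse hv'2 (ha0 ▸ hkv ▸ StrongEmbed.link_fix hse htH hk) hv'y
  refine ⟨g * (k * u) * g⁻¹, mem_inf.2 ⟨G0.mul_mem (mul_mem hg (mul_mem (hinv k hk) (hinv u hu)))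
    (G0.inv_mem hg), mem_inf.2 ⟨?_, ?_⟩⟩, ?_⟩
  · show (g * (k * u) * g⁻¹) • e = e
    rw [mul_smul, inv_smul_eq_iff.2 hga.symm, mul_smul, mul_smul, huy, swap_back hk hky, hga]
  · show (g * (k * u) * g⁻¹) • f = f
    rw [mul_smul, inv_smul_eq_iff.2 hgy.symm, mul_smul, mul_smul, swap_back hu huy, hky, hgy]
  · have h1 : (k * u) * s * (k * u)⁻¹ = t := by
      rw [mul_inv_rev, Invol.inv_eq_self hk, Invol.inv_eq_self hu,
        show k * u * s * (u * k) = k * (u * s * u) * k by group, ← hkv,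
        show k * (k * t * k) * k = k * k * t * (k * k) by group, Invol.mul_self_eq_one hk]
      group
    calc g * (k * u) * g⁻¹ * v * (g * (k * u) * g⁻¹)⁻¹
        = g * ((k * u) * (g⁻¹ * v * g) * (k * u)⁻¹) * g⁻¹ := by group
      _ = z := by rw [← hs, h1, ht]; group

/-- The stabiliser of two points inside a subgroup containing all involutions fixes only them. -/
theorem fix_pair (hse : Cfsg.IsStronglyEmbedded H) {G0 : Subgroup G}
    (hinv : ∀ t : G, orderOf t = 2 → t ∈ G0) (hp : PairRank G) {a b c : G ⧸ H} (hab : a ≠ b)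
    (hca : c ≠ a) (hfix : G0 ⊓ (st a ⊓ st b) ≤ st c) : c = b := by
  by_contra hcb
  set D := G0 ⊓ (st a ⊓ st b) with hD
  have hDodd : Odd (Nat.card D) :=
    (GSide.odd_pair hse hab).of_dvd_nat (card_dvd_of_le inf_le_right)
  have hDa : D ≤ st a := inf_le_right.trans inf_le_left
  have hDb : D ≤ st b := inf_le_right.trans inf_le_right
  -- the stabiliser of any two fixed points is again `D`
  have hsame : ∀ x y : G ⧸ H, x ≠ y → D ≤ st x → D ≤ st y → G0 ⊓ (st x ⊓ st y) = D := by
    intro x y hxy hx hy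
    obtain ⟨g, hg, hgx, hgy⟩ := pair_move hse hinv hp hxy hab
    refine (eq_of_le_of_card_ge (le_inf inf_le_left (le_inf hx hy)) ?_).symm
    have hle : cj g (G0 ⊓ (st x ⊓ st y)) ≤ D := by
      rintro _ ⟨d, hd, rfl⟩
      exact ⟨G0.mul_mem (G0.mul_mem hg hd.1) (G0.inv_mem hg),
        hgx ▸ le_st_smul (le_refl (st x)) ⟨d, hd.2.1, rfl⟩,
        hgy ▸ le_st_smul (le_refl (st y)) ⟨d, hd.2.2, rfl⟩⟩
    rw [← card_cj g (G0 ⊓ (st x ⊓ st y))]
    exact Nat.le_of_dvd Nat.card_pos (card_dvd_of_le hle)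
  set N := normalizer (D : Set G) with hN
  -- the involutions interchanging two fixed points normalise `D`
  have hsw : ∀ w : G, orderOf w = 2 → ∀ y : G ⧸ H, y ≠ a → D ≤ st y → w • a = y → w ∈ N := by
    intro w hw y hy hDy hwy
    have hwa : w • y = a := swap_back hw hwy
    have heq := hsame a y hy.symm hDa hDy
    refine mem_norm_iff.2 (cj_eq_of_le ?_ le_rfl)
    rw [← heq]
    rintro _ ⟨d, hd, rfl⟩
    exact ⟨G0.mul_mem (G0.mul_mem (hinv w hw) hd.1) (G0.inv_mem (hinv w hw)),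
      hwa ▸ le_st_smul (le_refl (st y)) ⟨d, hd.2.2, rfl⟩,
      hwy ▸ le_st_smul (le_refl (st a)) ⟨d, hd.2.1, rfl⟩⟩
  -- no involution of `N` fixes a point fixed by `D`
  have hout : ∀ v : G, v ∈ N → orderOf v = 2 → ∀ e : G ⧸ H, v • e = e → ¬ D ≤ st e := by
    intro v hv hv2 e hve hDe
    obtain ⟨p, q, hp2, hq2, hne, hc'⟩ := id hp
    obtain ⟨z, -, hz, hzv, hvz⟩ :=
      GSide.exists_partner (N := (⊤ : Subgroup G)) (mem_top v) hv2 (mem_top p) hp2 (mem_top q) hq2 hne hc'
    have hze : z • e = e := by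
      refine StrongEmbed.fix_unique hse hv2 ?_ hve
      rw [← mul_smul, hvz.eq, mul_smul, hve]
    obtain ⟨f, hfe, hfD⟩ : ∃ f : G ⧸ H, e ≠ f ∧ D ≤ st f := by
      by_cases h : a = e
      · exact ⟨b, h ▸ hab, hDb⟩
      · exact ⟨a, Ne.symm h, hDa⟩
    -- conjugation inside the stabiliser of `e` and `f` within `G0`
    have hdz : ∃ d ∈ D, d * v * d⁻¹ = z := by
      rw [← hsame e f hfe hDe hfD]
      exact trans_pair_mem hse hinv hp hfe hv2 hz hve hze
    obtain ⟨d, hdD, hdz⟩ := hdz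
    have hmem : v * d * v⁻¹ ∈ D := (mem_normalizer_iff.1 hv d).1 hdD
    have h1 : v * z = (v * d * v⁻¹) * (v * v) * d⁻¹ := by rw [← hdz]; group
    rw [Invol.mul_self_eq_one hv2, mul_one] at h1
    have h2 : v * z ∈ D := h1 ▸ mul_mem hmem (inv_mem hdD)
    have h3 : orderOf (v * z) = 2 := by
      refine orderOf_eq_prime ?_ ?_
      · rw [hvz.mul_pow, (sq v).trans (Invol.mul_self_eq_one hv2), (sq z).trans (Invol.mul_self_eq_one hz), mul_one]
      · intro h
        exact hzv ((eq_inv_of_mul_eq_one_right h).trans (Invol.inv_eq_self hv2))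
    have h4 := hDodd.of_dvd_nat (Subgroup.orderOf_dvd_natCard _ h2)
    rw [h3] at h4
    exact absurd h4 (by decide)
  obtain ⟨u, hu, hua⟩ := StrongEmbed.exists_swap hse hab
  obtain ⟨w, hw, hwa⟩ := StrongEmbed.exists_swap hse (Ne.symm hca)
  have huN : u ∈ N := hsw u hu b hab.symm hDb hua
  have hwN : w ∈ N := hsw w hw c hca hfix hwa
  have hnp : ¬ HasPair N := by
    intro hpN
    obtain ⟨z, hz, hz2, hne, hc⟩ := hpN.exists_partner huN hu
    obtain ⟨e, he⟩ := StrongEmbed.exists_fix hse hu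
    exact hout u huN hu e he (odd_le_st hse hDodd hu hz2 hne.symm hc huN hz he)
  obtain ⟨o, ho, hou⟩ := exists_conj_of_not_pair hnp huN hu hwN hw
  set O := (Cfsg.oddCore N).map N.subtype with hO
  have hON : O ≤ N := map_subtype_le _
  have hOodd : Odd (Nat.card O) := by
    rw [hO, card_map_of_injective N.subtype_injective]; exact IsoApps.odd_oddCore
  have hnorm : ∀ g ∈ N, ∀ x ∈ O, g * x * g⁻¹ ∈ O := by
    rintro g hg _ ⟨x, hx, rfl⟩
    exact ⟨⟨g, hg⟩ * x * ⟨g, hg⟩⁻¹, (Solvable.pPrimeCore_normal 2).conj_mem x hx _, rfl⟩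
  -- `O(N)` fixes `a`
  have hfixa : ∀ x ∈ O, x • a = a := by
    intro x hx
    by_contra hne
    have hDy : D ≤ st (x • a) := by
      refine le_trans (le_of_eq (mem_norm_iff.1 (hON hx)).symm) ?_
      exact le_st_smul hDa
    obtain ⟨v, hv, hva⟩ := StrongEmbed.exists_swap hse (Ne.symm hne)
    have hvN : v ∈ N := hsw v hv _ hne hDy hva
    set h := x⁻¹ * v with hh
    have hha : h • a = a := by rw [hh, mul_smul, hva, inv_smul_smul]
    have hev : Even (orderOf h) := by
      rcases Nat.even_or_odd (orderOf h) with he | hodd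
      · exact he
      exfalso
      obtain ⟨j, hj⟩ := hodd
      have hpow : ∀ i, h ^ (2 * i) ∈ O := by
        intro i
        rw [pow_mul]
        refine pow_mem ?_ i
        rw [sq, hh, show x⁻¹ * v * (x⁻¹ * v) = x⁻¹ * (v * x⁻¹ * v⁻¹) * (v * v) by group,
          Invol.mul_self_eq_one hv, mul_one]
        exact mul_mem (inv_mem hx) (hnorm v hvN _ (inv_mem hx))
      have h1 : h ∈ O := by
        have h2 : h ^ (2 * (j + 1)) = h := by
          rw [show 2 * (j + 1) = orderOf h + 1 by omega, pow_succ, pow_orderOf_eq_one, one_mul]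
        exact h2 ▸ hpow (j + 1)
      have h3 : v ∈ O := by
        have := mul_mem hx h1
        rwa [hh, mul_inv_cancel_left] at this
      have h4 := hOodd.of_dvd_nat (Subgroup.orderOf_dvd_natCard _ h3)
      rw [hv] at h4
      exact absurd h4 (by decide)
    have hpos : 0 < orderOf h := orderOf_pos h
    obtain ⟨j, hj⟩ := hev
    have hv2 : orderOf (h ^ j) = 2 := by
      rw [orderOf_pow' h (by omega : j ≠ 0), hj, Nat.gcd_eq_right ⟨2, by omega⟩]
      exact Nat.div_eq_of_eq_mul_left (by omega) (by omega)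
    exact hout (h ^ j) (pow_mem (mul_mem (inv_mem (hON hx)) hvN) j) hv2 a
      (MulAction.mem_stabilizer_iff.1 (pow_mem (MulAction.mem_stabilizer_iff.2 hha) j)) hDa
  have hfixb : o • b = b := by
    have h1 : u * o * u⁻¹ ∈ O := hnorm u huN o ho
    have h2 := hfixa _ h1
    rw [mul_smul, mul_smul, Invol.inv_eq_self hu, hua] at h2
    have h3 := congrArg (u • ·) h2
    simp only [← mul_smul] at h3
    rw [← mul_assoc, Invol.mul_self_eq_one hu, one_mul] at h3
    exact h3.trans hua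
  apply hcb
  rw [← hwa, ← hou, mul_smul, mul_smul, inv_smul_eq_iff.2 (hfixa o ho).symm, hua, hfixb]

end Pre

section Reduce

/-- A normal subgroup of odd order lies in the core. -/
theorem le_oddCore {G : Type u} [Group G] {X : Subgroup G} (hn : X.Normal)
    (hX : Odd (Nat.card X)) : X ≤ Cfsg.oddCore G :=
  Solvable.le_pPrimeCore 2 hn (Nat.coprime_two_right.2 hX)

theorem oddCore_le_of
    (main : ∀ (G : Type u) [Group G] [Finite G] (H : Subgroup G), Setting H → Cfsg.oddCore H = ⊥) :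
    ∀ (n : ℕ) (G : Type u) [Group G] [Finite G] (H : Subgroup G), Nat.card G = n →
      Cfsg.IsStronglyEmbedded H → (Cfsg.oddCore H).map H.subtype ≤ Cfsg.oddCore G := by
  intro n
  induction n using Nat.strong_induction_on with
  | _ n ih =>
  intro G _ _ H hn hse
  have hsub : ∀ M : Subgroup G, M ≠ ⊤ → ∀ K : Subgroup M, Cfsg.IsStronglyEmbedded K →
      (Cfsg.oddCore K).map K.subtype ≤ Cfsg.oddCore M := fun M hM K hK =>
    ih (Nat.card M) (hn ▸ lt_of_le_of_ne (card_le_card_group M)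
      (fun h => hM (eq_top_of_card_eq M h))) M K rfl hK
  set X := (Cfsg.oddCore H).map H.subtype with hX
  have hXodd : Odd (Nat.card X) := by
    rw [hX, card_map_of_injective H.subtype_injective]; exact IsoApps.odd_oddCore
  have hXH : X ≤ H := map_subtype_le _
  have hHX : ∀ h ∈ H, ∀ x ∈ X, h * x * h⁻¹ ∈ X := by
    rintro h hh _ ⟨x, hx, rfl⟩
    exact ⟨⟨h, hh⟩ * x * ⟨h, hh⟩⁻¹, (Solvable.pPrimeCore_normal 2).conj_mem x hx _, rfl⟩
  by_cases hp : PairRank G
  swap
  · have hsup := (rankOne_branch hse hp).2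
    haveI hOn : (Cfsg.oddCore G).Normal := Solvable.pPrimeCore_normal 2
    have h1 : Odd (Nat.card (X ⊔ Cfsg.oddCore G : Subgroup G)) :=
      (hXodd.mul IsoApps.odd_oddCore).of_dvd_nat
        (Solvable.card_sup_dvd (le_normalizer_of_normal (H := Cfsg.oddCore G) (K := X)))
    have h2 : (X ⊔ Cfsg.oddCore G).Normal := by
      rw [← normalizer_eq_top_iff, eq_top_iff, ← hsup]
      refine sup_le ((le_sup_right).trans le_normalizer) fun h hh => ?_
      rw [mem_norm_iff]
      refine (Subgroup.map_sup _ _ _).trans ?_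
      congr 1
      · exact mem_norm_iff.1 (mem_norm_iff.2 (cj_eq_of_le (by
          rintro _ ⟨x, hx, rfl⟩
          exact hHX h hh x hx) le_rfl))
      · exact mem_norm_iff.1 (by rw [normalizer_eq_top_iff.2 hOn]; exact mem_top h)
    exact le_sup_left.trans (le_oddCore h2 h1)
  by_cases hcore : H.normalCore = ⊥
  swap
  · obtain ⟨g, hg⟩ : ∃ g, g ∉ H := by
      by_contra hc; push Not at hc; exact hse.1 (eq_top_iff.2 fun g _ => hc g)
    set N := H.normalCore with hN
    haveI hNn : N.Normal := inferInstance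
    have hNH : N ≤ H := normalCore_le H
    have hNodd : Odd (Nat.card N) := by
      refine (hse.2.2 g hg).of_dvd_nat (card_dvd_of_le (le_inf hNH fun x hx => ?_))
      exact ⟨g⁻¹ * x * g⁻¹⁻¹, hNH (hNn.conj_mem x hx g⁻¹), by simp [mul_assoc]⟩
    set π := QuotientGroup.mk' N with hπ
    have hπs : Function.Surjective π := QuotientGroup.mk'_surjective N
    have hcard : ∀ K : Subgroup (G ⧸ N), Nat.card (K.comap π) = Nat.card N * Nat.card K :=
      fun K => QuotientGroup.card_preimage_mk N (K : Set (G ⧸ N))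
    have hHc : (H.map π).comap π = H :=
      comap_map_eq_self (by rw [hπ, QuotientGroup.ker_mk']; exact hNH)
    have hK : Cfsg.IsStronglyEmbedded (H.map π) := by
      refine ⟨fun h => hse.1 (by rw [← hHc, h, comap_top]), ?_, fun m hm => ?_⟩
      · have := hse.2.1
        rw [← hHc, hcard, Nat.even_mul] at this
        exact this.resolve_left (Nat.not_even_iff_odd.2 hNodd)
      · obtain ⟨m, rfl⟩ := hπs m
        have hmH : m ∉ H := fun h => hm (mem_map_of_mem π h)
        refine (hse.2.2 m hmH).of_dvd_nat ?_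
        refine Dvd.dvd.trans ?_ (card_map_dvd (f := π) _)
        refine card_dvd_of_le ?_
        rintro y ⟨hy1, k, hk, rfl⟩
        obtain ⟨k, hk', rfl⟩ := hk
        refine ⟨m * k * m⁻¹, ⟨?_, k, hk', rfl⟩, by simp⟩
        show m * k * m⁻¹ ∈ H
        rw [← hHc, mem_comap]
        simpa using hy1
    have hlt : Nat.card (G ⧸ N) < n := by
      rw [← hn, N.card_eq_card_quotient_mul_card_subgroup]
      exact lt_mul_of_one_lt_right Nat.card_pos
        (one_lt_card_iff_ne_bot _ |>.2 hcore)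
    have hIH := ih _ hlt (G ⧸ N) (H.map π) rfl hK
    have hXπ : X.map π ≤ (Cfsg.oddCore (H.map π)).map (H.map π).subtype := by
      intro y hy
      obtain ⟨x, hx, rfl⟩ := hy
      refine ⟨⟨π x, mem_map_of_mem π (hXH hx)⟩, le_oddCore (X := (X.map π).subgroupOf (H.map π))
        ?_ ?_ (mem_map_of_mem π hx), rfl⟩
      · constructor
        intro a ha b
        obtain ⟨h, hh, hhb⟩ := b.2
        obtain ⟨x', hx', hxa⟩ := ha
        refine ⟨h * x' * h⁻¹, hHX h hh x' hx', ?_⟩
        simp only [map_mul, map_inv, Subgroup.subtype_apply]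
        rw [hxa, hhb]
        rfl
      · rw [Nat.card_congr (subgroupOfEquivOfLe (Subgroup.map_mono hXH)).toEquiv]
        exact hXodd.of_dvd_nat (card_map_dvd X π)
    refine le_trans ?_ (le_oddCore (X := (Cfsg.oddCore (G ⧸ N)).comap π) ?_ ?_)
    · exact map_le_iff_le_comap.1 (hXπ.trans hIH)
    · haveI := Solvable.pPrimeCore_normal (G := G ⧸ N) 2
      exact Normal.comap inferInstance π
    · rw [hcard]
      exact hNodd.mul IsoApps.odd_oddCore
  have hO : Cfsg.oddCore G = ⊥ := by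
    refine le_bot_iff.1 (hcore ▸ ?_)
    exact normal_le_normalCore (hN := Solvable.pPrimeCore_normal 2) |>.2
      (normal_odd_le hse hp (Solvable.pPrimeCore_normal 2) IsoApps.odd_oddCore)
  rw [hO, le_bot_iff]
  set G0 := Subgroup.closure {t : G | orderOf t = 2} with hG0
  have hinv : ∀ t : G, orderOf t = 2 → t ∈ G0 := fun t ht => subset_closure ht
  by_cases hgen : G0 = ⊤
  · rw [hX, main G H ⟨hse, hp, hcore, hgen, hsub⟩, Subgroup.map_bot]
  haveI hG0n : G0.Normal := by
    constructor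
    intro a ha g
    have : G0.map (MulAut.conj g).toMonoidHom ≤ G0 := by
      rw [hG0, MonoidHom.map_closure, closure_le]
      rintro _ ⟨t, ht, rfl⟩
      exact subset_closure (show orderOf (g * t * g⁻¹) = 2 by rw [Invol.orderOf_conj_eq]; exact ht)
    exact this ⟨a, ha, rfl⟩
  have hK0 : Cfsg.oddCore (H.subgroupOf G0) = ⊥ := by
    have h := hsub G0 hgen _ (se_subgroupOf hse hinv)
    have h' : (Cfsg.oddCore G0).map G0.subtype ≤ Cfsg.oddCore G := by
      refine le_oddCore ?_ (by rw [card_map_of_injective G0.subtype_injective];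
                               exact IsoApps.odd_oddCore)
      constructor
      rintro _ ⟨a, ha, rfl⟩ g
      haveI : (Cfsg.oddCore G0).Characteristic := characteristic_iff_map_le.2 fun φ =>
        le_oddCore ((Solvable.pPrimeCore_normal 2).map _ φ.surjective)
          (by rw [card_map_of_injective φ.injective]; exact IsoApps.odd_oddCore)
      exact ⟨MulAut.conjNormal g a, (characteristic_iff_map_eq (H := Cfsg.oddCore G0)).1 this
        (MulAut.conjNormal g) |>.le ⟨a, ha, rfl⟩, rfl⟩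
    rw [hO, le_bot_iff, map_eq_bot_iff_of_injective _ G0.subtype_injective] at h'
    rwa [h', le_bot_iff, map_eq_bot_iff_of_injective _ (Subgroup.subtype_injective _)] at h
  have hcomm : ∀ x ∈ X, ∀ d ∈ G0, d ∈ H → Commute d x := by
    intro x hx d hd hdH
    have h1 : d * x * d⁻¹ * x⁻¹ ∈ X := mul_mem (hHX d hdH x hx) (inv_mem hx)
    have h2 : d * x * d⁻¹ * x⁻¹ ∈ G0 := by
      rw [show d * x * d⁻¹ * x⁻¹ = d * (x * d⁻¹ * x⁻¹) by group]
      exact G0.mul_mem hd (hG0n.conj_mem _ (G0.inv_mem hd) x)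
    let Y : Subgroup (H.subgroupOf G0) := ((X ⊓ G0).subgroupOf G0).subgroupOf (H.subgroupOf G0)
    have hY : Y ≤ ⊥ := by
      rw [← hK0]
      refine le_oddCore ?_ ?_
      · constructor
        intro a ha b
        exact ⟨hHX _ b.2 _ ha.1, G0.mul_mem (G0.mul_mem (SetLike.coe_mem (b : G0))
          (SetLike.coe_mem (a : G0))) (G0.inv_mem (SetLike.coe_mem (b : G0)))⟩
      · rw [Nat.card_congr (subgroupOfEquivOfLe (H := (X ⊓ G0).subgroupOf G0)
          (K := H.subgroupOf G0) fun a ha => hXH ha.1).toEquiv,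
          Nat.card_congr (subgroupOfEquivOfLe inf_le_right).toEquiv]
        exact hXodd.of_dvd_nat (card_dvd_of_le inf_le_left)
    have h3 := hY (show (⟨⟨_, h2⟩, hXH h1⟩ : H.subgroupOf G0) ∈ Y from ⟨h1, h2⟩)
    have h4 : d * x * d⁻¹ * x⁻¹ = 1 := congrArg (fun z : H.subgroupOf G0 => ((z : G0) : G)) (mem_bot.1 h3)
    exact mul_inv_eq_iff_eq_mul.1 (mul_inv_eq_one.1 h4)
  refine (eq_bot_iff_forall _).2 fun x hx => ?_
  have hfix : ∀ b : G ⧸ H, x • b = b := by
    intro b
    have hxa : x • (QuotientGroup.mk 1 : G ⧸ H) = QuotientGroup.mk 1 :=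
      StrongEmbed.smul_mk_one_iff.2 (hXH hx)
    by_cases hb : b = QuotientGroup.mk 1
    · rw [hb]; exact hxa
    refine fix_pair hse hinv hp (Ne.symm hb) (fun h => hb ?_) ?_
    · exact smul_left_cancel x (h.trans hxa.symm)
    · intro d hd
      have hdb : d • b = b := hd.2.2
      show d • x • b = x • b
      rw [← mul_smul, (hcomm x hx d hd.1 (StrongEmbed.smul_mk_one_iff.1 hd.2.1)).eq, mul_smul, hdb]
  have : x ∈ H.normalCore := by
    intro g
    refine StrongEmbed.smul_mk_one_iff.1 ?_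
    rw [mul_smul, mul_smul, hfix, smul_inv_smul]
  rwa [hcore, mem_bot] at this

end Reduce

end CfsgLib.Bender.Core
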