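import Cfsg.Agent.Bender.CoreC7
import Cfsg.Agent.Bender.CoreTop
import Cfsg.Agent.Bender.CharShape
import Cfsg.Agent.Bender.LemmaA.RegularOrbit
import Cfsg.Agent.KGroup.Primitive2

/-!
The end of the core of a strongly embedded subgroup: a point stabilizer is not the product of the
centralizer of its member of the family and a two-point stabilizer.

The orders of the subgroups involved contradict the character computation.
-/

set_option autoImplicit false
set_option linter.unusedSectionVars false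
set_option linter.style.haveILetI false

namespace CfsgLib.Bender.Core

open Subgroup
open CfsgLib.FusionLift (cj mem_cj card_cj)
open CfsgLib.Bender.GSide
open CfsgLib.Bender.Core.CSeven
open CfsgLib.Bender.Core.CSix (InvolComm vee mem_vee invol_mem_vee st_le_normalizer_vee)
open CfsgLib.Bender.Semilinear (Lin)
open CfsgLib.Bender.KSix (Rep)

universe u

namespace Product

variable {G : Type u} [Group G] [Finite G] {H : Subgroup G}

/-- The order of a product of two disjoint subgroups which is a subgroup. -/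
theorem card_eq_of_product {X Y T : Subgroup G} (hX : X ≤ T) (hY : Y ≤ T) (hd : Disjoint X Y)
    (hT : ∀ g ∈ T, ∃ x ∈ X, ∃ y ∈ Y, g = x * y) : Nat.card T = Nat.card X * Nat.card Y := by
  rw [← Nat.card_prod]
  refine (Nat.card_congr (Equiv.ofBijective
    (fun p : X × Y => (⟨(p.1 : G) * p.2, mul_mem (hX p.1.2) (hY p.2.2)⟩ : T)) ⟨?_, ?_⟩)).symm
  · intro p p' h
    exact mul_injective_of_disjoint hd (congrArg Subtype.val h)
  · rintro ⟨g, hg⟩
    obtain ⟨x, hx, y, hy, rfl⟩ := hT g hg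
    exact ⟨(⟨x, hx⟩, ⟨y, hy⟩), rfl⟩

/-- A product of disjoint subgroups covered by another product is no larger. -/
theorem card_mul_le_of_cover {X Y X' Y' : Subgroup G} (hd : Disjoint X Y)
    (h : ∀ x ∈ X, ∀ y ∈ Y, ∃ x' ∈ X', ∃ y' ∈ Y', x * y = x' * y') :
    Nat.card X * Nat.card Y ≤ Nat.card X' * Nat.card Y' := by
  rw [← Nat.card_prod, ← Nat.card_prod]
  choose f hf g hg he using h
  refine Nat.card_le_card_of_injective
    (fun p : X × Y => ((⟨_, hf p.1 p.1.2 p.2 p.2.2⟩ : X'), (⟨_, hg p.1 p.1.2 p.2 p.2.2⟩ : Y')))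
    fun p p' hpp => mul_injective_of_disjoint hd ?_
  obtain ⟨h1, h2⟩ := Prod.ext_iff.1 hpp
  have h1' := congrArg Subtype.val h1
  have h2' := congrArg Subtype.val h2
  show (p.1 : G) * p.2 = (p'.1 : G) * p'.2
  rw [he p.1 p.1.2 p.2 p.2.2, he p'.1 p'.1.2 p'.2 p'.2.2]
  exact congrArg₂ (· * ·) h1' h2'

/-- An element commuting with a power prime to its prime order commutes. -/
theorem commute_of_commute_pow {p n : ℕ} (hp : p.Prime) {y s : G} (hy : orderOf y = p)
    (hn : ¬ p ∣ n) (h : Commute (y ^ n) s) : Commute y s := by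
  obtain ⟨m, hm⟩ := exists_pow_eq_self_of_coprime (x := y) (n := n)
    (hy ▸ (hp.coprime_iff_not_dvd.2 hn).symm)
  exact hm ▸ h.pow_left m

/-- A prime dividing `2 ^ k - 1` detecting semilinear maps; primitive unless `k = 6`. -/
theorem detecting {k : ℕ} (hk : 2 ≤ k) :
    ∃ r : ℕ, r.Prime ∧ r ∣ 2 ^ k - 1 ∧
      (∀ i j : ℕ, Odd j → k ∣ j * i → r ∣ 2 ^ i - 1 → k ∣ i) ∧
      ((k = 6 ∧ r = 7) ∨ ∀ j, 0 < j → j < k → ¬ r ∣ 2 ^ j - 1) := by
  by_cases h6 : k = 6
  · subst h6
    obtain ⟨r, hr, hdvd, hrk, hdet⟩ := Semilinear.exists_detecting_prime hk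
    refine ⟨r, hr, hdvd, hdet, Or.inl ⟨rfl, ?_⟩⟩
    have h : r ∣ 7 * (3 * 3) := hdvd
    rcases hr.dvd_mul.1 h with h | h
    · exact (Nat.prime_dvd_prime_iff_eq hr (by norm_num)).1 h
    · exact absurd (((hr.dvd_mul.1 h).elim id id).trans (by norm_num)) hrk
  obtain ⟨r, hr, hdvd⟩ := CfsgLib.Primitive2.exists_primitive hk h6
  exact ⟨r, hr, (hdvd k).2 dvd_rfl, fun i j _ _ hi => (hdvd i).1 hi, Or.inr fun j hj hjk h =>
    absurd (Nat.le_of_dvd hj ((hdvd j).1 h)) (not_le.2 hjk)⟩

section Setting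

variable (hS : Setting H) {q : ℕ} {N : G ⧸ H → Subgroup G} (hN : Family q N) (hsr : Semireg N)
  (hci : CentInv N) {hV : InvolComm H} {a b : G ⧸ H} (hab : a ≠ b)
include hS hab

/-- A point stabilizer is strongly embedded. -/
theorem se_st : Cfsg.IsStronglyEmbedded (st a) := by
  refine ⟨fun h => hab ?_, ?_, fun g hg => ?_⟩
  · obtain ⟨g, rfl⟩ := exists_smul a b
    exact (show g • a = a from (h ▸ mem_top g : g ∈ st a)).symm
  · obtain ⟨s, -, hs, -, -, hsa, -⟩ := CSix.exists_two hS a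
    rw [even_iff_two_dvd, ← hs]
    exact Subgroup.orderOf_dvd_natCard (st a) hsa
  · show Odd (Nat.card ↥(st a ⊓ cj g (st a)))
    rw [← st_smul]
    exact odd_pair hS.se fun h => hg h.symm

theorem index_st : (st a).index = Nat.card (G ⧸ H) := by
  obtain ⟨g, hg⟩ := exists_smul (QuotientGroup.mk 1 : G ⧸ H) a
  have hc : Nat.card (st a) = Nat.card H := by rw [← hg, st_smul, card_cj, st_one]
  have h1 := (st a).card_mul_index
  rw [← H.card_mul_index, hc] at h1
  rw [← index_eq_card]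
  exact Nat.eq_of_mul_eq_mul_left Nat.card_pos h1

omit hab in
/-- The largest normal subgroup of odd order is trivial. -/
theorem oddCore_eq_bot : Cfsg.oddCore G = ⊥ := by
  haveI : (Cfsg.oddCore G).Normal := Solvable.pPrimeCore_normal 2
  refine le_bot_iff.1 (hS.core ▸ normal_le_normalCore.2 ?_)
  exact normal_odd_le hS.se hS.pair inferInstance IsoApps.odd_oddCore

include hN hsr hci
variable (hprod : ∀ h ∈ st a, ∃ l ∈ st a ⊓ centralizer (N a : Set G),
  ∃ d ∈ st a ⊓ st b, h = l * d)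

include hV hprod in
theorem card_st : Nat.card (st a) =
    Nat.card ↥(st a ⊓ centralizer (N a : Set G)) * Nat.card ↥(st a ⊓ st b) := by
  refine card_eq_of_product inf_le_left inf_le_left (disjoint_def.2 fun {x} hx hxD => ?_) hprod
  exact eq_one_of_fixN hS hN hsr hci hab hV hx (mem_inf.1 hxD).2

omit hab in
/-- The member of the family lies in the centralizer of itself in the point stabilizer. -/
theorem fam_le_fixN : N a ≤ st a ⊓ centralizer (N a : Set G) := fun z hz =>
  mem_inf.2 ⟨hN.le_st a hz, mem_centralizer_iff.2 fun w hw => hN.comm a w hw z hz⟩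

include hV in
theorem card_fixN_le :
    Nat.card ↥(st a ⊓ centralizer (N a : Set G)) ≤ Nat.card (G ⧸ H) := by
  refine Nat.card_le_card_of_injective (fun l => (l : G) • b) fun l l' h => Subtype.ext ?_
  refine inv_mul_eq_one.1 (eq_one_of_fixN hS hN hsr hci hab hV
    (mul_mem (inv_mem l.2) l'.2) ?_)
  have h' : (l : G) • b = (l' : G) • b := h
  rw [mul_smul, ← h', inv_smul_smul]

include hprod

/-- The shape of the point stabilizer for the character computation. -/
theorem shape {p : ℕ} [Fact p.Prime] {R : Subgroup G} {w y : G}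
    (hdvd : p ∣ Nat.card {t : G // orderOf t = 2 ∧ t • a = a}) (hT : Torus hV N a b p R w y) :
    CharShape.Shape (st a) (N a) (st a ⊓ centralizer (N a : Set G)) q where
  se := se_st hS hab
  gen := hS.gen
  oddCore := oddCore_eq_bot hS
  prime := hN.prime
  odd := hN.odd
  qgroup := hN.isPGroup a
  nne := hN.ne_bot a
  nle := fam_le_fixN hS hN hsr hci
  nnorm := hN.st_le_normalizer a
  le := inf_le_left
  lnorm := st_le_normalizer_fixN hN
  nilpotent := hT.isNilpotent_fixN hS hN hsr hci hab hdvd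
  cent h hh := ⟨fun hl z hz => (mem_centralizer_iff.1 (mem_inf.1 hl).2 z hz).symm, fun hc =>
    mem_inf.2 ⟨hh, mem_centralizer_iff.2 fun z hz => (hc z hz).eq.symm⟩⟩
  oddIndex := by
    have h1 := FusionLift.card_eq_relIndex_mul (st a ⊓ centralizer (N a : Set G)) (st a)
    rw [inf_eq_left.2 (inf_le_left : st a ⊓ centralizer (N a : Set G) ≤ st a),
      card_st (hV := hV) hS hN hsr hci hab hprod] at h1
    rw [← Nat.eq_of_mul_eq_mul_left Nat.card_pos h1]
    exact fun h => Nat.not_even_iff_odd.2 (odd_pair hS.se hab) (even_iff_two_dvd.2 h)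
  semireg z hz hz1 g hg := by
    refine hsr a z hz hz1 (g • a) ?_
    rw [smul_smul, ← mem_centralizer_singleton_iff.1 hg, mul_smul,
      show z • a = a from hN.le_st a hz]

end Setting

end Product

open Product in
/-- A point stabilizer is not the product of the centralizer of the member of the family at the
point and a two-point stabilizer. -/
theorem false_of_product {G : Type u} [Group G] [Finite G] {H : Subgroup G} (hS : Setting H)
    {q : ℕ} {N : G ⧸ H → Subgroup G} (hN : Family q N) (hsr : Semireg N) (hci : CentInv N)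
    (hV : InvolComm H) {a b : G ⧸ H} (hab : a ≠ b)
    (hprod : ∀ h ∈ st a, ∃ l ∈ st a ⊓ centralizer (N a : Set G),
      ∃ d ∈ st a ⊓ st b, h = l * d) : False := by
  haveI : Fact (Nat.Prime 2) := ⟨Nat.prime_two⟩
  obtain ⟨k, hk2, hk⟩ := exists_card_vee hS hV a
  obtain ⟨hk2', hm⟩ := card_invol hS hV hk
  obtain ⟨F, iF, iFf, e, hF, hrep⟩ := exists_coord hS hV hab hk
  obtain ⟨r, hr, hrm, hdet, hprim⟩ := detecting hk2
  haveI : Fact r.Prime := ⟨hr⟩
  have hrdvd := CSeven.dvd_card_invol (a := a) hS hk hrm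
  have hrodd : Odd r := hr.odd_of_ne_two (prime_ne_two hS hV hr hrdvd)
  obtain ⟨R, w, y, hT⟩ := exists_torus hS hN hsr hci hab hk hrm
  have hSh := shape hS hN hsr hci hab hprod hrdvd hT
  obtain ⟨t, t', ht, ht', htt', hta, ht'a⟩ := CSix.exists_two hS a
  set L0 := st a ⊓ centralizer (N a : Set G) with hL0
  set D := st a ⊓ st b with hD
  set S := coreOf 2 L0
  set J := CharShape.oddH (st a)
  set E := D ⊓ centralizer ({t} : Set G) with hE
  set E0 := D ⊓ centralizer (vee hV a : Set G) with hE0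
  set E1 := D ⊓ centralizer (S : Set G) with hE1
  have hDodd : Odd (Nat.card D) := odd_pair hS.se hab
  have hoddD : ∀ {d : G}, d ∈ D → Odd (orderOf d) := fun hd =>
    hDodd.of_dvd_nat (Subgroup.orderOf_dvd_natCard D hd)
  -- the involutions at the point lie in `S`
  have hVS : vee hV a ≤ S := fun v hv => by
    by_cases hv1 : v = 1
    · rw [hv1]; exact one_mem _
    · exact hSh.mem_core_invol (MulAction.mem_stabilizer_iff.2 hv.2)
        (Invol.orderOf_eq_two hv.1 hv1)
  have hSL : S ≤ L0 := map_subtype_le _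
  have hSV : ∀ s ∈ S, s * s = 1 → s ∈ vee hV a := fun s hs h => ⟨h, (mem_inf.1 (hSL hs)).1⟩
  have hE1E0 : E1 ≤ E0 := inf_le_inf_left _ (centralizer_le (by exact_mod_cast hVS))
  have hE0E : E0 ≤ E := fun d hd => mem_inf.2 ⟨(mem_inf.1 hd).1,
    mem_centralizer_singleton_iff.2 (commute_of_mem_centralizer (mem_inf.1 hd).2 ht hta).eq⟩
  have hyD : y ∈ D := hT.syl.1 hT.mem
  have hcy : ∀ d ∈ E0, Commute y d := fun d hd => hT.commute_kerD hS hN hsr hci hab hrdvd hd
  have hrE0 : ¬ r ∣ Nat.card E0 := not_dvd_kerD hS hN hsr hci hab hk hrm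
  -- the orders of `D`, of the centralizer of `t` and of `J * S`
  have hcE : Nat.card E = Nat.card E0 * E0.relIndex E := by
    rw [FusionLift.card_eq_relIndex_mul E0 E, inf_eq_left.2 hE0E]
  have hcE0 : Nat.card E0 = Nat.card E1 * E1.relIndex E0 := by
    rw [FusionLift.card_eq_relIndex_mul E1 E0, inf_eq_left.2 hE1E0]
  have hcD : Nat.card D = (2 ^ k - 1) * Nat.card E := by
    have h := card_orbit_mul D t (fun x => orderOf x = 2 ∧ x • a = a) fun x =>
      ⟨fun hx => (transOdd_pair hS.se hab).2.2 t x hta ht hx.2 hx.1, by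
        rintro ⟨d, hd, rfl⟩
        exact ⟨by rw [Invol.orderOf_conj_eq, ht], by
          rw [mul_smul, mul_smul, inv_smul_eq_iff.2 (show d • a = a from (mem_inf.1 hd).1).symm,
            hta, show d • a = a from (mem_inf.1 hd).1]⟩⟩
    rw [← h, hm, hE, inf_comm]
  have hLt : ∀ l ∈ L0, Commute l t := fun l hl =>
    commute_of_mem_centralizer (hT.fixN_le hS hN hsr hci hab hrdvd hl) ht hta
  have hcC : Nat.card (centralizer ({t} : Set G)) = Nat.card L0 * Nat.card E := by
    refine card_eq_of_product (fun l hl => mem_centralizer_singleton_iff.2 (hLt l hl).eq)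
      inf_le_right (disjoint_def.2 fun {x} hx hxE => ?_) fun g hg => ?_
    · exact eq_one_of_fixN hS hN hsr hci hab hV hx (mem_inf.1 (mem_inf.1 hxE).1).2
    · have hga : g • a = a :=
        fix_of_commute hS.se ht hta (mem_centralizer_singleton_iff.1 hg : Commute g t)
      obtain ⟨l, hl, d, hd, rfl⟩ := hprod g hga
      refine ⟨l, hl, d, mem_inf.2 ⟨hd, mem_centralizer_singleton_iff.2 ?_⟩, rfl⟩
      have h := ((hLt l hl).inv_left).mul_left
        (mem_centralizer_singleton_iff.1 hg : Commute (l * d) t)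
      rwa [inv_mul_cancel_left] at h
  have hdJS : Disjoint J S := by
    obtain ⟨j, hj⟩ := IsPGroup.iff_card.1 hSh.isPGroup_core
    refine disjoint_of_coprime_natCard ?_
    rw [hj]
    exact (Nat.coprime_two_right.2 hSh.odd_oddH).pow_right j
  have hE1J : ∀ d ∈ E1, d ∈ J := fun d hd => hSh.mem_oddH_of_commute
    (mem_inf.1 (mem_inf.1 hd).1).1 (hoddD (mem_inf.1 hd).1) fun s hs =>
      (mem_centralizer_iff.1 (mem_inf.1 hd).2 s hs).symm
  have hsplit : ∀ l ∈ L0, ∃ j ∈ J, ∃ s ∈ S, l = j * s := by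
    intro l hl
    haveI : Group.IsNilpotent L0 := hSh.nilpotent
    obtain ⟨n, hn⟩ : ∃ n, orderOf l = 2 ^ (orderOf l).factorization 2 * n := Nat.ordProj_dvd _ 2
    set f := (orderOf l).factorization 2
    have hodd : Odd n := by
      rw [← Nat.not_even_iff_odd, even_iff_two_dvd]
      intro h
      refine Nat.pow_succ_factorization_not_dvd (orderOf_pos l).ne' Nat.prime_two ?_
      rw [pow_succ]
      conv_rhs => rw [hn]
      exact Nat.mul_dvd_mul_left _ h
    have hco : Nat.Coprime (2 ^ f) n := (Nat.coprime_two_left.2 hodd).pow_left f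
    obtain ⟨i, hi1, hi2⟩ := Nat.chineseRemainder hco 1 0
    obtain ⟨j, hj1, hj2⟩ := Nat.chineseRemainder hco 0 1
    refine ⟨l ^ j, hSh.mem_oddH_of_commute (pow_mem (mem_inf.1 hl).1 j) ?_ fun s hs => ?_,
      l ^ i, hSh.mem_core (pow_mem (mem_inf.1 hl).1 i) (k := f) ?_, ?_⟩
    · refine hodd.of_dvd_nat (orderOf_dvd_of_pow_eq_one ?_)
      rw [← pow_mul, ← orderOf_dvd_iff_pow_eq_one, hn]
      exact Nat.mul_dvd_mul (Nat.modEq_zero_iff_dvd.1 hj1) dvd_rfl
    · obtain ⟨c, hc⟩ := hSh.isPGroup_core ⟨s, hs⟩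
      have hodd' : Odd (orderOf (l ^ j)) := by
        refine hodd.of_dvd_nat (orderOf_dvd_of_pow_eq_one ?_)
        rw [← pow_mul, ← orderOf_dvd_iff_pow_eq_one, hn]
        exact Nat.mul_dvd_mul (Nat.modEq_zero_iff_dvd.1 hj1) dvd_rfl
      have := CfsgLib.FGSA.commute_of_coprime_orderOf (G := L0) ⟨l ^ j, pow_mem hl j⟩
        ⟨s, hSL hs⟩ (by
          rw [Subgroup.orderOf_mk, Subgroup.orderOf_mk]
          exact ((Nat.coprime_two_right.2 hodd').pow_right c).coprime_dvd_right
            (orderOf_dvd_of_pow_eq_one (congrArg Subtype.val hc)))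
      exact congrArg Subtype.val this.eq
    · rw [← pow_mul, ← orderOf_dvd_iff_pow_eq_one, hn, mul_comm (2 ^ f) n]
      exact Nat.mul_dvd_mul (Nat.modEq_zero_iff_dvd.1 hi2) dvd_rfl
    · rw [← pow_add]
      conv_lhs => rw [← pow_one l]
      rw [pow_eq_pow_iff_modEq, hn]
      exact ((Nat.modEq_and_modEq_iff_modEq_mul hco).1 ⟨hj1.add hi1, hj2.add hi2⟩).symm
  have hJS : Nat.card J * Nat.card S = Nat.card L0 * Nat.card E1 := by
    refine le_antisymm (card_mul_le_of_cover hdJS fun j hj s hs => ?_)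
      (card_mul_le_of_cover (disjoint_def.2 fun {x} hx hxE => ?_) fun l hl d hd => ?_)
    · obtain ⟨l, hl, d, hd, hjs⟩ :=
        hprod (j * s) (mul_mem (hSh.oddH_le hj) (hSh.core_le hs))
      refine ⟨l, hl, d, mem_inf.2 ⟨hd, mem_centralizer_iff.2 fun x hx => ?_⟩, hjs⟩
      obtain ⟨j', hj', s', hs', rfl⟩ := hsplit l hl
      -- `d` acts on `S` as an element of two-power order
      set v := s'⁻¹ * s
      have hv : v ∈ S := mul_mem (inv_mem hs') hs
      obtain ⟨c, hc⟩ := hSh.isPGroup_core ⟨v, hv⟩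
      have hc' : v ^ 2 ^ c = 1 := congrArg Subtype.val hc
      set K := centralizer (S : Set G)
      have hcj : ∀ g ∈ J, g ∈ K := fun g hg => mem_centralizer_iff.2 fun z hz =>
        (hSh.commute_oddH hz hg).eq
      have hdv : d = (s'⁻¹ * (j'⁻¹ * j) * s') * v := by
        rw [show d = (j' * s')⁻¹ * (j * s) by rw [hjs]; group]
        show _ = _ * (s'⁻¹ * s)
        group
      set g := s'⁻¹ * (j'⁻¹ * j) * s' with hgdef
      have hgJ : g ∈ J := by
        have := (mem_normalizer_iff.1 (hSh.oddH_norm (inv_mem (hSh.core_le hs'))) _).1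
          (mul_mem (inv_mem hj') hj)
        rwa [inv_inv] at this
      have hgv : Commute g v := (hSh.commute_oddH hv hgJ).symm
      -- the odd order forces `v = 1`
      have h1 : d ^ 2 ^ c = g ^ 2 ^ c := by rw [hdv, hgv.mul_pow, hc', mul_one]
      obtain ⟨i, hi⟩ := exists_pow_eq_self_of_coprime (x := d) (n := 2 ^ c)
        ((Nat.coprime_two_left.2 (hoddD hd)).pow_left c)
      rw [h1] at hi
      exact mem_centralizer_iff.1 (hi ▸ pow_mem (pow_mem (hcj g hgJ) _) i) x hx
    · exact eq_one_of_fixN hS hN hsr hci hab hV hx (mem_inf.1 (mem_inf.1 hxE).1).2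
    · obtain ⟨j, hj, s, hs, rfl⟩ := hsplit l hl
      refine ⟨j * d, mul_mem hj (hE1J d hd), s, hs, ?_⟩
      rw [mul_assoc, mul_assoc, mem_centralizer_iff.1 (mem_inf.1 hd).2 s hs]
  -- the image of `E`
  have hk1 : E0.relIndex E ≤ k := by
    have hpick : ∀ d : E, ∃ i : ℕ, ∃ c, Rep e (act hV a ⟨(d : G), (mem_inf.1 (mem_inf.1 d.2).1).1⟩)
        c i := fun d => by
      obtain ⟨c, i, h⟩ := hrep _ (act_mem_barD (hV := hV) (mem_inf.1 d.2).1)
      exact ⟨i, c, h⟩
    choose idx hidx using hpick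
    have htv : t ∈ vee hV a := invol_mem_vee ht hta
    have he0 : e (Additive.ofMul ⟨t, htv⟩) ≠ 0 := fun h => by
      have h1 : t = 1 := congrArg Subtype.val (e.map_eq_zero_iff.mp h)
      rw [h1, orderOf_one] at ht
      exact absurd ht (by norm_num)
    have hfix : ∀ d : E,
        act hV a ⟨(d : G), (mem_inf.1 (mem_inf.1 d.2).1).1⟩ ⟨t, htv⟩ = ⟨t, htv⟩ := fun d =>
      Subtype.ext (by
        rw [act_apply]
        exact Commute.mul_inv_cancel
          (show Commute (d : G) t from mem_centralizer_singleton_iff.1 (mem_inf.1 d.2).2))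
    rw [relIndex, index_eq_card, ← Nat.card_fin k]
    refine Nat.card_le_card_of_injective
      (fun x : E ⧸ E0.subgroupOf E => (⟨idx x.out % k, Nat.mod_lt _ (by omega)⟩ : Fin k))
      fun x x' hxx => ?_
    rw [← x.out_eq', ← x'.out_eq', QuotientGroup.eq, mem_subgroupOf]
    have hii : idx x.out % k = idx x'.out % k := congrArg Fin.val hxx
    obtain ⟨c, hc⟩ := hidx x.out
    obtain ⟨c', hc'⟩ := hidx x'.out
    have h1 := hc.2 ⟨t, htv⟩
    have h2 := hc'.2 ⟨t, htv⟩
    rw [hfix] at h1 h2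
    rw [← Semilinear.frob_eq hF hii] at h2
    have hcc : c = c' := mul_right_cancel₀ (pow_ne_zero _ he0) (h1.symm.trans h2)
    have heq : act hV a ⟨(x.out : G), (mem_inf.1 (mem_inf.1 x.out.2).1).1⟩ =
        act hV a ⟨(x'.out : G), (mem_inf.1 (mem_inf.1 x'.out.2).1).1⟩ := by
      refine MulEquiv.ext fun v => Additive.ofMul.injective (e.injective ?_)
      rw [hc.2, hc'.2, hcc, Semilinear.frob_eq hF hii]
    refine mem_inf.2 ⟨mul_mem (inv_mem (mem_inf.1 x.out.2).1) (mem_inf.1 x'.out.2).1, ?_⟩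
    refine (act_eq_one (g := (⟨(x.out : G), (mem_inf.1 (mem_inf.1 x.out.2).1).1⟩ : st a)⁻¹ *
      ⟨(x'.out : G), (mem_inf.1 (mem_inf.1 x'.out.2).1).1⟩)).1 ?_
    rw [map_mul, map_inv, heq, inv_mul_cancel]
  have hr1 : 2 * E0.relIndex E + 1 ≤ r := by
    have hnorm : E ≤ normalizer (zpowers y : Set G) := fun d hd =>
      mem_normalizer_zpowers (hT.zpowers_normal hS hN hsr hci hab hk hrm (mem_inf.1 hd).1)
    set ψ : E →* MulAut (zpowers y) := (zpowers y).normalizerMonoidHom.comp (inclusion hnorm)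
    have hker : ψ.ker = E0.subgroupOf E := by
      ext ⟨d, hd⟩
      obtain ⟨hdD, hdt⟩ := mem_inf.1 hd
      constructor
      · intro h
        have h0 := congrArg Subtype.val
          (DFunLike.congr_fun (MonoidHom.mem_ker.1 h) (⟨y, mem_zpowers y⟩ : zpowers y))
        have h1 : d * y * d⁻¹ = y := h0
        have hda := (mem_inf.1 hdD).1
        obtain ⟨c, i, hdi⟩ := hrep _ (act_mem_barD (hV := hV) hdD)
        have hl : LinOn e d := ⟨hda, Semilinear.lin_of_commute hF hk2 hr hdet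
          ((hT.linOn hS hN hsr hci hab hk hF hrep hrm hT.mem).lin hT.mem_st)
          (hT.orderOf_ybar hS hN hsr hci hab hrdvd) hdi (by
            refine (hoddD hdD).of_dvd_nat ((orderOf_map_dvd (act hV a) _).trans ?_)
            rw [Subgroup.orderOf_mk])
          ((show Commute (⟨d, hda⟩ : st a) ⟨y, hT.mem_st⟩ from
            Subtype.ext (mul_inv_eq_iff_eq_mul.1 h1)).map (act hV a))⟩
        exact mem_inf.2 ⟨hdD,
          hl.centralizes hF ht hta (mem_centralizer_singleton_iff.1 hdt)⟩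
      · intro h
        refine MonoidHom.mem_ker.2 (MulEquiv.ext fun z => Subtype.ext ?_)
        obtain ⟨i, hi⟩ := z.2
        show d * (z : G) * d⁻¹ = z
        rw [← hi]
        exact ((hcy d (mem_subgroupOf.1 h)).symm.zpow_right i).mul_inv_cancel
    have hd1 : E0.relIndex E ∣ r - 1 := by
      rw [relIndex, ← hker, index_ker]
      refine (Subgroup.card_subgroup_dvd_card _).trans ?_
      rw [IsCyclic.card_mulAut, Nat.card_zpowers, hT.order, Nat.totient_prime hr]
    have hd2 : Odd (E0.relIndex E) := by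
      refine hDodd.of_dvd_nat (Dvd.dvd.trans ?_ (card_dvd_of_le (inf_le_left : E ≤ D)))
      rw [hcE]; exact Dvd.intro_left _ rfl
    have h2 : 2 ∣ r - 1 := by obtain ⟨c, hc⟩ := hrodd; omega
    have := Nat.le_of_dvd (by have := hr.two_le; omega)
      ((Nat.coprime_two_left.2 hd2).mul_dvd_of_dvd_of_dvd h2 hd1)
    have := hr.two_le
    omega
  -- the fixed-point-free subgroup `A`
  set A := zpowers y ⊔ E0 with hA
  have hAD : A ≤ D := sup_le (zpowers_le.2 hyD) inf_le_left
  have hyn : zpowers y ≤ normalizer (E0 : Set G) := zpowers_le.2 (mem_norm_iff.2 (cj_eq_of_le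
    (cj_le_iff.2 fun d hd => by rwa [(hcy d hd).eq, mul_inv_cancel_right]) le_rfl))
  have hAmem : ∀ g ∈ A, ∃ x ∈ zpowers y, ∃ d ∈ E0, g = x * d := fun g hg => by
    obtain ⟨x, hx, d, hd, he⟩ := (Solvable.mem_sup_of_le_normalizer hyn).1 hg
    exact ⟨x, hx, d, hd, he.symm⟩
  have hcA : Nat.card A = r * Nat.card E0 := by
    rw [card_eq_of_product le_sup_left le_sup_right ?_ hAmem, Nat.card_zpowers, hT.order]
    refine disjoint_of_coprime_natCard ?_
    rw [Nat.card_zpowers, hT.order]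
    exact hr.coprime_iff_not_dvd.2 hrE0
  have hfpf : ∀ g ∈ A, g ≠ 1 → ∀ z ∈ N a, g * z = z * g → z = 1 := by
    intro g hg hg1 z hz hgz
    obtain ⟨x, ⟨i, rfl⟩, d, hd, rfl⟩ := hAmem g hg
    have hgz' : Commute (y ^ i * d) z := hgz
    by_cases hd1 : d = 1
    · rw [hd1, mul_one] at hg1 hgz'
      obtain ⟨m, hm'⟩ := CSix.mem_zpowers_symm hT.order
        (orderOf_eq_prime (by
          rw [← zpow_natCast, zpow_comm, zpow_natCast, ← hT.order, pow_orderOf_eq_one, one_zpow])
          hg1) ⟨i, rfl⟩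
      exact hT.fpfN z hz (hm' ▸ hgz'.zpow_left m)
    by_contra hz1
    have hdr : d ^ r ≠ 1 := fun h => hrE0 (by
      rw [← orderOf_eq_prime h hd1]; exact Subgroup.orderOf_dvd_natCard _ hd)
    have h1 : (y ^ i * d) ^ r = d ^ r := by
      rw [((hcy d hd).zpow_left i).mul_pow, ← zpow_natCast, zpow_comm, zpow_natCast, ← hT.order,
        pow_orderOf_eq_one, one_zpow, one_mul]
    obtain ⟨hdrD, hdrV⟩ := mem_inf.1 (pow_mem hd r)
    exact CSix.zlemma hS hN hsr hV hab hdr (mem_inf.1 hdrD).1 (mem_inf.1 hdrD).2 ht hta ht' ht'a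
      htt' (commute_of_mem_centralizer hdrV ht hta) (commute_of_mem_centralizer hdrV ht' ht'a)
      hz hz1 (h1 ▸ hgz'.pow_left r)
  have hNA : 2 * (r * Nat.card E0) ≤ Nat.card (N a) := by
    obtain ⟨z, hz, hz1⟩ := hN.exists_ne_one a
    have hzo : Odd (orderOf z) :=
      (hN.odd_card a).of_dvd_nat (Subgroup.orderOf_dvd_natCard _ hz)
    have hAN : A ≤ normalizer (N a : Set G) :=
      (hAD.trans inf_le_left).trans (hN.st_le_normalizer a)
    have hconj : ∀ g : A, ∀ v ∈ N a, (g : G) * v * (g : G)⁻¹ ∈ N a := fun g v hv =>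
      (mem_normalizer_iff.1 (hAN g.2) v).1 hv
    rw [← hcA, mul_comm, ← Nat.card_fin 2, ← Nat.card_prod]
    refine Nat.card_le_card_of_injective
      (fun p : A × Fin 2 => (⟨(p.1 : G) * (if p.2 = 0 then z else z⁻¹) * (p.1 : G)⁻¹,
        hconj p.1 _ (by split_ifs <;> [exact hz; exact inv_mem hz])⟩ : N a)) ?_
    have hstab : ∀ g g' : A, ∀ v ∈ N a, v ≠ 1 → (g : G) * v * (g : G)⁻¹ = (g' : G) * v * (g' : G)⁻¹ →
        g = g' := fun g g' v hv hv1 h => by
      by_contra hne
      refine hv1 (hfpf _ (mul_mem (inv_mem g'.2) g.2) (fun h1 => hne ?_) v hv ?_)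
      · exact (Subtype.ext (inv_mul_eq_one.1 h1)).symm
      · calc (g' : G)⁻¹ * g * v = (g' : G)⁻¹ * ((g : G) * v * (g : G)⁻¹) * g := by group
          _ = v * ((g' : G)⁻¹ * g) := by rw [h]; group
    have hcross : ∀ g g' : A,
        (g : G) * z * (g : G)⁻¹ ≠ (g' : G) * z⁻¹ * (g' : G)⁻¹ := fun g g' h => by
      set c := (g' : G)⁻¹ * g
      have hc : c * z * c⁻¹ = z⁻¹ := by
        calc c * z * c⁻¹ = (g' : G)⁻¹ * g * z * ((g' : G)⁻¹ * g)⁻¹ := rfl
          _ = (g' : G)⁻¹ * ((g : G) * z * (g : G)⁻¹) * g' := by group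
          _ = z⁻¹ := by rw [h]; group
      refine hz1 (eq_one_of_inverted_commute hzo hc ?_)
      obtain ⟨m, hm⟩ := exists_pow_eq_self_of_coprime (x := c) (n := 2)
        (Nat.coprime_two_left.2 (hoddD (hAD (mul_mem (inv_mem g'.2) g.2))))
      have h2 : Commute (c ^ 2) z := mul_inv_eq_iff_eq_mul.1 (by
        calc c ^ 2 * z * (c ^ 2)⁻¹ = c * (c * z * c⁻¹) * c⁻¹ := by rw [sq]; group
          _ = z := by rw [hc, ← conj_inv, hc, inv_inv])
      exact hm ▸ h2.pow_left m
    rintro ⟨g, i⟩ ⟨g', i'⟩ h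
    have h' := congrArg Subtype.val h
    simp only at h'
    fin_cases i <;> fin_cases i' <;> simp only [Fin.zero_eta, Fin.mk_one, Fin.isValue, reduceIte,
      one_ne_zero] at h' ⊢
    · rw [hstab g g' z hz hz1 h']
    · exact absurd h' (hcross g g')
    · exact absurd h'.symm (hcross g' g)
    · rw [hstab g g' z⁻¹ (inv_mem hz) (inv_ne_one.2 hz1) h']
  have hn : Nat.card (N a) * Nat.card S ≤ (st a).index := by
    rw [index_st hS hab]
    refine le_trans ?_ (card_fixN_le (hV := hV) hS hN hsr hci hab)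
    rw [← Nat.card_prod]
    refine Nat.card_le_card_of_injective (fun p : N a × S =>
      (⟨(p.1 : G) * p.2, mul_mem (fam_le_fixN hS hN hsr hci p.1.2) (hSL p.2.2)⟩ : L0))
      fun p p' h => mul_injective_of_disjoint ?_ (congrArg Subtype.val h)
    obtain ⟨j, hj⟩ := IsPGroup.iff_card.1 hSh.isPGroup_core
    refine disjoint_of_coprime_natCard ?_
    rw [hj]
    exact (Nat.coprime_two_right.2 (hN.odd_card a)).pow_right j
  obtain ⟨u, hu⟩ : ∃ u, Nat.card S = 2 ^ k * u := ⟨(vee hV a).relIndex S, by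
    rw [FusionLift.card_eq_relIndex_mul (vee hV a) S, inf_eq_left.2 hVS, hk]⟩
  have he0 : E1.relIndex E0 ≤ Nat.card E0 :=
    Nat.le_of_dvd Nat.card_pos (Dvd.intro_left _ hcE0.symm)
  have hHcard : Nat.card (st a) =
      Nat.card J * Nat.card S * ((2 ^ k - 1) * (E0.relIndex E * E1.relIndex E0)) := by
    rw [card_st (hV := hV) hS hN hsr hci hab hprod, hcD, hcE, hcE0, hJS]; ring
  have hCcard : Nat.card (centralizer ({t} : Set G)) =
      Nat.card J * Nat.card S * (E0.relIndex E * E1.relIndex E0) := by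
    rw [hcC, hcE, hcE0, hJS]; ring
  refine (hSh.data ((hAD.trans inf_le_left).trans (hN.st_le_normalizer a))
    (hDodd.of_dvd_nat (card_dvd_of_le hAD)) hfpf (t := t) hta ht).false_of_orders
    hHcard hCcard hu hcA hNA hn hk2 hk1 he0 hr1 ?_
  -- the two cases
  by_cases hbig : ∀ s ∈ S, s * s = 1
  · have hSeq : S = vee hV a := le_antisymm (fun s hs => hSV s hs (hbig s hs)) hVS
    refine Or.inl ⟨?_, ?_, fun s hs hs1 => ?_⟩
    · rw [hSeq, hk] at hu
      exact (Nat.eq_of_mul_eq_mul_left (pow_pos two_pos k) ((mul_one _).trans hu)).symm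
    · rw [hE1, hSeq, ← hE0]
      exact relIndex_self _
    · have hs' := hSV s hs (hbig s hs)
      obtain ⟨d, -, hdt⟩ := (transOdd_pair hS.se hab).2.2 t s hta ht hs'.2
        (Invol.orderOf_eq_two hs'.1 hs1)
      exact isConj_iff.2 ⟨d, hdt⟩
  refine Or.inr ?_
  push Not at hbig
  obtain ⟨s₀, hs₀, hs₀2⟩ := hbig
  have hnS : ∀ g : G, g ∈ st a → g ∈ normalizer (S : Set G) := fun g hg => hSh.core_norm hg
  set ρ : E0 →* MulAut S :=
    S.normalizerMonoidHom.comp (inclusion fun d hd => hnS d (mem_inf.1 (mem_inf.1 hd).1).1)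
  set L : MulAut S := S.normalizerMonoidHom ⟨y, hnS y hT.mem_st⟩
  have hLr : L ^ r = 1 := by
    rw [← map_pow, ← map_one S.normalizerMonoidHom]
    congr 1
    exact Subtype.ext (show y ^ r = 1 by rw [← hT.order, pow_orderOf_eq_one])
  have hρL : ∀ (z : G) (hz : z ∈ normalizer (S : Set G)), (∀ d ∈ E0, Commute z d) → ∀ d : E0,
      ρ d * S.normalizerMonoidHom ⟨z, hz⟩ = S.normalizerMonoidHom ⟨z, hz⟩ * ρ d := by
    intro z hz hc d
    rw [MonoidHom.comp_apply, ← map_mul, ← map_mul]
    congr 1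
    exact Subtype.ext (hc d d.2).eq.symm
  have hS1 : ∀ s ∈ S, s ∈ D → s = 1 := fun s hs hsD => by
    obtain ⟨j, hj⟩ := hSh.isPGroup_core ⟨s, hs⟩
    exact orderOf_eq_one_iff.1 (Nat.eq_one_of_dvd_coprimes
      ((Nat.coprime_two_left.2 (hoddD hsD)).pow_left j)
      (orderOf_dvd_of_pow_eq_one (congrArg Subtype.val hj)) dvd_rfl)
  have hfixy : ∀ s ∈ S, Commute y s → s = 1 := fun s hs h =>
    hS1 s hs (hT.cent_le (mem_centralizer_singleton_iff.2 h.eq.symm))
  have hLfix : ∀ s, L s = s → s = 1 := fun s h => Subtype.ext (hfixy s s.2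
    (mul_inv_eq_iff_eq_mul.1 (congrArg Subtype.val h)))
  have hinv : ∀ d : E0, ∀ s : S, s ^ 2 = 1 → ρ d s = s := fun d s hs => by
    refine Subtype.ext (Commute.mul_inv_cancel (mem_centralizer_iff.1 (mem_inf.1 d.2).2 s
      (hSV s s.2 ?_)).symm)
    rw [← sq]; exact congrArg Subtype.val hs
  have hcard : Nat.card {s : S // s ^ 2 = 1} = 2 ^ k := by
    rw [← hk]
    refine Nat.card_congr
      { toFun := fun s => ⟨(s.1 : G), hSV _ s.1.2 (by rw [← sq]; exact congrArg Subtype.val s.2)⟩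
        invFun := fun v => ⟨⟨v, hVS v.2⟩, Subtype.ext (by rw [Subgroup.coe_pow, sq]; exact v.2.1)⟩
        left_inv := fun s => rfl
        right_inv := fun v => rfl }
  have hcom : ∀ c d : E0, ρ c * ρ d = ρ d * ρ c := by
    have hoddE0 : Odd (Nat.card E0) := hDodd.of_dvd_nat (card_dvd_of_le inf_le_left)
    rcases hprim with ⟨rfl, rfl⟩ | hord
    · -- rank six: an element of order 21
      haveI : Fact (Nat.Prime 3) := ⟨Nat.prime_three⟩
      have h3 : 3 ∣ 2 ^ 6 - 1 := by norm_num
      obtain ⟨R₃, w₃, y₃, hT₃⟩ := exists_torus hS hN hsr hci hab hk h3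
      have hy₃D : y₃ ∈ D := hT₃.syl.1 hT₃.mem
      have hyy : Commute y y₃ := CharShape.commute_of_disjoint (A := zpowers y) (B := zpowers y₃)
        (disjoint_of_coprime_natCard (by
          rw [Nat.card_zpowers, Nat.card_zpowers, hT.order, hT₃.order]; norm_num))
        (mem_normalizer_zpowers (hT.zpowers_normal hS hN hsr hci hab hk hrm hy₃D))
        (mem_normalizer_zpowers (hT₃.zpowers_normal hS hN hsr hci hab hk h3 hyD))
        (mem_zpowers y) (mem_zpowers y₃)
      set z := y * y₃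
      have hzn : z ∈ normalizer (S : Set G) := mul_mem (hnS y hT.mem_st) (hnS y₃ hT₃.mem_st)
      have h7 : y ^ 7 = 1 := by rw [← hT.order, pow_orderOf_eq_one]
      have h3' : y₃ ^ 3 = 1 := by rw [← hT₃.order, pow_orderOf_eq_one]
      refine SquareMap.commute_of_fixfree hoddE0 (r := 21) (k := 6) (by decide) (by norm_num)
        (by norm_num) (fun j hj hj6 => by interval_cases j <;> norm_num) hSh.isPGroup_core ρ
        (S.normalizerMonoidHom ⟨z, hzn⟩) ?_ (hρL z hzn fun d hd => (hcy d hd).mul_left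
          (hT₃.commute_kerD hS hN hsr hci hab (CSeven.dvd_card_invol hS hk h3) hd))
        (fun i hi hi' s hs => ?_) hinv hcard.le
      · rw [← map_pow, ← map_one S.normalizerMonoidHom]
        congr 1
        refine Subtype.ext (show z ^ 21 = 1 from ?_)
        rw [hyy.mul_pow, show 21 = 7 * 3 by norm_num, pow_mul, h7, one_pow, one_mul,
          show 7 * 3 = 3 * 7 by norm_num, pow_mul, h3', one_pow]
      · rw [← map_pow] at hs
        have hc : Commute (y ^ i * y₃ ^ i) (s : G) := by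
          rw [← hyy.mul_pow]
          exact mul_inv_eq_iff_eq_mul.1 (congrArg Subtype.val hs)
        by_cases h7i : 7 ∣ i
        · have h3i : ¬ 3 ∣ i := fun h => by omega
          obtain ⟨c, rfl⟩ := h7i
          rw [pow_mul y, h7, one_pow, one_mul] at hc
          refine Subtype.ext (hS1 s s.2 (hT₃.cent_le (mem_centralizer_singleton_iff.2
            (commute_of_commute_pow Nat.prime_three hT₃.order h3i hc).eq.symm)))
        · refine Subtype.ext (hfixy s s.2 (commute_of_commute_pow (n := i * 3) hr hT.order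
            (fun h => h7i ((Nat.Coprime.dvd_of_dvd_mul_right (by norm_num) h))) ?_))
          have := hc.pow_left 3
          rwa [(hyy.pow_pow i i).mul_pow, ← pow_mul, ← pow_mul y₃, mul_comm i 3, pow_mul y₃, h3',
            one_pow, mul_one, mul_comm 3 i] at this
    · exact SquareMap.commute_of_fixfree hoddE0 hrodd (by omega) hrm hord hSh.isPGroup_core ρ L
        hLr (hρL y _ hcy) (SquareMap.pow_fixfree hLr hLfix) hinv hcard.le
  have hbound := SquareMap.mul_card_le_of_comm (hDodd.of_dvd_nat (card_dvd_of_le inf_le_left))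
    hrodd hrE0 hSh.isPGroup_core ρ hcom L hLr (hρL y _ hcy) hLfix hinv
    ⟨⟨s₀, hs₀⟩, fun h => hs₀2 (by rw [← sq]; exact congrArg Subtype.val h)⟩
    fun s s' hs hs' => Subtype.ext (by
      have h1 := hSV s s.2 (by rw [← sq]; exact congrArg Subtype.val hs)
      have h2 := hSV s' s'.2 (by rw [← sq]; exact congrArg Subtype.val hs')
      have h3 := congrArg Subtype.val (mul_comm (⟨(s : G), h1⟩ : vee hV a) ⟨(s' : G), h2⟩)
      exact h3)
  have hρker : ρ.ker = E1.subgroupOf E0 := by
    ext d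
    constructor
    · intro h
      refine mem_subgroupOf.2 (mem_inf.2 ⟨(mem_inf.1 d.2).1, mem_centralizer_iff.2 fun s hs => ?_⟩)
      exact (mul_inv_eq_iff_eq_mul.1 (congrArg Subtype.val
        (DFunLike.congr_fun (MonoidHom.mem_ker.1 h) ⟨s, hs⟩))).symm
    · intro h
      refine MonoidHom.mem_ker.2 (MulEquiv.ext fun s => Subtype.ext ?_)
      exact Commute.mul_inv_cancel
        (mem_centralizer_iff.1 (mem_inf.1 (mem_subgroupOf.1 h)).2 s s.2).symm
  have hrange : Nat.card ρ.range = E1.relIndex E0 := by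
    rw [← index_ker, hρker]; rfl
  rw [hrange, hcard, hu, mul_comm (2 ^ k) u] at hbound
  have hru : r * E1.relIndex E0 ≤ u :=
    Nat.le_of_mul_le_mul_right hbound (pow_pos two_pos k)
  have h8 : (2 * E0.relIndex E) ^ 3 ≤ r ^ 3 := Nat.pow_le_pow_left (by omega) 3
  calc 4 * (E0.relIndex E ^ 3 * E1.relIndex E0)
      ≤ (2 * E0.relIndex E) ^ 3 * E1.relIndex E0 := by
        rw [mul_pow, ← mul_assoc]; exact Nat.mul_le_mul_right _ (by omega)
    _ ≤ r ^ 3 * E1.relIndex E0 := Nat.mul_le_mul_right _ h8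
    _ = r ^ 2 * (r * E1.relIndex E0) := by ring
    _ ≤ r ^ 2 * u := Nat.mul_le_mul_left _ hru

end CfsgLib.Bender.Core
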