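import Cfsg.Agent.Bender.CoreMain
import Cfsg.Agent.Bender.CoreProduct
import Cfsg.Agent.Bender.CoreTop

/-!
Bender's theorem: the core of a strongly embedded subgroup lies in the core of the group.
-/

set_option autoImplicit false

namespace CfsgLib.Bender.Core

open Subgroup
open CfsgLib.Bender.GSide

universe u

/-- A strongly embedded subgroup with a setting has trivial core. -/
theorem Setting.oddCore_eq_bot {G : Type u} [Group G] [Finite G] {H : Subgroup G} (hS : Setting H) :
    Cfsg.oddCore H = ⊥ := by
  by_contra h
  obtain ⟨q, N, S, -⟩ := hS.exists_shape h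
  obtain ⟨b, hb⟩ := exists_other hS (pt H)
  exact false_of_product S.setting S.fam S.semireg S.centInv S.comm hb (S.exists_mul hb)

/-- Bender's theorem on the core of a strongly embedded subgroup. -/
theorem oddCore_le {G : Type u} [Group G] [Finite G] (H : Subgroup G)
    (hH : Cfsg.IsStronglyEmbedded H) : (Cfsg.oddCore H).map H.subtype ≤ Cfsg.oddCore G :=
  oddCore_le_of (fun _ _ _ _ hS => hS.oddCore_eq_bot) (Nat.card G) G H rfl hH

end CfsgLib.Bender.Core
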