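import Cfsg.Agent.Bender.Consumers
import Cfsg.Prelude.Def_ClassificationStages
import Cfsg.Prelude.Def_Exceptional

/-!
The statements that follow from Bender's theorem, in the form of the listed rows.
-/

set_option autoImplicit false
set_option linter.unusedSectionVars false
set_option linter.style.haveILetI false

namespace CfsgLib.Bender.Consumers

open Subgroup
open CfsgLib.Bender.GSide

universe u

variable {G : Type u} [Group G] [Finite G]

theorem four_le_pow {n : ℕ} (hn : 2 ≤ n) : 4 ≤ 2 ^ n :=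
  (show (4 : ℕ) = 2 ^ 2 by norm_num) ▸ Nat.pow_le_pow_right (by norm_num) hn

/-- Bender's theorem for simple groups. -/
theorem simple_row (hB : Structure.{u}) [IsSimpleGroup G] (H : Subgroup G)
    (hH : Cfsg.IsStronglyEmbedded H) :
    (∃ (F : Type) (_ : Field F) (_ : Fintype F), CharP F 2 ∧ 4 ≤ Fintype.card F ∧
        Nonempty (G ≃* Matrix.ProjectiveSpecialLinearGroup (Fin 2) F)) ∨ Cfsg.IsSuzuki G ∨
      (∃ (F : Type) (_ : Field F) (_ : Fintype F) (q : ℕ), Fintype.card F = q ^ 2 ∧ Even q ∧ 4 ≤ q ∧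
        Nonempty (G ≃* Cfsg.PSU 3 F q)) := by
  rcases three_of_simple hB hH with ⟨F, i1, i2, ⟨n, hn, hc⟩, e⟩ | ⟨F, i1, i2, m, hm, hc, ⟨e⟩⟩ |
    ⟨F, i1, i2, n, hn, hc, e⟩
  · exact Or.inl ⟨F, i1, i2, charP_of_card_eq_prime_pow hc, hc ▸ four_le_pow hn, e⟩
  · refine Or.inr (Or.inl ⟨inferInstance, m, hm, ?_⟩)
    rw [Nat.card_congr e.toEquiv]
    exact CfsgLib.CITGraph.card_lieSz hm hc
  · exact Or.inr (Or.inr ⟨F, i1, i2, 2 ^ n, hc, even_two.pow_of_ne_zero (by omega),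
      four_le_pow hn, e⟩)

/-- Bender's theorem in structural form. -/
theorem structure_row (hB : Structure.{u}) (X : Subgroup G) (hX : Cfsg.IsStronglyPEmbedded 2 X) :
    (∀ t : G, orderOf t = 2 → Cfsg.pPrimeCore 2 G ⊔ Subgroup.centralizer ({t} : Set G) = ⊤ ∧
      ∀ u ∈ Subgroup.centralizer ({t} : Set G), orderOf u = 2 → u = t) ∨
    (∃ (F : Type) (_ : Field F) (_ : Fintype F), CharP F 2 ∧ 4 ≤ Fintype.card F ∧
      Nonempty (↥(Cfsg.pElementClosure 2 (⊤ : Subgroup (G ⧸ Cfsg.pPrimeCore 2 G))) ≃*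
        Matrix.SpecialLinearGroup (Fin 2) F)) ∨
    (∃ (F : Type) (_ : Field F) (_ : Fintype F) (q : ℕ), Even q ∧ 4 ≤ q ∧ Fintype.card F = q ^ 2 ∧
      Nonempty (↥(Cfsg.pElementClosure 2 (⊤ : Subgroup (G ⧸ Cfsg.pPrimeCore 2 G))) ≃*
        Cfsg.PSU 3 F q)) ∨
    Cfsg.Lie.IsoSuzuki ↥(Cfsg.pElementClosure 2 (⊤ : Subgroup (G ⧸ Cfsg.pPrimeCore 2 G))) := by
  have hse := stronglyEmbedded_of_pEmbedded hX
  by_cases hp : PairRank G
  · rcases closure_three hB hse hp with ⟨F, i1, i2, ⟨n, hn, hc⟩, ⟨e⟩⟩ | h |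
      ⟨F, i1, i2, n, hn, hc, e⟩
    · haveI := charP_of_card_eq_prime_pow hc
      exact Or.inr (Or.inl ⟨F, i1, i2, inferInstance, hc ▸ four_le_pow hn,
        ⟨e.trans CfsgLib.SL2Char2.slEquivPSL.symm⟩⟩)
    · exact Or.inr (Or.inr (Or.inr h))
    · exact Or.inr (Or.inr (Or.inl ⟨F, i1, i2, 2 ^ n, even_two.pow_of_ne_zero (by omega),
        four_le_pow hn, hc, e⟩))
  · left
    intro t ht
    have heq : ∀ u v : G, orderOf u = 2 → orderOf v = 2 → Commute u v → u = v :=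
      fun u v hu hv hc => by_contra fun hne => hp ⟨u, v, hu, hv, hne, hc⟩
    refine ⟨eq_top_iff.2 fun g _ => ?_, fun u hu hu2 =>
      heq u t hu2 ht (mem_centralizer_singleton_iff.1 hu)⟩
    obtain ⟨o, ho, c, hc, rfl⟩ := IsoApps.exists_mul (ZStar.isolated_of_commuting heq ht) g
    exact mul_mem_sup ho hc

/-- Strongly embedded subgroups are solvable. -/
theorem solvable_row (hB : Structure.{u}) (hrank : Cfsg.PRankAtLeast 2 2 G) (H : Subgroup G)
    (hH : Cfsg.IsStronglyPEmbedded 2 H) : Group.IsSolvable H :=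
  isSolvable hB (stronglyEmbedded_of_pEmbedded hH) (pairRank_of_rankAtLeast hrank)

section Maximal

variable [IsSimpleGroup G] {M : Subgroup G}

theorem normalizer_eq_self (hse : Cfsg.IsStronglyEmbedded M) (hmax : IsCoatom M) :
    normalizer (M : Set G) = M := by
  by_contra hne
  have htop : normalizer (M : Set G) = ⊤ := hmax.2 _ (lt_of_le_of_ne le_normalizer (Ne.symm hne))
  rcases (normalizer_eq_top_iff.1 htop).eq_bot_or_eq_top with h | h
  · have h2 := hse.2.1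
    rw [h, Subgroup.card_bot] at h2
    exact absurd h2 (by decide)
  · exact hse.1 h

theorem conj_eq_iff (hN : normalizer (M : Set G) = M) {g g' : G} :
    M.map (MulAut.conj g).toMonoidHom = M.map (MulAut.conj g').toMonoidHom ↔ g'⁻¹ * g ∈ M := by
  change FusionLift.cj g M = FusionLift.cj g' M ↔ _
  constructor
  · intro h
    rw [← hN, mem_norm_iff, ← cj_cj, h, cj_inv]
  · intro h
    have h1 := mem_norm_iff.1 (hN.symm ▸ h : g'⁻¹ * g ∈ normalizer (M : Set G))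
    rw [← cj_cj] at h1
    rw [← cj_inv' g' (FusionLift.cj g M), h1]

theorem conj_ne_iff (hN : normalizer (M : Set G) = M) {g : G} :
    M.map (MulAut.conj g).toMonoidHom ≠ M ↔ g ∉ M := by
  have h := conj_eq_iff hN (g := g) (g' := 1)
  rw [inv_one, one_mul] at h
  rw [not_iff_not, ← h]
  change _ ↔ _ = FusionLift.cj 1 M
  rw [cj_one]

/-- A strongly embedded maximal subgroup is doubly transitive of Suzuki type. -/
theorem suzukiType_row (hB : Structure.{u}) (M : Subgroup G) (hmax : IsCoatom M)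
    (hM : Cfsg.IsStronglyPEmbedded 2 M) : Cfsg.IsDoublyTransitiveSuzukiType M := by
  haveI : Fact (Nat.Prime 2) := ⟨Nat.prime_two⟩
  have hse := stronglyEmbedded_of_pEmbedded hM
  have hN := normalizer_eq_self hse hmax
  obtain ⟨T, hTM, hn, hT2, htr⟩ := shape_of_simple hB hse
  obtain ⟨g, hg⟩ := exists_not_mem hse
  have hnorm : ∀ k : G, Subgroup.normalizer
      ((M.map (MulAut.conj k).toMonoidHom : Subgroup G) : Set G) =
      M.map (MulAut.conj k).toMonoidHom := by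
    intro k
    refine le_antisymm (fun y hy => ?_) le_normalizer
    refine ⟨k⁻¹ * y * k, ?_, by simp [mul_assoc]⟩
    rw [SetLike.mem_coe, ← hN, mem_norm_iff, ← cj_cj, ← cj_cj]
    rw [mem_norm_iff.1 hy]
    exact cj_inv k M
  refine ⟨hN, ⟨g, (conj_ne_iff hN).2 hg⟩, fun g₁ g₂ h₁ h₂ => ?_, g, (conj_ne_iff hN).2 hg, T, hTM,
    (normal_subgroupOf_iff_le_normalizer hTM).2 hn, ?_, ?_, ?_, ?_, fun g₁ g₂ h₁ h₂ => ?_⟩
  · obtain ⟨w, hw, hwM⟩ := htr g₁ g₂ ((conj_ne_iff hN).1 h₁) ((conj_ne_iff hN).1 h₂)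
    refine ⟨w, hTM hw, ?_⟩
    change FusionLift.cj w (FusionLift.cj g₁ M) = FusionLift.cj g₂ M
    rw [cj_cj]
    exact (conj_eq_iff hN).2 hwM
  · rw [hnorm, eq_bot_iff]
    rintro w ⟨hw, -, k, hk, hkw⟩
    refine mem_bot.2 (shape_free hse hTM hT2 hg hw ?_)
    rw [← hkw]
    simpa [mul_assoc] using hk
  · rw [hnorm]
    refine le_antisymm (sup_le hTM inf_le_left) fun h hh => ?_
    obtain ⟨w, hw, hd⟩ := shape_decomp hTM htr hg hh
    rw [← mul_inv_cancel_left w h]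
    exact mul_mem_sup hw hd
  · exact hT2.isNilpotent
  · obtain ⟨S, hS⟩ := LocalB.exists_sylow_le_of_stronglyPEmbedded hM
    refine ⟨S, fun x hx => ?_⟩
    obtain ⟨i, hi⟩ := S.isPGroup' ⟨x, hx⟩
    exact two_mem_of_shape hse hTM hn htr (hS hx) (congrArg Subtype.val hi)
  · have hg₁ := (conj_ne_iff hN).1 h₁
    have hg₂ := (conj_ne_iff hN).1 h₂
    obtain ⟨w, hw, hwM⟩ := htr g₁ g₂ hg₁ hg₂
    have hiff : ∀ x : T, (M.map (MulAut.conj g₁).toMonoidHom).map (MulAut.conj (x : G)).toMonoidHom =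
        M.map (MulAut.conj g₂).toMonoidHom ↔ g₂⁻¹ * ((x : G) * g₁) ∈ M := fun x => by
      change FusionLift.cj (x : G) (FusionLift.cj g₁ M) = FusionLift.cj g₂ M ↔ _
      rw [cj_cj]
      exact conj_eq_iff hN
    refine ⟨⟨w, hw⟩, (hiff _).2 hwM, fun x hx => Subtype.ext ?_⟩
    have h1 := mul_mem (inv_mem hwM) ((hiff x).1 hx)
    have h2 := shape_free hse hTM hT2 hg₁ (mul_mem (inv_mem hw) x.2) (by
      simpa [mul_assoc] using h1)
    exact (inv_mul_eq_one.1 h2).symm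

/-- The classification of strongly embedded maximal subgroups. -/
theorem borel_row (hB : Structure.{u}) (M : Subgroup G) (hmax : IsCoatom M)
    (hM : Cfsg.IsStronglyPEmbedded 2 M) :
    ((∃ (F : Type) (_ : Field F) (_ : Fintype F) (n : ℕ), 2 ≤ n ∧ Fintype.card F = 2 ^ n ∧
        Nonempty (G ≃* Matrix.ProjectiveSpecialLinearGroup (Fin 2) F)) ∨
      Cfsg.Lie.IsoSuzuki G ∨
      (∃ (F : Type) (_ : Field F) (_ : Fintype F) (n : ℕ), 2 ≤ n ∧ Fintype.card F = (2 ^ n) ^ 2 ∧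
        Nonempty (G ≃* Cfsg.PSU 3 F (2 ^ n)))) ∧
    ∃ S : Sylow 2 G, M = Subgroup.normalizer ((S : Subgroup G) : Set G) := by
  haveI : Fact (Nat.Prime 2) := ⟨Nat.prime_two⟩
  have hse := stronglyEmbedded_of_pEmbedded hM
  refine ⟨?_, ?_⟩
  · rcases three_of_simple hB hse with ⟨F, i1, i2, ⟨n, hn, hc⟩, e⟩ | h | h
    · exact Or.inl ⟨F, i1, i2, n, hn, hc, e⟩
    · exact Or.inr (Or.inl h)
    · exact Or.inr (Or.inr h)
  · obtain ⟨T, hTM, hn, hT2, htr⟩ := shape_of_simple hB hse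
    obtain ⟨S, hS⟩ := LocalB.exists_sylow_le_of_stronglyPEmbedded hM
    have hST : (S : Subgroup G) = T := (S.is_maximal' hT2 fun x hx => by
      obtain ⟨i, hi⟩ := S.isPGroup' ⟨x, hx⟩
      exact two_mem_of_shape hse hTM hn htr (hS hx) (congrArg Subtype.val hi)).symm
    refine ⟨S, ?_⟩
    rw [hST]
    by_contra hne
    have htop : normalizer (T : Set G) = ⊤ := hmax.2 _ (lt_of_le_of_ne hn hne)
    rcases (normalizer_eq_top_iff.1 htop).eq_bot_or_eq_top with h | h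
    · exact LocalB.dvd_card_sylow hM.1 S (hST.trans h)
    · exact hse.1 (top_le_iff.1 (h ▸ hTM))

end Maximal

end CfsgLib.Bender.Consumers
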