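import Mathlib.GroupTheory.PGroup
import Mathlib.GroupTheory.QuotientGroup.Basic
import Mathlib.GroupTheory.OrderOfElement

/-!
Involutions acting on an elementary abelian group of odd exponent: the commutator space of one of
three conjugate commuting involutions has order at least `q²`, and the inverted part of a `q`-group
all of whose inverted elements are regular has order at most `q`.
-/

set_option autoImplicit false

namespace CfsgLib.Bender.BTwo

open Subgroup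

variable {G : Type*} [Group G]

theorem eq_one_of_sq {q : ℕ} (hq : Odd q) {n : G} (hn : n ^ q = 1) (h2 : n = n⁻¹) : n = 1 := by
  have h : n ^ 2 = 1 := by rw [pow_two]; nth_rw 1 [h2]; exact inv_mul_cancel n
  obtain ⟨k, hk⟩ := hq
  rwa [hk, pow_succ, pow_mul, h, one_pow, one_mul] at hn

theorem conj_mem {K : Subgroup G} {w n : G} (hw : w ∈ normalizer (K : Set G)) (hn : n ∈ K) :
    w * n * w⁻¹ ∈ K :=
  (mem_normalizer_iff.1 hw n).1 hn

/-- `n ↦ n⁻¹ wnw⁻¹` on an abelian subgroup normalized by `w`. -/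
def dmap (K : Subgroup G) (hK : ∀ a ∈ K, ∀ b ∈ K, a * b = b * a) (w : G)
    (hw : w ∈ normalizer (K : Set G)) : K →* K where
  toFun n := ⟨(n : G)⁻¹ * (w * n * w⁻¹), mul_mem (inv_mem n.2) (conj_mem hw n.2)⟩
  map_one' := by ext; simp
  map_mul' a b := by
    apply Subtype.ext
    show (((a : G) * b)⁻¹) * (w * (a * b) * w⁻¹) =
      (a : G)⁻¹ * (w * a * w⁻¹) * ((b : G)⁻¹ * (w * b * w⁻¹))
    calc (((a : G) * b)⁻¹) * (w * (a * b) * w⁻¹)
        = (b : G)⁻¹ * ((a : G)⁻¹ * (w * a * w⁻¹)) * (w * b * w⁻¹) := by group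
      _ = (a : G)⁻¹ * (w * a * w⁻¹) * (b : G)⁻¹ * (w * b * w⁻¹) := by
        rw [hK _ (inv_mem b.2) _ (mul_mem (inv_mem a.2) (conj_mem hw a.2))]
      _ = _ := mul_assoc _ _ _

theorem card_eq_centralizer_mul_range (K : Subgroup G) (hK : ∀ a ∈ K, ∀ b ∈ K, a * b = b * a)
    (w : G) (hw : w ∈ normalizer (K : Set G)) :
    Nat.card K = Nat.card (K ⊓ centralizer ({w} : Set G) : Subgroup G) *
      Nat.card (dmap K hK w hw).range := by
  have hker : (dmap K hK w hw).ker = (K ⊓ centralizer ({w} : Set G)).subgroupOf K := by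
    ext n
    simp only [MonoidHom.mem_ker, mem_subgroupOf, mem_inf, n.2, true_and, mem_centralizer_singleton_iff,
      Subtype.ext_iff, coe_one]
    show (n : G)⁻¹ * (w * n * w⁻¹) = 1 ↔ _
    rw [inv_mul_eq_one, eq_mul_inv_iff_mul_eq]
  rw [card_eq_card_quotient_mul_card_subgroup (dmap K hK w hw).ker,
    Nat.card_congr (QuotientGroup.quotientKerEquivRange _).toEquiv, hker,
    Nat.card_congr (subgroupOfEquivOfLe inf_le_left).toEquiv, mul_comm]

variable [Finite G] {q : ℕ} [Fact q.Prime]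

/-- `t` and `x` commute, `y` is inverted by `t` and fixed by `x`, `z` the other way round. -/
theorem sq_mul_card_le_of_pair (hq : q ≠ 2) {N : Subgroup G}
    (hN : ∀ a ∈ N, ∀ b ∈ N, a * b = b * a) (hexp : ∀ a ∈ N, a ^ q = 1) {t x y z : G}
    (ht : t ∈ normalizer (N : Set G)) (hx : x ∈ normalizer (N : Set G))
    (hy : y ∈ N) (hy1 : y ≠ 1) (hty : t * y * t⁻¹ = y⁻¹) (hxy : x * y * x⁻¹ = y)
    (hz : z ∈ N) (hz1 : z ≠ 1) (htz : t * z * t⁻¹ = z) (hxz : x * z * x⁻¹ = z⁻¹) :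
    q ^ 2 * Nat.card (N ⊓ centralizer ({t * x} : Set G) : Subgroup G) ≤ Nat.card N := by
  have hqodd : Odd q := (Fact.out : q.Prime).odd_of_ne_two hq
  letI : CommGroup N := { mul_comm := fun a b => Subtype.ext (hN a a.2 b b.2) }
  have hw : t * x ∈ normalizer (N : Set G) := mul_mem ht hx
  set φ := dmap N hN (t * x) hw with hφ
  let y' : N := ⟨y, hy⟩
  let z' : N := ⟨z, hz⟩
  have hmem : ∀ v : N, (t * x) * (v : G) * (t * x)⁻¹ = (v : G)⁻¹ → v ∈ φ.range := by
    intro v hv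
    obtain ⟨k, hk⟩ := hqodd
    refine ⟨v ^ k, Subtype.ext ?_⟩
    show ((v : G) ^ k)⁻¹ * (t * x * (v : G) ^ k * (t * x)⁻¹) = v
    have hvq := hexp v v.2
    rw [← conj_pow, hv, inv_pow, ← mul_inv_rev, ← pow_add, ← two_mul]
    rw [hk, pow_succ] at hvq
    exact (eq_inv_of_mul_eq_one_right hvq).symm
  have hy' : y' ∈ φ.range := hmem y' <| by
    show t * x * y * (t * x)⁻¹ = y⁻¹
    rw [show t * x * y * (t * x)⁻¹ = t * (x * y * x⁻¹) * t⁻¹ by group, hxy, hty]
  have hz' : z' ∈ φ.range := hmem z' <| by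
    show t * x * z * (t * x)⁻¹ = z⁻¹
    rw [show t * x * z * (t * x)⁻¹ = t * (x * z * x⁻¹) * t⁻¹ by group, hxz, ← conj_inv, htz]
  let f : zpowers y' × zpowers z' →* N := (zpowers y').subtype.coprod (zpowers z').subtype
  have hfr : ∀ p, f p ∈ φ.range := fun p =>
    mul_mem (zpowers_le.2 hy' p.1.2) (zpowers_le.2 hz' p.2.2)
  have hfi : Function.Injective (f.codRestrict φ.range hfr) := by
    rw [injective_iff_map_eq_one]
    rintro ⟨⟨a, i, rfl⟩, ⟨b, j, rfl⟩⟩ h
    have h' : y' ^ i * z' ^ j = 1 := congrArg Subtype.val h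
    have e : y ^ i = z ^ (-j) := by
      have h'' : y ^ i * z ^ j = 1 := by simpa [y', z'] using congrArg Subtype.val h'
      rw [zpow_neg]; exact eq_inv_of_mul_eq_one_left h''
    have h1 : y ^ i = 1 := by
      refine eq_one_of_sq hqodd (hexp _ (zpow_mem hy i)) ?_
      calc y ^ i = t * z ^ (-j) * t⁻¹ := by rw [← conj_zpow, htz, e]
        _ = (y ^ i)⁻¹ := by rw [← e, ← conj_zpow, hty, inv_zpow]
    have hyi : y' ^ i = 1 := Subtype.ext (by simpa [y'] using h1)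
    rw [hyi, one_mul] at h'
    ext <;> simp [hyi, h']
  have hcard : Nat.card (zpowers y' × zpowers z') = q ^ 2 := by
    rw [Nat.card_prod, Nat.card_zpowers, Nat.card_zpowers, pow_two,
      orderOf_eq_prime (p := q) (Subtype.ext (by simpa using hexp y hy))
        (fun e => hy1 (congrArg Subtype.val e)),
      orderOf_eq_prime (p := q) (Subtype.ext (by simpa using hexp z hz))
        (fun e => hz1 (congrArg Subtype.val e))]
  rw [card_eq_centralizer_mul_range N hN (t * x) hw, mul_comm (q ^ 2), ← hcard]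
  exact Nat.mul_le_mul_left _ (Nat.card_le_card_of_injective _ hfi)

/-- Three commuting involutions with centralizers of equal order in `N`: the commutator of one of
them has order at least `q²`. -/
theorem sq_mul_card_centralizer_le (hq : q ≠ 2) {N : Subgroup G}
    (hN : ∀ a ∈ N, ∀ b ∈ N, a * b = b * a) (hexp : ∀ a ∈ N, a ^ q = 1) {t s : G}
    (ht2 : t * t = 1) (hs2 : s * s = 1) (hts : t * s = s * t)
    (ht : t ∈ normalizer (N : Set G)) (hs : s ∈ normalizer (N : Set G))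
    (hcs : Nat.card (N ⊓ centralizer ({t} : Set G) : Subgroup G) =
      Nat.card (N ⊓ centralizer ({s} : Set G) : Subgroup G))
    (hcts : Nat.card (N ⊓ centralizer ({t} : Set G) : Subgroup G) =
      Nat.card (N ⊓ centralizer ({t * s} : Set G) : Subgroup G))
    (hne : ¬ N ≤ centralizer ({t} : Set G)) :
    q ^ 2 * Nat.card (N ⊓ centralizer ({t} : Set G) : Subgroup G) ≤ Nat.card N := by
  have hqodd : Odd q := (Fact.out : q.Prime).odd_of_ne_two hq
  have hinv : ∀ w : G, w * w = 1 → ∀ n : G, n ∈ N → w ∈ normalizer (N : Set G) →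
      w * (n⁻¹ * (w * n * w⁻¹)) * w⁻¹ = (n⁻¹ * (w * n * w⁻¹))⁻¹ := by
    intro w hw n hn hwn
    have hwi : w⁻¹ = w := inv_eq_of_mul_eq_one_right hw
    rw [mul_inv_rev, inv_inv,
      show (w * n * w⁻¹)⁻¹ * n = n * (w * n * w⁻¹)⁻¹ from
        (hN _ hn _ (inv_mem (conj_mem hwn hn))).symm]
    calc w * (n⁻¹ * (w * n * w⁻¹)) * w⁻¹ = (w * n⁻¹ * w⁻¹) * ((w * w) * n * (w * w)⁻¹) := by group
      _ = (w * n⁻¹ * w⁻¹) * n := by rw [hw]; group
      _ = _ := by
        rw [conj_inv]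
        exact hN _ (conj_mem hwn (inv_mem hn)) _ hn
  obtain ⟨n, hn, hnt⟩ : ∃ n ∈ N, t * n ≠ n * t := by
    by_contra h
    push Not at h
    exact hne fun n hn => mem_centralizer_singleton_iff.2 (h n hn).symm
  obtain ⟨y, hydef⟩ : ∃ y, y = n⁻¹ * (t * n * t⁻¹) := ⟨_, rfl⟩
  have hy : y ∈ N := hydef ▸ mul_mem (inv_mem hn) (conj_mem ht hn)
  have hy1 : y ≠ 1 := by
    rw [hydef, Ne, inv_mul_eq_one, eq_mul_inv_iff_mul_eq]; exact fun e => hnt e.symm
  have hty : t * y * t⁻¹ = y⁻¹ := hydef ▸ hinv t ht2 n hn ht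
  -- some `x` among `s`, `t s` fixes a nontrivial element inverted by `t`
  obtain ⟨x, hx, hx2, hxt, hcx, hctx, v, hv, hv1, htv, hxv⟩ :
      ∃ x, x ∈ normalizer (N : Set G) ∧ x * x = 1 ∧ t * x = x * t ∧
        Nat.card (N ⊓ centralizer ({t} : Set G) : Subgroup G) =
          Nat.card (N ⊓ centralizer ({x} : Set G) : Subgroup G) ∧
        Nat.card (N ⊓ centralizer ({t} : Set G) : Subgroup G) =
          Nat.card (N ⊓ centralizer ({t * x} : Set G) : Subgroup G) ∧
        ∃ v ∈ N, v ≠ 1 ∧ t * v * t⁻¹ = v⁻¹ ∧ x * v * x⁻¹ = v := by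
    by_cases ha : y * (s * y * s⁻¹) = 1
    · have hsy : s * y * s⁻¹ = y⁻¹ := eq_inv_of_mul_eq_one_right ha
      refine ⟨t * s, mul_mem ht hs, ?_, ?_, hcts, ?_, y, hy, hy1, hty, ?_⟩
      · rw [mul_assoc, ← mul_assoc s, ← hts, mul_assoc t, hs2, mul_one, ht2]
      · rw [← mul_assoc, ht2, one_mul, hts, mul_assoc, ht2, mul_one]
      · rw [← mul_assoc, ht2, one_mul]; exact hcs
      · rw [show t * s * y * (t * s)⁻¹ = t * (s * y * s⁻¹) * t⁻¹ by group, hsy, ← conj_inv, hty,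
          inv_inv]
    · refine ⟨s, hs, hs2, hts, hcs, hcts, _, mul_mem hy (conj_mem hs hy), ha, ?_, ?_⟩
      · rw [show t * (y * (s * y * s⁻¹)) * t⁻¹ = t * y * t⁻¹ * ((t * s) * y * (t * s)⁻¹) by group,
          hty, hts, show s * t * y * (s * t)⁻¹ = s * (t * y * t⁻¹) * s⁻¹ by group, hty, mul_inv_rev,
          conj_inv]
        exact hN _ (inv_mem hy) _ (conj_mem hs (inv_mem hy))
      · rw [show s * (y * (s * y * s⁻¹)) * s⁻¹ = s * y * s⁻¹ * ((s * s) * y * (s * s)⁻¹) by group,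
          hs2, inv_one, one_mul, mul_one]
        exact hN _ (conj_mem hs hy) _ hy
  -- `C(t)` is not contained in `C(x)`
  obtain ⟨m, hm, hmx⟩ : ∃ m ∈ N ⊓ centralizer ({t} : Set G), x * m ≠ m * x := by
    by_contra h
    push Not at h
    have hle : N ⊓ centralizer ({t} : Set G) ≤ N ⊓ centralizer ({x} : Set G) := fun m hm =>
      ⟨hm.1, mem_centralizer_singleton_iff.2 (h m hm).symm⟩
    have heq := eq_of_le_of_card_ge hle hcx.ge
    have hvm : v ∈ N ⊓ centralizer ({t} : Set G) :=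
      heq ▸ ⟨hv, mem_centralizer_singleton_iff.2 (mul_inv_eq_iff_eq_mul.1 hxv).symm⟩
    refine hv1 (eq_one_of_sq hqodd (hexp v hv) ?_)
    rw [← htv, mul_inv_eq_iff_eq_mul.2 (mem_centralizer_singleton_iff.1 hvm.2).symm]
  set z := m⁻¹ * (x * m * x⁻¹) with hzdef
  have hz : z ∈ N := mul_mem (inv_mem hm.1) (conj_mem hx hm.1)
  have hz1 : z ≠ 1 := by
    rw [hzdef, Ne, inv_mul_eq_one, eq_mul_inv_iff_mul_eq]; exact fun e => hmx e.symm
  have htz : t * z * t⁻¹ = z := by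
    have hmt : t * m * t⁻¹ = m :=
      mul_inv_eq_iff_eq_mul.2 (mem_centralizer_singleton_iff.1 hm.2).symm
    rw [hzdef, show t * (m⁻¹ * (x * m * x⁻¹)) * t⁻¹ =
      (t * m * t⁻¹)⁻¹ * ((t * x) * m * (t * x)⁻¹) by group, hxt,
      show x * t * m * (x * t)⁻¹ = x * (t * m * t⁻¹) * x⁻¹ by group, hmt]
  rw [hctx]
  exact sq_mul_card_le_of_pair hq hN hexp ht hx hv hv1 htv hxv hz hz1 htz (hinv x hx2 m hm.1 hx)

/-- If every element of order `q` of `R` inverted by `t` has at most `q` fixed points in `N`, then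
`|R : C_R(t)| ≤ q`. -/
theorem card_le_mul_card_centralizer (hq : q ≠ 2) {N R : Subgroup G}
    (hN : ∀ a ∈ N, ∀ b ∈ N, a * b = b * a) (hexp : ∀ a ∈ N, a ^ q = 1)
    (hbig : q < Nat.card N) (hR : IsPGroup q R) (hRN : R ≤ normalizer (N : Set G)) {t : G}
    (ht2 : t * t = 1) (htN : t ∈ normalizer (N : Set G)) (htR : t ∈ normalizer (R : Set G))
    (hreg : ∀ g ∈ R, orderOf g = q → t * g * t⁻¹ = g⁻¹ →
      Nat.card (N ⊓ centralizer ({g} : Set G) : Subgroup G) ≤ q) :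
    Nat.card R ≤ q * Nat.card (R ⊓ centralizer ({t} : Set G) : Subgroup G) := by
  classical
  have hqp : q.Prime := Fact.out
  have hti : t⁻¹ = t := inv_eq_of_mul_eq_one_right ht2
  -- an element moved by `t` gives an inverted element of order `q` in any `t`-invariant subgroup
  have hfix : ∀ K : Subgroup G, K ≤ R → t ∈ normalizer (K : Set G) →
      (∀ g ∈ K, orderOf g = q → t * g * t⁻¹ = g⁻¹ → False) →
      K ≤ R ⊓ centralizer ({t} : Set G) := by
    intro K hKR htK hno k hk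
    refine ⟨hKR hk, mem_centralizer_singleton_iff.2 ?_⟩
    by_contra hne
    set y := k⁻¹ * (t * k * t⁻¹) with hydef
    have hy1 : y ≠ 1 := by
      rw [hydef, Ne, inv_mul_eq_one, eq_mul_inv_iff_mul_eq]; exact hne
    have hy : y ∈ K := mul_mem (inv_mem hk) (conj_mem htK hk)
    have hty : t * y * t⁻¹ = y⁻¹ := by
      rw [hydef, mul_inv_rev, inv_inv]
      calc t * (k⁻¹ * (t * k * t⁻¹)) * t⁻¹
          = (t * k⁻¹ * t⁻¹) * ((t * t) * k * (t * t)⁻¹) := by group
        _ = _ := by rw [ht2]; group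
    obtain ⟨j, hj⟩ := hR ⟨y, hKR hy⟩
    have hyord : orderOf y ∣ q ^ j := orderOf_dvd_of_pow_eq_one (congrArg Subtype.val hj)
    obtain ⟨i, -, hi⟩ := (Nat.dvd_prime_pow hqp).1 hyord
    rcases i with _ | i
    · exact hy1 (orderOf_eq_one_iff.1 (by simpa using hi))
    refine hno (y ^ q ^ i) (pow_mem hy _) ?_ (by rw [← conj_pow, hty, inv_pow])
    rw [orderOf_pow' y (pow_ne_zero i hqp.ne_zero), hi, Nat.gcd_eq_right (pow_dvd_pow q (by omega)),
      pow_succ, Nat.mul_div_cancel_left _ (pow_pos hqp.pos i)]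
  by_cases hex : ∃ g ∈ R, orderOf g = q ∧ t * g * t⁻¹ = g⁻¹
  swap
  · have hle := card_le_of_le (hfix R le_rfl htR fun g hg h1 h2 => hex ⟨g, hg, h1, h2⟩)
    exact hle.trans (Nat.le_mul_of_pos_left _ hqp.pos)
  obtain ⟨g, hg, hgord, hgt⟩ := hex
  set N₁ := N ⊓ centralizer (R : Set G) with hN₁
  have hgle : Nat.card (N ⊓ centralizer ({g} : Set G) : Subgroup G) ≤ q := hreg g hg hgord hgt
  have hN₁g : N₁ ≤ N ⊓ centralizer ({g} : Set G) := fun n hn =>
    ⟨hn.1, mem_centralizer_singleton_iff.2 (mem_centralizer_iff.1 hn.2 g hg).symm⟩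
  have hN₁le : Nat.card N₁ ≤ q := (card_le_of_le hN₁g).trans hgle
  -- the action of `R` on `N`
  let act : R →* MulAut N := N.normalizerMonoidHom.comp (inclusion hRN)
  have hNq : IsPGroup q N := fun n => ⟨1, Subtype.ext (by simpa using hexp n n.2)⟩
  have hN₁ge : q ≤ Nat.card N₁ := by
    letI : MulAction R N := MulAction.compHom N act
    haveI : Nontrivial N := Finite.one_lt_card_iff_nontrivial.1 (hqp.one_lt.trans hbig)
    obtain ⟨j, hj0, hj⟩ := hNq.nontrivial_iff_card.1 ‹_›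
    obtain ⟨b, hb, hb1⟩ := hR.exists_fixed_point_of_prime_dvd_card_of_fixed_point N
      (hj ▸ dvd_pow_self q hj0.ne') (a := (1 : N)) (fun r => map_one (act r))
    have hbN : (b : G) ∈ N₁ := ⟨b.2, mem_centralizer_iff.2 fun r hr => by
      have e : r * b * r⁻¹ = b := congrArg Subtype.val (hb ⟨r, hr⟩)
      exact mul_inv_eq_iff_eq_mul.1 e⟩
    have hord : orderOf (b : G) = q :=
      orderOf_eq_prime (hexp b b.2) fun e => hb1 (Subtype.ext e.symm)
    exact hord ▸ (Nat.card_zpowers (b : G)).symm.le.trans (card_le_of_le (zpowers_le.2 hbN))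
  have hN₁eq : N₁ = N ⊓ centralizer ({g} : Set G) :=
    eq_of_le_of_card_ge hN₁g (hgle.trans hN₁ge)
  -- the second term
  have hcN : ∀ r ∈ R, ∀ n ∈ N, r * n * r⁻¹ ∈ N := fun r hr n hn => conj_mem (hRN hr) hn
  have hcN₁ : ∀ r ∈ R, ∀ n ∈ N₁, r * n * r⁻¹ = n := fun r hr n hn =>
    mul_inv_eq_iff_eq_mul.2 (mem_centralizer_iff.1 hn.2 r hr)
  have hcomm : ∀ r ∈ R, ∀ a ∈ N, ∀ b ∈ N, r * (a * b) * r⁻¹ * (a * b)⁻¹ =
      (r * a * r⁻¹ * a⁻¹) * (r * b * r⁻¹ * b⁻¹) := by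
    intro r hr a ha b hb
    have hB : r * b * r⁻¹ * b⁻¹ ∈ N := mul_mem (hcN r hr b hb) (inv_mem hb)
    calc r * (a * b) * r⁻¹ * (a * b)⁻¹ = r * a * r⁻¹ * ((r * b * r⁻¹ * b⁻¹) * a⁻¹) := by group
      _ = r * a * r⁻¹ * (a⁻¹ * (r * b * r⁻¹ * b⁻¹)) := by rw [hN _ hB _ (inv_mem ha)]
      _ = _ := (mul_assoc _ _ _).symm
  let N₂ : Subgroup G :=
    { carrier := {n | n ∈ N ∧ ∀ r ∈ R, r * n * r⁻¹ * n⁻¹ ∈ N₁}
      mul_mem' := fun ha hb => ⟨mul_mem ha.1 hb.1, fun r hr => by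
        rw [hcomm r hr _ ha.1 _ hb.1]; exact mul_mem (ha.2 r hr) (hb.2 r hr)⟩
      one_mem' := ⟨one_mem _, fun r _ => by simp⟩
      inv_mem' := fun {a} ha => ⟨inv_mem ha.1, fun r hr => by
        have h := hcomm r hr _ (inv_mem ha.1) _ ha.1
        simp only [inv_mul_cancel, inv_one, mul_one, mul_inv_cancel] at h
        rw [mul_eq_one_iff_eq_inv.1 h.symm]; exact inv_mem (ha.2 r hr)⟩ }
  have hN₂N : N₂ ≤ N := fun n hn => hn.1
  have hN₁₂ : N₁ ≤ N₂ := fun n hn => ⟨hn.1, fun r hr => by rw [hcN₁ r hr n hn]; simp⟩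
  have hN₂card : Nat.card N₂ ≤ q * q := by
    let f : N₂ →* N₁ :=
      { toFun := fun n => ⟨g * n * g⁻¹ * (n : G)⁻¹, n.2.2 g hg⟩
        map_one' := by ext; simp
        map_mul' := fun a b => Subtype.ext (hcomm g hg a a.2.1 b b.2.1) }
    have hker : Nat.card f.ker ≤ q := by
      refine le_trans ?_ hgle
      refine Nat.card_le_card_of_injective (fun n : f.ker =>
        (⟨(n : N₂), (n : N₂).2.1, mem_centralizer_singleton_iff.2 ?_⟩ :
          (N ⊓ centralizer ({g} : Set G) : Subgroup G))) ?_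
      · have e : g * (n : N₂) * g⁻¹ * ((n : N₂) : G)⁻¹ = 1 := congrArg Subtype.val n.2
        exact (mul_inv_eq_iff_eq_mul.1 (mul_inv_eq_one.1 e)).symm
      · intro a b h
        exact Subtype.ext (Subtype.ext (congrArg (fun z : (N ⊓ centralizer ({g} : Set G) :
          Subgroup G) => (z : G)) h))
    calc Nat.card N₂ = Nat.card f.range * Nat.card f.ker := by
          rw [card_eq_card_quotient_mul_card_subgroup f.ker,
            Nat.card_congr (QuotientGroup.quotientKerEquivRange f).toEquiv]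
      _ ≤ q * q := Nat.mul_le_mul (le_trans (card_le_card_group _) hN₁le) hker
  obtain ⟨n, hn₂, hn₁⟩ : ∃ n, n ∈ N₂ ∧ n ∉ N₁ := by
    let M₁ : Subgroup N := N₁.subgroupOf N
    haveI : M₁.Normal := ⟨fun a ha b => mem_subgroupOf.2 <| by
      have e : ((b * a * b⁻¹ : N) : G) = a := by
        show (b : G) * a * (b : G)⁻¹ = a
        rw [hN b b.2 a a.2, mul_inv_cancel_right]
      rw [e]; exact mem_subgroupOf.1 ha⟩
    have hM : ∀ r : R, M₁ ≤ M₁.comap (act r).toMonoidHom := fun r a ha => by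
      have e : r * (a : G) * (r : G)⁻¹ = a := hcN₁ r r.2 a (mem_subgroupOf.1 ha)
      show act r a ∈ M₁
      rw [show act r a = a from Subtype.ext e]; exact ha
    letI : MulAction R (N ⧸ M₁) :=
      { smul := fun r x => QuotientGroup.map M₁ M₁ (act r).toMonoidHom (hM r) x
        one_smul := fun x => by
          induction x using QuotientGroup.induction_on with
          | _ a => exact congrArg (fun e : MulAut N => ((e a : N) : N ⧸ M₁)) (map_one act)
        mul_smul := fun r r' x => by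
          induction x using QuotientGroup.induction_on with
          | _ a => exact congrArg (fun e : MulAut N => ((e a : N) : N ⧸ M₁)) (map_mul act r r') }
    have hMne : M₁ ≠ ⊤ := fun h => by
      have hle : N ≤ N₁ := subgroupOf_eq_top.1 h
      exact absurd ((card_le_of_le hle).trans hN₁le) (not_le.2 hbig)
    haveI : Nontrivial (N ⧸ M₁) := QuotientGroup.nontrivial_iff.2 hMne
    obtain ⟨j, hj0, hj⟩ := (hNq.to_quotient M₁).nontrivial_iff_card.1 ‹_›
    obtain ⟨b, hb, hb1⟩ := hR.exists_fixed_point_of_prime_dvd_card_of_fixed_point (N ⧸ M₁)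
      (hj ▸ dvd_pow_self q hj0.ne') (a := (1 : N ⧸ M₁))
      (fun r => map_one (QuotientGroup.map M₁ M₁ (act r).toMonoidHom (hM r)))
    obtain ⟨a, rfl⟩ := QuotientGroup.mk_surjective b
    refine ⟨a, ⟨a.2, fun r hr => ?_⟩, fun h => hb1 ?_⟩
    · have e : ((act ⟨r, hr⟩ a : N) : N ⧸ M₁) = a := hb ⟨r, hr⟩
      rw [QuotientGroup.eq, mem_subgroupOf] at e
      have e' : (r * a * r⁻¹)⁻¹ * (a : G) ∈ N₁ := e
      have e'' := inv_mem e'
      rwa [mul_inv_rev, inv_inv, ← hN _ (hcN r hr a a.2) _ (inv_mem a.2)] at e''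
    · exact ((QuotientGroup.eq_one_iff a).2 (mem_subgroupOf.2 h)).symm
  have hN₂eq : N₁ ⊔ zpowers n = N₂ := by
    refine eq_of_le_of_card_ge (sup_le hN₁₂ (zpowers_le.2 hn₂)) ?_
    refine hN₂card.trans ?_
    have hlt : N₁ < N₁ ⊔ zpowers n :=
      lt_of_le_of_ne le_sup_left fun e => hn₁ (e ▸ mem_sup_right (mem_zpowers n))
    obtain ⟨c, hc⟩ := card_dvd_of_le hlt.le
    have hsq : IsPGroup q (N₁ ⊔ zpowers n : Subgroup G) :=
      hNq.to_le (sup_le inf_le_left (zpowers_le.2 hn₂.1))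
    obtain ⟨j, hj⟩ := IsPGroup.iff_card.1 hsq
    have hcq : c ∣ q ^ j := hj ▸ hc ▸ Dvd.intro_left _ rfl
    obtain ⟨i, -, rfl⟩ := (Nat.dvd_prime_pow hqp).1 hcq
    rcases i with _ | i
    · rw [pow_zero, mul_one] at hc
      exact absurd (eq_of_le_of_card_ge hlt.le hc.le) hlt.ne
    · rw [hc]
      exact Nat.mul_le_mul hN₁ge (Nat.le_self_pow (by omega) q)
  -- the kernel of the first coordinate
  let φ : R →* N₁ :=
    { toFun := fun r => ⟨r * n * (r : G)⁻¹ * n⁻¹, hn₂.2 r r.2⟩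
      map_one' := by ext; simp
      map_mul' := fun r r' => by
        apply Subtype.ext
        show ((r : G) * r') * n * ((r : G) * r')⁻¹ * n⁻¹ =
          (r * n * (r : G)⁻¹ * n⁻¹) * (r' * n * (r' : G)⁻¹ * n⁻¹)
        have h' := hn₂.2 r' r'.2
        calc ((r : G) * r') * n * ((r : G) * r')⁻¹ * n⁻¹
            = (r : G) * (r' * n * (r' : G)⁻¹ * n⁻¹) * (r : G)⁻¹ *
                (r * n * (r : G)⁻¹ * n⁻¹) := by group
          _ = (r' * n * (r' : G)⁻¹ * n⁻¹) * (r * n * (r : G)⁻¹ * n⁻¹) := by rw [hcN₁ r r.2 _ h']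
          _ = _ := hN _ h'.1 _ (hn₂.2 r r.2).1 }
  set K := φ.ker.map R.subtype with hKdef
  have hKiff : ∀ k, k ∈ K ↔ k ∈ R ∧ ∀ m ∈ N₂, k * m = m * k := by
    intro k
    constructor
    · rintro ⟨⟨k, hk⟩, hker, rfl⟩
      refine ⟨hk, ?_⟩
      have hle : N₂ ≤ centralizer ({k} : Set G) := by
        rw [← hN₂eq]
        refine sup_le (fun m hm => mem_centralizer_singleton_iff.2
          (mem_centralizer_iff.1 hm.2 k hk).symm) (zpowers_le.2 ?_)
        have e : k * n * k⁻¹ * n⁻¹ = 1 := congrArg Subtype.val hker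
        exact mem_centralizer_singleton_iff.2 (mul_inv_eq_iff_eq_mul.1 (mul_inv_eq_one.1 e)).symm
      exact fun m hm => (mem_centralizer_singleton_iff.1 (hle hm)).symm
    · rintro ⟨hk, h⟩
      refine ⟨⟨k, hk⟩, Subtype.ext ?_, rfl⟩
      show k * n * k⁻¹ * n⁻¹ = 1
      rw [h n hn₂]; group
  have hKR : K ≤ R := map_subtype_le _
  have htN₂ : ∀ m ∈ N₂, t * m * t⁻¹ ∈ N₂ := by
    refine fun m hm => ⟨conj_mem htN hm.1, fun r hr => ?_⟩
    have hr' : t * r * t⁻¹ ∈ R := conj_mem htR hr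
    have e : r * (t * m * t⁻¹) * r⁻¹ * (t * m * t⁻¹)⁻¹ =
        t * ((t * r * t⁻¹) * m * (t * r * t⁻¹)⁻¹ * m⁻¹) * t⁻¹ := by
      have h1 : t * (t * r * t⁻¹) = r * t⁻¹ := by rw [← mul_assoc, ← mul_assoc, ht2, one_mul]
      calc r * (t * m * t⁻¹) * r⁻¹ * (t * m * t⁻¹)⁻¹
          = r * t * m * (r * t)⁻¹ * (t * m⁻¹ * t⁻¹) := by group
        _ = r * t⁻¹ * m * (r * t⁻¹)⁻¹ * (t * m⁻¹ * t⁻¹) := by rw [hti]
        _ = t * (t * r * t⁻¹) * m * (t * (t * r * t⁻¹))⁻¹ * (t * m⁻¹ * t⁻¹) := by rw [h1]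
        _ = _ := by group
    rw [e]
    refine ⟨conj_mem htN (hm.2 _ hr').1, mem_centralizer_iff.2 fun r' hr'' => ?_⟩
    have h2 := mem_centralizer_iff.1 (hm.2 _ hr').2 (t * r' * t⁻¹) (conj_mem htR hr'')
    have h3 : ∀ X, t * r' * t⁻¹ * X = X * (t * r' * t⁻¹) →
        t * (t * r' * t⁻¹) * t⁻¹ * (t * X * t⁻¹) = t * X * t⁻¹ * (t * (t * r' * t⁻¹) * t⁻¹) :=
      fun X hX => by rw [conj_mul, conj_mul, hX]
    have e1 : t * (t * r' * t⁻¹) * t⁻¹ = r' := by
      rw [← mul_assoc, ← mul_assoc, ht2, one_mul, mul_assoc, ← mul_inv_rev, ht2, inv_one, mul_one]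
    have h4 := h3 _ h2
    rwa [e1] at h4
  have htK : t ∈ normalizer (K : Set G) := by
    rw [mem_normalizer_iff]
    have h1 : ∀ k ∈ K, t * k * t⁻¹ ∈ K := by
      intro k hk
      obtain ⟨hkR, hk'⟩ := (hKiff k).1 hk
      refine (hKiff _).2 ⟨conj_mem htR hkR, fun m hm => ?_⟩
      have h2 : t * k * t⁻¹ * (t * (t * m * t⁻¹) * t⁻¹) = t * (t * m * t⁻¹) * t⁻¹ * (t * k * t⁻¹) := by
        rw [conj_mul, conj_mul, hk' _ (htN₂ m hm)]
      have e1 : t * (t * m * t⁻¹) * t⁻¹ = m := by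
        rw [← mul_assoc, ← mul_assoc, ht2, one_mul, mul_assoc, ← mul_inv_rev, ht2, inv_one, mul_one]
      rwa [e1] at h2
    refine fun k => ⟨h1 k, fun hk => ?_⟩
    have h2 := h1 _ hk
    rwa [← mul_assoc, ← mul_assoc, ht2, one_mul, mul_assoc, ← mul_inv_rev, ht2, inv_one,
      mul_one] at h2
  have hKC : K ≤ R ⊓ centralizer ({t} : Set G) := by
    refine hfix K hKR htK fun k hk hord hinv => ?_
    obtain ⟨hkR, hk'⟩ := (hKiff k).1 hk
    have hle : N₂ ≤ N ⊓ centralizer ({k} : Set G) := fun m hm =>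
      ⟨hm.1, mem_centralizer_singleton_iff.2 (hk' m hm).symm⟩
    have h2 : q < Nat.card N₂ := by
      refine lt_of_le_of_ne (hN₁ge.trans (card_le_of_le hN₁₂)) fun e => hn₁ ?_
      rw [eq_of_le_of_card_ge hN₁₂ (by omega)]
      exact hn₂
    exact absurd ((card_le_of_le hle).trans (hreg k hkR hord hinv)) (not_le.2 h2)
  calc Nat.card R = Nat.card φ.range * Nat.card φ.ker := by
        rw [card_eq_card_quotient_mul_card_subgroup φ.ker,
          Nat.card_congr (QuotientGroup.quotientKerEquivRange φ).toEquiv]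
    _ ≤ q * Nat.card (R ⊓ centralizer ({t} : Set G) : Subgroup G) := by
      refine Nat.mul_le_mul ((card_le_card_group _).trans hN₁le) ?_
      rw [← card_map_of_injective R.subtype_injective]
      exact card_le_of_le hKC

end CfsgLib.Bender.BTwo
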