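import Cfsg.Agent.Blocks.Section
import Cfsg.Agent.Blocks.PSolvablePrincipal

/-!
# Sums over the core of a constrained centralizer

Outside the principal block a character sums to zero over `x` times the core of order prime to `p`
of the centralizer of `x`, when that centralizer is `p`-constrained.
-/

namespace CfsgLib.Bender.BlockSums

open Cfsg Finset CfsgLib.Block CfsgLib.Block.Chr CfsgLib.Char
open scoped ComplexConjugate

set_option linter.unusedSectionVars false
set_option linter.style.haveILetI false

universe u

variable {G : Type u} [Group G] [Fintype G] {M : Ideal AlgInt} [M.IsPrime] {p : ℕ}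

/-- A class function sums over the core to the core order times its principal block part. -/
theorem sum_core_eq_card_mul {C : Type u} [Group C] [Fintype C] (hM : IsPModular p M)
    (hsc : CfsgLib.PConstrained.SelfCent p (C ⧸ pPrimeCore p C))
    [DecidablePred (· ∈ pPrimeCore p C)] {θ : C → ℂ} (hθ : IsClassFunction C θ) :
    ∑ w ∈ univ.filter (· ∈ pPrimeCore p C), θ w =
      (Nat.card (pPrimeCore p C) : ℂ) * blockPart (principalBlock M C) θ 1 := by
  classical
  letI := irrFintype (G := C)
  haveI : (pPrimeCore p C).Normal := CfsgLib.Solvable.pPrimeCore_normal p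
  obtain ⟨hmem, -⟩ := principalBlock_of_constrained hM hsc
  rw [blockPart_eq_sum_inner, mul_sum, sum_congr rfl fun w _ => classFun_expand hθ w, sum_comm,
    sum_filter]
  refine sum_congr rfl fun ξ _ => ?_
  rw [← mul_sum]
  split_ifs with hξ
  · rw [sum_congr rfl fun w hw => (hmem ξ).1 hξ w (mem_filter.1 hw).2, sum_const, nsmul_eq_mul,
      Nat.card_eq_fintype_card, Fintype.card_subtype]
    ring
  · rcases sum_eq_zero_or_ker ξ (pPrimeCore p C) with h | h
    · rw [h, mul_zero]
    · exact absurd ((hmem ξ).2 h) hξ

/-- The sum over the core on a section vanishes outside the principal block. -/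
theorem sum_mul_core_eq_zero (hM : IsPModular p M) {x : G} {k : ℕ} (hx : orderOf x = p ^ k)
    [Fintype (Subgroup.centralizer ({x} : Set G))]
    [DecidablePred (· ∈ pPrimeCore p (Subgroup.centralizer ({x} : Set G)))]
    (hsc : CfsgLib.PConstrained.SelfCent p
      (Subgroup.centralizer ({x} : Set G) ⧸ pPrimeCore p (Subgroup.centralizer ({x} : Set G))))
    {χ : IrrCharacter G} (hχ : χ ∉ principalBlock M G) :
    ∑ w ∈ univ.filter (· ∈ pPrimeCore p (Subgroup.centralizer ({x} : Set G))),
      (χ : G → ℂ) (x * (w : G)) = 0 := by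
  classical
  haveI : Fact p.Prime := ⟨hM.1⟩
  rw [sum_core_eq_card_mul hM hsc (isClassFunction_shift χ x)]
  have hb0 := isPBlock_principalBlock (M := M) (G := Subgroup.centralizer ({x} : Set G))
  rw [blockPart_eq_zero_of_not_induced hM hx (isPBlock_blockOf χ) (mem_blockOf_self χ) hb0 ?_ 1
    (by rw [orderOf_one]; exact hM.1.not_dvd_one), mul_zero]
  intro hind
  refine hχ ?_
  rw [induced_unique ((third_main hM (centralizer_induced hM hx hb0)).2 rfl) hind]
  exact mem_blockOf_self χ

/-- The same with the core described inside the group. -/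
theorem sum_mul_core_eq_zero_of_solvable (hM : IsPModular p M) {x : G} {k : ℕ}
    (hx : orderOf x = p ^ k) [Group.IsSolvable (Subgroup.centralizer ({x} : Set G))]
    [DecidablePred (· ∈ centralizerPPrimeCore p x)]
    {χ : IrrCharacter G} (hχ : χ ∉ principalBlock M G) :
    ∑ v ∈ univ.filter (· ∈ centralizerPPrimeCore p x), (χ : G → ℂ) (x * v) = 0 := by
  classical
  haveI : Fact p.Prime := ⟨hM.1⟩
  haveI : Fintype (Subgroup.centralizer ({x} : Set G)) := Fintype.ofFinite _
  rw [← sum_mul_core_eq_zero hM hx selfCent_quotient_of_solvable hχ]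
  refine (sum_nbij (fun w : Subgroup.centralizer ({x} : Set G) => (w : G)) ?_ ?_ ?_ ?_).symm
  · intro w hw
    exact mem_filter.2 ⟨mem_univ _, Subgroup.mem_map.2 ⟨w, (mem_filter.1 hw).2, rfl⟩⟩
  · exact fun a _ b _ h => Subtype.ext h
  · intro v hv
    obtain ⟨w, hw, rfl⟩ := Subgroup.mem_map.1 (mem_filter.1 hv).2
    exact ⟨w, mem_filter.2 ⟨mem_univ _, hw⟩, rfl⟩
  · exact fun _ _ => rfl

end CfsgLib.Bender.BlockSums
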