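import Cfsg.Agent.Bender.CharPart

/-!
# The character part of Bender's theorem: the contradiction from the orders

With `|S| = 2 ^ k * u`, `|H : J * S| = (2 ^ k - 1) * k₁ * e₀`, `|A| = r * e` and the stated bounds
the main inequality fails: each of its first two terms is less than a quarter and the last is at
most a half.
-/

set_option autoImplicit false
set_option linter.unusedSectionVars false

namespace CfsgLib.Bender.CharPart

open Cfsg Finset

universe u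

/-- The arithmetic of the three terms. -/
theorem terms_lt {m U K E E' P R n : ℝ} (hm : 1 ≤ m) (hU : 1 ≤ U) (hK : 1 ≤ K) (hE : 1 ≤ E)
    (hEE : E ≤ E') (hR : 2 * K + 1 ≤ R) (hP : 2 * (R * E') ≤ P) (hn : P * ((m + 1) * U) ≤ n) :
    (m * (K * E)) * ((m + 1) * U) / (n * ((m + 1) * U - 1)) < 1 / 4 ∧
      m * (K * E) / (P * ((m + 1) * U) - 1) < 1 / 4 := by
  have hP0 : 0 < P := by nlinarith
  have hS1 : 0 < (m + 1) * U - 1 := by nlinarith
  have h4 : 4 * (K * E) < P := by nlinarith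
  have hmU : m * U ≤ (m + 1) * U - 1 := by nlinarith
  have hn0 : 0 < n := by nlinarith
  constructor
  · rw [div_lt_iff₀ (mul_pos hn0 hS1)]
    have h1 : (P * ((m + 1) * U)) * (m * U) ≤ n * ((m + 1) * U - 1) :=
      mul_le_mul hn hmU (by positivity) hn0.le
    have h2 : (m * (K * E)) * ((m + 1) * U) * 4 < (P * ((m + 1) * U)) * (m * U) := by
      have h3 : 4 * (K * E) < P * U := lt_of_lt_of_le h4 (le_mul_of_one_le_right hP0.le hU)
      have hpos : (0 : ℝ) < m * ((m + 1) * U) := by positivity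
      nlinarith [mul_lt_mul_of_pos_left h3 hpos]
    linarith
  · have hden : 0 < P * ((m + 1) * U) - 1 := by nlinarith
    rw [div_lt_iff₀ hden]
    nlinarith [mul_lt_mul_of_pos_left h4 (show (0 : ℝ) < m by linarith)]

variable {G : Type u} [Group G] [Finite G] {H S J N K A : Subgroup G} {q : ℕ} {t : G}

/-- The contradiction. -/
theorem Data.false_of_orders (D : Data H S J N K A q t) {k u k₁ e₀ e r : ℕ}
    (hH : Nat.card H = Nat.card J * Nat.card S * ((2 ^ k - 1) * (k₁ * e₀)))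
    (hC : Nat.card (Subgroup.centralizer ({t} : Set G)) = Nat.card J * Nat.card S * (k₁ * e₀))
    (hS : Nat.card S = 2 ^ k * u) (hA : Nat.card A = r * e) (hN : 2 * (r * e) ≤ Nat.card N)
    (hn : Nat.card N * Nat.card S ≤ H.index) (hk : 2 ≤ k) (hk₁ : k₁ ≤ k) (he : e₀ ≤ e)
    (hr : 2 * k₁ + 1 ≤ r)
    (hcase : (u = 1 ∧ e₀ = 1 ∧ ∀ s ∈ S, s ≠ 1 → IsConj t s) ∨ 4 * (k₁ ^ 3 * e₀) ≤ r ^ 2 * u) :
    False := by
  haveI := Fintype.ofFinite G
  set m : ℕ := 2 ^ k - 1 with hm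
  have hpow : m + 1 = 2 ^ k := Nat.sub_add_cancel Nat.one_le_two_pow
  have h2k : 2 * k₁ ≤ 2 ^ k := by
    have hlin : ∀ i, 2 ≤ i → 2 * i ≤ 2 ^ i := fun i hi => by
      induction i, hi using Nat.le_induction with
      | base => norm_num
      | succ i hi ih => rw [pow_succ]; omega
    exact le_trans (Nat.mul_le_mul_left 2 hk₁) (hlin k hk)
  have hHpos : 0 < Nat.card H := Nat.card_pos
  rw [hH] at hHpos
  have hk0 : 0 < k₁ := pos_of_mul_pos_left (pos_of_mul_pos_right (pos_of_mul_pos_right hHpos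
    (Nat.zero_le _)) (Nat.zero_le _)) (Nat.zero_le _)
  have he0 : 0 < e₀ := pos_of_mul_pos_right (pos_of_mul_pos_right (pos_of_mul_pos_right hHpos
    (Nat.zero_le _)) (Nat.zero_le _)) (Nat.zero_le _)
  have hu0 : 0 < u := pos_of_mul_pos_right (hS ▸ (Nat.card_pos (α := S))) (Nat.zero_le _)
  have hm3 : 3 ≤ m := by
    have h4 : 4 ≤ 2 ^ k := le_trans (by norm_num) (Nat.pow_le_pow_right two_pos hk)
    omega
  have hp : ((els1 S).card : ℝ) = (Nat.card S : ℝ) - 1 := by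
    rw [← card_els1 S]; push_cast; ring
  have hS' : (Nat.card S : ℝ) = ((m : ℝ) + 1) * (u : ℝ) := by
    rw [hS, ← hpow]; push_cast; ring
  have hmR : (1 : ℝ) ≤ m := by exact_mod_cast (by omega : 1 ≤ m)
  have huR : (1 : ℝ) ≤ u := by exact_mod_cast hu0
  have hKR : (1 : ℝ) ≤ k₁ := by exact_mod_cast hk0
  have hER : (1 : ℝ) ≤ e₀ := by exact_mod_cast he0
  have heR : (e₀ : ℝ) ≤ e := by exact_mod_cast he
  have hrR : 2 * (k₁ : ℝ) + 1 ≤ r := by exact_mod_cast hr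
  have hNR : 2 * ((r : ℝ) * e) ≤ Nat.card N := by exact_mod_cast hN
  have hnR : (Nat.card N : ℝ) * (((m : ℝ) + 1) * u) ≤ (H.index : ℝ) := by
    rw [← hS']; exact_mod_cast hn
  obtain ⟨t1, t2⟩ := terms_lt hmR huR hKR hER heR hrR hNR hnR
  rw [← hS'] at t1 t2
  have hJ : (Nat.card J : ℝ) ≠ 0 := Nat.cast_ne_zero.2 Nat.card_pos.ne'
  have hS0 : (Nat.card S : ℝ) ≠ 0 := Nat.cast_ne_zero.2 Nat.card_pos.ne'
  have hG : (Nat.card G : ℝ) = (H.index : ℝ) * Nat.card H := by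
    exact_mod_cast H.index_mul_card.symm
  have hHR : (Nat.card H : ℝ) =
      (Nat.card J : ℝ) * Nat.card S * ((m : ℝ) * ((k₁ : ℝ) * e₀)) := by exact_mod_cast hH
  have hCR : (Nat.card (Subgroup.centralizer ({t} : Set G)) : ℝ) =
      (Nat.card J : ℝ) * Nat.card S * ((k₁ : ℝ) * e₀) := by exact_mod_cast hC
  have hHpos' : (Nat.card H : ℝ) ≠ 0 := Nat.cast_ne_zero.2 Nat.card_pos.ne'
  have hp0 : (0 : ℝ) < (Nat.card S : ℝ) - 1 := by rw [hS']; nlinarith
  have eD : (Nat.card H : ℝ) / ((Nat.card J : ℝ) * Nat.card S) = (m : ℝ) * ((k₁ : ℝ) * e₀) := by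
    rw [hHR]; field_simp
  have e1 : (Nat.card H : ℝ) ^ 2 / ((Nat.card G : ℝ) * Nat.card J * ((Nat.card S : ℝ) - 1)) =
      ((m : ℝ) * ((k₁ : ℝ) * e₀)) * (Nat.card S : ℝ) /
        ((H.index : ℝ) * ((Nat.card S : ℝ) - 1)) := by
    rw [hG, hHR]; field_simp
  have eα : (Nat.card H : ℝ) / ((Nat.card J : ℝ) * Nat.card S * ((els1 S).card : ℝ)) =
      (m : ℝ) * ((k₁ : ℝ) * e₀) / ((Nat.card S : ℝ) - 1) := by
    rw [← div_div, eD, hp]
  have hr0 : (0 : ℝ) < r := by linarith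
  have he1 : (1 : ℝ) ≤ e := hER.trans heR
  rcases hcase with ⟨hu, he₀, hcls⟩ | h
  · have hk1 : (m : ℝ) * ((k₁ : ℝ) * e₀) / ((Nat.card S : ℝ) - 1) = (k₁ : ℝ) := by
      rw [hS', hu, he₀]
      have : (m : ℝ) ≠ 0 := by linarith
      push_cast; simp only [mul_one, add_sub_cancel_right]; field_simp
    have h := D.main_ineq_of_conj hcls (α := (k₁ : ℝ)) (Nat.cast_nonneg _) (by
      rw [eα, hk1]; nlinarith)
    rw [eα, hk1, eD, hp, e1, hA, Nat.cast_mul] at h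
    have t3 : (k₁ : ℝ) * k₁ / ((r : ℝ) * e * Nat.card S) ≤ 1 / 2 := by
      rw [div_le_iff₀ (by have := hS'; positivity)]
      have h2 : 2 * (k₁ : ℝ) ≤ Nat.card S := by
        rw [hS, hu, mul_one]; exact_mod_cast h2k
      have h3 : (k₁ : ℝ) ≤ (r : ℝ) * e := by nlinarith
      nlinarith [mul_le_mul h3 h2 (by positivity) (by positivity)]
    linarith
  · have hb : 4 * ((k₁ : ℝ) ^ 3 * e₀) ≤ (r : ℝ) ^ 2 * u := by exact_mod_cast h
    have hα : (m : ℝ) * ((k₁ : ℝ) * e₀) / ((Nat.card S : ℝ) - 1) ≤ ((r : ℝ) / (2 * k₁)) ^ 2 := by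
      have hle : (m : ℝ) * u ≤ (Nat.card S : ℝ) - 1 := by rw [hS']; nlinarith
      refine le_trans (div_le_div_of_nonneg_left (by positivity) (by positivity) hle) ?_
      rw [mul_div_mul_left _ _ (by linarith : (m : ℝ) ≠ 0), div_pow,
        div_le_div_iff₀ (by linarith) (by positivity)]
      calc (k₁ : ℝ) * e₀ * (2 * (k₁ : ℝ)) ^ 2 = 4 * ((k₁ : ℝ) ^ 3 * e₀) := by ring
        _ ≤ _ := hb
    have h := D.main_ineq (α := (r : ℝ) / (2 * k₁)) (by positivity) (by rw [eα]; exact hα)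
    rw [eD, hp, e1, hA, Nat.cast_mul, hCR] at h
    have t3 : (r : ℝ) / (2 * k₁) * ((Nat.card J : ℝ) * Nat.card S * ((k₁ : ℝ) * e₀) / Nat.card J) /
        ((r : ℝ) * e * Nat.card S) ≤ 1 / 2 := by
      rw [show (r : ℝ) / (2 * k₁) * ((Nat.card J : ℝ) * Nat.card S * ((k₁ : ℝ) * e₀) / Nat.card J) /
        ((r : ℝ) * e * Nat.card S) = (e₀ : ℝ) / (2 * e) by field_simp, div_le_iff₀ (by linarith)]
      linarith
    linarith

end CfsgLib.Bender.CharPart
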