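import Cfsg.Agent.Bender.CharSetup

/-!
# The character part of Bender's theorem: the main inequality

`τ` is the average of a character over the nontrivial elements of `S` and `T` its value at `t`.
Column orthogonality averaged over `J` evaluates the sums of `τ ^ 2` and `T ^ 2` over the principal
2-block, and the averaged class count of products of two involutions evaluates that of
`T ^ 2 * τ / χ 1`.
-/

set_option autoImplicit false
set_option linter.unusedSectionVars false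
set_option linter.style.haveILetI false

namespace CfsgLib.Bender.CharPart

open Cfsg Finset CfsgLib.Block CfsgLib.Block.Chr CfsgLib.Char
open scoped ComplexConjugate

universe u

variable {G : Type u} [Group G] [Fintype G]

/-- The sum over the nontrivial elements of a subgroup. -/
noncomputable def sum1 (S : Subgroup G) (χ : IrrCharacter G) : ℂ :=
  ∑ s ∈ els1 S, (χ : G → ℂ) s

/-- The average over the nontrivial elements of a subgroup. -/
noncomputable def tau (S : Subgroup G) (χ : IrrCharacter G) : ℝ :=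
  (sum1 S χ).re / ((els1 S).card : ℝ)

/-- The real part of the value at `t`. -/
noncomputable def val (t : G) (χ : IrrCharacter G) : ℝ := ((χ : G → ℂ) t).re

theorem conj_sum1 (S : Subgroup G) (χ : IrrCharacter G) : conj (sum1 S χ) = sum1 S χ := by
  rw [sum1, map_sum]
  have hmem : ∀ x ∈ els1 S, x⁻¹ ∈ els1 S := fun x hx =>
    mem_els1.2 ⟨inv_mem (mem_els1.1 hx).1, inv_ne_one.2 (mem_els1.1 hx).2⟩
  refine sum_nbij' (fun s => s⁻¹) (fun s => s⁻¹) hmem hmem (fun _ _ => inv_inv _)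
    (fun _ _ => inv_inv _) fun s _ => ?_
  exact conj_irr χ s

theorem sum1_eq {S : Subgroup G} (hS : (els1 S).Nonempty) (χ : IrrCharacter G) :
    sum1 S χ = ((els1 S).card : ℂ) * (tau S χ : ℂ) := by
  have h0 : ((els1 S).card : ℝ) ≠ 0 := Nat.cast_ne_zero.2 (card_ne_zero.2 hS)
  rw [← Complex.ofReal_natCast, ← Complex.ofReal_mul, tau, mul_div_cancel₀ _ h0]
  exact (Complex.conj_eq_iff_re.1 (conj_sum1 S χ)).symm

/-- The sum over a product `N * X` of subgroups, `X` normalising `N` and meeting it trivially, is a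
natural multiple of its order. -/
theorem exists_sum_prod (χ : IrrCharacter G) (N X : Subgroup G)
    (hnorm : ∀ a ∈ X, ∀ y ∈ N, a * y * a⁻¹ ∈ N) (hdis : ∀ a ∈ X, a ∈ N → a = 1) :
    ∃ n : ℕ, ∑ y ∈ els N, ∑ a ∈ els X, (χ : G → ℂ) (y * a) =
      (Nat.card N : ℂ) * (Nat.card X : ℂ) * n := by
  classical
  let P : Subgroup G :=
    { carrier := {g | ∃ y ∈ N, ∃ a ∈ X, g = y * a}
      one_mem' := ⟨1, one_mem _, 1, one_mem _, (one_mul 1).symm⟩
      mul_mem' := by
        rintro _ _ ⟨y, hy, a, ha, rfl⟩ ⟨y', hy', a', ha', rfl⟩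
        exact ⟨y * (a * y' * a⁻¹), mul_mem hy (hnorm a ha y' hy'), a * a', mul_mem ha ha',
          by group⟩
      inv_mem' := by
        rintro _ ⟨y, hy, a, ha, rfl⟩
        refine ⟨a⁻¹ * y⁻¹ * a, ?_, a⁻¹, inv_mem ha, by group⟩
        simpa using hnorm a⁻¹ (inv_mem ha) y⁻¹ (inv_mem hy) }
  have hinj : Set.InjOn (fun w : G × G => w.1 * w.2) ↑(els N ×ˢ els X) := by
    rintro ⟨y, a⟩ h1 ⟨y', a'⟩ h2 (e : y * a = y' * a')
    simp only [coe_product, Set.mem_prod, mem_coe, mem_els] at h1 h2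
    have e2 : y'⁻¹ * y = a' * a⁻¹ := by
      calc y'⁻¹ * y = y'⁻¹ * (y * a) * a⁻¹ := by group
        _ = a' * a⁻¹ := by rw [e]; group
    have h : a' * a⁻¹ = 1 := hdis _ (mul_mem h2.2 (inv_mem h1.2))
      (e2 ▸ mul_mem (inv_mem h2.1) h1.1)
    have ha : a = a' := (mul_inv_eq_one.1 h).symm
    subst ha
    exact Prod.ext (mul_right_cancel e) rfl
  have himg : els P = (els N ×ˢ els X).image fun w => w.1 * w.2 := by
    ext g
    simp only [mem_els, mem_image, mem_product, Prod.exists]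
    exact ⟨fun ⟨y, hy, a, ha, e⟩ => ⟨y, a, ⟨hy, ha⟩, e.symm⟩,
      fun ⟨y, a, ⟨hy, ha⟩, e⟩ => ⟨y, hy, a, ha, e.symm⟩⟩
  obtain ⟨n, hn⟩ := exists_sum_els χ P
  refine ⟨n, ?_⟩
  have hcard : Nat.card P = Nat.card N * Nat.card X := by
    rw [← card_els, himg, card_image_of_injOn hinj, card_product, card_els, card_els]
  rw [himg, sum_image hinj, sum_product] at hn
  rw [hn, hcard, Nat.cast_mul]

/-- If a character is constant on `y * a`, `y ∈ N`, for each nontrivial `a ∈ X`, the part of the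
degree outside the fixed points of `N` is a multiple of the order of `X`. -/
theorem dvd_sub_fixed (χ : IrrCharacter G) (N X : Subgroup G)
    (hnorm : ∀ a ∈ X, ∀ y ∈ N, a * y * a⁻¹ ∈ N) (hdis : ∀ a ∈ X, a ∈ N → a = 1)
    (hval : ∀ a ∈ els1 X, ∀ y ∈ N, (χ : G → ℂ) (y * a) = (χ : G → ℂ) a) {a₁ : ℕ}
    (ha₁ : ∑ y ∈ els N, (χ : G → ℂ) y = (Nat.card N : ℂ) * a₁) :
    (Nat.card X : ℤ) ∣ (deg χ : ℤ) - a₁ := by
  obtain ⟨b, hb⟩ := exists_sum_prod χ N X hnorm hdis
  obtain ⟨a, ha⟩ := exists_sum_els χ X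
  rw [sum_els, deg_eq] at ha
  have hsum : ∑ y ∈ els N, ∑ a ∈ els X, (χ : G → ℂ) (y * a) =
      (Nat.card N : ℂ) * a₁ + (Nat.card N : ℂ) * ((Nat.card X : ℂ) * a - deg χ) := by
    rw [sum_congr rfl fun y _ => sum_els X fun z => (χ : G → ℂ) (y * z), sum_add_distrib]
    simp only [mul_one]
    rw [ha₁, sum_congr rfl fun y hy => sum_congr rfl fun z hz => hval z hz y (mem_els.1 hy),
      sum_const, nsmul_eq_mul, card_els, ← ha]
    ring
  rw [hb, mul_assoc, ← mul_add, mul_right_inj' (Nat.cast_ne_zero.2 Nat.card_pos.ne')] at hsum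
  have hZ : (Nat.card X : ℤ) * b = a₁ + ((Nat.card X : ℤ) * a - deg χ) := by exact_mod_cast hsum
  exact ⟨(a : ℤ) - b, by linear_combination hZ⟩

variable {H S J N K A : Subgroup G} {q : ℕ} {t : G}

namespace Data

variable (D : Data H S J N K A q t)

include D

theorem els1S_nonempty : (els1 S).Nonempty := ⟨t, D.mem_els1_t⟩

theorem conj_val (χ : IrrCharacter G) : conj ((χ : G → ℂ) t) = (χ : G → ℂ) t := by
  rw [conj_irr]
  exact congrArg _ (inv_eq_of_mul_eq_one_right (by rw [← pow_two, ← D.ord_t, pow_orderOf_eq_one]))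

theorem val_eq (χ : IrrCharacter G) : (χ : G → ℂ) t = (val t χ : ℂ) :=
  (Complex.conj_eq_iff_re.1 (D.conj_val χ)).symm

section Two

variable {M : Ideal AlgInt} [M.IsPrime] (hM : IsPModular 2 M)
include hM

/-- A principal character on the section. -/
theorem apply_mul_core {χ : IrrCharacter G} (hχ : χ ∈ principalBlock M G) {s j : G}
    (hs : s ∈ els1 S) (hj : j ∈ J) : (χ : G → ℂ) (s * j) = (χ : G → ℂ) s := by
  obtain ⟨k, hk⟩ := D.orderOf_two (mem_els1.1 hs).1
  exact principal_apply_mul_core hM hk (by rwa [D.coreTwo s (mem_els1.1 hs).1 (mem_els1.1 hs).2]) hχ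

/-- Averaging over `J` projects on the principal 2-block. -/
theorem sum_avg [Fintype (IrrCharacter G)] [DecidablePred (· ∈ principalBlock M G)]
    (F : IrrCharacter G → ℂ) {s : G} (hs : s ∈ els1 S) :
    ∑ j ∈ els J, ∑ χ : IrrCharacter G, F χ * (χ : G → ℂ) (s * j) =
      (Nat.card J : ℂ) * ∑ χ ∈ univ.filter (· ∈ principalBlock M G), F χ * (χ : G → ℂ) s := by
  classical
  rw [sum_comm, mul_sum, sum_filter]
  refine sum_congr rfl fun χ _ => ?_
  rw [← mul_sum]
  obtain ⟨hsS, hs1⟩ := mem_els1.1 hs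
  split_ifs with hχ
  · rw [sum_congr rfl fun j hj => D.apply_mul_core hM hχ hs (mem_els.1 hj), sum_const, nsmul_eq_mul,
      card_els]
    ring
  · obtain ⟨k, hk⟩ := D.orderOf_two hsS
    haveI := D.solvTwo s hsS hs1
    have h := BlockSums.sum_mul_core_eq_zero_of_solvable hM hk hχ
    rw [show els J = univ.filter (· ∈ centralizerPPrimeCore 2 s) by
      ext j; simp [mem_els, D.coreTwo s hsS hs1], h, mul_zero]

theorem col_two [Fintype (IrrCharacter G)] [DecidablePred (· ∈ principalBlock M G)]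
    [∀ a b : G, Decidable (IsConj a b)] {s s' : G} (hs : s ∈ els1 S) (hs' : s' ∈ els1 S) :
    (Nat.card J : ℂ) * ∑ χ ∈ univ.filter (· ∈ principalBlock M G),
        (χ : G → ℂ) s * conj ((χ : G → ℂ) s') =
      if IsConj s s' then (Nat.card (Subgroup.centralizer ({s} : Set G)) : ℂ) else 0 := by
  classical
  rw [show (∑ χ ∈ univ.filter (· ∈ principalBlock M G), (χ : G → ℂ) s * conj ((χ : G → ℂ) s')) =
      ∑ χ ∈ univ.filter (· ∈ principalBlock M G), conj ((χ : G → ℂ) s') * (χ : G → ℂ) s from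
    sum_congr rfl fun _ _ => mul_comm _ _,
    ← D.sum_avg hM (fun χ => conj ((χ : G → ℂ) s')) hs]
  simp only [mul_comm (conj ((_ : G → ℂ) s'))]
  simp only [column_orth]
  rw [sum_els J]
  have h0 : ∀ j ∈ els1 J, (if IsConj (s * j) s' then
      (Nat.card (Subgroup.centralizer ({s * j} : Set G)) : ℂ) else 0) = 0 := fun j hj =>
    if_neg fun h => (mem_els1.1 hj).2 ((D.isConj_mul_iff hs (mem_els1.1 hj).1 hs').1 h).1
  rw [sum_eq_zero h0, add_zero, mul_one]

theorem col_odd [Fintype (IrrCharacter G)] [DecidablePred (· ∈ principalBlock M G)]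
    {s y : G} (hs : s ∈ els1 S) (hy : y ∈ J) :
    ∑ χ ∈ univ.filter (· ∈ principalBlock M G), (χ : G → ℂ) s * conj ((χ : G → ℂ) y) = 0 := by
  classical
  refine (mul_eq_zero.1 ?_).resolve_left (Nat.cast_ne_zero.2 (Nat.card_pos (α := J)).ne')
  rw [show (∑ χ ∈ univ.filter (· ∈ principalBlock M G), (χ : G → ℂ) s * conj ((χ : G → ℂ) y)) =
      ∑ χ ∈ univ.filter (· ∈ principalBlock M G), conj ((χ : G → ℂ) y) * (χ : G → ℂ) s from
    sum_congr rfl fun _ _ => mul_comm _ _,
    ← D.sum_avg hM (fun χ => conj ((χ : G → ℂ) y)) hs]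
  simp only [mul_comm (conj ((_ : G → ℂ) y)), column_orth]
  exact sum_eq_zero fun j hj => if_neg (D.not_isConj_odd hs (mem_els.1 hj) hy)

/-- The sum of `τ ^ 2` over the principal 2-block. -/
theorem sum_tau_sq [Fintype (IrrCharacter G)] [DecidablePred (· ∈ principalBlock M G)] :
    (Nat.card J : ℝ) * ((els1 S).card : ℝ) *
      ∑ χ ∈ univ.filter (· ∈ principalBlock M G), tau S χ ^ 2 = (Nat.card H : ℝ) := by
  classical
  have h : (Nat.card J : ℂ) * ∑ χ ∈ univ.filter (· ∈ principalBlock M G),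
      sum1 S χ * conj (sum1 S χ) = ((els1 S).card : ℂ) * (Nat.card H : ℂ) := by
    simp only [sum1, map_sum, sum_mul, mul_sum]
    rw [sum_comm, card_eq_sum_ones, Nat.cast_sum, sum_mul]
    refine sum_congr rfl fun s hs => ?_
    rw [sum_comm, Nat.cast_one, one_mul, ← D.sum_class hs (fun _ => True) (fun _ _ => trivial),
      filter_true_of_mem fun _ _ => trivial]
    refine sum_congr rfl fun s' hs' => ?_
    have e := congrArg conj (D.col_two hM hs hs')
    simpa [apply_ite conj, mul_comm, ← mul_sum] using e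
  simp only [sum1_eq D.els1S_nonempty, map_mul, map_natCast, Complex.conj_ofReal] at h
  have h' : ((els1 S).card : ℝ) * ((Nat.card J : ℝ) * ((els1 S).card : ℝ) *
      ∑ χ ∈ univ.filter (· ∈ principalBlock M G), tau S χ ^ 2) =
      ((els1 S).card : ℝ) * (Nat.card H : ℝ) := by
    apply Complex.ofReal_injective
    push_cast
    rw [← h]
    simp only [mul_sum]
    exact sum_congr rfl fun χ _ => by ring
  exact mul_left_cancel₀ (Nat.cast_ne_zero.2 (card_ne_zero.2 D.els1S_nonempty)) h'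

/-- The sum of `T ^ 2` over the principal 2-block. -/
theorem sum_val_sq [Fintype (IrrCharacter G)] [DecidablePred (· ∈ principalBlock M G)] :
    (Nat.card J : ℝ) * ∑ χ ∈ univ.filter (· ∈ principalBlock M G), val t χ ^ 2 =
      (Nat.card (Subgroup.centralizer ({t} : Set G)) : ℝ) := by
  classical
  have h := D.col_two hM D.mem_els1_t D.mem_els1_t
  rw [if_pos (IsConj.refl t)] at h
  simp only [D.val_eq, Complex.conj_ofReal] at h
  apply Complex.ofReal_injective
  push_cast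
  rw [← h]
  congr 1
  exact sum_congr rfl fun χ _ => pow_two _

/-- The averaged class count. -/
theorem sum_products [Fintype (IrrCharacter G)] [DecidablePred (· ∈ principalBlock M G)] :
    (Nat.card G : ℝ) * (Nat.card J : ℝ) * ((els1 S).card : ℝ) *
      ∑ χ ∈ univ.filter (· ∈ principalBlock M G), val t χ ^ 2 * tau S χ / (deg χ : ℝ) ≤
      (Nat.card H : ℝ) ^ 2 := by
  classical
  set I := (els1 S).filter (fun i => orderOf i = 2) with hI
  let pr : G → Finset (G × G) := fun c =>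
    univ.filter fun w => IsConj t w.1 ∧ IsConj t w.2 ∧ w.1 * w.2 = c
  have hord : ∀ {i : G}, IsConj t i → orderOf i = 2 := fun h => by
    obtain ⟨c, rfl⟩ := isConj_iff.1 h
    rw [← MulAut.conj_apply, MulEquiv.orderOf_eq]; exact D.ord_t
  have hkey : ∀ s ∈ els1 S, ∀ j ∈ J, ∀ w ∈ pr (s * j)⁻¹, j = 1 ∧ w ∈ I ×ˢ I := by
    intro s hs j hj w hw
    obtain ⟨h1, h2, h3⟩ := (mem_filter.1 hw).2
    have hsq : ∀ {i : G}, IsConj t i → i⁻¹ = i := fun h => inv_eq_of_mul_eq_one_right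
      (by rw [← pow_two, ← hord h, pow_orderOf_eq_one])
    have hin : ∀ {i : G}, IsConj t i → i * (s * j) * i⁻¹ = (s * j)⁻¹ → i ∈ els1 S := by
      intro i hi hinv
      obtain ⟨n, hn⟩ := D.pow_eq (mem_els1.1 hs).1 hj
      have hiH : i ∈ H := by
        refine D.move i s (mem_els1.1 hs).1 (mem_els1.1 hs).2 ?_
        rw [← hn, ← conj_pow, hinv, inv_pow, hn]
        exact inv_mem (D.le (mem_els1.1 hs).1)
      exact mem_els1.2 ⟨D.invol i hiH (hord hi), fun h => by simpa [h] using hord hi⟩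
    have e1 : (s * j) = w.2 * w.1 := by
      rw [← inv_inv (s * j), ← h3, mul_inv_rev, hsq h1, hsq h2]
    have m1 : w.1 ∈ els1 S := hin h1 (by
      rw [← h3, e1, hsq h1]
      calc w.1 * (w.2 * w.1) * w.1 = w.1 * w.2 * (w.1 * w.1) := by group
        _ = w.1 * w.2 := by rw [show w.1 * w.1 = 1 by rw [← pow_two, ← hord h1, pow_orderOf_eq_one],
            mul_one])
    have m2 : w.2 ∈ els1 S := hin h2 (by
      rw [← h3, e1, hsq h2]
      calc w.2 * (w.2 * w.1) * w.2 = (w.2 * w.2) * w.1 * w.2 := by group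
        _ = w.1 * w.2 := by rw [show w.2 * w.2 = 1 by rw [← pow_two, ← hord h2, pow_orderOf_eq_one],
            one_mul])
    refine ⟨D.eq_one_of_mem ?_ hj, mem_product.2
      ⟨mem_filter.2 ⟨m1, hord h1⟩, mem_filter.2 ⟨m2, hord h2⟩⟩⟩
    rw [show j = s⁻¹ * (w.2 * w.1) by rw [← e1, inv_mul_cancel_left]]
    exact mul_mem (inv_mem (mem_els1.1 hs).1) (mul_mem (mem_els1.1 m2).1 (mem_els1.1 m1).1)
  have hcount : ∑ s ∈ els1 S, ∑ j ∈ els J, (pr (s * j)⁻¹).card ≤ I.card * I.card := by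
    rw [← card_product, ← sum_product', ← card_biUnion]
    · refine card_le_card fun w hw => ?_
      obtain ⟨⟨s, j⟩, hsj, hw⟩ := mem_biUnion.1 hw
      exact (hkey s (mem_product.1 hsj).1 j (mem_els.1 (mem_product.1 hsj).2) w hw).2
    · rintro ⟨s, j⟩ h1 ⟨s', j'⟩ h2 hne
      rw [Function.onFun, disjoint_left]
      intro w hw hw'
      simp only [coe_product, Set.mem_prod, mem_coe] at h1 h2
      obtain ⟨rfl, -⟩ := hkey s h1.1 j (mem_els.1 h1.2) w hw
      obtain ⟨rfl, -⟩ := hkey s' h2.1 _ (mem_els.1 h2.2) w hw'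
      refine hne (Prod.ext ?_ rfl)
      have e := (mem_filter.1 hw).2.2.2.symm.trans (mem_filter.1 hw').2.2.2
      simpa using e
  set cl : ℂ := (Nat.card {x : G // IsConj t x} : ℂ)
  have hpr : ∀ c, ((pr c).card : ℂ) = cl * cl / (Nat.card G : ℂ) *
      ∑ χ : IrrCharacter G, (χ : G → ℂ) t ^ 2 / (χ : G → ℂ) 1 * conj ((χ : G → ℂ) c) := by
    intro c
    rw [show (pr c).card = Nat.card {w : G × G // IsConj t w.1 ∧ IsConj t w.2 ∧ w.1 * w.2 = c} by
      rw [Nat.card_eq_fintype_card, Fintype.card_subtype], card_class_products,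
      sum_irr_eq (fun χ => χ t ^ 2 / χ 1 * conj (χ c))]
    congr 1
    exact sum_congr rfl fun χ _ => by ring
  have hsum : (∑ s ∈ els1 S, ∑ j ∈ els J, ((pr (s * j)⁻¹).card : ℂ)) =
      cl * cl / (Nat.card G : ℂ) * ((Nat.card J : ℂ) * ((els1 S).card : ℂ) *
        ∑ χ ∈ univ.filter (· ∈ principalBlock M G),
          ((val t χ ^ 2 * tau S χ / (deg χ : ℝ) : ℝ) : ℂ)) := by
    have e : ∀ s ∈ els1 S, ∑ j ∈ els J, ((pr (s * j)⁻¹).card : ℂ) = cl * cl / (Nat.card G : ℂ) *
        ((Nat.card J : ℂ) * ∑ χ ∈ univ.filter (· ∈ principalBlock M G),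
          (χ : G → ℂ) t ^ 2 / (χ : G → ℂ) 1 * (χ : G → ℂ) s) := by
      intro s hs
      rw [← D.sum_avg hM (fun χ => (χ : G → ℂ) t ^ 2 / (χ : G → ℂ) 1) hs, mul_sum]
      refine sum_congr rfl fun j _ => ?_
      simp only [hpr, conj_irr, inv_inv]
    rw [sum_congr rfl e, ← mul_sum, ← mul_sum, sum_comm]
    congr 1
    rw [mul_assoc]
    congr 1
    rw [mul_sum]
    refine sum_congr rfl fun χ _ => ?_
    rw [← mul_sum, show (∑ s ∈ els1 S, (χ : G → ℂ) s) = sum1 S χ from rfl,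
      sum1_eq D.els1S_nonempty, D.val_eq, deg_eq]
    push_cast
    ring
  set clR : ℝ := (Nat.card {x : G // IsConj t x} : ℝ)
  set A2 : ℝ := ∑ χ ∈ univ.filter (· ∈ principalBlock M G), val t χ ^ 2 * tau S χ / (deg χ : ℝ)
  have hle : clR * clR / (Nat.card G : ℝ) * ((Nat.card J : ℝ) * ((els1 S).card : ℝ) * A2) ≤
      (I.card : ℝ) * I.card := by
    have hR : ((∑ s ∈ els1 S, ∑ j ∈ els J, (pr (s * j)⁻¹).card : ℕ) : ℝ) =
        clR * clR / (Nat.card G : ℝ) * ((Nat.card J : ℝ) * ((els1 S).card : ℝ) * A2) := by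
      apply Complex.ofReal_injective
      simp only [clR, A2]
      push_cast
      exact hsum.trans (by simp only [cl]; push_cast; rfl)
    rw [← hR]
    exact_mod_cast hcount
  set C : ℝ := (Nat.card (Subgroup.centralizer ({t} : Set G)) : ℝ)
  have hC : 0 < C := Nat.cast_pos.2 Nat.card_pos
  have hG : (0 : ℝ) < Nat.card G := Nat.cast_pos.2 Nat.card_pos
  have hclC : clR * C = (Nat.card G : ℝ) := by
    simp only [clR, C]; exact_mod_cast card_conj_class_mul_card_centralizer t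
  have hIC : (I.card : ℝ) * C = (Nat.card H : ℝ) := by
    have h := D.card_invol_mul
    have h' : (((els1 S).filter fun i => orderOf i = 2).card *
        Nat.card (Subgroup.centralizer ({t} : Set G)) : ℕ) = Nat.card H := by exact_mod_cast h
    simp only [C, hI]; exact_mod_cast h'
  have hmul := mul_le_mul_of_nonneg_right hle (mul_nonneg hC.le hC.le)
  calc (Nat.card G : ℝ) * (Nat.card J : ℝ) * ((els1 S).card : ℝ) * A2
      = clR * clR / (Nat.card G : ℝ) * ((Nat.card J : ℝ) * ((els1 S).card : ℝ) * A2) * (C * C) := by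
        rw [← hclC]; field_simp
    _ ≤ (I.card : ℝ) * I.card * (C * C) := hmul
    _ = (Nat.card H : ℝ) ^ 2 := by rw [← hIC]; ring

end Two

section Both

variable {M M' : Ideal AlgInt} [M.IsPrime] [M'.IsPrime] (hM : IsPModular 2 M)
  (hM' : IsPModular q M')
include hM hM'

theorem orderOf_q {y : G} (hy : y ∈ N) : ∃ k, orderOf y = q ^ k := by
  obtain ⟨k, hk⟩ := D.qgroup ⟨y, hy⟩
  obtain ⟨j, -, hj⟩ := (Nat.dvd_prime_pow D.prime).1
    (orderOf_dvd_of_pow_eq_one (show y ^ q ^ k = 1 from congrArg Subtype.val hk))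
  exact ⟨j, hj⟩

/-- A character in both principal blocks is constant on the nontrivial elements of `S` and `N`. -/
theorem both_apply {χ : IrrCharacter G} (h2 : χ ∈ principalBlock M G)
    (hq : χ ∈ principalBlock M' G) {s y : G} (hs : s ∈ els1 S) (hy : y ∈ els1 N) :
    (χ : G → ℂ) y = (χ : G → ℂ) s ∧ (χ : G → ℂ) (y * s) = (χ : G → ℂ) s ∧
      ∀ k ∈ K, (χ : G → ℂ) (y * k) = (χ : G → ℂ) s := by
  obtain ⟨hyN, hy1⟩ := mem_els1.1 hy
  obtain ⟨k, hk⟩ := D.orderOf_q hM hM' hyN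
  have hcore : ∀ z, (∃ a ∈ S, ∃ b ∈ K, z = a * b) → (χ : G → ℂ) (y * z) = (χ : G → ℂ) y :=
    fun z hz => principal_apply_mul_core hM' hk ((D.coreQ y hyN hy1 z).2 hz) hq
  have h1 := hcore s ⟨s, (mem_els1.1 hs).1, 1, one_mem _, (mul_one s).symm⟩
  have h2' : (χ : G → ℂ) (y * s) = (χ : G → ℂ) s := by
    rw [← (D.commute (mem_els1.1 hs).1 (D.nle hyN)).eq]
    exact D.apply_mul_core hM h2 hs (D.nle hyN)
  exact ⟨h1.symm.trans h2', h2', fun b hb =>
    (hcore b ⟨1, one_mem _, b, hb, (one_mul b).symm⟩).trans (h1.symm.trans h2')⟩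

theorem both_eq_tau {χ : IrrCharacter G} (h2 : χ ∈ principalBlock M G)
    (hq : χ ∈ principalBlock M' G) {s : G} (hs : s ∈ els1 S) :
    (χ : G → ℂ) s = (tau S χ : ℂ) := by
  obtain ⟨y, hy⟩ := els1_nonempty D.ne_bot
  have hsum : sum1 S χ = ((els1 S).card : ℂ) * (χ : G → ℂ) s := by
    rw [sum1, sum_congr rfl fun s' hs' => ((D.both_apply hM hM' h2 hq hs' hy).1.symm.trans
      (D.both_apply hM hM' h2 hq hs hy).1), sum_const, nsmul_eq_mul]
  rw [sum1_eq D.els1S_nonempty] at hsum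
  exact (mul_left_cancel₀ (Nat.cast_ne_zero.2 (card_ne_zero.2 D.els1S_nonempty)) hsum).symm

/-- The sum over the cosets of `K` at the nontrivial elements of `N`, outside the principal
`q`-block. -/
theorem sum_coset {χ : IrrCharacter G} (h2 : χ ∈ principalBlock M G)
    (hq : χ ∉ principalBlock M' G) {y : G} (hy : y ∈ els1 N) :
    ∑ k ∈ els K, (χ : G → ℂ) (y * k) = -((Nat.card K : ℂ) * sum1 S χ) := by
  classical
  obtain ⟨hyN, hy1⟩ := mem_els1.1 hy
  obtain ⟨e, he⟩ := D.orderOf_q hM hM' hyN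
  haveI := D.solvQ y hyN hy1
  have h := BlockSums.sum_mul_core_eq_zero_of_solvable hM' he hq
  have hinj : Set.InjOn (fun w : G × G => w.1 * w.2) ↑(els S ×ˢ els K) := by
    rintro ⟨s, k⟩ h1 ⟨s', k'⟩ h2 (e : s * k = s' * k')
    simp only [coe_product, Set.mem_prod, mem_coe, mem_els] at h1 h2
    have e2 : s'⁻¹ * s = k' * k⁻¹ := by
      calc s'⁻¹ * s = s'⁻¹ * (s * k) * k⁻¹ := by group
        _ = k' * k⁻¹ := by rw [e]; group
    have h0 := D.eq_one_of_mem (mul_mem (inv_mem h2.1) h1.1)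
      (e2 ▸ D.kle (mul_mem h2.2 (inv_mem h1.2)))
    have hss : s = s' := (inv_mul_eq_one.1 h0).symm
    subst hss
    exact Prod.ext rfl (mul_left_cancel e)
  have himg : univ.filter (· ∈ centralizerPPrimeCore q y) =
      (els S ×ˢ els K).image fun w => w.1 * w.2 := by
    ext z
    simp only [mem_filter, mem_univ, true_and, D.coreQ y hyN hy1 z, mem_image, mem_product,
      mem_els, Prod.exists]
    exact ⟨fun ⟨a, ha, b, hb, e⟩ => ⟨a, b, ⟨ha, hb⟩, e.symm⟩,
      fun ⟨a, b, ⟨ha, hb⟩, e⟩ => ⟨a, ha, b, hb, e.symm⟩⟩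
  rw [himg, sum_image hinj, sum_product, sum_els] at h
  simp only [one_mul] at h
  rw [eq_neg_iff_add_eq_zero, ← h]
  congr 1
  rw [sum1, mul_sum]
  refine sum_congr rfl fun s hs => ?_
  rw [← card_els, ← nsmul_eq_mul, ← sum_const]
  refine sum_congr rfl fun k hk => ?_
  rw [← mul_assoc, ← (D.commute (mem_els1.1 hs).1 (D.nle hyN)).eq, mul_assoc]
  exact (D.apply_mul_core hM h2 hs (mul_mem (D.nle hyN) (D.kle (mem_els.1 hk)))).symm

/-- The sum of `τ ^ 2` over both principal blocks is that over the others times `|S| - 1`. -/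
theorem sum_tau_both [Fintype (IrrCharacter G)] [DecidablePred (· ∈ principalBlock M G)]
    [DecidablePred (· ∈ principalBlock M' G)] :
    ∑ χ ∈ (univ.filter (· ∈ principalBlock M G)).filter (· ∈ principalBlock M' G), tau S χ ^ 2 =
      ((els1 S).card : ℝ) *
        ∑ χ ∈ (univ.filter (· ∈ principalBlock M G)).filter (fun χ => χ ∉ principalBlock M' G),
          tau S χ ^ 2 := by
  classical
  obtain ⟨s₀, hs₀⟩ := D.els1S_nonempty
  have h0 : ∑ χ ∈ univ.filter (· ∈ principalBlock M G),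
      sum1 S χ * conj (∑ y ∈ els1 N, ∑ k ∈ els K, (χ : G → ℂ) (y * k)) = 0 := by
    simp only [map_sum, mul_sum]
    rw [sum_comm]
    refine sum_eq_zero fun y hy => ?_
    rw [sum_comm]
    refine sum_eq_zero fun k hk => ?_
    simp only [sum1, sum_mul]
    rw [sum_comm]
    exact sum_eq_zero fun s hs => D.col_odd hM hs
      (mul_mem (D.nle (mem_els1.1 hy).1) (D.kle (mem_els.1 hk)))
  rw [← sum_filter_add_sum_filter_not _ (· ∈ principalBlock M' G)] at h0
  set p : ℝ := ((els1 S).card : ℝ) with hp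
  set L : ℝ := ((els1 N).card : ℝ) * (Nat.card K : ℝ) with hL
  have eB : ∀ χ ∈ (univ.filter (· ∈ principalBlock M G)).filter (· ∈ principalBlock M' G),
      sum1 S χ * conj (∑ y ∈ els1 N, ∑ k ∈ els K, (χ : G → ℂ) (y * k)) =
        ((p * L * tau S χ ^ 2 : ℝ) : ℂ) := by
    intro χ hχ
    simp only [mem_filter, mem_univ, true_and] at hχ
    rw [sum_congr rfl fun y hy => sum_congr rfl fun k hk =>
      ((D.both_apply hM hM' hχ.1 hχ.2 hs₀ hy).2.2 k (mem_els.1 hk)).trans
        (D.both_eq_tau hM hM' hχ.1 hχ.2 hs₀), sum1_eq D.els1S_nonempty]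
    simp only [sum_const, nsmul_eq_mul, card_els, map_mul, map_natCast, Complex.conj_ofReal, hp, hL]
    push_cast
    ring
  have eN : ∀ χ ∈ (univ.filter (· ∈ principalBlock M G)).filter
      (fun χ => χ ∉ principalBlock M' G),
      sum1 S χ * conj (∑ y ∈ els1 N, ∑ k ∈ els K, (χ : G → ℂ) (y * k)) =
        ((-(p * L * (p * tau S χ ^ 2)) : ℝ) : ℂ) := by
    intro χ hχ
    simp only [mem_filter, mem_univ, true_and] at hχ
    rw [sum_congr rfl fun y hy => D.sum_coset hM hM' hχ.1 hχ.2 hy]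
    simp only [sum_const, nsmul_eq_mul, map_mul, map_neg, map_natCast, conj_sum1,
      sum1_eq D.els1S_nonempty, Complex.conj_ofReal, hp, hL]
    push_cast
    ring
  rw [sum_congr rfl eB, sum_congr rfl eN, ← Complex.ofReal_sum, ← Complex.ofReal_sum,
    ← Complex.ofReal_add, Complex.ofReal_eq_zero, ← mul_sum, sum_neg_distrib, ← mul_sum,
    ← mul_sum] at h0
  have hpL : p * L ≠ 0 := mul_ne_zero (Nat.cast_ne_zero.2 (card_ne_zero.2 D.els1S_nonempty))
    (mul_ne_zero (Nat.cast_ne_zero.2 (card_ne_zero.2 (els1_nonempty D.ne_bot)))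
      (Nat.cast_ne_zero.2 Nat.card_pos.ne'))
  exact mul_left_cancel₀ hpL (by linarith)

/-- In both principal blocks a negative `τ` forces a large degree. -/
theorem deg_both {χ : IrrCharacter G} (h2 : χ ∈ principalBlock M G)
    (hq : χ ∈ principalBlock M' G) :
    0 ≤ (deg χ : ℝ) + ((Nat.card N : ℝ) * (Nat.card S : ℝ) - 1) * tau S χ := by
  classical
  obtain ⟨n, hn⟩ := exists_sum_prod χ N S
    (fun a ha y hy => by rw [(D.commute ha (D.nle hy)).eq, mul_inv_cancel_right]; exact hy)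
    (fun a ha haN => D.eq_one_of_mem ha (D.nle haN))
  obtain ⟨y₀, hy₀⟩ := els1_nonempty D.ne_bot
  obtain ⟨s₀, hs₀⟩ := D.els1S_nonempty
  have hval : ∀ y ∈ els1 N, ∀ s ∈ els1 S, (χ : G → ℂ) y = (tau S χ : ℂ) ∧
      (χ : G → ℂ) (y * s) = (tau S χ : ℂ) := fun y hy s hs =>
    ⟨(D.both_apply hM hM' h2 hq hs hy).1.trans (D.both_eq_tau hM hM' h2 hq hs),
      (D.both_apply hM hM' h2 hq hs hy).2.1.trans (D.both_eq_tau hM hM' h2 hq hs)⟩
  rw [sum_els, sum_els] at hn
  simp only [one_mul] at hn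
  rw [sum_congr rfl fun s hs => D.both_eq_tau hM hM' h2 hq hs,
    sum_congr rfl fun y hy => sum_els S fun s => (χ : G → ℂ) (y * s)] at hn
  simp only [mul_one] at hn
  rw [sum_congr rfl fun y hy => congrArg₂ (· + ·) (hval y hy s₀ hs₀).1
    (sum_congr rfl fun s hs => (hval y hy s hs).2), deg_eq] at hn
  simp only [sum_const, nsmul_eq_mul] at hn
  have hR : (deg χ : ℝ) + ((els1 S).card : ℝ) * tau S χ +
      ((els1 N).card : ℝ) * (tau S χ + ((els1 S).card : ℝ) * tau S χ) =
      (Nat.card N : ℝ) * (Nat.card S : ℝ) * n := by exact_mod_cast hn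
  have e1 : ((els1 N).card : ℝ) = (Nat.card N : ℝ) - 1 := by
    rw [← card_els1 N]; push_cast; ring
  have e2 : ((els1 S).card : ℝ) = (Nat.card S : ℝ) - 1 := by
    rw [← card_els1 S]; push_cast; ring
  have h0 : (0 : ℝ) ≤ (Nat.card N : ℝ) * (Nat.card S : ℝ) * n := by positivity
  rw [e1, e2] at hR
  linarith

/-- Outside the principal `q`-block the degree is at least `|A| * |S|`. -/
theorem deg_not {χ : IrrCharacter G} (h2 : χ ∈ principalBlock M G)
    (hq : χ ∉ principalBlock M' G) : Nat.card A * Nat.card S ≤ deg χ := by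
  classical
  obtain ⟨a₁, ha₁⟩ := exists_sum_els χ N
  have hA : (Nat.card A : ℤ) ∣ (deg χ : ℤ) - a₁ := by
    refine dvd_sub_fixed χ N A D.anorm (fun a ha haN => ?_) (fun a ha y hy => ?_) ha₁
    · by_contra h1
      exact h1 (D.afix a ha h1 a haN rfl)
    · obtain ⟨haA, ha1⟩ := mem_els1.1 ha
      have hmaps : Set.MapsTo (fun z => z * (a * z⁻¹ * a⁻¹)) ↑(els N) ↑(els N) := fun z hz =>
        mem_els.2 (mul_mem (mem_els.1 hz) (D.anorm a haA _ (inv_mem (mem_els.1 hz))))
      have hinj : Set.InjOn (fun z => z * (a * z⁻¹ * a⁻¹)) ↑(els N) := by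
        intro z hz w hw (e : z * (a * z⁻¹ * a⁻¹) = w * (a * w⁻¹ * a⁻¹))
        refine (inv_mul_eq_one.1 ?_).symm
        refine D.afix a haA ha1 _ (mul_mem (inv_mem (mem_els.1 hw)) (mem_els.1 hz)) ?_
        calc a * (w⁻¹ * z) = (a * w⁻¹ * a⁻¹) * (a * z * a⁻¹) * a := by group
          _ = w⁻¹ * (w * (a * w⁻¹ * a⁻¹)) * (a * z * a⁻¹) * a := by group
          _ = w⁻¹ * (z * (a * z⁻¹ * a⁻¹)) * (a * z * a⁻¹) * a := by rw [e]
          _ = w⁻¹ * z * a := by group
      obtain ⟨z, hz, rfl⟩ := surjOn_of_injOn_of_card_le _ hmaps hinj le_rfl (mem_els.2 hy)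
      rw [← isClassFunction_irr χ a z]
      exact congrArg _ (by group)
  have hS : (Nat.card S : ℤ) ∣ (deg χ : ℤ) - a₁ := by
    refine dvd_sub_fixed χ N S (fun a ha y hy => ?_) (fun a ha haN => D.eq_one_of_mem ha (D.nle haN))
      (fun s hs y hy => ?_) ha₁
    · rw [(D.commute ha (D.nle hy)).eq, mul_inv_cancel_right]; exact hy
    · rw [← (D.commute (mem_els1.1 hs).1 (D.nle hy)).eq]
      exact D.apply_mul_core hM h2 hs (D.nle hy)
  have hre : ∑ y ∈ els N, ((χ : G → ℂ) y).re = (Nat.card N : ℝ) * a₁ := by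
    rw [← Complex.re_sum, ha₁]; simp
  have hle : a₁ ≤ deg χ := by
    have h : (Nat.card N : ℝ) * a₁ ≤ (Nat.card N : ℝ) * deg χ := by
      rw [← hre, ← card_els, ← nsmul_eq_mul, ← sum_const]
      exact sum_le_sum fun y _ => re_le_deg χ y
    exact_mod_cast le_of_mul_le_mul_left h (Nat.cast_pos.2 Nat.card_pos)
  have hne : a₁ ≠ deg χ := by
    intro heq
    refine hq ?_
    have hall : ∀ y ∈ els N, ((χ : G → ℂ) y).re = (deg χ : ℝ) := by
      refine (sum_eq_sum_iff_of_le fun y _ => re_le_deg χ y).1 ?_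
      rw [hre, heq, sum_const, card_els, nsmul_eq_mul]
    obtain ⟨n, ρ, hρ, hρχ⟩ := χ.2
    have hdeg : (deg χ : ℂ) = (Module.finrank ℂ (Fin n → ℂ) : ℂ) := by
      rw [← deg_eq, ← hρχ, Representation.char_one]
    let R : Subgroup G :=
      { carrier := {g | ρ g = 1}
        one_mem' := map_one ρ
        mul_mem' := fun {a b} (ha : ρ a = 1) (hb : ρ b = 1) =>
          (show ρ (a * b) = 1 by rw [map_mul, ha, hb, one_mul])
        inv_mem' := fun {a} (ha : ρ a = 1) => (show ρ a⁻¹ = 1 by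
          rw [← map_one ρ, ← inv_mul_cancel a, map_mul, ha, mul_one]) }
    haveI hRn : R.Normal := ⟨fun a (ha : ρ a = 1) g => show ρ (g * a * g⁻¹) = 1 by
      rw [map_mul, map_mul, ha, mul_one, ← map_mul, mul_inv_cancel, map_one]⟩
    have hR : R = ⊤ := D.ker R hRn fun y hy => (character_eq_iff ρ y).1 <| by
      rw [show ρ.character y = (χ : G → ℂ) y from congrFun hρχ y, ← hdeg]
      exact eq_deg_of_re (hall y (mem_els.2 hy))
    have hconst : ∀ g : G, (χ : G → ℂ) g = (deg χ : ℂ) := fun g => by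
      rw [hdeg, ← hρχ]
      exact (character_eq_iff ρ g).2 (show g ∈ R by simp [hR])
    have hself := IsIrrCharacter.classInner_self χ.2
    rw [classInner] at hself
    simp only [hconst, map_natCast, sum_const, nsmul_eq_mul, card_univ] at hself
    rw [← Nat.card_eq_fintype_card, ← mul_assoc,
      inv_mul_cancel₀ (Nat.cast_ne_zero.2 Nat.card_pos.ne'), one_mul] at hself
    have hd : deg χ = 1 := by
      have : deg χ * deg χ = 1 := by exact_mod_cast hself
      exact Nat.eq_one_of_mul_eq_one_right this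
    have : χ = oneIrr G := Subtype.ext (funext fun g => by rw [hconst, hd]; simp)
    rw [this]
    exact oneIrr_mem_principalBlock
  obtain ⟨kS, hkS⟩ := IsPGroup.iff_card.1 D.two
  have hco : IsCoprime (Nat.card A : ℤ) (Nat.card S : ℤ) := by
    rw [Nat.isCoprime_iff_coprime, hkS]
    exact (Nat.coprime_two_right.2 D.aodd).pow_right kS
  have hd := Int.le_of_dvd (by omega) (hco.mul_dvd hA hS)
  have : ((Nat.card A * Nat.card S : ℕ) : ℤ) ≤ (deg χ : ℤ) := by push_cast; omega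
  exact_mod_cast this

/-- The main inequality, for given bounds on `τ` and on the sum of `T ^ 2` outside the principal
`q`-block. -/
theorem main_aux [Fintype (IrrCharacter G)] [DecidablePred (· ∈ principalBlock M G)]
    [DecidablePred (· ∈ principalBlock M' G)] {α B : ℝ} (hα0 : 0 ≤ α)
    (hα : (Nat.card H : ℝ) / ((Nat.card J : ℝ) * Nat.card S * ((els1 S).card : ℝ)) ≤ α ^ 2)
    (hB : ∑ χ ∈ (univ.filter (· ∈ principalBlock M G)).filter
      (fun χ => χ ∉ principalBlock M' G), val t χ ^ 2 ≤ B) :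
    1 ≤ (Nat.card H : ℝ) ^ 2 / ((Nat.card G : ℝ) * Nat.card J * ((els1 S).card : ℝ)) +
      (Nat.card H : ℝ) / ((Nat.card J : ℝ) * Nat.card S) /
        ((Nat.card N : ℝ) * Nat.card S - 1) +
      α * B / ((Nat.card A : ℝ) * Nat.card S) := by
  classical
  set P0 := univ.filter (· ∈ principalBlock M G)
  set BB := P0.filter (· ∈ principalBlock M' G)
  set Bn := P0.filter (fun χ => χ ∉ principalBlock M' G)
  set p : ℝ := ((els1 S).card : ℝ) with hp
  have hp0 : 0 < p := Nat.cast_pos.2 (card_pos.2 D.els1S_nonempty)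
  have hJ : (0 : ℝ) < Nat.card J := Nat.cast_pos.2 Nat.card_pos
  have hS : (Nat.card S : ℝ) = p + 1 := by rw [hp, ← card_els1 S]; push_cast; ring
  have hS0 : (0 : ℝ) < Nat.card S := Nat.cast_pos.2 Nat.card_pos
  have htot := D.sum_tau_sq hM
  have hboth := D.sum_tau_both hM hM'
  rw [← sum_filter_add_sum_filter_not P0 (· ∈ principalBlock M' G), hboth] at htot
  have hBn : ∑ χ ∈ Bn, tau S χ ^ 2 =
      (Nat.card H : ℝ) / ((Nat.card J : ℝ) * Nat.card S * p) := by
    rw [eq_div_iff (by positivity), ← htot, hS]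
    ring
  have hBB : ∑ χ ∈ BB, tau S χ ^ 2 = (Nat.card H : ℝ) / ((Nat.card J : ℝ) * Nat.card S) := by
    rw [hboth, hBn, ← hp]
    field_simp
  have hN2 : (2 : ℝ) ≤ Nat.card N := by
    have h1 := card_pos.2 (els1_nonempty D.ne_bot)
    have h2 := card_els1 N
    exact_mod_cast (by omega : 2 ≤ Nat.card N)
  set L : ℝ := (Nat.card N : ℝ) * Nat.card S - 1 with hL
  have hL0 : 0 < L := by rw [hL, hS]; nlinarith
  set f : IrrCharacter G → ℝ := fun χ => val t χ ^ 2 * tau S χ / (deg χ : ℝ)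
  have hone : oneIrr G ∈ BB := by simp [BB, P0, oneIrr_mem_principalBlock]
  have hf1 : f (oneIrr G) = 1 := by
    have e1 : deg (oneIrr G) = 1 := by
      have h := deg_eq (oneIrr G)
      rw [oneIrr_apply] at h
      exact_mod_cast h.symm
    have e2 : tau S (oneIrr G) = 1 := by
      simp [tau, sum1, (card_pos.2 D.els1S_nonempty).ne']
    simp [f, e1, e2, val]
  have hbBB : ∀ χ ∈ BB.erase (oneIrr G), -(tau S χ ^ 2 / L) ≤ f χ := by
    intro χ hχ
    simp only [BB, P0, mem_erase, mem_filter, mem_univ, true_and] at hχ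
    have hx : (0 : ℝ) < deg χ := Nat.cast_pos.2 (deg_pos χ)
    have hT : val t χ = tau S χ := by
      rw [val, D.both_eq_tau hM hM' hχ.2.1 hχ.2.2 D.mem_els1_t, Complex.ofReal_re]
    have hdeg := D.deg_both hM hM' hχ.2.1 hχ.2.2
    simp only [f, hT]
    rcases le_or_gt 0 (tau S χ) with h | h
    · have h1 : (0 : ℝ) ≤ tau S χ ^ 2 * tau S χ / deg χ := by positivity
      have h2 : (0 : ℝ) ≤ tau S χ ^ 2 / L := by positivity
      linarith
    · rw [neg_le, ← neg_div, div_le_div_iff₀ hx hL0]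
      nlinarith [mul_le_mul_of_nonneg_left (show -tau S χ * L ≤ deg χ by rw [hL] at *; linarith)
        (sq_nonneg (tau S χ))]
  have hbBn : ∀ χ ∈ Bn, -(α * val t χ ^ 2 / ((Nat.card A : ℝ) * Nat.card S)) ≤ f χ := by
    intro χ hχ
    have hχ' := hχ
    simp only [Bn, P0, mem_filter, mem_univ, true_and] at hχ'
    have hd : (Nat.card A : ℝ) * Nat.card S ≤ deg χ := by
      exact_mod_cast D.deg_not hM hM' hχ'.1 hχ'.2
    have hAS : (0 : ℝ) < (Nat.card A : ℝ) * Nat.card S :=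
      mul_pos (Nat.cast_pos.2 Nat.card_pos) hS0
    have habs : |tau S χ| ≤ α := by
      refine abs_le_of_sq_le_sq ?_ hα0
      refine le_trans ?_ hα
      rw [← hBn]
      exact single_le_sum (f := fun χ => tau S χ ^ 2) (fun _ _ => sq_nonneg _) hχ
    have h1 : |f χ| ≤ α * val t χ ^ 2 / ((Nat.card A : ℝ) * Nat.card S) := by
      simp only [f]
      rw [abs_div, abs_mul, abs_of_nonneg (sq_nonneg (val t χ)), Nat.abs_cast, mul_comm α]
      exact div_le_div₀ (mul_nonneg (sq_nonneg _) hα0)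
        (mul_le_mul_of_nonneg_left habs (sq_nonneg _)) hAS hd
    exact (abs_le.1 h1).1
  have hA2 : ∑ χ ∈ P0, f χ ≤
      (Nat.card H : ℝ) ^ 2 / ((Nat.card G : ℝ) * Nat.card J * p) := by
    rw [le_div_iff₀ (mul_pos (mul_pos (Nat.cast_pos.2 Nat.card_pos) hJ) hp0), mul_comm]
    exact D.sum_products hM
  have hsplit : ∑ χ ∈ P0, f χ = 1 + ∑ χ ∈ BB.erase (oneIrr G), f χ + ∑ χ ∈ Bn, f χ := by
    rw [← sum_filter_add_sum_filter_not P0 (· ∈ principalBlock M' G), ← add_sum_erase _ _ hone, hf1]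
  have s1 := sum_le_sum hbBB
  have s2 := sum_le_sum hbBn
  rw [sum_neg_distrib, ← sum_div] at s1
  rw [sum_neg_distrib, ← sum_div, ← mul_sum] at s2
  have s3 : (∑ χ ∈ BB.erase (oneIrr G), tau S χ ^ 2) / L ≤
      (Nat.card H : ℝ) / ((Nat.card J : ℝ) * Nat.card S) / L := by
    rw [← hBB]
    exact div_le_div_of_nonneg_right
      (sum_le_sum_of_subset_of_nonneg (erase_subset _ _) fun _ _ _ => sq_nonneg _) hL0.le
  have s4 : α * (∑ χ ∈ Bn, val t χ ^ 2) / ((Nat.card A : ℝ) * Nat.card S) ≤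
      α * B / ((Nat.card A : ℝ) * Nat.card S) :=
    div_le_div_of_nonneg_right (mul_le_mul_of_nonneg_left hB hα0) (by positivity)
  linarith

end Both

/-- The main inequality. -/
theorem main_ineq {α : ℝ} (hα0 : 0 ≤ α)
    (hα : (Nat.card H : ℝ) / ((Nat.card J : ℝ) * Nat.card S * ((els1 S).card : ℝ)) ≤ α ^ 2) :
    1 ≤ (Nat.card H : ℝ) ^ 2 / ((Nat.card G : ℝ) * Nat.card J * ((els1 S).card : ℝ)) +
      (Nat.card H : ℝ) / ((Nat.card J : ℝ) * Nat.card S) /
        ((Nat.card N : ℝ) * Nat.card S - 1) +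
      α * ((Nat.card (Subgroup.centralizer ({t} : Set G)) : ℝ) / Nat.card J) /
        ((Nat.card A : ℝ) * Nat.card S) := by
  classical
  obtain ⟨M, hM⟩ := exists_isPModular Nat.prime_two
  obtain ⟨M', hM'⟩ := exists_isPModular D.prime
  haveI : M.IsPrime := hM.2.1.isPrime
  haveI : M'.IsPrime := hM'.2.1.isPrime
  letI := irrFintype (G := G)
  refine D.main_aux hM hM' hα0 hα ?_
  rw [le_div_iff₀ (Nat.cast_pos.2 (Nat.card_pos (α := J))), ← D.sum_val_sq hM, mul_comm]
  exact mul_le_mul_of_nonneg_left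
    (sum_le_sum_of_subset_of_nonneg (filter_subset _ _) fun _ _ _ => sq_nonneg _) (Nat.cast_nonneg _)

/-- The main inequality when the nontrivial elements of `S` form one class. -/
theorem main_ineq_of_conj (hcls : ∀ s ∈ S, s ≠ 1 → IsConj t s) {α : ℝ} (hα0 : 0 ≤ α)
    (hα : (Nat.card H : ℝ) / ((Nat.card J : ℝ) * Nat.card S * ((els1 S).card : ℝ)) ≤ α ^ 2) :
    1 ≤ (Nat.card H : ℝ) ^ 2 / ((Nat.card G : ℝ) * Nat.card J * ((els1 S).card : ℝ)) +
      (Nat.card H : ℝ) / ((Nat.card J : ℝ) * Nat.card S) /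
        ((Nat.card N : ℝ) * Nat.card S - 1) +
      α * ((Nat.card H : ℝ) / ((Nat.card J : ℝ) * Nat.card S * ((els1 S).card : ℝ))) /
        ((Nat.card A : ℝ) * Nat.card S) := by
  classical
  obtain ⟨M, hM⟩ := exists_isPModular Nat.prime_two
  obtain ⟨M', hM'⟩ := exists_isPModular D.prime
  haveI : M.IsPrime := hM.2.1.isPrime
  haveI : M'.IsPrime := hM'.2.1.isPrime
  letI := irrFintype (G := G)
  refine D.main_aux hM hM' hα0 hα ?_
  set p : ℝ := ((els1 S).card : ℝ) with hp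
  have hp0 : 0 < p := Nat.cast_pos.2 (card_pos.2 D.els1S_nonempty)
  have htau : ∀ χ : IrrCharacter G, val t χ = tau S χ := fun χ => by
    have h : sum1 S χ = ((els1 S).card : ℂ) * (χ : G → ℂ) t := by
      rw [sum1, sum_congr rfl fun s hs => (IsClassFunction.apply_eq_of_isConj
        (isClassFunction_irr χ) (hcls s (mem_els1.1 hs).1 (mem_els1.1 hs).2)).symm, sum_const,
        nsmul_eq_mul]
    rw [sum1_eq D.els1S_nonempty] at h
    rw [val, ← mul_left_cancel₀ (Nat.cast_ne_zero.2 (card_ne_zero.2 D.els1S_nonempty)) h,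
      Complex.ofReal_re]
  have hS : (Nat.card S : ℝ) = p + 1 := by rw [hp, ← card_els1 S]; push_cast; ring
  have htot := D.sum_tau_sq hM
  rw [← sum_filter_add_sum_filter_not _ (· ∈ principalBlock M' G), D.sum_tau_both hM hM'] at htot
  simp only [htau]
  rw [le_div_iff₀ (mul_pos (mul_pos (Nat.cast_pos.2 Nat.card_pos) (Nat.cast_pos.2 Nat.card_pos))
    hp0), ← htot, hS]
  exact le_of_eq (by ring)

end Data

end CfsgLib.Bender.CharPart
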