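import Cfsg.Agent.Bender.BlockSums
import Cfsg.Agent.Char.ClassProducts
import Cfsg.Agent.Char.Kernel

/-!
# The character part of Bender's theorem: setting and elementary identities

`S` is the normal Sylow 2-subgroup of `H`, `J` the core of every `C(s)`, `s ∈ S` nontrivial, and
`S * K` the core of order prime to `q` of the centralizer of every nontrivial element of `N`.
-/

set_option autoImplicit false
set_option linter.unusedSectionVars false
set_option linter.style.haveILetI false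

namespace CfsgLib.Bender.CharPart

open Cfsg Finset CfsgLib.Block CfsgLib.Block.Chr CfsgLib.Char
open scoped ComplexConjugate

universe u

variable {G : Type u} [Group G]

/-- The data used by the character computation. -/
structure Data (H S J N K A : Subgroup G) (q : ℕ) (t : G) : Prop where
  two : IsPGroup 2 S
  le : S ≤ H
  norm : ∀ h ∈ H, ∀ s ∈ S, h * s * h⁻¹ ∈ S
  move : ∀ g s : G, s ∈ S → s ≠ 1 → g * s * g⁻¹ ∈ H → g ∈ H
  mem_t : t ∈ S
  ord_t : orderOf t = 2
  invol : ∀ i ∈ H, orderOf i = 2 → i ∈ S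
  trans : ∀ i ∈ H, orderOf i = 2 → IsConj t i
  odd : Odd (Nat.card J)
  coreTwo : ∀ s ∈ S, s ≠ 1 → centralizerPPrimeCore 2 s = J
  solvTwo : ∀ s ∈ S, s ≠ 1 → Group.IsSolvable (Subgroup.centralizer ({s} : Set G))
  prime : q.Prime
  qgroup : IsPGroup q N
  nle : N ≤ J
  kle : K ≤ J
  ne_bot : N ≠ ⊥
  coreQ : ∀ y ∈ N, y ≠ 1 → ∀ z,
    z ∈ centralizerPPrimeCore q y ↔ ∃ s ∈ S, ∃ k ∈ K, z = s * k
  solvQ : ∀ y ∈ N, y ≠ 1 → Group.IsSolvable (Subgroup.centralizer ({y} : Set G))
  ker : ∀ R : Subgroup G, R.Normal → N ≤ R → R = ⊤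
  anorm : ∀ a ∈ A, ∀ y ∈ N, a * y * a⁻¹ ∈ N
  aodd : Odd (Nat.card A)
  afix : ∀ a ∈ A, a ≠ 1 → ∀ y ∈ N, a * y = y * a → y = 1

open Classical in
/-- The elements of a subgroup as a finite set. -/
noncomputable def els [Fintype G] (X : Subgroup G) : Finset G := univ.filter (· ∈ X)

open Classical in
/-- The nontrivial elements of a subgroup as a finite set. -/
noncomputable def els1 [Fintype G] (X : Subgroup G) : Finset G :=
  univ.filter (fun x => x ∈ X ∧ x ≠ 1)

variable [Fintype G]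

theorem mem_els {X : Subgroup G} {x : G} : x ∈ els X ↔ x ∈ X := by simp [els]

theorem mem_els1 {X : Subgroup G} {x : G} : x ∈ els1 X ↔ x ∈ X ∧ x ≠ 1 := by simp [els1]

theorem card_els (X : Subgroup G) : (els X).card = Nat.card X := by
  classical
  rw [els, Nat.card_eq_fintype_card, Fintype.card_subtype]

theorem els_eq (X : Subgroup G) [DecidableEq G] : els X = insert 1 (els1 X) := by
  ext x
  by_cases hx : x = 1 <;> simp [mem_els, mem_els1, hx]

theorem sum_els (X : Subgroup G) (f : G → ℂ) : ∑ x ∈ els X, f x = f 1 + ∑ x ∈ els1 X, f x := by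
  classical
  rw [els_eq, sum_insert]
  simp [mem_els1]

theorem card_els1 (X : Subgroup G) : (els1 X).card + 1 = Nat.card X := by
  classical
  rw [← card_els, els_eq, card_insert_of_notMem]
  simp [mem_els1]

theorem els1_nonempty {X : Subgroup G} (h : X ≠ ⊥) : (els1 X).Nonempty := by
  obtain ⟨x, hx, hx1⟩ := X.bot_or_exists_ne_one.resolve_left h
  exact ⟨x, mem_els1.2 ⟨hx, hx1⟩⟩

/-- The degree as a natural number. -/
noncomputable def deg (χ : IrrCharacter G) : ℕ := charDegree (χ : G → ℂ)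

theorem deg_eq (χ : IrrCharacter G) : (χ : G → ℂ) 1 = (deg χ : ℂ) := (irr_one χ).1

theorem deg_pos (χ : IrrCharacter G) : 0 < deg χ := (irr_one χ).2

/-- The sum of a character over a subgroup is a natural multiple of the order. -/
theorem exists_sum_els (χ : IrrCharacter G) (X : Subgroup G) :
    ∃ n : ℕ, ∑ x ∈ els X, (χ : G → ℂ) x = (Nat.card X : ℂ) * n := by
  classical
  haveI : Fintype X := Fintype.ofFinite _
  obtain ⟨n, hn⟩ := IsCharacter.exists_classInner_eq_natCast'
    (IsCharacter.restrict (isCharacter_irr χ) X) (isCharacter_one (G := X))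
  refine ⟨n, ?_⟩
  rw [← hn, classInner, ← mul_assoc, mul_inv_cancel₀ (Nat.cast_ne_zero.2 Nat.card_pos.ne'), one_mul,
    els]
  simp only [map_one, mul_one]
  exact sum_subtype (univ.filter (· ∈ X)) (fun x => by simp) (fun x => (χ : G → ℂ) x)

theorem re_le_deg (χ : IrrCharacter G) (g : G) : ((χ : G → ℂ) g).re ≤ deg χ := by
  have h := IsCharacter.norm_apply_le (isCharacter_irr χ) g
  rw [deg_eq, Complex.natCast_re] at h
  exact le_trans (Complex.re_le_norm _) h

theorem eq_deg_of_re {χ : IrrCharacter G} {g : G} (h : ((χ : G → ℂ) g).re = deg χ) :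
    (χ : G → ℂ) g = deg χ := by
  have hn := IsCharacter.norm_apply_le (isCharacter_irr χ) g
  rw [deg_eq, Complex.natCast_re] at hn
  have h2 : Complex.normSq ((χ : G → ℂ) g) ≤ (deg χ : ℝ) ^ 2 := by
    rw [Complex.normSq_eq_norm_sq]
    exact pow_le_pow_left₀ (norm_nonneg _) hn 2
  rw [Complex.normSq_apply, h] at h2
  have him : ((χ : G → ℂ) g).im = 0 := by nlinarith
  exact Complex.ext (by simpa using h) (by simpa using him)

namespace Data

variable {H S J N K A : Subgroup G} {q : ℕ} {t : G} (D : Data H S J N K A q t)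

include D

theorem t_ne : t ≠ 1 := fun h => by simpa [h] using D.ord_t

theorem mem_els1_t : t ∈ els1 S := mem_els1.2 ⟨D.mem_t, D.t_ne⟩

theorem centralizer_le {s : G} (hs : s ∈ els1 S) : Subgroup.centralizer ({s} : Set G) ≤ H :=
  fun g hg => D.move g s (mem_els1.1 hs).1 (mem_els1.1 hs).2 (by
    rw [Subgroup.mem_centralizer_singleton_iff.1 hg, mul_inv_cancel_right]
    exact D.le (mem_els1.1 hs).1)

theorem orderOf_two {s : G} (hs : s ∈ S) : ∃ k, orderOf s = 2 ^ k := by
  obtain ⟨k, hk⟩ := D.two ⟨s, hs⟩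
  obtain ⟨j, -, hj⟩ := (Nat.dvd_prime_pow Nat.prime_two).1
    (orderOf_dvd_of_pow_eq_one (show s ^ 2 ^ k = 1 from congrArg Subtype.val hk))
  exact ⟨j, hj⟩

theorem odd_order {j : G} (hj : j ∈ J) : Odd (orderOf j) :=
  D.odd.of_dvd_nat (Subgroup.orderOf_dvd_natCard J hj)

theorem eq_one_of_mem {x : G} (hs : x ∈ S) (hj : x ∈ J) : x = 1 := by
  obtain ⟨k, hk⟩ := D.orderOf_two hs
  have h := D.odd_order hj
  rcases Nat.eq_zero_or_pos k with rfl | hk0
  · simpa using hk
  · exact absurd h (by simpa [hk, Nat.not_odd_iff_even] using Nat.even_pow.2 ⟨even_two, hk0.ne'⟩)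

theorem commute {s j : G} (hs : s ∈ S) (hj : j ∈ J) : Commute s j := by
  by_cases h1 : s = 1
  · simp [h1]
  rw [← D.coreTwo s hs h1] at hj
  obtain ⟨w, -, rfl⟩ := Subgroup.mem_map.1 hj
  exact (Subgroup.mem_centralizer_singleton_iff.1 w.2).symm

/-- Some power of `s * j` is `s`. -/
theorem pow_eq {s j : G} (hs : s ∈ S) (hj : j ∈ J) : ∃ n : ℕ, (s * j) ^ n = s := by
  obtain ⟨k, hk⟩ := D.orderOf_two hs
  have hco : Nat.Coprime (orderOf s) (orderOf j) := by
    rw [hk]
    exact (Nat.coprime_two_left.2 (D.odd_order hj)).pow_left k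
  obtain ⟨n, h1, h2⟩ := Nat.chineseRemainder hco 1 0
  refine ⟨n, ?_⟩
  rw [(D.commute hs hj).mul_pow, orderOf_dvd_iff_pow_eq_one.1 (Nat.modEq_zero_iff_dvd.1 h2),
    mul_one]
  conv_rhs => rw [← pow_one s]
  exact pow_eq_pow_iff_modEq.2 h1

theorem conj_mem {g s : G} (hs : s ∈ els1 S) (hg : g * s * g⁻¹ ∈ H) :
    g * s * g⁻¹ ∈ els1 S := by
  obtain ⟨hsS, hs1⟩ := mem_els1.1 hs
  exact mem_els1.2 ⟨D.norm g (D.move g s hsS hs1 hg) s hsS, fun h => hs1 (conj_eq_one_iff.1 h)⟩

/-- An element `s * j` of the section is only conjugate to elements of `S` when `j = 1`. -/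
theorem isConj_mul_iff {s j s' : G} (hs : s ∈ els1 S) (hj : j ∈ J) (hs' : s' ∈ els1 S) :
    IsConj (s * j) s' ↔ j = 1 ∧ IsConj s s' := by
  refine ⟨fun h => ?_, fun h => by rw [h.1, mul_one]; exact h.2⟩
  obtain ⟨g, hg⟩ := isConj_iff.1 h
  obtain ⟨n, hn⟩ := D.pow_eq (mem_els1.1 hs).1 hj
  obtain ⟨k, hk⟩ := D.orderOf_two (mem_els1.1 hs').1
  have e : (s * j) ^ 2 ^ k = 1 := by
    apply (MulAut.conj g).injective
    rw [map_pow, map_one, MulAut.conj_apply, hg, ← hk, pow_orderOf_eq_one]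
  have hjk : j ^ 2 ^ k = 1 := by
    rw [(D.commute (mem_els1.1 hs).1 hj).mul_pow] at e
    refine D.eq_one_of_mem ?_ (pow_mem hj _)
    rw [eq_inv_of_mul_eq_one_right e]
    exact inv_mem (pow_mem (mem_els1.1 hs).1 _)
  have hj1 : j = 1 := by
    rw [← orderOf_eq_one_iff]
    exact Nat.eq_one_of_dvd_coprimes (((Nat.coprime_two_left.2 (D.odd_order hj)).pow_left k).symm)
      dvd_rfl (orderOf_dvd_of_pow_eq_one hjk)
  rw [hj1, mul_one] at h
  exact ⟨hj1, h⟩

/-- An element of `J` is not conjugate to one outside it on the section. -/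
theorem not_isConj_odd {s j y : G} (hs : s ∈ els1 S) (hj : j ∈ J) (hy : y ∈ J) :
    ¬ IsConj (s * j) y := by
  intro h
  obtain ⟨g, hg⟩ := isConj_iff.1 h
  obtain ⟨n, hn⟩ := D.pow_eq (mem_els1.1 hs).1 hj
  obtain ⟨k, hk⟩ := D.orderOf_two (mem_els1.1 hs).1
  have hdvd : orderOf s ∣ orderOf y := by
    rw [← hg, ← MulAut.conj_apply, MulEquiv.orderOf_eq]
    conv_lhs => rw [← hn]
    exact orderOf_pow_dvd n
  have hone : orderOf s = 1 := Nat.eq_one_of_dvd_coprimes
    (by rw [hk]; exact (Nat.coprime_two_left.2 (D.odd_order hy)).pow_left k) dvd_rfl hdvd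
  exact (mem_els1.1 hs).2 (orderOf_eq_one_iff.1 hone)

/-- The class of `s` among the elements of `S`, weighted by the centralizer, has weight the order
of `H`. -/
theorem sum_class {s : G} (hs : s ∈ els1 S) (P : G → Prop) [DecidablePred P]
    (hP : ∀ g ∈ H, P (g * s * g⁻¹)) [∀ a b : G, Decidable (IsConj a b)] :
    ∑ s' ∈ (els1 S).filter P, (if IsConj s s' then
      (Nat.card (Subgroup.centralizer ({s} : Set G)) : ℂ) else 0) = (Nat.card H : ℂ) := by
  classical
  have hmaps : ∀ g ∈ els H, g * s * g⁻¹ ∈ (els1 S).filter P := fun g hg =>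
    mem_filter.2 ⟨D.conj_mem hs (H.mul_mem (H.mul_mem (mem_els.1 hg) (D.le (mem_els1.1 hs).1))
      (H.inv_mem (mem_els.1 hg))), hP g (mem_els.1 hg)⟩
  rw [← card_els H, card_eq_sum_card_fiberwise hmaps, Nat.cast_sum]
  refine sum_congr rfl fun s' hs' => ?_
  split_ifs with h
  · obtain ⟨c, hc⟩ := isConj_iff.1 h
    have hcH : c ∈ H := D.move c s (mem_els1.1 hs).1 (mem_els1.1 hs).2
      (hc.symm ▸ D.le (mem_els1.1 (mem_filter.1 hs').1).1)
    rw [← card_els, Nat.cast_inj]
    refine card_nbij' (fun z => c * z) (fun g => c⁻¹ * g) ?_ ?_ (fun _ _ => by group)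
      (fun _ _ => by group)
    · intro z hz
      refine mem_filter.2 ⟨mem_els.2 (H.mul_mem hcH (D.centralizer_le hs (mem_els.1 hz))), ?_⟩
      calc c * z * s * (c * z)⁻¹ = c * (z * s) * z⁻¹ * c⁻¹ := by group
        _ = c * (s * z) * z⁻¹ * c⁻¹ := by rw [Subgroup.mem_centralizer_singleton_iff.1 (mem_els.1 hz)]
        _ = c * s * c⁻¹ := by group
        _ = s' := hc
    · intro g hg
      refine mem_els.2 (Subgroup.mem_centralizer_singleton_iff.2 ?_)
      have e := (mem_filter.1 hg).2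
      calc c⁻¹ * g * s = c⁻¹ * (g * s * g⁻¹) * g := by group
        _ = c⁻¹ * s' * g := by rw [e]
        _ = c⁻¹ * (c * s * c⁻¹) * g := by rw [hc]
        _ = s * (c⁻¹ * g) := by group
  · rw [card_eq_zero.2 (filter_eq_empty_iff.2 fun g _ e => h (isConj_iff.2 ⟨g, e⟩)), Nat.cast_zero]

/-- The number of involutions of `H` times the order of `C(t)` is the order of `H`. -/
theorem card_invol_mul [DecidablePred fun i : G => orderOf i = 2] :
    (((els1 S).filter (fun i => orderOf i = 2)).card : ℂ) *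
      Nat.card (Subgroup.centralizer ({t} : Set G)) = (Nat.card H : ℂ) := by
  classical
  rw [← D.sum_class D.mem_els1_t (fun i => orderOf i = 2) (fun g _ => by
    rw [← MulAut.conj_apply, MulEquiv.orderOf_eq]; exact D.ord_t), sum_congr rfl fun i hi =>
      if_pos (D.trans i (D.le (mem_els1.1 (mem_filter.1 hi).1).1) (mem_filter.1 hi).2),
    sum_const, nsmul_eq_mul]

end Data

end CfsgLib.Bender.CharPart
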