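import Cfsg.Agent.Bender.CharPart
import Cfsg.Agent.Char.Linear

/-!
# The uniformity lemma and the degree bound

Let `S` be a normal 2-subgroup of `H` meeting a conjugate class only inside `H`-classes, and `y` a
`q`-element with centralizer in `H` centralizing `S`.  Every block of `C(y)` inducing the block of
`χ` has `S` in its kernel, or none has, because the indicator of the conjugates of `S` is a class
function with the same central value.  Hence `χ` is constant on the nontrivial elements of `N`.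
-/

set_option autoImplicit false
set_option linter.unusedSectionVars false
set_option linter.style.haveILetI false

namespace CfsgLib.Bender.CharUniform

open Cfsg Finset CfsgLib.Block CfsgLib.Block.Chr CfsgLib.Char CfsgLib.Bender.CharPart
open scoped ComplexConjugate

universe u

variable {G : Type u} [Group G] [Fintype G]

open Classical in
/-- The normalized indicator of the union of the conjugates of `S`. -/
noncomputable def conjInd (S : Subgroup G) : G → ℂ :=
  fun g => if ∃ s ∈ S, IsConj g s then (Nat.card S : ℂ)⁻¹ else 0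

theorem isIntClass_conjInd {M : Ideal AlgInt} [M.IsPrime] {p : ℕ} (hM : IsPModular p M)
    (S : Subgroup G) (hp : ¬ p ∣ Nat.card S) : IsIntClass M (conjInd S) := by
  classical
  refine ⟨fun g h => ?_, fun g => ?_⟩
  · have hc : IsConj g (h * g * h⁻¹) := isConj_iff.2 ⟨h, rfl⟩
    refine if_congr ⟨?_, ?_⟩ rfl rfl
    · rintro ⟨s, hs, e⟩; exact ⟨s, hs, hc.trans e⟩
    · rintro ⟨s, hs, e⟩; exact ⟨s, hs, hc.symm.trans e⟩
  · unfold conjInd
    split_ifs
    · exact memLocalRing_natCast_inv hM hp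
    · exact memLocalRing_zero

/-- The dichotomy: the values at the elements of `S` of the section of `y` either sum to zero or
are constant, according to a condition not depending on `y`. -/
theorem section_dichotomy {M : Ideal AlgInt} [M.IsPrime] {q : ℕ} (hM : IsPModular q M)
    {H S : Subgroup G} (hsH : S ≤ H) (hSn : ∀ h ∈ H, ∀ s ∈ S, h * s * h⁻¹ ∈ S)
    (hmove : ∀ g s : G, s ∈ S → s ≠ 1 → g * s * g⁻¹ ∈ H → g ∈ H) (hp : ¬ q ∣ Nat.card S)
    (χ : IrrCharacter G) {y : G} {k : ℕ} (hy : orderOf y = q ^ k)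
    (hC : Subgroup.centralizer ({y} : Set G) ≤ H) (hcomm : ∀ s ∈ S, Commute s y) :
    (MemLocalIdeal M (omega (χ : G → ℂ) (conjInd S)) →
        ∑ s ∈ els S, (χ : G → ℂ) (y * s) = 0) ∧
      (¬ MemLocalIdeal M (omega (χ : G → ℂ) (conjInd S)) →
        ∀ s ∈ S, (χ : G → ℂ) (y * s) = (χ : G → ℂ) y) := by
  classical
  haveI : Fact q.Prime := ⟨hM.1⟩
  have hSC : S ≤ Subgroup.centralizer ({y} : Set G) := fun s hs =>
    Subgroup.mem_centralizer_singleton_iff.2 (hcomm s hs).eq
  haveI : Fintype (Subgroup.centralizer ({y} : Set G)) := Fintype.ofFinite _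
  letI := irrFintype (G := Subgroup.centralizer ({y} : Set G))
  haveI hTn : (S.subgroupOf (Subgroup.centralizer ({y} : Set G))).Normal :=
    ⟨fun a ha g => hSn _ (hC g.2) _ ha⟩
  set T := S.subgroupOf (Subgroup.centralizer ({y} : Set G)) with hT
  have hcard : Nat.card T = Nat.card S := Nat.card_congr (Subgroup.subgroupOfEquivOfLe hSC).toEquiv
  have hcardT : ((univ.filter (· ∈ T)).card : ℂ) = (Nat.card S : ℂ) := by
    rw [← hcard, Nat.card_eq_fintype_card, Fintype.card_subtype]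
  have hS0 : (Nat.card S : ℂ) ≠ 0 := Nat.cast_ne_zero.2 Nat.card_pos.ne'
  set θ : Subgroup.centralizer ({y} : Set G) → ℂ := fun c => (χ : G → ℂ) (y * (c : G))
  set good := fun ξ : IrrCharacter (Subgroup.centralizer ({y} : Set G)) =>
    IsInducedBlock M (Subgroup.centralizer ({y} : Set G))
      (blockOf M (ξ : Subgroup.centralizer ({y} : Set G) → ℂ)) (blockOf M (χ : G → ℂ))
  have hexp : ∀ c : Subgroup.centralizer ({y} : Set G), ¬ q ∣ orderOf c →
      θ c = ∑ ξ ∈ univ.filter good, classInner θ (ξ : Subgroup.centralizer ({y} : Set G) → ℂ) * (ξ : Subgroup.centralizer ({y} : Set G) → ℂ) c := by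
    intro c hc
    rw [show θ c = _ from classFun_expand (isClassFunction_shift χ y) c,
      ← sum_filter_add_sum_filter_not univ good, add_eq_left,
      ← sum_fiberwise_of_maps_to (fun ξ _ => mem_image_of_mem
        (fun ξ : IrrCharacter (Subgroup.centralizer ({y} : Set G)) =>
          blockOf M (ξ : Subgroup.centralizer ({y} : Set G) → ℂ)) (mem_univ ξ))]
    refine sum_eq_zero fun b hb => ?_
    obtain ⟨ξ₀, -, rfl⟩ := mem_image.1 hb
    by_cases hg : good ξ₀
    · refine sum_eq_zero fun ξ hξ => ?_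
      exfalso
      simp only [mem_filter, mem_univ, true_and] at hξ
      exact hξ.1 (by simp only [good] at hg ⊢; rwa [hξ.2])
    · have hP := isPBlock_blockOf (M := M) ξ₀
      have h0 := blockPart_eq_zero_of_not_induced hM hy (isPBlock_blockOf χ) (mem_blockOf_self χ) hP
        hg c hc
      rw [blockPart_eq_sum_inner] at h0
      refine Eq.trans (sum_congr ?_ fun _ _ => rfl) h0
      ext ξ
      simp only [mem_filter, mem_univ, true_and]
      refine ⟨fun h => h.2 ▸ mem_blockOf_self ξ, fun h => ⟨fun hξ => hg ?_, (eq_blockOf_of_mem hP h).symm⟩⟩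
      simp only [good] at hξ ⊢
      rwa [← eq_blockOf_of_mem hP h] at hξ
  have hres : ∀ c : Subgroup.centralizer ({y} : Set G),
      resFun (Subgroup.centralizer ({y} : Set G)) (conjInd S) c =
        if c ∈ T then (Nat.card S : ℂ)⁻¹ else 0 := by
    intro c
    refine if_congr ⟨?_, fun h => ⟨c, h, IsConj.refl _⟩⟩ rfl rfl
    rintro ⟨s, hs, e⟩
    show (c : G) ∈ S
    obtain ⟨g, hg⟩ := isConj_iff.1 e.symm
    rw [← hg]
    by_cases hs1 : s = 1
    · simp [hs1]
    · exact hSn g (hmove g s hs hs1 (hg ▸ hC c.2)) s hs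
  have hom : ∀ ξ ∈ univ.filter good,
      MemLocalIdeal M ((Nat.card S : ℂ)⁻¹ * (∑ c ∈ univ.filter (· ∈ T),
        (ξ : Subgroup.centralizer ({y} : Set G) → ℂ) c) / (ξ : Subgroup.centralizer ({y} : Set G) → ℂ) 1
        - omega (χ : G → ℂ) (conjInd S)) := by
    intro ξ hξ
    have h := induced_cong (Subgroup.centralizer ({y} : Set G))
      ((mem_filter.1 hξ).2.2.2 ξ (mem_blockOf_self ξ) χ (mem_blockOf_self χ))
      (isIntClass_conjInd hM S hp)
    simp only [omega, hres, ite_mul, zero_mul, ← sum_filter, ← mul_sum] at h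
    exact h
  have hreg : ∀ c ∈ T, ¬ q ∣ orderOf c := fun c hc h =>
    hp (h.trans (hcard ▸ Subgroup.orderOf_dvd_natCard T hc))
  have hsum : ∀ f : G → ℂ, ∑ s ∈ els S, f s =
      ∑ c ∈ univ.filter (· ∈ T), f ((c : Subgroup.centralizer ({y} : Set G)) : G) := by
    intro f
    refine (sum_nbij (fun c : Subgroup.centralizer ({y} : Set G) => (c : G)) ?_ ?_ ?_ ?_).symm
    · exact fun c hc => mem_els.2 (mem_filter.1 hc).2
    · exact fun a _ b _ e => Subtype.ext e
    · exact fun s hs => ⟨⟨s, hSC (mem_els.1 hs)⟩, mem_filter.2 ⟨mem_univ _, ((mem_els (X := S)).1 hs : s ∈ S)⟩, rfl⟩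
    · exact fun _ _ => rfl
  refine ⟨fun hP => ?_, fun hP s hs => ?_⟩
  · rw [hsum (fun s => (χ : G → ℂ) (y * s))]
    show ∑ c ∈ univ.filter (· ∈ T), θ c = 0
    rw [sum_congr rfl fun c hc => hexp c (hreg c (mem_filter.1 hc).2), sum_comm]
    refine sum_eq_zero fun ξ hξ => ?_
    rw [← mul_sum]
    rcases sum_eq_zero_or_ker ξ T with h0 | h0
    · rw [h0, mul_zero]
    · exfalso
      have h := hom ξ hξ
      rw [sum_congr rfl fun c hc => h0 c (mem_filter.1 hc).2, sum_const, nsmul_eq_mul, hcardT,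
        ← mul_assoc, inv_mul_cancel₀ hS0, one_mul, div_self (irr_one_ne_zero ξ)] at h
      exact not_memLocalIdeal_one ((memLocalIdeal_iff_of_cong h).2 hP)
  · have hs' : (⟨s, hSC hs⟩ : Subgroup.centralizer ({y} : Set G)) ∈ T := hs
    have e : θ ⟨s, hSC hs⟩ = θ 1 := by
      rw [hexp _ (hreg _ hs'), hexp _ (hreg _ (one_mem T))]
      refine sum_congr rfl fun ξ hξ => ?_
      congr 1
      rcases sum_eq_zero_or_ker ξ T with h0 | h0
      · exfalso
        have h := hom ξ hξ
        rw [h0, mul_zero, zero_div] at h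
        exact hP ((memLocalIdeal_iff_of_cong h).1 memLocalIdeal_zero)
      · exact h0 _ hs'
    simpa [θ] using e

/-- A nontrivial character constant on the sections of the elements of `S` is constant on the
nontrivial elements of `N` and has large degree. -/
theorem deg_ge {H S N : Subgroup G} {q : ℕ} (hq : q.Prime) (hodd : Odd q) (hNp : IsPGroup q N)
    (hNab : ∀ z ∈ N, ∀ w ∈ N, z * w = w * z) (hne : N ≠ ⊥) (hS2 : IsPGroup 2 S) (hSne : S ≠ ⊥)
    (hsH : S ≤ H) (hSn : ∀ h ∈ H, ∀ s ∈ S, h * s * h⁻¹ ∈ S)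
    (hmove : ∀ g s : G, s ∈ S → s ≠ 1 → g * s * g⁻¹ ∈ H → g ∈ H)
    (hcy : ∀ y ∈ N, y ≠ 1 → Subgroup.centralizer ({y} : Set G) ≤ H)
    (hsy : ∀ s ∈ S, ∀ y ∈ N, Commute s y)
    (hker : ∀ R : Subgroup G, R.Normal → N ≤ R → R = ⊤)
    {χ : IrrCharacter G} (hχ1 : χ ≠ oneIrr G)
    (hval : ∀ s ∈ els1 S, ∀ y ∈ N, (χ : G → ℂ) (s * y) = (χ : G → ℂ) s) :
    (Nat.card N - 1) * Nat.card S ≤ deg χ := by
  classical
  obtain ⟨M, hM⟩ := exists_isPModular hq
  haveI : M.IsPrime := hM.2.1.isPrime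
  haveI : Fact (2 : ℕ).Prime := ⟨Nat.prime_two⟩
  have hp : ¬ q ∣ Nat.card S := by
    obtain ⟨k, hk⟩ := IsPGroup.iff_card.1 hS2
    rw [hk]
    intro h
    rw [(Nat.prime_dvd_prime_iff_eq hq Nat.prime_two).1 (hq.dvd_of_dvd_pow h)] at hodd
    exact absurd hodd (by decide)
  obtain ⟨s₀, hs₀⟩ := els1_nonempty hSne
  -- constancy
  obtain ⟨η, hη⟩ : ∃ η : ℂ, ∀ y ∈ els1 N, (χ : G → ℂ) y = η := by
    by_cases hP : MemLocalIdeal M (omega (χ : G → ℂ) (conjInd S))
    · refine ⟨-sum1 S χ, fun y hy => ?_⟩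
      obtain ⟨hyN, hy1⟩ := mem_els1.1 hy
      obtain ⟨k, hk⟩ := hNp ⟨y, hyN⟩
      obtain ⟨j, -, hj⟩ := (Nat.dvd_prime_pow hq).1
        (orderOf_dvd_of_pow_eq_one (show y ^ q ^ k = 1 from congrArg Subtype.val hk))
      have h := (section_dichotomy hM hsH hSn hmove hp χ hj (hcy y hyN hy1)
        fun s hs => hsy s hs y hyN).1 hP
      rw [sum_els, mul_one, sum_congr rfl fun s hs => (congrArg (χ : G → ℂ)
        (hsy s (mem_els1.1 hs).1 y hyN).eq.symm).trans (hval s hs y hyN)] at h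
      exact eq_neg_of_add_eq_zero_left h
    · refine ⟨(χ : G → ℂ) s₀, fun y hy => ?_⟩
      obtain ⟨hyN, hy1⟩ := mem_els1.1 hy
      obtain ⟨k, hk⟩ := hNp ⟨y, hyN⟩
      obtain ⟨j, -, hj⟩ := (Nat.dvd_prime_pow hq).1
        (orderOf_dvd_of_pow_eq_one (show y ^ q ^ k = 1 from congrArg Subtype.val hk))
      rw [← (section_dichotomy hM hsH hSn hmove hp χ hj (hcy y hyN hy1)
        fun s hs => hsy s hs y hyN).2 hP s₀ (mem_els1.1 hs₀).1, ← (hsy s₀ (mem_els1.1 hs₀).1 y hyN).eq]
      exact hval s₀ hs₀ y hyN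
  -- the fixed points of `N`
  obtain ⟨a₁, ha₁⟩ := exists_sum_els χ N
  have hN1 : ((els1 N).card : ℂ) = (Nat.card N : ℂ) - 1 := by
    rw [← card_els1 N]; push_cast; ring
  rw [sum_els, sum_congr rfl hη, sum_const, nsmul_eq_mul, deg_eq, hN1] at ha₁
  -- a nontrivial linear character
  obtain ⟨y₀, hy₀⟩ := els1_nonempty hne
  have hcomm : ∀ a b : N, a * b = b * a := fun a b => Subtype.ext (hNab a a.2 b b.2)
  obtain ⟨lam, hlam⟩ := exists_hom_ne_one (G := N) (g := ⟨y₀, (mem_els1.1 hy₀).1⟩) (by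
    intro h
    have hbot : commutator N = ⊥ := by
      rw [commutator_def, Subgroup.commutator_eq_bot_iff_le_centralizer]
      exact fun a _ => Subgroup.mem_centralizer_iff.2 fun b _ => hcomm b a
    rw [hbot, Subgroup.mem_bot] at h
    exact (mem_els1.1 hy₀).2 (congrArg Subtype.val h))
  let f : N × S →* G := (N.subtype).noncommCoprod S.subtype fun a b => (hsy b b.2 a a.2).symm
  haveI : Fintype N := Fintype.ofFinite _
  haveI : Fintype S := Fintype.ofFinite _
  obtain ⟨n, hn⟩ := IsCharacter.exists_classInner_eq_natCast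
    (IsCharacter.comp (isCharacter_irr χ) f) (isIrrCharacter_ofHom (lam.comp (MonoidHom.fst N S)))
  have hlsum : ∑ a : N, conj ((lam a : ℂˣ) : ℂ) = 0 := by
    have hne' : ((lam ⟨y₀, (mem_els1.1 hy₀).1⟩ : ℂˣ) : ℂ) ≠ 1 := fun h => hlam (Units.ext h)
    rw [← map_sum, map_eq_zero]
    have e : ((lam ⟨y₀, (mem_els1.1 hy₀).1⟩ : ℂˣ) : ℂ) * ∑ a : N, ((lam a : ℂˣ) : ℂ) =
        ∑ a : N, ((lam a : ℂˣ) : ℂ) := by
      rw [mul_sum]
      exact Fintype.sum_equiv (Equiv.mulLeft ⟨y₀, (mem_els1.1 hy₀).1⟩) _ _ fun a => by simp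
    by_contra h0
    exact hne' (mul_right_cancel₀ h0 (by rw [one_mul]; exact e))
  have hrow : ∀ a : N, ∑ b : S, (χ : G → ℂ) ((a : G) * b) =
      sum1 S χ + η + if a = 1 then (deg χ : ℂ) - η else 0 := by
    intro a
    rw [show ∑ b : S, (χ : G → ℂ) ((a : G) * b) = ∑ s ∈ els S, (χ : G → ℂ) ((a : G) * s) from
      (sum_subtype (els S) (fun x => mem_els) fun s => (χ : G → ℂ) ((a : G) * s)).symm,
      sum_els, mul_one, sum_congr rfl fun s hs => (congrArg (χ : G → ℂ)
        (hsy s (mem_els1.1 hs).1 a a.2).eq.symm).trans (hval s hs a a.2)]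
    split_ifs with h
    · subst h
      rw [OneMemClass.coe_one, deg_eq, sum1]; ring
    · rw [hη a (mem_els1.2 ⟨a.2, fun e => h (Subtype.ext e)⟩), sum1]; ring
  have hdiff : (deg χ : ℂ) - η = (Nat.card N : ℂ) * (Nat.card S : ℂ) * n := by
    rw [← hn, classInner, ← mul_assoc, Nat.card_prod, Nat.cast_mul, mul_inv_cancel₀
      (mul_ne_zero (Nat.cast_ne_zero.2 Nat.card_pos.ne') (Nat.cast_ne_zero.2 Nat.card_pos.ne')),
      one_mul, Fintype.sum_prod_type]
    show _ = ∑ a : N, ∑ b : S, (χ : G → ℂ) ((a : G) * b) * conj ((lam a : ℂˣ) : ℂ)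
    simp only [← sum_mul, hrow, add_mul, sum_add_distrib, ← mul_sum, hlsum, mul_zero, zero_add,
      ite_mul, zero_mul, sum_ite_eq', mem_univ, if_true, map_one, Units.val_one, mul_one]
  have hn0 : n ≠ 0 := by
    intro h0
    rw [h0, Nat.cast_zero, mul_zero, sub_eq_zero] at hdiff
    obtain ⟨m, ρ, hρ, hρχ⟩ := χ.2
    have hdeg : (deg χ : ℂ) = (Module.finrank ℂ (Fin m → ℂ) : ℂ) := by
      rw [← deg_eq, ← hρχ, Representation.char_one]
    have hR : MonoidHom.ker ρ = ⊤ := hker _ inferInstance fun y hy => by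
      rw [MonoidHom.mem_ker]
      by_cases hy1 : y = 1
      · rw [hy1, map_one]
      · refine (character_eq_iff ρ y).1 ?_
        rw [show ρ.character y = (χ : G → ℂ) y from congrFun hρχ y,
          hη y (mem_els1.2 ⟨hy, hy1⟩), ← hdiff, hdeg]
    have hconst : ∀ g : G, (χ : G → ℂ) g = (deg χ : ℂ) := fun g => by
      rw [hdeg, ← hρχ]
      exact (character_eq_iff ρ g).2 (MonoidHom.mem_ker.1 (hR ▸ Subgroup.mem_top g))
    have hself := IsIrrCharacter.classInner_self χ.2
    rw [classInner] at hself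
    simp only [hconst, map_natCast, sum_const, nsmul_eq_mul, card_univ] at hself
    rw [← Nat.card_eq_fintype_card, ← mul_assoc,
      inv_mul_cancel₀ (Nat.cast_ne_zero.2 Nat.card_pos.ne'), one_mul] at hself
    have hd : deg χ = 1 := by
      have : deg χ * deg χ = 1 := by exact_mod_cast hself
      exact Nat.eq_one_of_mul_eq_one_right this
    exact hχ1 (Subtype.ext (funext fun g => by rw [hconst, hd]; simp))
  have hC : (Nat.card N : ℂ) * ((deg χ : ℂ)) =
      (Nat.card N : ℂ) * a₁ + ((Nat.card N : ℂ) - 1) * ((Nat.card N : ℂ) * (Nat.card S : ℂ) * n) := by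
    rw [← hdiff, ← ha₁]; ring
  obtain ⟨N', hN'⟩ : ∃ N', Nat.card N = N' + 1 := ⟨_, (Nat.succ_pred Nat.card_pos.ne').symm⟩
  rw [hN'] at hC ⊢
  have hC' : ((N' + 1 : ℕ) : ℂ) * (deg χ : ℂ) =
      (((N' + 1) * (a₁ + N' * (Nat.card S * n)) : ℕ) : ℂ) := by
    rw [hC]; push_cast; ring
  have hnat : deg χ = a₁ + N' * (Nat.card S * n) :=
    Nat.eq_of_mul_eq_mul_left (Nat.succ_pos N') (by exact_mod_cast hC')
  rw [hnat, Nat.add_sub_cancel]
  exact le_trans (Nat.mul_le_mul_left _ (Nat.le_mul_of_pos_right _ (Nat.pos_of_ne_zero hn0)))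
    (Nat.le_add_left _ _)

end CfsgLib.Bender.CharUniform
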