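import Cfsg.Agent.Bender.CharPart

/-!
# The weight inequality

An element `g` of odd order outside `J` centralizes the involution `t`; no product of two
involutions has the form `s * g * j`, so the averages over `s ∈ C_S(g)` and `j ∈ J` of the
characters at these elements are orthogonal to the weights `χ(t) ^ 2 / χ(1)` on the principal
2-block.
-/

set_option autoImplicit false
set_option linter.unusedSectionVars false
set_option linter.style.haveILetI false

namespace CfsgLib.Bender.CharWeight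

open Cfsg Finset CfsgLib.Block CfsgLib.Block.Chr CfsgLib.Char CfsgLib.Bender.CharPart
open scoped ComplexConjugate

universe u

variable {G : Type u} [Group G]

/-- The data of the weight inequality. -/
structure Data (H S J : Subgroup G) (t g : G) : Prop where
  two : IsPGroup 2 S
  le : S ≤ H
  move : ∀ c s : G, s ∈ S → s ≠ 1 → c * s * c⁻¹ ∈ H → c ∈ H
  mem_t : t ∈ S
  ord_t : orderOf t = 2
  invol : ∀ i ∈ H, orderOf i = 2 → i ∈ S
  odd : Odd (Nat.card J)
  jle : J ≤ H
  jnorm : ∀ h ∈ H, ∀ j ∈ J, h * j * h⁻¹ ∈ J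
  coreTwo : ∀ s ∈ S, s ≠ 1 → centralizerPPrimeCore 2 s = J
  selfCent : ∀ s ∈ S, s ≠ 1 → CfsgLib.PConstrained.SelfCent 2
    (Subgroup.centralizer ({s} : Set G) ⧸ pPrimeCore 2 (Subgroup.centralizer ({s} : Set G)))
  g_mem : g ∈ H
  g_comm : Commute g t
  g_odd : Odd (orderOf g)
  g_not : g ∉ J

/-- A quotient by the core of order prime to `p` is self-centralizing as soon as some normal
`p`-subgroup is its own centralizer modulo that core. -/
theorem selfCent_of {C : Type u} [Group C] [Finite C] {p : ℕ} [Fact p.Prime] (P : Subgroup C)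
    [P.Normal] (hP : IsPGroup p P)
    (h : ∀ c : C, (∀ x ∈ P, c * x * c⁻¹ * x⁻¹ ∈ pPrimeCore p C) →
      ∃ a ∈ P, ∃ k ∈ pPrimeCore p C, c = a * k) :
    CfsgLib.PConstrained.SelfCent p (C ⧸ pPrimeCore p C) := by
  set π := QuotientGroup.mk' (pPrimeCore p C)
  have hle : P.map π ≤ Cfsg.pCore p (C ⧸ pPrimeCore p C) :=
    CfsgLib.Solvable.le_pCore p (Subgroup.Normal.map ‹_› π (QuotientGroup.mk'_surjective _))
      (hP.map π)
  intro z hz
  obtain ⟨c, rfl⟩ := QuotientGroup.mk'_surjective (pPrimeCore p C) z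
  have hc : ∀ x ∈ P, c * x * c⁻¹ * x⁻¹ ∈ pPrimeCore p C := fun x hx => by
    rw [← QuotientGroup.eq_one_iff (N := pPrimeCore p C)]
    have e := Subgroup.mem_centralizer_iff.1 hz (π x) (hle ⟨x, hx, rfl⟩)
    show π (c * x * c⁻¹ * x⁻¹) = 1
    rw [map_mul, map_mul, map_mul, map_inv, map_inv, ← e]
    simp only [π]
    group
  obtain ⟨a, ha, k, hk, rfl⟩ := h c hc
  refine hle ⟨a, ha, ?_⟩
  rw [map_mul, show π k = 1 from (QuotientGroup.eq_one_iff k).2 hk, mul_one]

/-- Outside the principal block a character sums to zero over a coset of the core of the section,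
with a regular translate. -/
theorem sum_translate_eq_zero [Fintype G] {M : Ideal AlgInt} [M.IsPrime] {p : ℕ}
    (hM : IsPModular p M) {x : G} {k : ℕ} (hx : orderOf x = p ^ k)
    [Fintype (Subgroup.centralizer ({x} : Set G))]
    (hsc : CfsgLib.PConstrained.SelfCent p
      (Subgroup.centralizer ({x} : Set G) ⧸ pPrimeCore p (Subgroup.centralizer ({x} : Set G))))
    {χ : IrrCharacter G} (hχ : χ ∉ principalBlock M G)
    [DecidablePred (· ∈ pPrimeCore p (Subgroup.centralizer ({x} : Set G)))]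
    (m : Subgroup.centralizer ({x} : Set G)) (hm : ¬ p ∣ orderOf m) :
    ∑ w ∈ univ.filter (· ∈ pPrimeCore p (Subgroup.centralizer ({x} : Set G))),
      (χ : G → ℂ) (x * ((w * m : Subgroup.centralizer ({x} : Set G)) : G)) = 0 := by
  classical
  haveI : Fact p.Prime := ⟨hM.1⟩
  set θ : (Subgroup.centralizer ({x} : Set G)) → ℂ := fun c => (χ : G → ℂ) (x * (c : G))
  letI := irrFintype (G := (Subgroup.centralizer ({x} : Set G)))
  haveI : (pPrimeCore p (Subgroup.centralizer ({x} : Set G))).Normal := CfsgLib.Solvable.pPrimeCore_normal p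
  obtain ⟨hmem, -⟩ := principalBlock_of_constrained hM hsc
  have hb0 := isPBlock_principalBlock (M := M) (G := (Subgroup.centralizer ({x} : Set G)))
  have hzero := blockPart_eq_zero_of_not_induced hM hx (isPBlock_blockOf χ) (mem_blockOf_self χ) hb0
    (fun hind => hχ (by
      rw [induced_unique ((third_main hM (centralizer_induced hM hx hb0)).2 rfl) hind]
      exact mem_blockOf_self χ)) m hm
  rw [blockPart_eq_sum_inner] at hzero
  have key : ∀ ξ : IrrCharacter (Subgroup.centralizer ({x} : Set G)),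
      ∑ w ∈ univ.filter (· ∈ pPrimeCore p (Subgroup.centralizer ({x} : Set G))), (ξ : (Subgroup.centralizer ({x} : Set G)) → ℂ) (w * m) =
        if ξ ∈ principalBlock M (Subgroup.centralizer ({x} : Set G)) then ((univ.filter (· ∈ pPrimeCore p (Subgroup.centralizer ({x} : Set G)))).card : ℂ) * (ξ : (Subgroup.centralizer ({x} : Set G)) → ℂ) m
        else 0 := by
    intro ξ
    let a : (Subgroup.centralizer ({x} : Set G)) → ℂ := fun c => if c ∈ pPrimeCore p (Subgroup.centralizer ({x} : Set G)) then 1 else 0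
    have ha : IsClassFunction (Subgroup.centralizer ({x} : Set G)) a := fun c z => by
      refine if_congr ?_ rfl rfl
      exact ⟨fun h => by simpa [mul_assoc] using Subgroup.Normal.conj_mem ‹_› _ h z⁻¹,
        fun h => Subgroup.Normal.conj_mem ‹_› _ h z⟩
    have h := class_mul ξ ha (fun c => if c = m then 1 else 0)
    simp only [a, mul_ite, mul_one, mul_zero, ite_mul, one_mul, zero_mul, sum_ite_eq', mem_univ,
      if_true] at h
    rw [← sum_filter, ← sum_filter] at h
    refine mul_right_cancel₀ (irr_one_ne_zero ξ) (h.trans ?_)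
    split_ifs with hξ
    · rw [sum_congr rfl fun w hw => (hmem ξ).1 hξ w (mem_filter.1 hw).2, sum_const, nsmul_eq_mul]
      ring
    · rcases sum_eq_zero_or_ker ξ (pPrimeCore p (Subgroup.centralizer ({x} : Set G))) with h0 | h0
      · rw [h0]; ring
      · exact absurd ((hmem ξ).2 h0) hξ
  calc ∑ w ∈ univ.filter (· ∈ pPrimeCore p (Subgroup.centralizer ({x} : Set G))), θ (w * m)
      = ∑ ξ : IrrCharacter (Subgroup.centralizer ({x} : Set G)), classInner θ (ξ : (Subgroup.centralizer ({x} : Set G)) → ℂ) *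
          ∑ w ∈ univ.filter (· ∈ pPrimeCore p (Subgroup.centralizer ({x} : Set G))), (ξ : (Subgroup.centralizer ({x} : Set G)) → ℂ) (w * m) := by
        rw [sum_congr rfl fun w _ => classFun_expand (isClassFunction_shift χ x) (w * m), sum_comm]
        exact sum_congr rfl fun ξ _ => (mul_sum _ _ _).symm
    _ = ((univ.filter (· ∈ pPrimeCore p (Subgroup.centralizer ({x} : Set G)))).card : ℂ) *
          ∑ ξ ∈ univ.filter (· ∈ principalBlock M (Subgroup.centralizer ({x} : Set G))), classInner θ (ξ : (Subgroup.centralizer ({x} : Set G)) → ℂ) * (ξ : (Subgroup.centralizer ({x} : Set G)) → ℂ) m := by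
        rw [mul_sum, sum_filter]
        refine sum_congr rfl fun ξ _ => ?_
        rw [key]
        split_ifs <;> ring
    _ = 0 := by rw [hzero, mul_zero]

variable [Fintype G]

open Classical in
/-- The nontrivial elements of `S` centralizing `g`. -/
noncomputable def fixed1 (S : Subgroup G) (g : G) : Finset G := (els1 S).filter (Commute g)

namespace Data

variable {H S J : Subgroup G} {t g : G} (D : Data H S J t g)

include D

theorem mem_fixed1_t : t ∈ fixed1 S g := by
  classical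
  exact mem_filter.2 ⟨mem_els1.2 ⟨D.mem_t, fun h => by simpa [h] using D.ord_t⟩, D.g_comm⟩

theorem centralizer_le {s : G} (hs : s ∈ els1 S) : Subgroup.centralizer ({s} : Set G) ≤ H :=
  fun c hc => D.move c s (mem_els1.1 hs).1 (mem_els1.1 hs).2 (by
    rw [Subgroup.mem_centralizer_singleton_iff.1 hc, mul_inv_cancel_right]
    exact D.le (mem_els1.1 hs).1)

theorem orderOf_two {s : G} (hs : s ∈ S) : ∃ k, orderOf s = 2 ^ k := by
  obtain ⟨k, hk⟩ := D.two ⟨s, hs⟩
  obtain ⟨j, -, hj⟩ := (Nat.dvd_prime_pow Nat.prime_two).1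
    (orderOf_dvd_of_pow_eq_one (show s ^ 2 ^ k = 1 from congrArg Subtype.val hk))
  exact ⟨j, hj⟩

theorem commute {s j : G} (hs : s ∈ els1 S) (hj : j ∈ J) : Commute s j := by
  rw [← D.coreTwo s (mem_els1.1 hs).1 (mem_els1.1 hs).2] at hj
  obtain ⟨w, -, rfl⟩ := Subgroup.mem_map.1 hj
  exact (Subgroup.mem_centralizer_singleton_iff.1 w.2).symm

theorem odd_mul {j : G} (hj : j ∈ J) : Odd (orderOf (g * j)) := by
  have hconj : ∀ (n : ℕ), ∀ z ∈ J, g ^ n * z * (g ^ n)⁻¹ ∈ J := fun n z hz =>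
    D.jnorm _ (pow_mem D.g_mem n) z hz
  have hpow : ∀ n : ℕ, ∃ z ∈ J, (g * j) ^ n = g ^ n * z := by
    intro n
    induction n with
    | zero => exact ⟨1, one_mem _, by simp⟩
    | succ n ih =>
      obtain ⟨z, hz, e⟩ := ih
      refine ⟨g⁻¹ * z * g * j, mul_mem (by simpa using D.jnorm _ (H.inv_mem D.g_mem) z hz) hj, ?_⟩
      rw [pow_succ, e, pow_succ]
      group
  obtain ⟨z, hz, e⟩ := hpow (orderOf g)
  rw [pow_orderOf_eq_one, one_mul] at e
  refine (D.g_odd.mul (D.odd.of_dvd_nat (Subgroup.orderOf_dvd_natCard J hz))).of_dvd_nat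
    (orderOf_dvd_of_pow_eq_one ?_)
  rw [pow_mul, e, pow_orderOf_eq_one]

/-- The factors of `s * (g * j)` are powers of it. -/
theorem parts {s j : G} (hs : s ∈ fixed1 S g) (hj : j ∈ J) :
    Commute s (g * j) ∧ ∃ a b : ℕ, (s * (g * j)) ^ a = s ∧ (s * (g * j)) ^ b = g * j ∧
      s ^ b = 1 := by
  classical
  obtain ⟨hs1, hsg⟩ := mem_filter.1 hs
  have hc : Commute s (g * j) := hsg.symm.mul_right (D.commute hs1 hj)
  obtain ⟨k, hk⟩ := D.orderOf_two (mem_els1.1 hs1).1
  have hco : Nat.Coprime (orderOf s) (orderOf (g * j)) := by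
    rw [hk]; exact (Nat.coprime_two_left.2 (D.odd_mul hj)).pow_left k
  refine ⟨hc, ?_⟩
  obtain ⟨a, a1, a2⟩ := Nat.chineseRemainder hco 1 0
  obtain ⟨b, b1, b2⟩ := Nat.chineseRemainder hco 0 1
  have hb : s ^ b = 1 := orderOf_dvd_iff_pow_eq_one.1 (Nat.modEq_zero_iff_dvd.1 b1)
  refine ⟨a, b, ?_, ?_, hb⟩
  · rw [hc.mul_pow, orderOf_dvd_iff_pow_eq_one.1 (Nat.modEq_zero_iff_dvd.1 a2), mul_one]
    conv_rhs => rw [← pow_one s]
    exact pow_eq_pow_iff_modEq.2 a1
  · rw [hc.mul_pow, hb, one_mul]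
    conv_rhs => rw [← pow_one (g * j)]
    exact pow_eq_pow_iff_modEq.2 b2

/-- A conjugation inside the section is by an element of `H` centralizing `g` modulo `J`. -/
theorem of_conj {s s' j j' c : G} (hs : s ∈ fixed1 S g) (hs' : s' ∈ fixed1 S g) (hj : j ∈ J)
    (hj' : j' ∈ J) (hc : c * (s * (g * j)) * c⁻¹ = s' * (g * j')) :
    c ∈ H ∧ c * g * c⁻¹ * g⁻¹ ∈ J := by
  classical
  obtain ⟨h, a, b, ha, hb, hsb⟩ := D.parts hs hj
  obtain ⟨h', a', b', ha', hb', hsb'⟩ := D.parts hs' hj'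
  have hsS := mem_els1.1 (mem_filter.1 hs).1
  have hcH : c ∈ H := by
    refine D.move c s hsS.1 hsS.2 ?_
    rw [← ha, ← conj_pow, hc]
    exact pow_mem (H.mul_mem (D.le (mem_els1.1 (mem_filter.1 hs').1).1)
      (H.mul_mem D.g_mem (D.jle hj'))) _
  refine ⟨hcH, ?_⟩
  have hord : orderOf s' = orderOf s := by
    have e : c * s * c⁻¹ = (s' * (g * j')) ^ a := by rw [← hc, conj_pow, ha]
    have e' : c * (s * (g * j)) ^ a' * c⁻¹ = s' := by rw [← conj_pow, hc, ha']
    have d1 : orderOf s' ∣ orderOf s * orderOf (g * j) := by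
      rw [← e', ← MulAut.conj_apply, MulEquiv.orderOf_eq]
      exact (orderOf_pow_dvd _).trans (h.orderOf_mul_dvd_mul_orderOf)
    have d2 : orderOf s ∣ orderOf s' * orderOf (g * j') := by
      rw [← MulEquiv.orderOf_eq (MulAut.conj c) s, MulAut.conj_apply, e]
      exact (orderOf_pow_dvd _).trans (h'.orderOf_mul_dvd_mul_orderOf)
    obtain ⟨k, hk⟩ := D.orderOf_two hsS.1
    obtain ⟨k', hk'⟩ := D.orderOf_two (mem_els1.1 (mem_filter.1 hs').1).1
    refine Nat.dvd_antisymm (Nat.Coprime.dvd_of_dvd_mul_right ?_ d1)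
      (Nat.Coprime.dvd_of_dvd_mul_right ?_ d2)
    · rw [hk']; exact (Nat.coprime_two_left.2 (D.odd_mul hj)).pow_left k'
    · rw [hk]; exact (Nat.coprime_two_left.2 (D.odd_mul hj')).pow_left k
  have hodd : c * (g * j) * c⁻¹ = g * j' := by
    have e : c * (g * j) * c⁻¹ = s' ^ b * (g * j') ^ b := by
      rw [← h'.mul_pow, ← hc, conj_pow, hb]
    have hs'b : s' ^ b = 1 := orderOf_dvd_iff_pow_eq_one.1
      (hord ▸ orderOf_dvd_iff_pow_eq_one.2 hsb)
    rw [hs'b, one_mul] at e
    have hbmod : (g * j) ^ b = g * j := by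
      have := hb
      rwa [h.mul_pow, hsb, one_mul] at this
    have hord' : orderOf (g * j') ∣ orderOf (g * j) := by
      have e2 : c * (s * (g * j)) ^ b' * c⁻¹ = g * j' := by rw [← conj_pow, hc, hb']
      rw [← e2, ← MulAut.conj_apply, MulEquiv.orderOf_eq]
      refine orderOf_dvd_of_pow_eq_one ?_
      have hsb2 : s ^ b' = 1 := by
        rw [← orderOf_dvd_iff_pow_eq_one, ← hord, orderOf_dvd_iff_pow_eq_one]
        exact hsb'
      rw [← pow_mul, h.mul_pow, pow_mul s, hsb2, one_pow, one_mul, mul_comm b', pow_mul,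
        pow_orderOf_eq_one, one_pow]
    rw [e]
    have hmod : b ≡ 1 [MOD orderOf (g * j')] := by
      refine Nat.ModEq.of_dvd hord' ?_
      rw [← pow_eq_pow_iff_modEq, pow_one, hbmod]
    rw [pow_eq_pow_iff_modEq.2 hmod, pow_one]
  have e2 : c * g * c⁻¹ * g⁻¹ = g * (j' * (c * j⁻¹ * c⁻¹)) * g⁻¹ := by
    calc c * g * c⁻¹ * g⁻¹ = c * (g * j) * c⁻¹ * (c * j⁻¹ * c⁻¹) * g⁻¹ := by group
      _ = g * j' * (c * j⁻¹ * c⁻¹) * g⁻¹ := by rw [hodd]
      _ = g * (j' * (c * j⁻¹ * c⁻¹)) * g⁻¹ := by group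
  rw [e2]
  exact D.jnorm g D.g_mem _ (mul_mem hj' (D.jnorm c hcH _ (inv_mem hj)))

section Two

variable {M : Ideal AlgInt} [M.IsPrime] (hM : IsPModular 2 M)
include hM

/-- Outside the principal 2-block the sum over `J` on a section vanishes. -/
theorem sum_core_zero {χ : IrrCharacter G} (hχ : χ ∉ principalBlock M G) {s m : G}
    (hs : s ∈ els1 S) (hc : Commute s m) (hm : Odd (orderOf m))
    (hnorm : ∀ j ∈ J, m * j * m⁻¹ ∈ J) :
    ∑ j ∈ els J, (χ : G → ℂ) (s * (m * j)) = 0 := by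
  classical
  obtain ⟨hsS, hs1⟩ := mem_els1.1 hs
  obtain ⟨k, hk⟩ := D.orderOf_two hsS
  set C := Subgroup.centralizer ({s} : Set G)
  haveI : Fintype C := Fintype.ofFinite _
  have hmC : m ∈ C := Subgroup.mem_centralizer_singleton_iff.2 hc.eq.symm
  have h := sum_translate_eq_zero hM hk (D.selfCent s hsS hs1) hχ ⟨m, hmC⟩ (by
    rw [← Subgroup.orderOf_coe, ← even_iff_two_dvd]; exact Nat.not_even_iff_odd.2 hm)
  rw [← h]
  have hmem : ∀ z : G, z ∈ J ↔ ∃ w : C, w ∈ pPrimeCore 2 C ∧ (w : G) = z := fun z => by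
    rw [← D.coreTwo s hsS hs1]; exact Subgroup.mem_map
  refine sum_bij' (fun j hj => (⟨m * j * m⁻¹, ?_⟩ : C)) (fun w _ => m⁻¹ * (w : G) * m) ?_ ?_ ?_ ?_ ?_
  · obtain ⟨w, -, e⟩ := (hmem _).1 (hnorm j (mem_els.1 hj))
    exact e ▸ w.2
  · intro j hj
    obtain ⟨w, hw, e⟩ := (hmem _).1 (hnorm j (mem_els.1 hj))
    refine mem_filter.2 ⟨mem_univ _, ?_⟩
    convert hw using 1
    exact Subtype.ext e.symm
  · intro w hw
    refine mem_els.2 ((hmem _).2 ⟨⟨m, hmC⟩⁻¹ * w * ⟨m, hmC⟩, ?_, rfl⟩)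
    simpa using (CfsgLib.Solvable.pPrimeCore_normal 2).conj_mem w (mem_filter.1 hw).2
      (⟨m, hmC⟩⁻¹ : C)
  · intro j _; show m⁻¹ * (m * j * m⁻¹) * m = j; group
  · intro w _; exact Subtype.ext (by show m * (m⁻¹ * (w : G) * m) * m⁻¹ = w; group)
  · intro j _
    refine congrArg (χ : G → ℂ) ?_
    show s * (m * j) = s * (m * j * m⁻¹ * m)
    group

/-- The weight. -/
theorem sum_val_sq [Fintype (IrrCharacter G)] [DecidablePred (· ∈ principalBlock M G)] :
    (Nat.card J : ℝ) * ∑ χ ∈ univ.filter (· ∈ principalBlock M G), val t χ ^ 2 =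
      (Nat.card (Subgroup.centralizer ({t} : Set G)) : ℝ) := by
  classical
  have ht : t ∈ els1 S := (mem_filter.1 D.mem_fixed1_t).1
  obtain ⟨htS, ht1⟩ := mem_els1.1 ht
  have hreal : ∀ χ : IrrCharacter G, (χ : G → ℂ) t = (val t χ : ℂ) := fun χ => by
    refine (Complex.conj_eq_iff_re.1 ?_).symm
    rw [conj_irr]
    exact congrArg _ (inv_eq_of_mul_eq_one_right (by rw [← pow_two, ← D.ord_t, pow_orderOf_eq_one]))
  have h : ∑ j ∈ els J, ∑ χ : IrrCharacter G, (χ : G → ℂ) (t * j) * conj ((χ : G → ℂ) t) =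
      (Nat.card (Subgroup.centralizer ({t} : Set G)) : ℂ) := by
    simp only [column_orth]
    rw [sum_els, mul_one, if_pos (IsConj.refl t), add_eq_left]
    refine sum_eq_zero fun j hj => if_neg fun hcj => (mem_els1.1 hj).2 ?_
    obtain ⟨c, hcc⟩ := isConj_iff.1 hcj
    have hj2 : j ^ 2 = 1 := by
      have e : (t * j) ^ 2 = 1 := by
        refine (MulAut.conj c).injective ?_
        rw [map_pow, map_one, MulAut.conj_apply, hcc, ← D.ord_t, pow_orderOf_eq_one]
      rwa [(D.commute ht (mem_els1.1 hj).1).mul_pow, ← D.ord_t, pow_orderOf_eq_one, D.ord_t,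
        one_mul] at e
    rw [← orderOf_eq_one_iff]
    exact Nat.eq_one_of_dvd_coprimes (Nat.coprime_two_right.2 (D.odd.of_dvd_nat
      (Subgroup.orderOf_dvd_natCard J (mem_els1.1 hj).1))) dvd_rfl (orderOf_dvd_of_pow_eq_one hj2)
  rw [sum_comm] at h
  apply Complex.ofReal_injective
  push_cast
  rw [← h, mul_sum, sum_filter]
  refine sum_congr rfl fun χ _ => ?_
  rw [← sum_mul]
  obtain ⟨k, hk⟩ := D.orderOf_two htS
  split_ifs with hχ
  · rw [sum_congr rfl fun j hj => principal_apply_mul_core hM hk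
      (by rw [D.coreTwo t htS ht1]; exact mem_els.1 hj) hχ, sum_const, nsmul_eq_mul, card_els,
      hreal, Complex.conj_ofReal]
    ring
  · have h1 := D.sum_core_zero hM hχ ht (Commute.one_right t) (by simp) (fun j hj => by simpa using hj)
    simp only [one_mul] at h1
    rw [h1, zero_mul]

/-- The weight inequality. -/
theorem ineq_aux [Fintype (IrrCharacter G)] [DecidablePred (· ∈ principalBlock M G)]
    (Cg : Subgroup G) (hCg : ∀ c ∈ H, c * g * c⁻¹ * g⁻¹ ∈ J → c ∈ Cg) {α xmin : ℝ} (hα0 : 0 ≤ α)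
    (hα : (Nat.card Cg : ℝ) / (((fixed1 S g).card : ℝ) * Nat.card J) ≤ α ^ 2) (hx : 0 < xmin)
    (hdeg : ∀ χ : IrrCharacter G, χ ∈ principalBlock M G → χ ≠ oneIrr G →
      xmin ≤ (deg χ : ℝ)) :
    1 ≤ α * ((Nat.card (Subgroup.centralizer ({t} : Set G)) : ℝ) / Nat.card J) / xmin := by
  classical
  set P := fixed1 S g ×ˢ els J with hP
  set el : G × G → G := fun w => w.1 * (g * w.2) with hel
  set W : IrrCharacter G → ℂ := fun χ => ∑ w ∈ P, (χ : G → ℂ) (el w) with hW
  set P0 := univ.filter (· ∈ principalBlock M G) with hP0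
  set d : ℝ := ((fixed1 S g).card : ℝ) * Nat.card J with hd
  have hcardP : (P.card : ℝ) = d := by rw [hP, card_product, hd, ← card_els]; push_cast; rfl
  have hd0 : 0 < d := mul_pos (Nat.cast_pos.2 (card_pos.2 ⟨t, D.mem_fixed1_t⟩))
    (Nat.cast_pos.2 Nat.card_pos)
  have hW0 : ∀ χ ∉ P0, W χ = 0 := by
    intro χ hχ
    simp only [hW, hP, sum_product, hel]
    refine sum_eq_zero fun s hs => ?_
    exact D.sum_core_zero hM (by simpa [hP0] using hχ) (mem_filter.1 hs).1
      (mem_filter.1 hs).2.symm D.g_odd (D.jnorm g D.g_mem)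
  -- orthogonality
  have hconj : ∀ χ : IrrCharacter G, conj ((χ : G → ℂ) t) = (χ : G → ℂ) t := fun χ => by
    rw [conj_irr]
    exact congrArg _ (inv_eq_of_mul_eq_one_right (by rw [← pow_two, ← D.ord_t, pow_orderOf_eq_one]))
  have hcount : ∀ w ∈ P, ∑ χ : IrrCharacter G,
      (χ : G → ℂ) t ^ 2 / (χ : G → ℂ) 1 * (χ : G → ℂ) (el w) = 0 := by
    rintro ⟨s, j⟩ hw
    obtain ⟨hs, hj⟩ := mem_product.1 hw
    dsimp only at hs hj
    have hjJ := mem_els.1 hj
    obtain ⟨hc, a, b, ha, hb, -⟩ := D.parts hs hjJ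
    set z := s * (g * j)
    have hempty : IsEmpty {p : G × G // IsConj t p.1 ∧ IsConj t p.2 ∧ p.1 * p.2 = z⁻¹} := by
      refine ⟨fun p => ?_⟩
      obtain ⟨⟨i, i'⟩, h1, h2, h3⟩ := p
      simp only at h1 h2 h3
      have hord : ∀ {i : G}, IsConj t i → orderOf i = 2 := fun h => by
        obtain ⟨c, rfl⟩ := isConj_iff.1 h
        rw [← MulAut.conj_apply, MulEquiv.orderOf_eq]; exact D.ord_t
      have hii : ∀ {i : G}, IsConj t i → i * i = 1 := fun h => by
        rw [← pow_two, ← hord h, pow_orderOf_eq_one]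
      have hz : z = i' * i := by
        rw [← inv_inv z, ← h3, mul_inv_rev, inv_eq_of_mul_eq_one_right (hii h1),
          inv_eq_of_mul_eq_one_right (hii h2)]
      have hiH : i ∈ H := by
        refine D.move i s (mem_els1.1 (mem_filter.1 hs).1).1 (mem_els1.1 (mem_filter.1 hs).1).2 ?_
        have e : i * z * i⁻¹ = z⁻¹ := by
          rw [← h3, hz, inv_eq_of_mul_eq_one_right (hii h1)]
          calc i * (i' * i) * i = i * i' * (i * i) := by group
            _ = i * i' := by rw [hii h1, mul_one]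
        rw [← ha, ← conj_pow, e, inv_pow, ha]
        exact H.inv_mem (D.le (mem_els1.1 (mem_filter.1 hs).1).1)
      have hi'H : i' ∈ H := by
        rw [show i' = i * z⁻¹ by rw [← h3, ← mul_assoc, hii h1, one_mul]]
        exact H.mul_mem hiH (H.inv_mem (H.mul_mem (D.le (mem_els1.1 (mem_filter.1 hs).1).1)
          (H.mul_mem D.g_mem (D.jle hjJ))))
      have hzS : z ∈ S := hz ▸ mul_mem (D.invol _ hi'H (hord h2)) (D.invol _ hiH (hord h1))
      have hgjS : g * j ∈ S := by rw [← hb]; exact pow_mem hzS b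
      obtain ⟨k, hk⟩ := D.orderOf_two hgjS
      have h1' : g * j = 1 := orderOf_eq_one_iff.1 (Nat.eq_one_of_dvd_coprimes (a := 2 ^ k)
        ((Nat.coprime_two_left.2 (D.odd_mul hjJ)).pow_left k) hk.dvd dvd_rfl)
      exact D.g_not (by rw [eq_inv_of_mul_eq_one_left h1']; exact inv_mem hjJ)
    have h0 := card_class_products t t z⁻¹
    rw [Nat.card_of_isEmpty, Nat.cast_zero, zero_eq_mul] at h0
    have h1 := h0.resolve_left (div_ne_zero (mul_ne_zero (Nat.cast_ne_zero.2 ?_)
      (Nat.cast_ne_zero.2 ?_)) (Nat.cast_ne_zero.2 Nat.card_pos.ne'))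
    · rw [← sum_irr_eq (fun χ => χ t * χ t * conj (χ z⁻¹) / χ 1)] at h1
      rw [← h1]
      refine sum_congr rfl fun χ _ => ?_
      rw [conj_irr, inv_inv]
      ring
    all_goals
      have : Nonempty {x : G // IsConj t x} := ⟨⟨t, IsConj.refl t⟩⟩
      exact Nat.card_pos.ne'
  have horth : ∑ χ ∈ P0, (χ : G → ℂ) t ^ 2 / (χ : G → ℂ) 1 * W χ = 0 := by
    rw [sum_subset (subset_univ P0) fun χ _ hχ => by rw [hW0 χ hχ, mul_zero]]
    simp only [hW, mul_sum]
    rw [sum_comm]
    exact sum_eq_zero hcount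
  -- norm
  have hnorm : ∑ χ ∈ P0, ‖W χ‖ ^ 2 ≤ d * Nat.card Cg := by
    have h : (((∑ χ ∈ P0, ‖W χ‖ ^ 2) : ℝ) : ℂ) = ((∑ w ∈ P, ∑ w' ∈ P,
        (if IsConj (el w') (el w) then Nat.card (Subgroup.centralizer ({el w'} : Set G)) else 0) :
          ℕ) : ℂ) := by
      push_cast
      rw [sum_subset (subset_univ P0) fun χ _ hχ => by simp [hW0 χ hχ]]
      simp only [← Complex.mul_conj', hW, map_sum, mul_sum, sum_mul]
      rw [sum_comm]
      refine sum_congr rfl fun w _ => ?_
      rw [sum_comm]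
      refine sum_congr rfl fun w' _ => ?_
      rw [column_orth]
    have hle : ∑ w ∈ P, ∑ w' ∈ P,
        (if IsConj (el w') (el w) then Nat.card (Subgroup.centralizer ({el w'} : Set G)) else 0) ≤
        P.card * Nat.card Cg := by
      rw [sum_comm, ← smul_eq_mul, ← sum_const]
      refine sum_le_sum fun w' hw' => ?_
      have hinj : Set.InjOn el ↑P := by
        rintro ⟨s, j⟩ h1 ⟨s', j'⟩ h2 (e : s * (g * j) = s' * (g * j'))
        simp only [hP, coe_product, Set.mem_prod, mem_coe, mem_els] at h1 h2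
        obtain ⟨hc, a, b, ha, hb, hsb⟩ := D.parts h1.1 h1.2
        obtain ⟨hc', a', b', ha', hb', hsb'⟩ := D.parts h2.1 h2.2
        have e1 : s⁻¹ * s' = (g * j) * (g * j')⁻¹ := by
          calc s⁻¹ * s' = s⁻¹ * (s' * (g * j')) * (g * j')⁻¹ := by group
            _ = (g * j) * (g * j')⁻¹ := by rw [← e]; group
        have hJ' : (g * j) * (g * j')⁻¹ ∈ J := by
          rw [show (g * j) * (g * j')⁻¹ = g * (j * j'⁻¹) * g⁻¹ by group]
          exact D.jnorm g D.g_mem _ (mul_mem h1.2 (inv_mem h2.2))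
        have hS' : s⁻¹ * s' ∈ S := mul_mem (inv_mem (mem_els1.1 (mem_filter.1 h1.1).1).1)
          (mem_els1.1 (mem_filter.1 h2.1).1).1
        obtain ⟨k, hk⟩ := D.orderOf_two hS'
        have h1' : s⁻¹ * s' = 1 := orderOf_eq_one_iff.1 (Nat.eq_one_of_dvd_coprimes (a := 2 ^ k)
          ((Nat.coprime_two_left.2 D.odd).pow_left k) hk.dvd
          (Subgroup.orderOf_dvd_natCard J (e1 ▸ hJ')))
        obtain rfl := inv_mul_eq_one.1 h1'
        simp only [mul_left_cancel_iff] at e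
        rw [e]
      rw [← sum_filter]
      set Q := P.filter fun w => IsConj (el w') (el w)
      have hmem : ∀ w ∈ Q, ∀ c, c * el w' * c⁻¹ = el w → c ∈ Cg := by
        intro w hw c hc
        obtain ⟨hs, hj⟩ := mem_product.1 (mem_filter.1 hw).1
        obtain ⟨hs', hj'⟩ := mem_product.1 hw'
        obtain ⟨h1, h2⟩ := D.of_conj hs' hs (mem_els.1 hj') (mem_els.1 hj) hc
        exact hCg c h1 h2
      rw [← card_els Cg]
      refine le_trans ?_ (card_le_card (s := Q.biUnion fun w =>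
        univ.filter fun c => c * el w' * c⁻¹ = el w) fun c hc => ?_)
      · rw [card_biUnion]
        · refine sum_le_sum fun w hw => le_of_eq ?_
          obtain ⟨c₀, hc₀⟩ := isConj_iff.1 (mem_filter.1 hw).2
          rw [← card_els]
          refine card_nbij' (fun z => c₀ * z) (fun c => c₀⁻¹ * c) ?_ ?_ (fun _ _ => by group)
            (fun _ _ => by group)
          · intro z hz
            refine mem_filter.2 ⟨mem_univ _, ?_⟩
            calc c₀ * z * el w' * (c₀ * z)⁻¹ = c₀ * (z * el w') * z⁻¹ * c₀⁻¹ := by group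
              _ = c₀ * (el w' * z) * z⁻¹ * c₀⁻¹ := by
                rw [Subgroup.mem_centralizer_singleton_iff.1 (mem_els.1 hz)]
              _ = c₀ * el w' * c₀⁻¹ := by group
              _ = el w := hc₀
          · intro c hc
            refine mem_els.2 (Subgroup.mem_centralizer_singleton_iff.2 ?_)
            have e := (mem_filter.1 hc).2
            calc c₀⁻¹ * c * el w' = c₀⁻¹ * (c * el w' * c⁻¹) * c := by group
              _ = c₀⁻¹ * (c₀ * el w' * c₀⁻¹) * c := by rw [e, hc₀]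
              _ = el w' * (c₀⁻¹ * c) := by group
        · intro w hw w₂ hw₂ hne
          rw [Function.onFun, disjoint_left]
          intro c h1 h2
          exact hne (hinj (mem_filter.1 hw).1 (mem_filter.1 hw₂).1
            ((mem_filter.1 h1).2.symm.trans (mem_filter.1 h2).2))
      · obtain ⟨w, hw, hc⟩ := mem_biUnion.1 hc
        exact mem_els.2 (hmem w hw c (mem_filter.1 hc).2)
    rw [← hcardP]
    calc ∑ χ ∈ P0, ‖W χ‖ ^ 2 = ((∑ w ∈ P, ∑ w' ∈ P,
        (if IsConj (el w') (el w) then Nat.card (Subgroup.centralizer ({el w'} : Set G)) else 0) :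
          ℕ) : ℝ) := Complex.ofReal_injective (h.trans (Complex.ofReal_natCast _).symm)
      _ ≤ ((P.card * Nat.card Cg : ℕ) : ℝ) := by exact_mod_cast hle
      _ = (P.card : ℝ) * Nat.card Cg := by push_cast; rfl
  -- bound
  have hWle : ∀ χ ∈ P0, ‖W χ‖ ≤ d * α := by
    intro χ hχ
    have h1 : ‖W χ‖ ^ 2 ≤ d * Nat.card Cg :=
      le_trans (single_le_sum (f := fun χ => ‖W χ‖ ^ 2) (fun _ _ => sq_nonneg _) hχ) hnorm
    rw [div_le_iff₀ hd0] at hα
    refine pow_le_pow_iff_left₀ (norm_nonneg _) (mul_nonneg hd0.le hα0) two_ne_zero |>.1 ?_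
    calc ‖W χ‖ ^ 2 ≤ d * Nat.card Cg := h1
      _ ≤ d * (α ^ 2 * d) := mul_le_mul_of_nonneg_left hα hd0.le
      _ = (d * α) ^ 2 := by ring
  have hone : oneIrr G ∈ P0 := by simp [hP0, oneIrr_mem_principalBlock]
  rw [← add_sum_erase _ _ hone] at horth
  have hWone : W (oneIrr G) = (d : ℂ) := by
    simp [hW, ← hcardP]
  simp only [oneIrr_apply, one_pow, div_one, one_mul, hWone] at horth
  have hdle : d ≤ ∑ χ ∈ P0.erase (oneIrr G), val t χ ^ 2 * (d * α) / xmin := by
    have e : (d : ℂ) = -∑ χ ∈ P0.erase (oneIrr G), (χ : G → ℂ) t ^ 2 / (χ : G → ℂ) 1 * W χ :=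
      eq_neg_of_add_eq_zero_left horth
    have h2 : d = ‖(d : ℂ)‖ := by rw [Complex.norm_real, Real.norm_eq_abs, abs_of_pos hd0]
    rw [h2]
    conv_lhs => rw [e, norm_neg]
    rw [← h2]
    refine le_trans (norm_sum_le _ _) (sum_le_sum fun χ hχ => ?_)
    obtain ⟨hne, hχ0⟩ := mem_erase.1 hχ
    have hdx := hdeg χ (by simpa [hP0] using hχ0) hne
    rw [norm_mul, norm_div, norm_pow, deg_eq, Complex.norm_natCast,
      show (χ : G → ℂ) t = (val t χ : ℂ) from (Complex.conj_eq_iff_re.1 (hconj χ)).symm,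
      Complex.norm_real, Real.norm_eq_abs, sq_abs, div_mul_eq_mul_div]
    exact div_le_div₀ (mul_nonneg (sq_nonneg _) (mul_nonneg hd0.le hα0))
      (mul_le_mul_of_nonneg_left (hWle χ hχ0) (sq_nonneg _)) hx hdx
  have hT : ∑ χ ∈ P0.erase (oneIrr G), val t χ ^ 2 ≤
      (Nat.card (Subgroup.centralizer ({t} : Set G)) : ℝ) / Nat.card J := by
    rw [le_div_iff₀ (Nat.cast_pos.2 (Nat.card_pos (α := J))), ← D.sum_val_sq hM, mul_comm]
    exact mul_le_mul_of_nonneg_left
      (sum_le_sum_of_subset_of_nonneg (erase_subset _ _) fun _ _ _ => sq_nonneg _)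
      (Nat.cast_nonneg _)
  rw [← sum_div, ← sum_mul] at hdle
  have h3 : d ≤ d * (α * ((Nat.card (Subgroup.centralizer ({t} : Set G)) : ℝ) / Nat.card J) / xmin) := by
    refine hdle.trans ?_
    rw [mul_div_assoc', mul_left_comm d α, mul_comm _ (d * α), mul_assoc]
    refine div_le_div_of_nonneg_right ?_ hx.le
    nlinarith [mul_le_mul_of_nonneg_left hT (mul_nonneg hd0.le hα0)]
  exact le_of_mul_le_mul_left (by rwa [mul_one]) hd0

end Two

/-- The weight inequality, with the degree bound as a hypothesis. -/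
theorem ineq (Cg : Subgroup G) (hCg : ∀ c ∈ H, c * g * c⁻¹ * g⁻¹ ∈ J → c ∈ Cg) {α xmin : ℝ}
    (hα0 : 0 ≤ α) (hα : (Nat.card Cg : ℝ) / (((fixed1 S g).card : ℝ) * Nat.card J) ≤ α ^ 2)
    (hx : 0 < xmin)
    (hdeg : ∀ (M : Ideal AlgInt) (_ : M.IsPrime), IsPModular 2 M →
      ∀ χ : IrrCharacter G, χ ∈ principalBlock M G → χ ≠ oneIrr G → xmin ≤ (deg χ : ℝ)) :
    1 ≤ α * ((Nat.card (Subgroup.centralizer ({t} : Set G)) : ℝ) / Nat.card J) / xmin := by
  classical
  obtain ⟨M, hM⟩ := exists_isPModular Nat.prime_two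
  haveI : M.IsPrime := hM.2.1.isPrime
  letI := irrFintype (G := G)
  exact D.ineq_aux hM Cg hCg hα0 hα hx (hdeg M inferInstance hM)

end Data

end CfsgLib.Bender.CharWeight
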