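import Cfsg.Prelude.Def_Involutions
import Cfsg.Prelude.Def_Solvable
import Mathlib.GroupTheory.Sylow

/-!
Bender's theorem on strongly embedded subgroups: the notions shared by the parts of the proof.
-/

set_option autoImplicit false

namespace CfsgLib.Bender

open Subgroup

variable {G : Type*} [Group G]

/-- `G` has two distinct commuting involutions. -/
def PairRank (G : Type*) [Group G] : Prop :=
  ∃ u v : G, orderOf u = 2 ∧ orderOf v = 2 ∧ u ≠ v ∧ Commute u v

/-- `D` is a subgroup of `H` of odd order permuting the involutions of `H` transitively. -/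
def IsTransOdd (H D : Subgroup G) : Prop :=
  D ≤ H ∧ Odd (Nat.card D) ∧
    ∀ s t : G, s ∈ H → orderOf s = 2 → t ∈ H → orderOf t = 2 → ∃ d ∈ D, d * s * d⁻¹ = t

/-- No subgroup of odd order permutes all involutions transitively. -/
def NoTransOdd (G : Type*) [Group G] : Prop :=
  ∀ L : Subgroup G, ¬ IsTransOdd (⊤ : Subgroup G) L

/-- No nontrivial `r`-element is inverted by an involution. -/
def RealFree (r : ℕ) (G : Type*) [Group G] : Prop :=
  ∀ v y : G, orderOf v = 2 → (∃ k, y ^ r ^ k = 1) → v * y * v⁻¹ = y⁻¹ → y = 1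

/-- The property of the prime used in the proof: no involution of `H` normalizes an `r`-subgroup of
`H` containing a Sylow `r`-subgroup of a transitive subgroup of odd order. -/
def GoodPrime (r : ℕ) (H : Subgroup G) : Prop :=
  r.Prime ∧ Odd r ∧ ∀ (D Y Y' : Subgroup G) (v : G), IsTransOdd H D → Y ≤ D → IsPGroup r Y →
    ¬ r ∣ Y.relIndex D → Y ≤ Y' → Y' ≤ H → IsPGroup r Y' → v ∈ H → orderOf v = 2 →
      v ∉ normalizer (Y' : Set G)

/-- `O_r(L)` inside the ambient group. -/
def coreOf (r : ℕ) (L : Subgroup G) : Subgroup G := (Cfsg.pCore r L).map L.subtype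

/-- The data of the group `H/O(H)`: a maximal transitive subgroup of odd order, which is the
normalizer of each of its nontrivial normal subgroups. -/
structure Ctx (L : Subgroup G) : Prop where
  odd : Odd (Nat.card L)
  trans : ∀ s t : G, orderOf s = 2 → orderOf t = 2 → ∃ l ∈ L, l * s * l⁻¹ = t
  norm : ∀ U : Subgroup G, U ≤ L → U ≠ ⊥ → L ≤ normalizer (U : Set G) →
    normalizer (U : Set G) = L
  invol : ∃ t : G, orderOf t = 2

/-- A minimal normal subgroup of `L` inside `O_r(L)`, central in the Fitting subgroup. -/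
structure MinW (r : ℕ) (L W : Subgroup G) : Prop where
  le_core : W ≤ coreOf r L
  ne_bot : W ≠ ⊥
  normal : L ≤ normalizer (W : Set G)
  minimal : ∀ V : Subgroup G, V ≤ W → V ≠ ⊥ → L ≤ normalizer (V : Set G) → V = W
  comm : ∀ v ∈ W, ∀ w ∈ W, v * w = w * v
  exp : ∀ w ∈ W, w ^ r = 1
  central : ∀ q : ℕ, q.Prime → coreOf q L ≤ centralizer (W : Set G)

/-- Every `r`-subgroup has a conjugate inside `L`. -/
def SylowInside (r : ℕ) (L : Subgroup G) : Prop :=
  ∀ Y : Subgroup G, IsPGroup r Y → ∃ g : G, ∀ y ∈ Y, g * y * g⁻¹ ∈ L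

/-- `Y` is an `r`-subgroup acted on nontrivially by a 2-element. -/
def RealSub (r : ℕ) (Y : Subgroup G) : Prop :=
  IsPGroup r Y ∧ ∃ s ∈ normalizer (Y : Set G), (∃ k, s ^ 2 ^ k = 1) ∧ ∃ y ∈ Y, s * y * s⁻¹ ≠ y

/-- A largest such subgroup. -/
def MaxReal (r : ℕ) (Y : Subgroup G) : Prop :=
  RealSub r Y ∧ ∀ Y' : Subgroup G, RealSub r Y' → Nat.card Y' ≤ Nat.card Y

end CfsgLib.Bender
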