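import Cfsg.Agent.Functor.Sylow
import Cfsg.Agent.Bender.Defs

/-!
Frattini argument for a 2-element outside a normalized subgroup.
-/

set_option autoImplicit false

namespace CfsgLib.Bender

open Subgroup CfsgLib.Functor
open scoped CfsgLib.Functor

variable {G : Type*} [Group G] [Finite G] {r : ℕ} [Fact r.Prime]

/-- The coset of a normalizing element meets the normalizer of each Sylow subgroup. -/
theorem frat_mul {D S : Subgroup G} {g : G} (hg : g ∈ normalizer (D : Set G))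
    (hS : IsSylowIn r S D) : ∃ d ∈ D, g * d ∈ normalizer (S : Set G) := by
  obtain ⟨n, hn, hnS⟩ := hS.exists_cj_eq (hS.cj_of_mem hg)
  refine ⟨g⁻¹ * n * g, (mem_normalizer_iff''.1 hg n).1 hn, ?_⟩
  rw [show g * (g⁻¹ * n * g) = n * g by group, mem_normalizer_iff_cj, ← cj_cj, hnS]

/-- A 2-element outside `D` normalizing `D` can be replaced by one normalizing a Sylow subgroup of
`D`. -/
theorem frat_two {D S : Subgroup G} {g : G} {k : ℕ} (hg : g ∈ normalizer (D : Set G))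
    (hgk : g ^ 2 ^ k ∈ D) (hgD : g ∉ D) (hS : IsSylowIn r S D) :
    ∃ n, n ∈ normalizer (S : Set G) ∧ n ∈ normalizer (D : Set G) ∧ n ∉ D ∧
      (∃ j, n ^ 2 ^ j = 1) ∧ n ∈ D ⊔ zpowers g := by
  obtain ⟨d, hd, hh⟩ := frat_mul hg hS
  set h := g * d with hdef
  obtain ⟨k', m, hm, hord⟩ := Nat.exists_eq_two_pow_mul_odd (orderOf_pos h).ne'
  have hdN : d ∈ normalizer (D : Set G) := le_normalizer hd
  have hhD : h ∈ normalizer (D : Set G) := mul_mem hg hdN
  refine ⟨h ^ m, pow_mem hh m, pow_mem hhD m, fun hmem => hgD ?_, ⟨k', ?_⟩, pow_mem ?_ m⟩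
  · have hq : (h ^ 2 ^ k : G) ∈ D := by
      let π : normalizer (D : Set G) →* normalizer (D : Set G) ⧸ D.subgroupOf (normalizer (D : Set G)) :=
        QuotientGroup.mk' _
      have e : π ⟨h, hhD⟩ = π ⟨g, hg⟩ := (QuotientGroup.eq).2 <| by
        rw [mem_subgroupOf]
        show (g * d)⁻¹ * g ∈ D
        rw [show (g * d)⁻¹ * g = d⁻¹ by group]
        exact inv_mem hd
      have e2 : π (⟨h, hhD⟩ ^ 2 ^ k) = π (⟨g, hg⟩ ^ 2 ^ k) := by rw [map_pow, map_pow, e]
      have e3 : π (⟨g, hg⟩ ^ 2 ^ k) = 1 := (QuotientGroup.eq_one_iff _).2 (by simpa [mem_subgroupOf] using hgk)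
      rw [e3] at e2
      simpa [mem_subgroupOf] using (QuotientGroup.eq_one_iff _).1 e2
    have hcop : Nat.Coprime m (2 ^ k) := (Nat.Coprime.pow_right k hm.coprime_two_right)
    have hh' : h ∈ D := by
      have hb := Int.gcd_eq_gcd_ab (m : ℤ) ((2 ^ k : ℕ) : ℤ)
      rw [Int.gcd_natCast_natCast, hcop] at hb
      have : h = h ^ ((m : ℤ) * Int.gcdA m ((2 ^ k : ℕ) : ℤ) +
          ((2 ^ k : ℕ) : ℤ) * Int.gcdB m ((2 ^ k : ℕ) : ℤ)) := by
        rw [← hb]; simp
      rw [this, zpow_add, zpow_mul, zpow_mul, zpow_natCast, zpow_natCast]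
      exact mul_mem (zpow_mem hmem _) (zpow_mem hq _)
    simpa [hdef] using mul_mem hh' (inv_mem hd)
  · rw [← pow_mul, mul_comm, ← hord, pow_orderOf_eq_one]
  · exact mul_mem (mem_sup_right (mem_zpowers g)) (mem_sup_left hd)

/-- For `D` of odd order an involution of the coset normalizes a given Sylow subgroup. -/
theorem frat_invol {D S : Subgroup G} {g : G} (hD : Odd (Nat.card D))
    (hg : g ∈ normalizer (D : Set G)) (hg2 : g * g ∈ D) (hgD : g ∉ D) (hS : IsSylowIn r S D) :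
    ∃ d ∈ D, orderOf (g * d) = 2 ∧ g * d ∈ normalizer (S : Set G) := by
  obtain ⟨d, hd, hh⟩ := frat_mul hg hS
  have h2 : g * d * (g * d) ∈ D := by
    rw [show g * d * (g * d) = g * g * (g⁻¹ * d * g * d) by group]
    exact mul_mem hg2 (mul_mem ((mem_normalizer_iff''.1 hg d).1 hd) hd)
  obtain ⟨j, hj⟩ := hD
  have hn : (g * d) * ((g * d) * (g * d)) ^ j ∈ normalizer (S : Set G) :=
    mul_mem hh (pow_mem (mul_mem hh hh) j)
  refine ⟨d * ((g * d) * (g * d)) ^ j, mul_mem hd (pow_mem h2 j), ?_, by rwa [← mul_assoc]⟩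
  rw [← mul_assoc]
  refine orderOf_eq_prime ?_ ?_
  · have e : ((g * d) * ((g * d) * (g * d)) ^ j) ^ 2 = ((g * d) * (g * d)) ^ (2 * j + 1) := by
      rw [pow_two, ← pow_two, ← pow_two, ← pow_mul, ← pow_succ', ← pow_mul, ← pow_mul]
      ring_nf
    rw [e, ← hj]
    exact congrArg Subtype.val (pow_card_eq_one' (x := (⟨_, h2⟩ : D)))
  · intro h1
    apply hgD
    have hg' : g = g * d * (g * d * (g * d)) ^ j * ((d * (g * d * (g * d)) ^ j))⁻¹ := by group
    rw [hg', h1, one_mul]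
    exact inv_mem (mul_mem hd (pow_mem h2 j))

end CfsgLib.Bender
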