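import Cfsg.Agent.Bender.Pair
import Cfsg.Agent.Bender.Frat
import Cfsg.Agent.AutFrattini.Basic
import Cfsg.Agent.Solvable.PGroupBasic

/-!
A largest `r`-subgroup moved by a 2-element absorbs every quadratic `r`-element normalizing it.
-/

set_option autoImplicit false
set_option linter.style.haveILetI false

namespace CfsgLib.Bender

open Subgroup CfsgLib.Functor
open scoped CfsgLib.Functor commutatorElement

variable {G : Type*} [Group G]

theorem map_frattini_eq {Y : Subgroup G} (e : MulAut Y) :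
    (frattini Y).map e.toMonoidHom = frattini Y :=
  characteristic_iff_map_eq.1 frattini_characteristic e

/-- The action of an automorphism on the Frattini quotient. -/
def fAct (Y : Subgroup G) : MulAut Y →* MulAut (Y ⧸ frattini Y) :=
  MonoidHom.mk' (fun α => QuotientGroup.congr (frattini Y) (frattini Y) α (map_frattini_eq α))
    fun α β => MulEquiv.ext fun x => by
      induction x using QuotientGroup.induction_on with
      | H x => rfl

/-- The action of the normalizer on the Frattini quotient. -/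
def qAct (Y : Subgroup G) : normalizer (Y : Set G) →* MulAut (Y ⧸ frattini Y) :=
  (fAct Y).comp Y.normalizerMonoidHom

/-- Its kernel. -/
def qKer (Y : Subgroup G) : Subgroup G := (qAct Y).ker.map (normalizer (Y : Set G)).subtype

theorem qKer_le (Y : Subgroup G) : qKer Y ≤ normalizer (Y : Set G) := map_subtype_le _

theorem mem_qKer {Y : Subgroup G} {n : G} (hn : n ∈ normalizer (Y : Set G)) :
    n ∈ qKer Y ↔ qAct Y ⟨n, hn⟩ = 1 :=
  ⟨fun ⟨⟨x, hx⟩, hk, e⟩ => by cases e; exact hk, fun h => ⟨⟨n, hn⟩, h, rfl⟩⟩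

theorem mem_qKer_of_centralizer {Y : Subgroup G} {n : G} (hn : n ∈ centralizer (Y : Set G)) :
    n ∈ qKer Y := by
  have hn' : n ∈ normalizer (Y : Set G) := centralizer_le_normalizer _ hn
  refine (mem_qKer hn').2 (MulEquiv.ext fun x => ?_)
  induction x using QuotientGroup.induction_on with
  | H y =>
    refine congrArg QuotientGroup.mk (Subtype.ext ?_)
    show n * y * n⁻¹ = y
    rw [← mem_centralizer_iff.1 hn y y.2, mul_inv_cancel_right]

variable [Finite G] {r : ℕ} [Fact r.Prime] {Y : Subgroup G}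

theorem le_qKer (hY : IsPGroup r Y) : Y ≤ qKer Y := by
  intro y hy
  refine (mem_qKer (le_normalizer hy)).2 (MulEquiv.ext fun x => ?_)
  induction x using QuotientGroup.induction_on with
  | H v =>
    refine (QuotientGroup.eq).2 ?_
    have hc := (CfsgLib.PGroupBasic.commutator_pow_le_frattini hY).1
      (Subgroup.commutator_mem_commutator (mem_top (⟨y, hy⟩ : Y)) (mem_top v⁻¹))
    have e : (⁅(⟨y, hy⟩ : Y), v⁻¹⁆ : Y) =
        (Y.normalizerMonoidHom ⟨y, le_normalizer hy⟩ v)⁻¹ * v := by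
      apply Subtype.ext
      show y * (v : G)⁻¹ * y⁻¹ * ((v : G)⁻¹)⁻¹ = (y * v * y⁻¹)⁻¹ * v
      group
    rw [e] at hc
    exact hc

/-- A 2-element acting trivially on the Frattini quotient centralizes. -/
theorem centralizes_of_two (hY : IsPGroup r Y) (hr : r ≠ 2) {n : G} (hn : n ∈ qKer Y)
    (h2 : ∃ k, n ^ 2 ^ k = 1) : ∀ y ∈ Y, n * y * n⁻¹ = y := by
  have hnN := qKer_le Y hn
  obtain ⟨k, hk⟩ := h2
  set α := Y.normalizerMonoidHom ⟨n, hnN⟩
  have hα : α ^ 2 ^ k = 1 := by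
    rw [← map_pow, show (⟨n, hnN⟩ : normalizer (Y : Set G)) ^ 2 ^ k = 1 from Subtype.ext hk, map_one]
  obtain ⟨e, he⟩ := IsPGroup.iff_card.1 hY
  obtain ⟨j, hj⟩ := IsPGroup.iff_card.1 (hY.to_quotient (frattini Y))
  have hdvd : Nat.card (zpowers α) ∣ r ^ (j * (e - j)) := by
    refine CfsgLib.AutFrattini.card_dvd_of_trivial_mod_frattini he (by rwa [index_eq_card]) _ ?_
    intro β hβ x
    let A : Subgroup (MulAut Y) := (fAct Y).ker
    have hαA : α ∈ A := (mem_qKer hnN).1 hn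
    have hβA : fAct Y β = 1 := zpowers_le.2 hαA hβ
    have h := congrArg (fun γ : MulAut (Y ⧸ frattini Y) => γ (x : Y ⧸ frattini Y)) hβA
    have h' : ((β x : Y) : Y ⧸ frattini Y) = (x : Y ⧸ frattini Y) := h
    rw [← QuotientGroup.eq_one_iff, QuotientGroup.mk_mul, QuotientGroup.mk_inv, h', mul_inv_cancel]
  rw [Nat.card_zpowers] at hdvd
  have h1 : orderOf α = 1 := Nat.eq_one_of_dvd_coprimes
    (((Nat.coprime_primes Nat.prime_two Fact.out).2 hr.symm).pow k (j * (e - j)))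
    (orderOf_dvd_of_pow_eq_one hα) hdvd
  intro y hy
  exact congrArg (fun β : MulAut Y => ((β ⟨y, hy⟩ : Y) : G)) (orderOf_eq_one_iff.1 h1)

/-- An `r`-group moved by a 2-element and containing `Y` equals it. -/
theorem MaxReal.eq_of_le (hY : MaxReal r Y) {S : Subgroup G} (hYS : Y ≤ S) (hS : RealSub r S) :
    Y = S :=
  eq_of_le_of_card_le' hYS (hY.2 S hS)

/-- Growing a largest moved subgroup inside `D` is impossible. -/
theorem no_grow (hr : r ≠ 2) (hY : MaxReal r Y) {D : Subgroup G}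
    (hKD : qKer Y ≤ D) {g : G} {k : ℕ}
    (hg : g ∈ normalizer (D : Set G)) (hgN : g ∈ normalizer (Y : Set G))
    (hDN : D ≤ normalizer (Y : Set G))
    (hgk : g ^ 2 ^ k ∈ D) (hgD : g ∉ D) {a : G} (ha : a ∈ D) (har : ∃ j, a ^ r ^ j = 1) :
    a ∈ Y := by
  have hYr := hY.1.1
  have hYD : Y ≤ D := (le_qKer hYr).trans hKD
  obtain ⟨j, hj⟩ := har
  have hA : IsPGroup r (zpowers a) := by
    rintro ⟨_, i, rfl⟩
    exact ⟨j, Subtype.ext (by
      show (a ^ i) ^ r ^ j = 1
      rw [← zpow_natCast (a ^ i), ← zpow_mul, mul_comm i, zpow_mul, zpow_natCast, hj, one_zpow])⟩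
  have hYA : IsPGroup r ↥(Y ⊔ zpowers a) :=
    hYr.to_sup_of_normal_left' hA (zpowers_le.2 (hDN ha))
  obtain ⟨S, hS, hle⟩ := exists_sylowIn_ge hYA (sup_le hYD (zpowers_le.2 ha))
  obtain ⟨n, hnS, -, hnD, hn2, hnDg⟩ := frat_two hg hgk hgD hS
  have hnN : n ∈ normalizer (Y : Set G) := sup_le hDN (zpowers_le.2 hgN) hnDg
  have hYS : Y ≤ S := le_sup_left.trans hle
  by_cases hmove : ∃ y ∈ S, n * y * n⁻¹ ≠ y
  · rw [hY.eq_of_le hYS ⟨hS.2.1, n, hnS, hn2, hmove⟩]
    exact hle (mem_sup_right (mem_zpowers a))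
  · push Not at hmove
    refine absurd (hKD ?_) hnD
    refine mem_qKer_of_centralizer (mem_centralizer_iff.2 fun y hy => ?_)
    exact (mul_inv_eq_iff_eq_mul.1 (hmove y (hYS hy))).symm

/-- `Y` is the only `r`-part of the kernel. -/
theorem mem_of_mem_qKer (hr : r ≠ 2) (hY : MaxReal r Y) {a : G} (ha : a ∈ qKer Y)
    (har : ∃ j, a ^ r ^ j = 1) : a ∈ Y := by
  obtain ⟨s, hs, ⟨k, hk⟩, y, hy, hmove⟩ := hY.1.2
  have hsN : s ∈ normalizer (qKer Y : Set G) := by
    rw [mem_normalizer_iff_cj]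
    refine eq_of_le_of_card_le' ?_ (card_cj s _).ge
    rintro _ ⟨_, ⟨x, hx, rfl⟩, rfl⟩
    exact ⟨_, (inferInstance : (qAct Y).ker.Normal).conj_mem x hx ⟨s, hs⟩, rfl⟩
  exact no_grow hr hY le_rfl hsN hs (qKer_le Y) (by rw [hk]; exact one_mem _)
    (fun h => hmove (centralizes_of_two hY.1.1 hr h ⟨k, hk⟩ y hy)) ha har

/-- A quadratic `r`-element normalizing `Y` lies in `Y`. -/
theorem mem_of_quadratic (hr : r ≠ 2) (hY : MaxReal r Y) {a : G} (haN : a ∈ normalizer (Y : Set G))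
    (har : ∃ j, a ^ r ^ j = 1) (hq : ∀ y ∈ Y, Commute (a * y * a⁻¹ * y⁻¹) a) : a ∈ Y := by
  classical
  have hYr := hY.1.1
  obtain ⟨s, hs, ⟨k, hk⟩, y₀, hy₀, hmove⟩ := hY.1.2
  obtain ⟨hcomm, hpow⟩ := CfsgLib.PGroupBasic.commutator_pow_le_frattini hYr
  letI : CommGroup (Y ⧸ frattini Y) :=
    { (inferInstance : Group (Y ⧸ frattini Y)) with
      mul_comm := by
        intro x z
        induction x using QuotientGroup.induction_on with
        | H x =>
          induction z using QuotientGroup.induction_on with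
          | H z =>
            refine (QuotientGroup.eq).2 ?_
            have h := hcomm (Subgroup.commutator_mem_commutator (mem_top z⁻¹) (mem_top x⁻¹))
            rw [commutatorElement_def, inv_inv, inv_inv] at h
            simpa [mul_assoc] using h }
  let A : (qAct Y).range := ⟨(qAct Y) ⟨a, haN⟩, ⟨_, rfl⟩⟩
  have hA : ∀ m : Y ⧸ frattini Y, (A : MulAut _) ((A : MulAut _) m * m⁻¹) =
      (A : MulAut _) m * m⁻¹ := by
    intro m
    induction m using QuotientGroup.induction_on with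
    | H v =>
      refine congrArg (fun z : Y => (z : Y ⧸ frattini Y))
        (Subtype.ext ?_ : (Y.normalizerMonoidHom ⟨a, haN⟩
          (Y.normalizerMonoidHom ⟨a, haN⟩ v * v⁻¹) : Y) = Y.normalizerMonoidHom ⟨a, haN⟩ v * v⁻¹)
      show a * (a * v * a⁻¹ * (v : G)⁻¹) * a⁻¹ = a * v * a⁻¹ * (v : G)⁻¹
      rw [← (hq v v.2).eq, mul_inv_cancel_right]
  have hexp : ∀ m : Y ⧸ frattini Y, m ^ r = 1 := by
    intro m
    induction m using QuotientGroup.induction_on with
    | H v => exact (QuotientGroup.eq_one_iff _).2 (hpow v)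
  -- the preimage of a subgroup of the image
  have key : ∀ R : Subgroup (qAct Y).range, A ∈ R → ∀ t : (normalizer (Y : Set G)), (∃ j, (t : G) ^ 2 ^ j ∈
      (R.comap (qAct Y).rangeRestrict).map (normalizer (Y : Set G)).subtype) →
      (t : G) ∈ normalizer (((R.comap (qAct Y).rangeRestrict).map (normalizer (Y : Set G)).subtype : Subgroup G) : Set G) →
      (t : G) ∉ (R.comap (qAct Y).rangeRestrict).map (normalizer (Y : Set G)).subtype → a ∈ Y := by
    intro R hR t ⟨j, hj⟩ htN htR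
    refine no_grow hr hY ?_ htN t.2 (map_subtype_le _) hj htR ⟨⟨a, haN⟩, hR, rfl⟩ har
    rintro _ ⟨x, hx, rfl⟩
    refine ⟨x, ?_, rfl⟩
    have hx1 : (qAct Y).rangeRestrict x = 1 := Subtype.ext hx
    rw [SetLike.mem_coe, mem_comap, hx1]
    exact one_mem R
  by_cases hcore : A ∈ Cfsg.pCore r (qAct Y).range
  · refine key _ hcore ⟨s, hs⟩ ⟨k, by rw [show ((⟨s, hs⟩ : (normalizer (Y : Set G))) : G) ^ 2 ^ k = 1 from hk]; exact one_mem _⟩
      ?_ ?_
    · haveI := CfsgLib.Solvable.pCore_normal (G := (qAct Y).range) r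
      rw [mem_normalizer_iff_cj]
      refine eq_of_le_of_card_le' ?_ (card_cj _ _).ge
      rintro _ ⟨_, ⟨x, hx, rfl⟩, rfl⟩
      exact ⟨_, (inferInstance :
        ((Cfsg.pCore r (qAct Y).range).comap (qAct Y).rangeRestrict).Normal).conj_mem x hx ⟨s, hs⟩, rfl⟩
    · rintro ⟨x, hx, hxs⟩
      obtain rfl : x = ⟨s, hs⟩ := Subtype.ext hxs
      obtain ⟨j, hj⟩ := CfsgLib.Solvable.isPGroup_pCore r ⟨_, hx⟩
      have h1 : (qAct Y).rangeRestrict (⟨s, hs⟩ : (normalizer (Y : Set G))) ^ r ^ j = 1 := congrArg Subtype.val hj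
      have h2 : (qAct Y).rangeRestrict (⟨s, hs⟩ : (normalizer (Y : Set G))) ^ 2 ^ k = 1 := by
        rw [← map_pow, show (⟨s, hs⟩ : (normalizer (Y : Set G))) ^ 2 ^ k = 1 from Subtype.ext hk, map_one]
      have h3 : (qAct Y).rangeRestrict (⟨s, hs⟩ : (normalizer (Y : Set G))) = 1 := orderOf_eq_one_iff.1 (Nat.eq_one_of_dvd_coprimes
        (((Nat.coprime_primes Nat.prime_two Fact.out).2 hr.symm).pow k j)
        (orderOf_dvd_of_pow_eq_one h2) (orderOf_dvd_of_pow_eq_one h1))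
      exact hmove (centralizes_of_two hYr hr
        ((mem_qKer hs).2 (congrArg Subtype.val h3)) ⟨k, hk⟩ y₀ hy₀)
  · obtain ⟨T, hT, hTA⟩ := exists_invol_commute hr hexp (qAct Y).range A hA hcore
    obtain ⟨t, rfl⟩ := (qAct Y).rangeRestrict_surjective T
    have hT2 : (qAct Y).rangeRestrict t ^ 2 = 1 := by rw [← hT]; exact pow_orderOf_eq_one _
    refine key (zpowers A) (mem_zpowers A) t ⟨1, ⟨t ^ 2, ?_, by simp⟩⟩ ?_ ?_
    · simp [map_pow, hT2]
    · rw [mem_normalizer_iff_cj]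
      refine eq_of_le_of_card_le' ?_ (card_cj _ _).ge
      rintro _ ⟨_, ⟨x, hx, rfl⟩, rfl⟩
      refine ⟨t * x * t⁻¹, ?_, by simp⟩
      obtain ⟨i, hi⟩ := hx
      refine ⟨i, ?_⟩
      rw [map_mul, map_mul, map_inv, ← hi]
      show A ^ i = _
      rw [((show Commute ((qAct Y).rangeRestrict t) A from hTA).zpow_right i).eq, mul_inv_cancel_right]
    · rintro ⟨x, hx, hxt⟩
      obtain rfl : x = t := Subtype.ext hxt
      have h1 : orderOf ((qAct Y).rangeRestrict x) ∣ orderOf A := orderOf_dvd_of_mem_zpowers hx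
      obtain ⟨j, hj⟩ := har
      have hA' : orderOf A ∣ r ^ j := orderOf_dvd_of_pow_eq_one (by
        apply Subtype.ext
        show (qAct Y) ⟨a, haN⟩ ^ r ^ j = 1
        rw [← map_pow, show (⟨a, haN⟩ : (normalizer (Y : Set G))) ^ r ^ j = 1 from Subtype.ext hj, map_one])
      rw [hT] at h1
      exact hr ((Nat.prime_dvd_prime_iff_eq Nat.prime_two Fact.out).1
        (Nat.prime_two.dvd_of_dvd_pow (h1.trans hA'))).symm

/-- An abelian `r`-subgroup normalized by `Y` lies in `Y`. -/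
theorem le_of_normalized (hr : r ≠ 2) (hY : MaxReal r Y) {W : Subgroup G} (hW : IsPGroup r W)
    (hYW : Y ≤ normalizer (W : Set G)) (hc : ∀ v ∈ W, ∀ w ∈ W, v * w = w * v) : W ≤ Y := by
  have hp : IsPGroup r ↥(Y ⊔ W) := hY.1.1.to_sup_of_normal_right' hW hYW
  by_contra hle
  have hlt : Y < Y ⊔ W := lt_of_le_of_ne le_sup_left fun h => hle (le_sup_right.trans h.ge)
  obtain ⟨x, ⟨hx, hxN⟩, hxY⟩ := Set.exists_of_ssubset (lt_inf_normalizer hp hlt)
  obtain ⟨y, hy, w, hw, rfl⟩ : ∃ y ∈ Y, ∃ w ∈ W, y * w = x := by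
    have h : (x : G) ∈ (↑(Y ⊔ W) : Set G) := hx
    rw [coe_mul_of_left_le_normalizer_right Y W hYW] at h
    exact h
  refine hxY (mul_mem hy (mem_of_quadratic hr hY ?_ ?_ fun u hu => ?_))
  · have := mul_mem (inv_mem (le_normalizer hy : y ∈ normalizer (Y : Set G))) hxN
    rwa [inv_mul_cancel_left] at this
  · obtain ⟨j, hj⟩ := hW ⟨w, hw⟩
    exact ⟨j, congrArg Subtype.val hj⟩
  · refine hc _ ?_ w hw
    rw [show w * u * w⁻¹ * u⁻¹ = w * (u * w⁻¹ * u⁻¹) by group]
    exact mul_mem hw ((mem_normalizer_iff.1 (hYW hu) _).1 (inv_mem hw))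

/-- Conjugates of a normal abelian `r`-subgroup of a group containing a conjugate of `Y`. -/
theorem MaxReal.minW_le (hr : r ≠ 2) (hY : MaxReal r Y) {L W : Subgroup G} (hW : MinW r L W)
    (g : G) (hg : ∀ y ∈ Y, g * y * g⁻¹ ∈ L) : ∀ w ∈ W, g⁻¹ * w * g ∈ Y := by
  have hWp : IsPGroup r W := fun w => ⟨1, Subtype.ext (by simpa using hW.exp w w.2)⟩
  have h : g⁻¹ ⋆ W ≤ Y := by
    refine le_of_normalized hr hY (isPGroup_cj _ hWp) (fun y hy => ?_) ?_
    · rw [← cj_normalizer, mem_cj, inv_inv]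
      exact hW.normal (hg y hy)
    · rintro _ ⟨v, hv, rfl⟩ _ ⟨w, hw, rfl⟩
      simp only [MulEquiv.coe_toMonoidHom, ← map_mul, hW.comm v hv w hw]
  intro w hw
  exact h (mem_cj.2 (by simpa [mul_assoc] using hw))

theorem MaxReal.exists_invol (hY : MaxReal r Y) :
    ∃ z ∈ normalizer (Y : Set G), orderOf z = 2 := by
  obtain ⟨s, hs, ⟨k, hk⟩, y, hy, hmove⟩ := hY.1.2
  obtain ⟨j, -, hj⟩ := (Nat.dvd_prime_pow Nat.prime_two).1 (orderOf_dvd_of_pow_eq_one hk)
  refine ⟨s ^ 2 ^ (j - 1), pow_mem hs _, ?_⟩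
  rcases j with _ | j
  · exact absurd (orderOf_eq_one_iff.1 hj) fun h => hmove (by rw [h]; group)
  · rw [orderOf_pow' _ (by positivity), hj, Nat.add_sub_cancel,
      Nat.gcd_eq_right (Nat.pow_dvd_pow 2 j.le_succ), pow_succ, Nat.mul_div_cancel_left _ (by positivity)]

end CfsgLib.Bender
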