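import Cfsg.Agent.Bender.GSide
import Cfsg.Agent.Solvable.Basics
import Cfsg.Agent.Recog.OddInvolution
import Cfsg.Agent.Coprime.Generation
import Cfsg.Agent.S0205

/-!
Bender's theorem on the core of a strongly embedded subgroup: facts used for an abelian normal
subgroup `N` of `H` inside `O(H)` (sections 1 of the proof).
-/

set_option autoImplicit false
set_option linter.unusedSectionVars false
set_option linter.style.haveILetI false

namespace CfsgLib.Bender.NormalPart

open Subgroup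
open CfsgLib.FusionLift (cj mem_cj card_cj)
open CfsgLib.Bender.GSide

universe u

/-- A minimal counterexample with a normal elementary abelian subgroup `N` of odd exponent of the
strongly embedded subgroup `H`. -/
structure Setting {G : Type u} [Group G] (H N : Subgroup G) (q : ℕ) : Prop where
  emb : Cfsg.IsStronglyEmbedded H
  trans : ∀ g₁ g₂ : G, g₁ ∉ H → g₂ ∉ H → ∃ h ∈ H, g₂⁻¹ * (h * g₁) ∈ H
  core : H.normalCore = ⊥
  pair : PairRank G
  ind : ∀ M : Subgroup G, M ≠ ⊤ → ∀ H' : Subgroup M, Cfsg.IsStronglyEmbedded H' →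
    (Cfsg.oddCore H').map H'.subtype ≤ Cfsg.oddCore M
  le : N ≤ H
  normal : H ≤ normalizer (N : Set G)
  comm : ∀ a ∈ N, ∀ b ∈ N, a * b = b * a
  prime : q.Prime
  ne_two : q ≠ 2
  exp : ∀ a ∈ N, a ^ q = 1

variable {G : Type u} [Group G] [Finite G] {H N : Subgroup G} {q : ℕ}

/-- The base point. -/
abbrev base (H : Subgroup G) : G ⧸ H := QuotientGroup.mk 1

theorem Setting.isPGroup (S : Setting H N q) : IsPGroup q N :=
  fun a => ⟨1, Subtype.ext (by simpa using S.exp a a.2)⟩

theorem Setting.odd (S : Setting H N q) : Odd (Nat.card N) := by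
  haveI : Fact q.Prime := ⟨S.prime⟩
  obtain ⟨k, hk⟩ := IsPGroup.iff_card.1 S.isPGroup
  rw [hk]; exact (S.prime.odd_of_ne_two S.ne_two).pow

theorem Setting.le_st (S : Setting H N q) : N ≤ st (base H) := by rw [st_one]; exact S.le

/-- A subgroup normalized by the transitive group fixing a point fixes all points. -/
theorem Setting.eq_bot_of_fix (S : Setting H N q) {b : G ⧸ H} (hb : b ≠ base H)
    (h : N ≤ st b) : N = ⊥ := by
  have hall : ∀ x : G ⧸ H, N ≤ st x := by
    intro x
    by_cases hx : x = base H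
    · subst hx; exact S.le_st
    obtain ⟨g₁, rfl⟩ := QuotientGroup.mk_surjective b
    obtain ⟨g₂, rfl⟩ := QuotientGroup.mk_surjective x
    have hg : ∀ g : G, (QuotientGroup.mk g : G ⧸ H) ≠ base H → g ∉ H := fun g hg hgH =>
      hg (QuotientGroup.eq.2 (by simpa using inv_mem hgH))
    obtain ⟨k, hk, hk'⟩ := S.trans g₁ g₂ (hg _ hb) (hg _ hx)
    have e : k • (QuotientGroup.mk g₁ : G ⧸ H) = QuotientGroup.mk g₂ := by
      rw [MulAction.Quotient.smul_mk, smul_eq_mul]
      exact (QuotientGroup.eq.2 hk').symm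
    rw [← e]
    exact le_st_smul_of_norm (S.normal hk) h
  rw [eq_bot_iff, ← S.core]
  intro n hn g
  have hfix := hall (QuotientGroup.mk g⁻¹) hn
  rw [MulAction.mem_stabilizer_iff, StrongEmbed.smul_mk_iff, inv_inv] at hfix
  exact hfix

theorem Setting.normalizer_ne_top (S : Setting H N q) {X : Subgroup G} (hX : X ≤ H)
    (hX1 : X ≠ ⊥) : normalizer (X : Set G) ≠ ⊤ := by
  intro h
  haveI : X.Normal := normalizer_eq_top_iff.1 h
  exact hX1 (eq_bot_iff.2 (S.core ▸ normal_le_normalCore.2 hX))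

/-- Ordered pairs of distinct points are conjugate. -/
theorem Setting.exists_map_pair (S : Setting H N q) {x y b : G ⧸ H} (hxy : x ≠ y)
    (hb : b ≠ base H) : ∃ g : G, g • x = base H ∧ g • y = b := by
  obtain ⟨g, hg⟩ := GSide.exists_smul x (base H)
  have hy : g • y ≠ base H := fun h => hxy (MulAction.injective g (hg.trans h.symm))
  obtain ⟨g₁, hg₁⟩ := QuotientGroup.mk_surjective (g • y)
  obtain ⟨g₂, hg₂⟩ := QuotientGroup.mk_surjective b
  have hne : ∀ k : G, (QuotientGroup.mk k : G ⧸ H) ≠ base H → k ∉ H := fun k hk hkH =>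
    hk (QuotientGroup.eq.2 (by simpa using inv_mem hkH))
  obtain ⟨k, hk, hk'⟩ := S.trans g₁ g₂ (hne _ (hg₁ ▸ hy)) (hne _ (hg₂ ▸ hb))
  refine ⟨k * g, ?_, ?_⟩
  · rw [mul_smul, hg]; exact StrongEmbed.smul_mk_one_iff.2 hk
  · rw [mul_smul, ← hg₁, ← hg₂, MulAction.Quotient.smul_mk, smul_eq_mul]
    exact (QuotientGroup.eq.2 hk').symm

/-- An element of `N` lying in a proper subgroup with an involution of `H`, not inside `H`, lies in
the core of that subgroup. -/
theorem Setting.mem_core (S : Setting H N q) {M : Subgroup G} (hM : M ≠ ⊤) (hMH : ¬ M ≤ H) {t : G}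
    (ht : orderOf t = 2) (htM : t ∈ M) (htH : t ∈ H) {y : G} (hy : y ∈ N) (hyM : y ∈ M) :
    y ∈ (Cfsg.oddCore M).map M.subtype := by
  set H' : Subgroup M := H.subgroupOf M with hH'
  have hemb : Cfsg.IsStronglyEmbedded H' := by
    refine ⟨fun h => hMH (subgroupOf_eq_top.1 h), ?_, fun g hg => ?_⟩
    · have := orderOf_dvd_natCard (⟨⟨t, htM⟩, mem_subgroupOf.2 htH⟩ : H')
      rw [← Subgroup.orderOf_coe, ← Subgroup.orderOf_coe, ht] at this
      exact even_iff_two_dvd.2 this
    · refine (S.emb.2.2 g fun h => hg (mem_subgroupOf.2 h)).of_dvd_nat ?_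
      rw [← card_map_of_injective (K := H' ⊓ H'.map (MulAut.conj g).toMonoidHom) M.subtype_injective]
      refine card_dvd_of_le ?_
      rintro _ ⟨x, ⟨hx, x', hx', e⟩, rfl⟩
      exact ⟨hx, x', hx', congrArg Subtype.val e⟩
  set X : Subgroup H' := (N.subgroupOf M).subgroupOf H' with hXdef
  haveI hXn : X.Normal := ⟨fun a ha g =>
    mem_subgroupOf.2 (mem_subgroupOf.2 (by
      show ((g : M) : G) * ((a : M) : G) * ((g : M) : G)⁻¹ ∈ N
      exact (mem_normalizer_iff.1 (S.normal (mem_subgroupOf.1 g.2)) _).1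
        (mem_subgroupOf.1 (mem_subgroupOf.1 ha))))⟩
  have hXodd : Odd (Nat.card X) := by
    refine S.odd.of_dvd_nat ?_
    rw [← card_map_of_injective (K := X) H'.subtype_injective,
      ← card_map_of_injective (K := X.map H'.subtype) M.subtype_injective]
    refine card_dvd_of_le ?_
    rintro _ ⟨_, ⟨x, hx, rfl⟩, rfl⟩
    exact mem_subgroupOf.1 (mem_subgroupOf.1 hx)
  have hle : X ≤ Cfsg.oddCore H' :=
    CfsgLib.Solvable.le_pPrimeCore 2 hXn (Nat.coprime_two_right.2 hXodd)
  exact ⟨⟨y, hyM⟩, S.ind M hM H' hemb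
    ⟨⟨⟨y, hyM⟩, mem_subgroupOf.2 (S.le hy)⟩, hle (mem_subgroupOf.2 (mem_subgroupOf.2 hy)), rfl⟩, rfl⟩

theorem odd_coreMap (M : Subgroup G) : Odd (Nat.card ((Cfsg.oddCore M).map M.subtype)) := by
  rw [card_map_of_injective M.subtype_injective]
  exact IsoApps.odd_oddCore

theorem coreMap_conj {M : Subgroup G} {g : G} (hg : g ∈ M) {o : G}
    (ho : o ∈ (Cfsg.oddCore M).map M.subtype) : g * o * g⁻¹ ∈ (Cfsg.oddCore M).map M.subtype := by
  obtain ⟨o', ho', rfl⟩ := ho
  exact ⟨⟨g, hg⟩ * o' * ⟨g, hg⟩⁻¹, (Solvable.pPrimeCore_normal 2).conj_mem o' ho' _, rfl⟩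

/-- A normal part of a stabilizer fixes the whole orbit. -/
theorem coreMap_fix {M : Subgroup G} {x : G ⧸ H} (h : (Cfsg.oddCore M).map M.subtype ≤ st x) {g : G}
    (hg : g ∈ M) : (Cfsg.oddCore M).map M.subtype ≤ st (g • x) := by
  intro o ho
  have := h (coreMap_conj (inv_mem hg) ho)
  rw [MulAction.mem_stabilizer_iff, inv_inv, mul_smul, mul_smul, inv_smul_eq_iff] at this
  exact this

/-- A four group of `H` in `M` puts the core of `M` inside `H`. -/
theorem coreMap_le_st (hH : Cfsg.IsStronglyEmbedded H) {M : Subgroup G} {s t : G}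
    (hs : orderOf s = 2) (ht : orderOf t = 2) (hne : s ≠ t) (hc : Commute s t)
    (hsM : s ∈ M) (htM : t ∈ M) (hsH : s ∈ H) (htH : t ∈ H) :
    (Cfsg.oddCore M).map M.subtype ≤ st (base H) := by
  rw [st_one]
  have hfix : ∀ w : G, orderOf w = 2 → w ∈ H →
      (Cfsg.oddCore M).map M.subtype ⊓ centralizer ({w} : Set G) ≤ H := fun w hw hwH c hc =>
    StrongEmbed.mem_of_commute hH hwH hw (mem_centralizer_singleton_iff.1 hc.2)
  have hst : orderOf (s * t) = 2 := by
    refine Invol.orderOf_eq_two ?_ fun h => hne ?_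
    · rw [hc.symm.mul_mul_mul_comm, Invol.mul_self_eq_one hs, Invol.mul_self_eq_one ht, one_mul]
    · rw [eq_inv_of_mul_eq_one_left h, Invol.inv_eq_self ht]
  refine Recog.le_of_fourGroup (odd_coreMap M) (Invol.mul_self_eq_one hs)
    (Invol.mul_self_eq_one ht) hc.eq (fun o ho => ?_) (fun o ho => ?_) (hfix s hs hsH)
    (hfix t ht htH) (hfix _ hst (mul_mem hsH htH))
  · simpa [Invol.inv_eq_self hs] using coreMap_conj hsM ho
  · simpa [Invol.inv_eq_self ht] using coreMap_conj htM ho

/-- A solvable group of odd order normalized by a noncyclic elementary abelian `q`-group fixing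
only one point fixes that point too. -/
theorem le_st_of_semireg [Fact q.Prime] {a : G ⧸ H} {A : Subgroup G}
    (hAc : ∀ x ∈ A, ∀ y ∈ A, x * y = y * x) (hAe : ∀ x ∈ A, x ^ q = 1) (hAnc : q < Nat.card A)
    (hAa : A ≤ st a) (hsemi : ∀ y ∈ A, y ≠ 1 → ∀ x : G ⧸ H, y • x = x → x = a)
    (K : Subgroup G) (hK : Odd (Nat.card K)) (hAK : A ≤ normalizer (K : Set G)) : K ≤ st a := by
  classical
  induction hn : Nat.card K using Nat.strong_induction_on generalizing K with
  | _ n ih =>
  by_cases hK1 : K = ⊥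
  · rw [hK1]; exact bot_le
  haveI : Group.IsSolvable K := Cfsg.Agent.S0205.result hK
  haveI : Nontrivial K := K.nontrivial_iff_ne_bot.2 hK1
  set D := ⁅K, K⁆ with hDdef
  have hDK : D < K := by
    rw [hDdef, ← map_subtype_commutator K]
    conv_rhs => rw [← K.range_subtype, MonoidHom.range_eq_map]
    exact (map_lt_map_iff_of_injective K.subtype_injective).2
      (Group.IsSolvable.commutator_lt_top_of_nontrivial K)
  have hD : D ≤ st a := by
    refine ih _ ?_ D (hK.of_dvd_nat (card_dvd_of_le hDK.le)) (fun x hx => ?_) rfl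
    · rw [← hn]
      by_contra hlt
      exact hDK.ne (eq_of_le_of_card_ge hDK.le (not_lt.1 hlt))
    · rw [hDdef, mem_normalizer_iff_map_conj_eq, map_commutator,
        mem_normalizer_iff_map_conj_eq.1 (hAK hx)]
  set L : Subgroup G := K ⊓ st a with hLdef
  by_contra hnot
  set L' : Subgroup K := L.subgroupOf K with hL'def
  have hcomm : commutator K ≤ L' := by
    intro x hx
    have hxD : (x : G) ∈ D := by
      rw [hDdef, ← map_subtype_commutator K]; exact mem_map_of_mem _ hx
    exact mem_subgroupOf.2 ⟨x.2, hD hxD⟩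
  haveI hL'n : L'.Normal := Subgroup.Normal.of_commutator_le K hcomm
  haveI : IsMulCommutative (K ⧸ L') := (Normal.quotient_commutative_iff_commutator_le).2 hcomm
  have hAL : ∀ x ∈ A, ∀ k ∈ L, x * k * x⁻¹ ∈ L := fun x hx k hk =>
    ⟨(mem_normalizer_iff.1 (hAK hx) k).1 hk.1,
      (st a).mul_mem ((st a).mul_mem (hAa hx) hk.2) ((st a).inv_mem (hAa hx))⟩
  letI : CommGroup A := { mul_comm := fun x y => Subtype.ext (hAc x x.2 y y.2) }
  let act : A →* MulAut K := K.normalizerMonoidHom.comp (inclusion hAK)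
  have hM : ∀ x : A, L' ≤ L'.comap (act x).toMonoidHom := fun x k hk =>
    mem_comap.2 ((mem_subgroupOf (H := L) (K := K) (h := act x k)).2
      (hAL x x.2 k (mem_subgroupOf.1 hk)))
  letI : MulDistribMulAction A (K ⧸ L') :=
    { smul := fun x c => QuotientGroup.map L' L' (act x).toMonoidHom (hM x) c
      one_smul := fun c => by
        induction c using QuotientGroup.induction_on with
        | _ k => exact congrArg (fun e : MulAut K => ((e k : K) : K ⧸ L')) (map_one act)
      mul_smul := fun x y c => by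
        induction c using QuotientGroup.induction_on with
        | _ k => exact congrArg (fun e : MulAut K => ((e k : K) : K ⧸ L')) (map_mul act x y)
      smul_mul := fun x c d => map_mul (QuotientGroup.map L' L' (act x).toMonoidHom (hM x)) c d
      smul_one := fun x => map_one (QuotientGroup.map L' L' (act x).toMonoidHom (hM x)) }
  -- a coset fixed by `x` gives a point fixed by `x`
  have hfix : ∀ x : A, ∀ k : K, x • (k : K ⧸ L') = (k : K ⧸ L') →
      (x : G) • ((k : G) • a) = (k : G) • a := by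
    intro x k h
    have h' : ((x : G) * k * (x : G)⁻¹)⁻¹ * (k : G) ∈ L :=
      mem_subgroupOf.1 ((QuotientGroup.eq (s := L') (a := act x k) (b := k)).1 h)
    have hxa : (x : G)⁻¹ • a = a := inv_mem (s := st a) (hAa x.2)
    have h2 : ((x : G) * k * (x : G)⁻¹)⁻¹ • ((k : G) • a) = a := by
      rw [← mul_smul]; exact h'.2
    rw [inv_smul_eq_iff, mul_smul, hxa, mul_smul] at h2
    exact h2.symm
  obtain ⟨k, hkK, hka⟩ := SetLike.not_le_iff_exists.1 hnot
  obtain ⟨y, hyA, hy1⟩ : ∃ y ∈ A, y ≠ 1 := by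
    by_contra h
    push Not at h
    have h1 : Nat.card A = 1 := by
      rw [card_eq_one, eq_bot_iff]; exact fun x hx => h x hx
    have := (Fact.out : q.Prime).one_lt
    omega
  have hQ : Nontrivial (K ⧸ L') := QuotientGroup.nontrivial_iff.2 fun h =>
    hka ((subgroupOf_eq_top.1 h) hkK).2
  -- coprimality
  have hAq : IsPGroup q A := fun x => ⟨1, Subtype.ext (by simpa using hAe x x.2)⟩
  have hndvd : ¬ q ∣ Nat.card (K ⧸ L') := by
    intro hdvd
    obtain ⟨c, hc, hc1⟩ := hAq.exists_fixed_point_of_prime_dvd_card_of_fixed_point (K ⧸ L') hdvd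
      (a := (1 : K ⧸ L')) (fun x => smul_one x)
    obtain ⟨k', rfl⟩ := QuotientGroup.mk_surjective c
    have := hsemi y hyA hy1 _ (hfix ⟨y, hyA⟩ k' (hc ⟨y, hyA⟩))
    exact hc1 ((QuotientGroup.eq_one_iff k').2 ((mem_subgroupOf (H := L) (K := K) (h := k')).2 ⟨k'.2, this⟩)).symm
  have hcop : (Nat.card A).Coprime (Nat.card (K ⧸ L')) := by
    obtain ⟨j, hj⟩ := IsPGroup.iff_card.1 hAq
    rw [hj]
    exact (((Fact.out : q.Prime).coprime_iff_not_dvd).2 hndvd).pow_left j
  have hnc : ¬ IsCyclic A := by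
    rintro ⟨g, hg⟩
    have h1 : Nat.card A = orderOf g := by
      rw [← Nat.card_zpowers, (eq_top_iff' (zpowers g)).2 (fun x => hg x), card_top]
    have h2 : orderOf g ∣ q := orderOf_dvd_of_pow_eq_one (Subtype.ext (by simpa using hAe g g.2))
    have := Nat.le_of_dvd (Fact.out : q.Prime).pos h2
    omega
  have htop := Coprime.closure_fixed_eq_top (G := K ⧸ L') (A := A) hnc hcop
  have hbot : closure {c : K ⧸ L' | ∃ x : A, x ≠ 1 ∧ x • c = c} ≤ ⊥ := by
    rw [closure_le]
    rintro c ⟨x, hx1, hx⟩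
    obtain ⟨k', rfl⟩ := QuotientGroup.mk_surjective c
    have := hsemi x x.2 (fun e => hx1 (Subtype.ext e)) _ (hfix x k' hx)
    exact (QuotientGroup.eq_one_iff k').2 ((mem_subgroupOf (H := L) (K := K) (h := k')).2 ⟨k'.2, this⟩)
  rw [htop, top_le_iff] at hbot
  obtain ⟨c, d, hcd⟩ := hQ
  exact hcd ((eq_bot_iff_forall _).1 hbot.symm c (mem_top c) |>.trans
    ((eq_bot_iff_forall _).1 hbot.symm d (mem_top d)).symm)

end CfsgLib.Bender.NormalPart
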