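import Cfsg.Agent.Bender.Commuting.Defs
import Cfsg.Agent.Bender.NC.Pairing
import Cfsg.Agent.Recog.RankOneSuzuki.Corollaries
import Cfsg.Agent.LocalB.StrongEmbedded
import Cfsg.Agent.Classical.Transvections
import Cfsg.Agent.Unitary.Simple
import Cfsg.Agent.PrimeGraph.SL2Char2
import Cfsg.Agent.S1162
import Cfsg.Agent.S1136
import Cfsg.Prelude.Def_Amalgam
import Cfsg.Prelude.Def_EvenType

/-!
Consequences of Bender's theorem on strongly embedded subgroups. The theorem enters as the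
hypothesis `Structure`: without odd core and with two commuting involutions a strongly embedded
subgroup has a normal 2-subgroup transitive on the other cosets.
-/

set_option autoImplicit false
set_option linter.unusedSectionVars false
set_option linter.style.haveILetI false

namespace CfsgLib.Bender.Consumers

open Subgroup
open CfsgLib.Bender.GSide

universe u

/-- The structure theorem for strongly embedded subgroups. -/
def Structure : Prop :=
  ∀ (G : Type u) [Group G] [Finite G] (H : Subgroup G), Cfsg.IsStronglyEmbedded H →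
    Cfsg.oddCore G = ⊥ → PairRank G → Commuting.Shape H

/-- The three families of simple groups with a strongly embedded subgroup. -/
def Three (L : Type*) [Group L] : Prop :=
  (∃ (F : Type) (_ : Field F) (_ : Fintype F), (∃ n : ℕ, 2 ≤ n ∧ Fintype.card F = 2 ^ n) ∧
      Nonempty (L ≃* Matrix.ProjectiveSpecialLinearGroup (Fin 2) F)) ∨
    Cfsg.Lie.IsoSuzuki L ∨
    (∃ (F : Type) (_ : Field F) (_ : Fintype F) (n : ℕ), 2 ≤ n ∧ Fintype.card F = (2 ^ n) ^ 2 ∧
      Nonempty (L ≃* Cfsg.PSU 3 F (2 ^ n)))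

theorem Three.congr {L M : Type*} [Group L] [Group M] (h : Three L) (e : M ≃* L) : Three M := by
  rcases h with ⟨F, i1, i2, hc, ⟨f⟩⟩ | ⟨F, i1, i2, m, hm, hc, ⟨f⟩⟩ | ⟨F, i1, i2, n, hn, hc, ⟨f⟩⟩
  · exact Or.inl ⟨F, i1, i2, hc, ⟨e.trans f⟩⟩
  · exact Or.inr (Or.inl ⟨F, i1, i2, m, hm, hc, ⟨e.trans f⟩⟩)
  · exact Or.inr (Or.inr ⟨F, i1, i2, n, hn, hc, ⟨e.trans f⟩⟩)

theorem Three.isSimpleGroup {L : Type*} [Group L] (h : Three L) : IsSimpleGroup L := by
  rcases h with ⟨F, i1, i2, ⟨n, hn, hc⟩, ⟨f⟩⟩ | ⟨F, i1, i2, m, hm, hc, ⟨f⟩⟩ |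
    ⟨F, i1, i2, n, hn, hc, ⟨f⟩⟩
  · have h4 : 2 ^ 2 ≤ Fintype.card F := hc ▸ Nat.pow_le_pow_right (by norm_num) hn
    haveI := charP_of_card_eq_prime_pow hc
    obtain ⟨x, hx0, hx1⟩ : ∃ x : F, x ≠ 0 ∧ x ≠ 1 := by
      classical
      obtain ⟨x, hx⟩ : (Finset.univ \ ({0, 1} : Finset F)).Nonempty := by
        rw [← Finset.card_pos]
        have h1 := Finset.le_card_sdiff ({0, 1} : Finset F) Finset.univ
        have h2 : ({0, 1} : Finset F).card ≤ 2 := Finset.card_le_two
        rw [Finset.card_univ] at h1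
        omega
      simp only [Finset.mem_sdiff, Finset.mem_univ, true_and, Finset.mem_insert,
        Finset.mem_singleton, not_or] at hx
      exact ⟨x, hx⟩
    haveI := CfsgLib.Linear.isSimpleGroup_PSL (ι := Fin 2) (F := F)
      (Or.inr ⟨x, hx0, fun hx => hx1 (by
        rcases sq_eq_one_iff.1 hx with h | h
        · exact h
        · rwa [CharTwo.neg_eq] at h)⟩)
    exact f.isSimpleGroup
  · haveI := Cfsg.Agent.S1162.result (F := F) hm hc
    exact f.isSimpleGroup
  · haveI := CfsgLib.Unitary.isSimpleGroup_PSU (F := F) (q := 2 ^ n) (by rw [Nat.card_eq_fintype_card, hc]) (n := 3) le_rfl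
      (fun h => by
        have h4 : 2 ^ 2 ≤ 2 ^ n := Nat.pow_le_pow_right (by norm_num) hn
        omega)
    exact f.isSimpleGroup

variable {G : Type u} [Group G] [Finite G] {H : Subgroup G}

theorem even_card (hse : Cfsg.IsStronglyEmbedded H) : Even (Nat.card G) :=
  even_iff_two_dvd.2 ((even_iff_two_dvd.1 hse.2.1).trans H.card_subgroup_dvd_card)

/-- The definition by the 1-generated core gives the classical one. -/
theorem stronglyEmbedded_of_pEmbedded {M : Subgroup G} (hM : Cfsg.IsStronglyPEmbedded 2 M) :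
    Cfsg.IsStronglyEmbedded M := by
  haveI : Fact (Nat.Prime 2) := ⟨Nat.prime_two⟩
  exact ⟨hM.2.1, even_iff_two_dvd.2 (LocalB.dvd_card_of_stronglyPEmbedded hM), fun g hg =>
    Nat.not_even_iff_odd.1 fun he =>
      LocalB.meetsPrime_of_stronglyPEmbedded hM g hg (even_iff_two_dvd.1 he)⟩

theorem pairRank_of_rankAtLeast {X : Type*} [Group X] [Finite X]
    (h : Cfsg.PRankAtLeast 2 2 X) : PairRank X := by
  obtain ⟨A, hA, hA2, hc⟩ := h
  classical
  haveI := Fintype.ofFinite A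
  obtain ⟨x, y, z, -, -, -, hxy, hxz, hyz⟩ :=
    Finset.two_lt_card_iff.1 (show 2 < (Finset.univ : Finset A).card by
      rw [Finset.card_univ, ← Nat.card_eq_fintype_card]; norm_num at hc ⊢; omega)
  obtain ⟨p, q, hp, hq, hpq⟩ : ∃ p q : A, p ≠ 1 ∧ q ≠ 1 ∧ p ≠ q := by
    by_cases hx : x = 1
    · exact ⟨y, z, fun h => hxy (hx.trans h.symm), fun h => hxz (hx.trans h.symm), hyz⟩
    · by_cases hy : y = 1
      · exact ⟨x, z, hx, fun h => hyz (hy.trans h.symm), hxz⟩
      · exact ⟨x, y, hx, hy, hxy⟩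
  have ho : ∀ w : A, w ≠ 1 → orderOf (w : X) = 2 := fun w hw =>
    Invol.orderOf_eq_two (by rw [← sq]; exact hA2 w w.2) fun h => hw (Subtype.ext h)
  exact ⟨p, q, ho p hp, ho q hq, fun h => hpq (Subtype.ext h),
    congrArg Subtype.val (hA.is_comm.comm p q)⟩

theorem exists_not_mem (hse : Cfsg.IsStronglyEmbedded H) : ∃ g : G, g ∉ H := by
  by_contra h
  push Not at h
  exact hse.1 (eq_top_iff.2 fun x _ => h x)

/-- An element of order a power of two of odd order is trivial. -/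
theorem eq_one_of_two_of_odd {x : G} (hodd : Odd (orderOf x)) {i : ℕ} (hi : x ^ 2 ^ i = 1) :
    x = 1 :=
  orderOf_eq_one_iff.1 (Nat.eq_one_of_dvd_coprimes ((Nat.coprime_two_left.2 hodd).pow_left i)
    (orderOf_dvd_of_pow_eq_one hi) dvd_rfl)

/-- A 2-subgroup of `H` meets the other point stabilizers trivially. -/
theorem shape_free (hse : Cfsg.IsStronglyEmbedded H) {T : Subgroup G} (hTH : T ≤ H)
    (hT : IsPGroup 2 T) {g : G} (hg : g ∉ H) {w : G} (hw : w ∈ T)
    (h : g⁻¹ * (w * g) ∈ H) : w = 1 := by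
  have hmem : w ∈ H ⊓ H.map (MulAut.conj g).toMonoidHom :=
    ⟨hTH hw, ⟨g⁻¹ * (w * g), h, by simp [mul_assoc]⟩⟩
  obtain ⟨i, hi⟩ := hT ⟨w, hw⟩
  exact eq_one_of_two_of_odd ((hse.2.2 g hg).of_dvd_nat (orderOf_dvd_natCard _ hmem))
    (congrArg Subtype.val hi)

/-- Every element of `H` is a product of one of `T` and one fixing a given second coset. -/
theorem shape_decomp {T : Subgroup G} (hTH : T ≤ H)
    (htr : ∀ g₁ g₂ : G, g₁ ∉ H → g₂ ∉ H → ∃ w ∈ T, g₂⁻¹ * (w * g₁) ∈ H) {g : G} (hg : g ∉ H)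
    {h : G} (hh : h ∈ H) :
    ∃ w ∈ T, w⁻¹ * h ∈ H ⊓ H.map (MulAut.conj g).toMonoidHom := by
  have hhg : h * g ∉ H := fun hc => hg (by simpa using mul_mem (inv_mem hh) hc)
  obtain ⟨w, hw, hw'⟩ := htr g (h * g) hg hhg
  have h1 : w⁻¹ * h ∈ H := mul_mem (inv_mem (hTH hw)) hh
  refine ⟨w, hw, h1, ⟨(g⁻¹ * (w⁻¹ * h) * g), ?_, by simp [mul_assoc]⟩⟩
  have := inv_mem hw'
  simpa [mul_assoc] using this

/-- The quotient of `H` by the 2-subgroup of the shape has odd order. -/
theorem odd_quot {T : Subgroup G} (hse : Cfsg.IsStronglyEmbedded H) (hTH : T ≤ H)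
    (htr : ∀ g₁ g₂ : G, g₁ ∉ H → g₂ ∉ H → ∃ w ∈ T, g₂⁻¹ * (w * g₁) ∈ H)
    [(T.subgroupOf H).Normal] : Odd (Nat.card (H ⧸ T.subgroupOf H)) := by
  obtain ⟨g, hg⟩ := exists_not_mem hse
  set D := H ⊓ H.map (MulAut.conj g).toMonoidHom
  let f : D → H ⧸ T.subgroupOf H := fun d => QuotientGroup.mk ⟨d, d.2.1⟩
  let φ : D →* H ⧸ T.subgroupOf H :=
    (QuotientGroup.mk' (T.subgroupOf H)).comp (Subgroup.inclusion inf_le_left)
  have hφ : Function.Surjective φ := by
    intro x
    obtain ⟨⟨h, hh⟩, rfl⟩ := QuotientGroup.mk_surjective x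
    obtain ⟨w, hw, hd⟩ := shape_decomp hTH htr hg hh
    refine ⟨⟨w⁻¹ * h, hd⟩, ?_⟩
    show QuotientGroup.mk (⟨w⁻¹ * h, hd.1⟩ : H) = QuotientGroup.mk (⟨h, hh⟩ : H)
    refine QuotientGroup.eq.2 (mem_subgroupOf.2 ?_)
    show (w⁻¹ * h)⁻¹ * h ∈ T
    rw [mul_inv_rev, inv_inv, mul_assoc]
    obtain hn := (inferInstance : (T.subgroupOf H).Normal).conj_mem ⟨w, hTH hw⟩ hw
      (⟨h, hh⟩ : H)⁻¹
    have hn' : h⁻¹ * w * h⁻¹⁻¹ ∈ T := hn
    rwa [inv_inv, mul_assoc] at hn'
  exact (hse.2.2 g hg).of_dvd_nat (card_dvd_of_surjective φ hφ)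

/-- The 2-subgroup of the shape contains the elements of 2-power order of `H`. -/
theorem two_mem_of_shape {T : Subgroup G} (hse : Cfsg.IsStronglyEmbedded H) (hTH : T ≤ H)
    (hn : H ≤ normalizer (T : Set G))
    (htr : ∀ g₁ g₂ : G, g₁ ∉ H → g₂ ∉ H → ∃ w ∈ T, g₂⁻¹ * (w * g₁) ∈ H)
    {x : G} (hx : x ∈ H) {i : ℕ} (hi : x ^ 2 ^ i = 1) : x ∈ T := by
  haveI : (T.subgroupOf H).Normal := (normal_subgroupOf_iff_le_normalizer hTH).2 hn
  have hodd := (odd_quot hse hTH htr).of_dvd_nat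
    (_root_.orderOf_dvd_natCard ((⟨x, hx⟩ : H) : H ⧸ T.subgroupOf H))
  have h1 : ((⟨x, hx⟩ : H) : H ⧸ T.subgroupOf H) = 1 := by
    refine eq_one_of_two_of_odd hodd (i := i) ?_
    rw [← QuotientGroup.mk_pow, show (⟨x, hx⟩ : H) ^ 2 ^ i = 1 from Subtype.ext hi,
      QuotientGroup.mk_one]
  exact mem_subgroupOf.1 ((QuotientGroup.eq_one_iff _).1 h1)

section Quotient

/-- The image of a strongly embedded subgroup containing the odd core. -/
theorem quot_se (hse : Cfsg.IsStronglyEmbedded H) (hp : PairRank G) :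
    Cfsg.IsStronglyEmbedded (H.map (QuotientGroup.mk' (Cfsg.oddCore G))) := by
  set π := QuotientGroup.mk' (Cfsg.oddCore G)
  have hO : Cfsg.oddCore G ≤ H :=
    Core.normal_odd_le hse hp inferInstance IsoApps.odd_oddCore
  have hmem : ∀ g : G, π g ∈ H.map π → g ∈ H := by
    rintro g ⟨h, hh, hhg⟩
    have h1 : h⁻¹ * g ∈ Cfsg.oddCore G := QuotientGroup.eq.1 hhg
    simpa using mul_mem hh (hO h1)
  refine ⟨fun h => ?_, ?_, fun x hx => ?_⟩
  · obtain ⟨g, hg⟩ := exists_not_mem hse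
    exact hg (hmem g (h ▸ mem_top _))
  · obtain ⟨t, htH, ht⟩ := StrongEmbed.exists_invol hse
    have h2 : orderOf (π t) = 2 := Invol.orderOf_eq_two
      (by rw [← map_mul, Invol.mul_self_eq_one ht, map_one]) fun h => by
        have h1 := IsoApps.odd_of_mem_oddCore ((QuotientGroup.eq_one_iff t).1 h)
        rw [ht] at h1
        exact absurd h1 (by decide)
    have h3 := Subgroup.orderOf_dvd_natCard (H.map π) (show π t ∈ H.map π from ⟨t, htH, rfl⟩)
    rw [h2] at h3
    exact even_iff_two_dvd.2 h3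
  · obtain ⟨g, rfl⟩ := QuotientGroup.mk'_surjective (Cfsg.oddCore G) x
    have hg : g ∉ H := fun h => hx ⟨g, h, rfl⟩
    refine (hse.2.2 g hg).of_dvd_nat (dvd_trans (card_dvd_of_le ?_) (card_map_dvd _ π))
    rintro _ ⟨⟨h, hh, rfl⟩, _, ⟨k, hk, rfl⟩, hk'⟩
    refine ⟨h, ⟨hh, ⟨g⁻¹ * h * g, hmem _ ⟨k, hk, ?_⟩, by simp [mul_assoc]⟩⟩, rfl⟩
    have e : π g * π k * (π g)⁻¹ = π h := hk'
    rw [map_mul, map_mul, map_inv, ← e]
    group

theorem quot_pairRank (hp : PairRank G) : PairRank (G ⧸ Cfsg.oddCore G) := by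
  set π := QuotientGroup.mk' (Cfsg.oddCore G)
  have hord : ∀ t : G, orderOf t = 2 → orderOf (π t) = 2 := fun t ht => Invol.orderOf_eq_two
      (by rw [← map_mul, Invol.mul_self_eq_one ht, map_one]) fun h => by
        have h1 := IsoApps.odd_of_mem_oddCore ((QuotientGroup.eq_one_iff t).1 h)
        rw [ht] at h1
        exact absurd h1 (by decide)
  obtain ⟨u, v, hu, hv, hne, hc⟩ := hp
  refine ⟨π u, π v, hord u hu, hord v hv, fun h => ?_, hc.map π⟩
  have h1 := IsoApps.odd_of_mem_oddCore (QuotientGroup.eq.1 h)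
  rw [Invol.inv_eq_self hu, Invol.orderOf_eq_two ?_ fun h' => hne ?_] at h1
  · exact absurd h1 (by decide)
  · rw [hc.symm.mul_mul_mul_comm, Invol.mul_self_eq_one hu, Invol.mul_self_eq_one hv, one_mul]
  · rw [eq_inv_of_mul_eq_one_left h', Invol.inv_eq_self hv]

variable (hB : Structure.{u})
include hB

/-- The shape of the image in the quotient by the odd core. -/
theorem quot_shape (hse : Cfsg.IsStronglyEmbedded H) (hp : PairRank G) :
    Commuting.Shape (H.map (QuotientGroup.mk' (Cfsg.oddCore G))) :=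
  hB _ _ (quot_se hse hp) LocalB.oddCore_quotient (quot_pairRank hp)

/-- A strongly embedded subgroup of a group of 2-rank at least two is solvable. -/
theorem isSolvable (hse : Cfsg.IsStronglyEmbedded H) (hp : PairRank G) : Group.IsSolvable H := by
  set π := QuotientGroup.mk' (Cfsg.oddCore G)
  obtain ⟨T, hTH, hn, hT2, htr⟩ := quot_shape hB hse hp
  have hse' := quot_se hse hp
  haveI : (T.subgroupOf (H.map π)).Normal := (normal_subgroupOf_iff_le_normalizer hTH).2 hn
  haveI : Group.IsSolvable (H.map π ⧸ T.subgroupOf (H.map π)) :=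
    OddEnd.odd_solvable _ (odd_quot hse' hTH htr)
  haveI : Fact (Nat.Prime 2) := ⟨Nat.prime_two⟩
  haveI := (hT2.of_equiv (subgroupOfEquivOfLe hTH).symm).isNilpotent
  haveI hsol : Group.IsSolvable (H.map π) :=
    Group.isSolvable_of_ker_le_range (T.subgroupOf (H.map π)).subtype
      (QuotientGroup.mk' (T.subgroupOf (H.map π))) (by
        rw [QuotientGroup.ker_mk', range_subtype])
  haveI : Group.IsSolvable (Cfsg.oddCore G) := OddEnd.odd_solvable _ IsoApps.odd_oddCore
  have hO : Cfsg.oddCore G ≤ H :=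
    Core.normal_odd_le hse hp inferInstance IsoApps.odd_oddCore
  refine Group.isSolvable_of_ker_le_range (Subgroup.inclusion hO) (π.subgroupMap H) ?_
  intro h hh
  have h1 : π (h : G) = 1 := congrArg Subtype.val hh
  exact ⟨⟨h, (QuotientGroup.eq_one_iff _).1 h1⟩, rfl⟩

/-- The subgroup generated by the elements of 2-power order of the quotient by the odd core. -/
theorem closure_three (hse : Cfsg.IsStronglyEmbedded H) (hp : PairRank G) :
    Three ↥(Cfsg.pElementClosure 2 (⊤ : Subgroup (G ⧸ Cfsg.oddCore G))) := by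
  set Q := G ⧸ Cfsg.oddCore G
  set K := H.map (QuotientGroup.mk' (Cfsg.oddCore G))
  haveI : Fact (Nat.Prime 2) := ⟨Nat.prime_two⟩
  have hse' : Cfsg.IsStronglyEmbedded K := quot_se hse hp
  obtain ⟨T, hTH, hn, hT2, htr⟩ := quot_shape hB hse hp
  obtain ⟨g, hg⟩ := exists_not_mem hse'
  obtain ⟨t, ht, htg⟩ := StrongEmbed.exists_swap hse' (x := (QuotientGroup.mk 1 : Q ⧸ K))
    (y := g • QuotientGroup.mk 1) fun h => hg (StrongEmbed.smul_mk_one_iff.1 h.symm)
  have htH : t ∉ K := fun h => hg (StrongEmbed.smul_mk_one_iff.1 (by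
    rw [← htg, StrongEmbed.smul_mk_one_iff.2 h]))
  have hsetup := Recog.RankOneSuzuki.Coroll.setup_cosets K T t (Invol.mul_self_eq_one ht) htH hTH
    (fun h hh x hx => (mem_normalizer_iff.1 (hn hh) x).1 hx)
    (fun x hx => htr t x htH hx)
    (fun w hw h => shape_free hse' hTH hT2 htH hw h) (hse'.2.2 t htH) hse'.2.1
  haveI : FaithfulSMul Q (Q ⧸ K) := by
    have hcore : K.normalCore = ⊥ := by
      refine le_bot_iff.1 ((?_ : K.normalCore ≤ Cfsg.oddCore Q).trans LocalB.oddCore_quotient.le)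
      refine Core.le_oddCore K.normalCore_normal ((hse'.2.2 g hg).of_dvd_nat
        (card_dvd_of_le fun x hx => ⟨K.normalCore_le hx, g⁻¹ * x * g,
          K.normalCore_le (by simpa using K.normalCore_normal.conj_mem x hx g⁻¹),
          by simp [mul_assoc]⟩))
    rw [normalCore_eq_ker, MonoidHom.ker_eq_bot_iff] at hcore
    exact ⟨fun {x y} h => hcore (Equiv.ext h)⟩
  obtain ⟨u, v, hu, hv, hne, hc⟩ := quot_pairRank (G := G) hp
  obtain ⟨L, hLn, hodd, hL⟩ := Cfsg.Agent.S1136.result hsetup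
    ⟨u, v, Invol.ne_one hu, Invol.ne_one hv, hne, Invol.mul_self_eq_one hu,
      Invol.mul_self_eq_one hv, hc.eq⟩
  haveI : IsSimpleGroup L := Three.isSimpleGroup hL
  set P := Cfsg.pElementClosure 2 (⊤ : Subgroup Q)
  haveI : P.Normal := by
    refine normalizer_eq_top_iff.1 (eq_top_iff.2 fun x _ => mem_norm_iff.2 (cj_eq_of_le ?_ le_rfl))
    show P.map (MulAut.conj x).toMonoidHom ≤ P
    rw [Subgroup.map_le_iff_le_comap]
    refine (Subgroup.closure_le _).2 ?_
    rintro y ⟨-, i, hi⟩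
    refine Subgroup.subset_closure ⟨mem_top _, i, ?_⟩
    show orderOf (x * y * x⁻¹) = 2 ^ i
    rw [Invol.orderOf_conj_eq, hi]
  have hPL : P ≤ L := by
    refine (Subgroup.closure_le _).2 ?_
    rintro y ⟨-, i, hi⟩
    haveI := hLn
    refine (QuotientGroup.eq_one_iff y).1 (eq_one_of_two_of_odd (i := i) ?_ ?_)
    · rw [index_eq_card] at hodd
      exact hodd.of_dvd_nat (_root_.orderOf_dvd_natCard _)
    · rw [← QuotientGroup.mk_pow, ← hi, pow_orderOf_eq_one, QuotientGroup.mk_one]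
  have hLP : L ≤ P := by
    rcases (inferInstance : (P.subgroupOf L).Normal).eq_bot_or_eq_top with h | h
    · exfalso
      have huP : u ∈ P := Subgroup.subset_closure ⟨mem_top _, 1, by rw [hu, pow_one]⟩
      have h1 : (⟨u, hPL huP⟩ : L) ∈ P.subgroupOf L := huP
      rw [h, mem_bot] at h1
      exact Invol.ne_one hu (congrArg Subtype.val h1)
    · exact subgroupOf_eq_top.1 h
  exact Three.congr hL (MulEquiv.subgroupCongr (le_antisymm hPL hLP))

omit hB in
theorem oddCore_eq_bot_of_simple [IsSimpleGroup G] (hse : Cfsg.IsStronglyEmbedded H) :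
    Cfsg.oddCore G = ⊥ :=
  (inferInstance : (Cfsg.oddCore G).Normal).eq_bot_or_eq_top.resolve_right fun h =>
    Nat.not_even_iff_odd.2 (by
      have h1 : Odd (Nat.card (Cfsg.oddCore G)) := IsoApps.odd_oddCore
      rwa [h, card_top] at h1) (even_card hse)

omit hB in
theorem pairRank_of_simple [IsSimpleGroup G] (hse : Cfsg.IsStronglyEmbedded H) : PairRank G := by
  obtain ⟨x, y, hx, hy, hne, hx2, hy2, hc⟩ := Recog.RankOneSuzuki.Coroll.exists_two hse
  exact ⟨x, y, Invol.orderOf_eq_two hx2 hx, Invol.orderOf_eq_two hy2 hy, hne, hc⟩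

/-- The shape in a simple group. -/
theorem shape_of_simple [IsSimpleGroup G] (hse : Cfsg.IsStronglyEmbedded H) :
    Commuting.Shape H :=
  hB G H hse (oddCore_eq_bot_of_simple hse) (pairRank_of_simple hse)

/-- A simple group with a strongly embedded subgroup is one of the three. -/
theorem three_of_simple [IsSimpleGroup G] (hse : Cfsg.IsStronglyEmbedded H) : Three G := by
  have hO : Cfsg.oddCore G = ⊥ := oddCore_eq_bot_of_simple hse
  have hP := closure_three hB hse (pairRank_of_simple hse)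
  let e : G ≃* G ⧸ Cfsg.oddCore G :=
    (QuotientGroup.quotientBot.symm).trans (QuotientGroup.quotientMulEquivOfEq hO.symm)
  haveI : IsSimpleGroup (G ⧸ Cfsg.oddCore G) := e.symm.isSimpleGroup
  haveI := Three.isSimpleGroup hP
  have htop : Cfsg.pElementClosure 2 (⊤ : Subgroup (G ⧸ Cfsg.oddCore G)) = ⊤ := by
    have hn : (Cfsg.pElementClosure 2 (⊤ : Subgroup (G ⧸ Cfsg.oddCore G))).Normal := by
      refine normalizer_eq_top_iff.1 (eq_top_iff.2 fun x _ => mem_norm_iff.2 (cj_eq_of_le ?_ le_rfl))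
      show Subgroup.map (MulAut.conj x).toMonoidHom _ ≤ _
      rw [Subgroup.map_le_iff_le_comap]
      refine (Subgroup.closure_le _).2 ?_
      rintro y ⟨-, i, hi⟩
      refine Subgroup.subset_closure ⟨mem_top _, i, ?_⟩
      show orderOf (x * y * x⁻¹) = 2 ^ i
      rw [Invol.orderOf_conj_eq, hi]
    exact hn.eq_bot_or_eq_top.resolve_left fun h => (nontrivial_iff_ne_bot _).1 inferInstance h
  exact Three.congr hP ((e.trans Subgroup.topEquiv.symm).trans (MulEquiv.subgroupCongr htop.symm))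

/-- An inverted element of a two-point stabilizer commutes with no involution. -/
theorem odd_centralizer_inverted (hse : Cfsg.IsStronglyEmbedded H) (hcore : H.normalCore = ⊥)
    {u j : G} (hu : orderOf u = 2) (huH : u ∉ H)
    (hj : j ∈ H ⊓ H.map (MulAut.conj u).toMonoidHom) (hj1 : j ≠ 1) (hinv : u * j * u⁻¹ = j⁻¹) :
    Odd (Nat.card (centralizer ({j} : Set G))) := by
  haveI : Fact (Nat.Prime 2) := ⟨Nat.prime_two⟩
  by_contra hev
  obtain ⟨z, hz⟩ := exists_prime_orderOf_dvd_card' (G := centralizer ({j} : Set G)) 2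
    (even_iff_two_dvd.1 (Nat.not_odd_iff_even.1 hev))
  rw [← Subgroup.orderOf_coe] at hz
  obtain ⟨z, hzj⟩ := z
  change orderOf z = 2 at hz
  have hzj' : Commute z j := mem_centralizer_singleton_iff.1 hzj
  have hjodd : Odd (orderOf j) := (hse.2.2 u huH).of_dvd_nat (orderOf_dvd_natCard _ hj)
  have hne : ∀ g : G, Commute g j → g ≠ u := fun g hg h =>
    hj1 (Core.eq_one_of_inverted_commute hjodd hinv (h ▸ hg))
  obtain ⟨c, hzc⟩ := StrongEmbed.exists_fix hse hz
  have hjc : j • c = c := StrongEmbed.fix_unique hse hz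
    (by rw [smul_smul, hzj'.eq, mul_smul, hzc]) hzc
  have huc : u • c = c := by
    by_cases he : Even (orderOf (u * z))
    · obtain ⟨hd, hdu, hdz⟩ := Invol.half_props hu hz he
      set d := (u * z) ^ (orderOf (u * z) / 2)
      have hdc : d • c = c := StrongEmbed.fix_unique hse hz
        (by rw [smul_smul, hdz.symm.eq, mul_smul, hzc]) hzc
      exact StrongEmbed.fix_unique hse hd (by rw [smul_smul, hdu.eq, mul_smul, hdc]) hdc
    · exfalso
      obtain ⟨m, hm⟩ := Invol.exists_pow_conj_of_odd hu hz (Nat.not_even_iff_odd.1 he)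
      set g := (u * z) ^ m with hg
      have hN : g ∈ normalizer (zpowers j : Set G) := by
        refine pow_mem (mul_mem ?_ ?_) m
        · rw [mem_norm_iff]
          show (zpowers j).map _ = _
          rw [MonoidHom.map_zpowers]
          show zpowers (u * j * u⁻¹) = _
          rw [hinv, zpowers_inv]
        · exact centralizer_le_normalizer _ (mem_centralizer_iff.2 fun y hy => by
            obtain ⟨i, rfl⟩ := mem_zpowers_iff.1 hy
            exact (hzj'.symm.zpow_left i).eq)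
      obtain ⟨i, hi⟩ := (mem_normalizer_iff.1 hN j).1 (mem_zpowers j)
      have hi' : g * j * g⁻¹ = j ^ i := hi.symm
      have h1 : Commute z (g * j * g⁻¹) := hi' ▸ hzj'.zpow_right i
      have h2 : Commute (g⁻¹ * z * g) (g⁻¹ * (g * j * g⁻¹) * g) := by
        have := h1.map (MulAut.conj g⁻¹).toMonoidHom
        simpa using this
      rw [show g⁻¹ * z * g = u by rw [← hm]; group, show g⁻¹ * (g * j * g⁻¹) * g = j by group] at h2
      exact hne u h2 rfl
  by_cases hp : PairRank G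
  · have hO : Cfsg.oddCore G = ⊥ := le_bot_iff.1 (hcore ▸
      (Subgroup.normal_le_normalCore (N := Cfsg.oddCore G)).2
        (Core.normal_odd_le hse hp inferInstance IsoApps.odd_oddCore))
    set a : G ⧸ H := QuotientGroup.mk 1
    have hja : j • a = a := StrongEmbed.smul_mk_one_iff.2 hj.1
    set b := u • a
    have hab : a ≠ b := fun h => huH (StrongEmbed.smul_mk_one_iff.1 h.symm)
    have hjb : j • b = b := by
      obtain ⟨k, hk, hkj⟩ := hj.2
      have hkj' : u * k * u⁻¹ = j := hkj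
      show j • u • a = u • a
      rw [← hkj', smul_smul, inv_mul_cancel_right, mul_smul, StrongEmbed.smul_mk_one_iff.2 hk]
    have hac : a ≠ c := fun h => hab (show a = u • a by rw [h, huc])
    have hbc : b ≠ c := fun h => hac (MulAction.injective u (h.trans huc.symm))
    obtain ⟨T, hTc, hnorm, hT2, htr⟩ := NC.shape_at (hB G H hse hO hp) c
    have hfree : ∀ w ∈ T, w • a = a → w = 1 := fun w hw hwa => by
      obtain ⟨i, hi⟩ := hT2 ⟨w, hw⟩
      exact eq_one_of_two_of_odd ((odd_pair hse hac.symm).of_dvd_nat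
        (orderOf_dvd_natCard _ (⟨hTc hw, hwa⟩ : w ∈ st c ⊓ st a))) (congrArg Subtype.val hi)
    obtain ⟨w, hw, hwa⟩ := htr a b hac hbc
    have hwc : w • c = c := hTc hw
    set d := w⁻¹ * u with hd
    have hdc : d • c = c := by rw [hd, mul_smul, huc, inv_smul_eq_iff, hwc]
    have hda : d • a = a := by rw [hd, mul_smul, inv_smul_eq_iff, hwa]
    have hd2 : d ^ 2 ∈ T := by
      have h1 : d ^ 2 = w⁻¹ * (u * w⁻¹ * u⁻¹) * (u * u) := by rw [hd, sq]; group
      rw [h1, Invol.mul_self_eq_one hu, mul_one]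
      exact mul_mem (inv_mem hw) (hnorm u huc _ (inv_mem hw))
    have hd21 : d ^ 2 = 1 := hfree _ hd2 (by rw [sq, mul_smul, hda, hda])
    have hd1 : d = 1 := eq_one_of_two_of_odd ((odd_pair hse hac.symm).of_dvd_nat
      (orderOf_dvd_natCard _ (⟨hdc, hda⟩ : d ∈ st c ⊓ st a))) (i := 1) (by rw [pow_one, hd21])
    have huT : u ∈ T := by
      have : u = w := (inv_mul_eq_one.1 hd1).symm
      rwa [this]
    have hcu : u⁻¹ * (j * u * j⁻¹) = 1 := hfree _
      (mul_mem (inv_mem huT) (hnorm j hjc u huT)) (by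
        rw [mul_smul, mul_smul, mul_smul, inv_smul_eq_iff.2 hja.symm, inv_smul_eq_iff]
        exact hjb)
    exact hne u ((mul_inv_eq_iff_eq_mul.1 (inv_mul_eq_one.1 hcu).symm).symm) rfl
  · have hnp : ¬ Core.HasPair (⊤ : Subgroup G) := fun ⟨x, y, _, _, hx, hy, hne, hc⟩ =>
      hp ⟨x, y, hx, hy, hne, hc⟩
    obtain ⟨o, ho, hoz⟩ :=
      Core.exists_conj_of_not_pair hnp (mem_top z) hz (mem_top u) hu
    obtain ⟨o', ho', rfl⟩ := ho
    set o : G := ((⊤ : Subgroup G).subtype o') with hodef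
    set g := o⁻¹ * (u * o * u⁻¹) with hg
    have hgo : Odd (orderOf g) := by
      have hn : o'⁻¹ * (⟨u, mem_top u⟩ * o' * ⟨u, mem_top u⟩⁻¹) ∈
          Cfsg.oddCore (⊤ : Subgroup G) :=
        mul_mem (inv_mem ho') ((inferInstance : (Cfsg.oddCore (⊤ : Subgroup G)).Normal).conj_mem _ ho' _)
      have h1 := IsoApps.odd_of_mem_oddCore hn
      rwa [← Subgroup.orderOf_coe] at h1
    have hcj : Commute u (o * j * o⁻¹) := by
      rw [← hoz]
      have := hzj'.map (MulAut.conj o).toMonoidHom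
      simpa using this
    have h1 : g * j⁻¹ * g⁻¹ = j := by
      have h2 : u * (o * j * o⁻¹) * u⁻¹ = o * j * o⁻¹ := hcj.mul_inv_cancel
      calc g * j⁻¹ * g⁻¹ = o⁻¹ * ((u * o * u⁻¹) * j⁻¹ * (u * o * u⁻¹)⁻¹) * o := by rw [hg]; group
        _ = o⁻¹ * (u * (o * j * o⁻¹) * u⁻¹) * o := by rw [← hinv]; group
        _ = j := by rw [h2]; group
    have h1' : g * j * g⁻¹ = j⁻¹ := by
      have := congrArg (·⁻¹) h1
      simpa [mul_assoc] using this
    exact hj1 (Core.eq_one_of_inverted_commute hjodd h1' (by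
      obtain ⟨n, hn⟩ := exists_pow_eq_self_of_coprime (x := g) (n := 2)
        (Nat.coprime_two_left.2 hgo)
      have h3 : Commute (g ^ 2) j := by
        refine mul_inv_eq_iff_eq_mul.1 ?_
        calc g ^ 2 * j * (g ^ 2)⁻¹ = g * (g * j * g⁻¹) * g⁻¹ := by rw [sq]; group
          _ = j := by rw [h1', h1]
      exact hn ▸ h3.pow_left n))

end Quotient

end CfsgLib.Bender.Consumers
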