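import Cfsg.Agent.Bender.QuadOdd
import Mathlib.GroupTheory.QuotientGroup.Basic

/-!
Two quadratic elements without a common fixed point do not generate a linear group of odd order.
-/

set_option autoImplicit false

namespace CfsgLib.Bender

open Subgroup
open scoped commutatorElement

section Ambient

variable {G : Type*} [Group G] [Finite G] {r : ℕ} [Fact r.Prime]

/-- `z` and `w` act on the abelian group `X × X₂` as `(1 φ; 0 1)` and `(1 0; ψ 1)` with `φ`, `ψ`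
injective: the group they generate has even order. -/
theorem false_of_two_transvections (hr : r ≠ 2) {X X₂ : Subgroup G} {z w : G}
    (hodd : Odd (Nat.card (closure ({z, w} : Set G))))
    (hne : X ≠ ⊥)
    (hX : ∀ x ∈ X, ∀ y ∈ X, x * y = y * x) (hX₂ : ∀ x ∈ X₂, ∀ y ∈ X₂, x * y = y * x)
    (hcomm : ∀ x ∈ X, ∀ y ∈ X₂, x * y = y * x)
    (hexp : ∀ x ∈ X, x ^ r = 1) (hexp₂ : ∀ y ∈ X₂, y ^ r = 1)
    (hzX : ∀ x ∈ X, z * x = x * z) (hwX₂ : ∀ y ∈ X₂, w * y = y * w)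
    (hzX₂ : ∀ y ∈ X₂, z * y * z⁻¹ * y⁻¹ ∈ X) (hwX : ∀ x ∈ X, w * x * w⁻¹ * x⁻¹ ∈ X₂)
    (hφ : ∀ y ∈ X₂, z * y = y * z → y = 1) (hψ : ∀ x ∈ X, w * x = x * w → x = 1) : False := by
  classical
  set U : Subgroup G := X ⊔ X₂ with hUdef
  have hXU : X ≤ U := le_sup_left
  have hX₂U : X₂ ≤ U := le_sup_right
  have hU : ∀ u ∈ U, ∀ v ∈ U, u * v = v * u := by
    have h : U ≤ centralizer (U : Set G) := by
      refine sup_le ?_ ?_ <;> rw [le_centralizer_iff] <;> refine sup_le ?_ ?_ <;>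
        intro x hx <;> rw [mem_centralizer_iff] <;> intro y hy
      · exact hX y hy x hx
      · exact hcomm y hy x hx
      · exact (hcomm x hx y hy).symm
      · exact hX₂ y hy x hx
    exact fun u hu v hv => mem_centralizer_iff.1 (h hv) u hu
  letI : CommGroup U := { mul_comm := fun x y => Subtype.ext (hU x x.2 y y.2) }
  have hdec : ∀ u ∈ U, ∃ x ∈ X, ∃ y ∈ X₂, x * y = u := by
    intro u hu
    rw [hUdef, sup_eq_closure] at hu
    induction hu using closure_induction with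
    | mem u hu =>
      rcases hu with hu | hu
      · exact ⟨u, hu, 1, one_mem _, mul_one u⟩
      · exact ⟨1, one_mem _, u, hu, one_mul u⟩
    | one => exact ⟨1, one_mem _, 1, one_mem _, mul_one 1⟩
    | mul u v _ _ hu hv =>
      obtain ⟨x, hx, y, hy, rfl⟩ := hu
      obtain ⟨x', hx', y', hy', rfl⟩ := hv
      refine ⟨x * x', mul_mem hx hx', y * y', mul_mem hy hy', ?_⟩
      calc x * x' * (y * y') = x * (x' * y) * y' := by group
        _ = x * (y * x') * y' := by rw [hcomm x' hx' y hy]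
        _ = x * y * (x' * y') := by group
    | inv u _ hu =>
      obtain ⟨x, hx, y, hy, rfl⟩ := hu
      exact ⟨x⁻¹, inv_mem hx, y⁻¹, inv_mem hy, by
        rw [mul_inv_rev]; exact hcomm _ (inv_mem hx) _ (inv_mem hy)⟩
  have hzn : ∀ u ∈ U, z * u * z⁻¹ ∈ U := by
    intro u hu
    obtain ⟨x, hx, y, hy, rfl⟩ := hdec u hu
    have e : z * (x * y) * z⁻¹ = (z * x * z⁻¹) * (z * y * z⁻¹ * y⁻¹ * y) := by group
    rw [e, hzX x hx, mul_inv_cancel_right]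
    exact mul_mem (hXU hx) (mul_mem (hXU (hzX₂ y hy)) (hX₂U hy))
  have hwn : ∀ u ∈ U, w * u * w⁻¹ ∈ U := by
    intro u hu
    obtain ⟨x, hx, y, hy, rfl⟩ := hdec u hu
    have e : w * (x * y) * w⁻¹ = (w * x * w⁻¹ * x⁻¹ * x) * (w * y * w⁻¹) := by group
    rw [e, hwX₂ y hy, mul_inv_cancel_right]
    exact mul_mem (mul_mem (hX₂U (hwX x hx)) (hXU hx)) (hX₂U hy)
  have hN : ∀ c ∈ ({z, w} : Set G), c ∈ normalizer (U : Set G) := by
    intro c hc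
    have hc' : ∀ u ∈ U, c * u * c⁻¹ ∈ U := by rcases hc with rfl | rfl <;> assumption
    rw [mem_normalizer_iff_map_conj_eq]
    refine eq_of_le_of_card_ge ?_ (le_of_eq ?_)
    · rintro _ ⟨u, hu, rfl⟩
      exact hc' u hu
    · exact (card_map_of_injective (MulAut.conj c).injective).symm
  let A : Subgroup G := closure ({z, w} : Set G)
  let act : A →* MulAut U :=
    U.normalizerMonoidHom.comp (inclusion ((closure_le _).2 hN))
  let za : A := ⟨z, subset_closure (by simp)⟩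
  let wa : A := ⟨w, subset_closure (by simp)⟩
  have hrange : closure ({act za, act wa} : Set (MulAut U)) ≤ act.range :=
    (closure_le _).2 (by rintro _ (rfl | rfl) <;> exact ⟨_, rfl⟩)
  have hodd' : Odd (Nat.card (closure ({act za, act wa} : Set (MulAut U)))) :=
    Odd.of_dvd_nat hodd ((card_dvd_of_le hrange).trans (card_range_dvd act))
  obtain ⟨x₀, hx₀, hx₀1⟩ := ne_bot_iff_exists_ne_one.1 hne |> fun ⟨⟨x, hx⟩, h⟩ =>
    (⟨x, hx, fun e => h (Subtype.ext e)⟩ : ∃ x, x ∈ X ∧ x ≠ 1)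
  have hexpU : ∀ m : U, m ^ r = 1 := by
    intro m
    obtain ⟨x, hx, y, hy, hm⟩ := hdec m m.2
    apply Subtype.ext
    show (m : G) ^ r = 1
    rw [← hm, Commute.mul_pow (hcomm x hx y hy), hexp x hx, hexp₂ y hy, one_mul]
  haveI : Nontrivial U :=
    ⟨⟨⟨x₀, hXU hx₀⟩, 1, fun e => hx₀1 (congrArg Subtype.val e)⟩⟩
  have hqz : ∀ m : U, act za (act za m * m⁻¹) = act za m * m⁻¹ := by
    rintro ⟨u, hu⟩
    obtain ⟨x, hx, y, hy, rfl⟩ := hdec u hu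
    apply Subtype.ext
    show z * (z * (x * y) * z⁻¹ * (x * y)⁻¹) * z⁻¹ = z * (x * y) * z⁻¹ * (x * y)⁻¹
    have hmem : z * (x * y) * z⁻¹ * (x * y)⁻¹ ∈ X := by
      rw [show z * (x * y) * z⁻¹ * (x * y)⁻¹ = z * x * z⁻¹ * (z * y * z⁻¹ * y⁻¹) * x⁻¹ by group,
        hzX x hx, mul_inv_cancel_right]
      exact mul_mem (mul_mem hx (hzX₂ y hy)) (inv_mem hx)
    rw [hzX _ hmem, mul_inv_cancel_right]
  have hqw : ∀ m : U, act wa (act wa m * m⁻¹) = act wa m * m⁻¹ := by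
    rintro ⟨u, hu⟩
    obtain ⟨x, hx, y, hy, rfl⟩ := hdec u hu
    apply Subtype.ext
    show w * (w * (x * y) * w⁻¹ * (x * y)⁻¹) * w⁻¹ = w * (x * y) * w⁻¹ * (x * y)⁻¹
    have hmem : w * (x * y) * w⁻¹ * (x * y)⁻¹ ∈ X₂ := by
      rw [show w * (x * y) * w⁻¹ * (x * y)⁻¹ = w * x * w⁻¹ * (w * y * w⁻¹ * y⁻¹) * x⁻¹ by group,
        hwX₂ y hy, mul_inv_cancel_right, mul_inv_cancel, mul_one]
      exact hwX x hx
    rw [hwX₂ _ hmem, mul_inv_cancel_right]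
  obtain ⟨⟨m, hmU⟩, hm1, hmz, hmw⟩ := exists_common_fixed hr hexpU hodd' hqz hqw
  obtain ⟨x, hx, y, hy, rfl⟩ := hdec m hmU
  have hzm : z * (x * y) * z⁻¹ = x * y := congrArg Subtype.val hmz
  have hy1 : y = 1 := by
    refine hφ y hy (mul_inv_eq_iff_eq_mul.1 ?_)
    rw [show z * (x * y) * z⁻¹ = z * x * z⁻¹ * (z * y * z⁻¹) by group, hzX x hx,
      mul_inv_cancel_right] at hzm
    exact mul_left_cancel hzm
  subst hy1
  have hwm : w * (x * 1) * w⁻¹ = x * 1 := congrArg Subtype.val hmw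
  rw [mul_one, mul_inv_eq_iff_eq_mul] at hwm
  exact hm1 (Subtype.ext (by simp [hψ x hx hwm]))

/-- The same statement modulo a subgroup `Y`; the part of `X₂` outside `N(Y)` plays no role. -/
theorem false_of_two_transvections_mod (hr : r ≠ 2) {X X₂ Y : Subgroup G} {z w : G}
    (hodd : Odd (Nat.card (closure ({z, w} : Set G))))
    (hXn : X ≤ normalizer (Y : Set G))
    (hzn : z ∈ normalizer (Y : Set G)) (hwn : w ∈ normalizer (Y : Set G))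
    (hne : ¬ X ≤ Y)
    (hX : ∀ x ∈ X, ∀ y ∈ X, x * y * x⁻¹ * y⁻¹ ∈ Y)
    (hX₂ : ∀ x ∈ X₂, ∀ y ∈ X₂, x * y * x⁻¹ * y⁻¹ ∈ Y)
    (hcomm : ∀ x ∈ X, ∀ y ∈ X₂, x * y * x⁻¹ * y⁻¹ ∈ Y)
    (hexp : ∀ x ∈ X, x ^ r ∈ Y) (hexp₂ : ∀ y ∈ X₂, y ^ r ∈ Y)
    (hzX : ∀ x ∈ X, z * x * z⁻¹ * x⁻¹ ∈ Y) (hwX₂ : ∀ y ∈ X₂, w * y * w⁻¹ * y⁻¹ ∈ Y)
    (hzX₂ : ∀ y ∈ X₂, z * y * z⁻¹ * y⁻¹ ∈ X) (hwX : ∀ x ∈ X, w * x * w⁻¹ * x⁻¹ ∈ X₂)
    (hφ : ∀ y ∈ X₂, z * y * z⁻¹ * y⁻¹ ∈ Y → y ∈ Y)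
    (hψ : ∀ x ∈ X, w * x * w⁻¹ * x⁻¹ ∈ Y → x ∈ Y) : False := by
  classical
  let N := normalizer (Y : Set G)
  haveI : (Y.subgroupOf N).Normal := normal_in_normalizer
  let q : N →* N ⧸ Y.subgroupOf N := QuotientGroup.mk' _
  have hq : ∀ n : N, q n = 1 ↔ (n : G) ∈ Y := fun n =>
    (QuotientGroup.eq_one_iff n).trans mem_subgroupOf
  have hq2 : ∀ a b : N, q a * q b = q b * q a ↔ (a : G) * b * (a : G)⁻¹ * (b : G)⁻¹ ∈ Y :=
    fun a b => by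
      have e : q a * q b * (q a)⁻¹ * (q b)⁻¹ = q (a * b * a⁻¹ * b⁻¹) := by simp
      rw [← mul_inv_eq_iff_eq_mul (a := q a * q b) (b := q a), ← mul_inv_eq_one (b := q b), e, hq]
      rfl
  let z' : N := ⟨z, hzn⟩
  let w' : N := ⟨w, hwn⟩
  have hodd' : Odd (Nat.card (closure ({q z', q w'} : Set (N ⧸ Y.subgroupOf N)))) := by
    have e : closure ({q z', q w'} : Set (N ⧸ Y.subgroupOf N)) = (closure {z', w'}).map q := by
      rw [MonoidHom.map_closure, Set.image_insert_eq, Set.image_singleton]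
    have e' : (closure ({z', w'} : Set N)).map N.subtype = closure {z, w} := by
      rw [MonoidHom.map_closure, Set.image_insert_eq, Set.image_singleton]
      rfl
    rw [e]
    refine hodd.of_dvd_nat ?_
    rw [← e', card_map_of_injective N.subtype_injective]
    exact card_map_dvd _ q
  refine false_of_two_transvections (G := N ⧸ Y.subgroupOf N) hr
    (X := (X.subgroupOf N).map q) (X₂ := (X₂.subgroupOf N).map q) hodd' ?_ ?_ ?_ ?_ ?_ ?_ ?_ ?_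
    ?_ ?_ ?_ ?_
  · intro h
    apply hne
    intro x hx
    have hx' : q ⟨x, hXn hx⟩ ∈ (X.subgroupOf N).map q := ⟨_, mem_subgroupOf.2 hx, rfl⟩
    rw [h, mem_bot, hq] at hx'
    exact hx'
  · rintro _ ⟨x, hx, rfl⟩ _ ⟨y, hy, rfl⟩
    exact (hq2 x y).2 (hX _ hx _ hy)
  · rintro _ ⟨x, hx, rfl⟩ _ ⟨y, hy, rfl⟩
    exact (hq2 x y).2 (hX₂ _ hx _ hy)
  · rintro _ ⟨x, hx, rfl⟩ _ ⟨y, hy, rfl⟩
    exact (hq2 x y).2 (hcomm _ hx _ hy)
  · rintro _ ⟨x, hx, rfl⟩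
    rw [← map_pow, hq]
    exact hexp _ hx
  · rintro _ ⟨y, hy, rfl⟩
    rw [← map_pow, hq]
    exact hexp₂ _ hy
  · rintro _ ⟨x, hx, rfl⟩
    exact (hq2 z' x).2 (hzX _ hx)
  · rintro _ ⟨y, hy, rfl⟩
    exact (hq2 w' y).2 (hwX₂ _ hy)
  · rintro _ ⟨y, hy, rfl⟩
    exact ⟨z' * y * z'⁻¹ * y⁻¹, mem_subgroupOf.2 (hzX₂ _ hy), by simp⟩
  · rintro _ ⟨x, hx, rfl⟩
    exact ⟨w' * x * w'⁻¹ * x⁻¹, mem_subgroupOf.2 (hwX _ hx), by simp⟩
  · rintro _ ⟨y, hy, rfl⟩ h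
    exact (hq y).2 (hφ _ hy ((hq2 z' y).1 h))
  · rintro _ ⟨x, hx, rfl⟩ h
    exact (hq x).2 (hψ _ hx ((hq2 w' x).1 h))

end Ambient

end CfsgLib.Bender
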