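import Cfsg.Agent.Bender.CoreBase
import Cfsg.Agent.Bender.TwoUnip
import Cfsg.Agent.Bender.B2Lemmas
import Cfsg.Agent.Bender.CoreDefs

/-!
Bender's theorem on the core of a strongly embedded subgroup: the nontrivial elements of a normal
elementary abelian subgroup of `H` of odd exponent fix only one point, and the involutions of `H`
centralize it (steps B1 and B2).
-/

set_option autoImplicit false
set_option linter.unusedSectionVars false
set_option linter.style.haveILetI false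

namespace CfsgLib.Bender.NormalPart

open Subgroup
open CfsgLib.FusionLift (cj mem_cj card_cj)
open CfsgLib.Bender.GSide
open scoped Pointwise

universe u

variable {G : Type u} [Group G] [Finite G] {H N : Subgroup G} {q : ℕ}

theorem mem_st_iff {g : G} {x : G ⧸ H} : g ∈ st x ↔ g • x = x := MulAction.mem_stabilizer_iff

theorem st_le_normalizer (S : Setting H N q) : st (base H) ≤ normalizer (N : Set G) := by
  rw [st_one]; exact S.normal

/-- A pair of points: Sylow subgroups move along. -/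
theorem syl_map {D : Subgroup G} {R D' : Subgroup G} {g : G} (hR : Syl q D R) (hD : cj g D = D')
    {R' : Subgroup G} (hR' : R' ≤ D') (hp : IsPGroup q R') (hc : Nat.card R' = Nat.card R) :
    Syl q D' R' := by
  refine ⟨hR', hp, fun P hP hPp => ?_⟩
  rw [hc, ← card_cj g⁻¹ P]
  refine hR.2.2 _ ?_ (hPp.map _)
  intro x hx
  rw [mem_cj, inv_inv] at hx
  have h := hP hx
  rw [← hD, mem_cj] at h
  simpa [mul_assoc] using h

/-- The conjugate of `N` belonging to a point depends only on the point. -/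
theorem cj_eq_of_smul (S : Setting H N q) {x y : G} (h : x • base H = y • base H) :
    cj x N = cj y N := by
  have hm : y⁻¹ * x ∈ H := StrongEmbed.smul_mk_one_iff.1 (by rw [mul_smul, h, inv_smul_smul])
  have e : cj (y⁻¹ * x) N = N := GSide.mem_norm_iff.1 (S.normal hm)
  conv_rhs => rw [← e, cj_cj, mul_inv_cancel_left]

/-- Some element of `N` normalizing a largest `q`-subgroup of a two point stabilizer moves the
second point. -/
theorem exists_moving (S : Setting H N q) [Fact q.Prime] (hN : N ≠ ⊥) {b : G ⧸ H} (hb : b ≠ base H)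
    {R : Subgroup G} (hR : Syl q (st (base H) ⊓ st b) R) (hNR : N ⊓ st b ≤ R) :
    ∃ z ∈ N, z ∈ normalizer (R : Set G) ∧ z • b ≠ b := by
  have hRn : R ≤ normalizer (N : Set G) := (hR.1.trans inf_le_left).trans (st_le_normalizer S)
  have hlt : R < R ⊔ N := lt_of_le_of_ne le_sup_left fun h => hN (S.eq_bot_of_fix hb
    ((le_sup_right.trans h.ge).trans (hR.1.trans inf_le_right)))
  have hp : IsPGroup q (R ⊔ N : Subgroup G) := hR.2.1.to_sup_of_normal_right' S.isPGroup hRn
  obtain ⟨Z, hRZ, hZ, hZn⟩ := exists_between hlt hp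
  obtain ⟨w, hwZ, hwR⟩ := SetLike.exists_of_lt hRZ
  have hw : w ∈ ((R ⊔ N : Subgroup G) : Set G) := hZ hwZ
  rw [coe_mul_of_left_le_normalizer_right R N hRn, Set.mem_mul] at hw
  obtain ⟨r, hr, n, hn, rfl⟩ := hw
  refine ⟨n, hn, ?_, fun hnb => hwR (mul_mem hr (hNR ⟨hn, hnb⟩))⟩
  have h := mul_mem (inv_mem (le_normalizer (hr : r ∈ R))) (hZn hwZ)
  rwa [inv_mul_cancel_left] at h

/-- A largest `q`-subgroup of a two point stabilizer fixing a third point is normalized by an
involution of `H`. -/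
theorem exists_invol_norm (S : Setting H N q) [Fact q.Prime] {b : G ⧸ H} (hb : b ≠ base H)
    {R : Subgroup G} (hR : Syl q (st (base H) ⊓ st b) R) {z : G} (hz : z ∈ H)
    (hzR : z ∈ normalizer (R : Set G)) (hzb : z • b ≠ b) :
    ∃ v : G, orderOf v = 2 ∧ v ∈ H ∧ v ∈ normalizer (R : Set G) := by
  have hqodd : Odd q := S.prime.odd_of_ne_two S.ne_two
  obtain ⟨u, hu, hua, huR⟩ := swapper_norm S.emb hb.symm hR
  obtain ⟨e, hue⟩ := StrongEmbed.exists_fix S.emb hu
  have hza : z • base H = base H := StrongEmbed.smul_mk_one_iff.2 hz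
  have hzb' : z • b ≠ base H := fun h => hb (MulAction.injective z (h.trans hza.symm))
  have hRa : R ≤ st (base H) := hR.1.trans inf_le_left
  have hRb : R ≤ st b := hR.1.trans inf_le_right
  have hswap : ∀ x y : G ⧸ H, x ≠ y → R ≤ st x → R ≤ st y →
      ∃ k : G, orderOf k = 2 ∧ k • x = y ∧ k ∈ normalizer (R : Set G) := by
    intro x y hxy hx hy
    obtain ⟨g, hgx, hgy⟩ := S.exists_map_pair hxy hb
    refine swapper_norm S.emb hxy (syl_map hR (g := g⁻¹) ?_ (le_inf hx hy) hR.2.1 rfl)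
    ext w
    rw [mem_cj, inv_inv, mem_inf, mem_inf, mem_st_iff, mem_st_iff, mem_st_iff, mem_st_iff,
      mul_smul, mul_smul, mul_smul, mul_smul, inv_smul_eq_iff.2 hgx.symm, inv_smul_eq_iff.2 hgy.symm,
      ← hgx, ← hgy, smul_left_cancel_iff, smul_left_cancel_iff]
  by_cases he : R ≤ st e
  · have hea : e ≠ base H := fun h => hb (by rw [← hua, ← h, hue])
    obtain ⟨k, hk, hke, hkR⟩ := hswap e (base H) hea he hRa
    refine ⟨k * u * k⁻¹, by rw [Invol.orderOf_conj_eq, hu], ?_,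
      mul_mem (mul_mem hkR huR) (inv_mem hkR)⟩
    refine StrongEmbed.smul_mk_one_iff.1 ?_
    rw [mul_smul, mul_smul, inv_smul_eq_iff.2 hke.symm, hue, hke]
  · obtain ⟨O, hO⟩ := exists_oneClass S.emb hqodd hR.2.1 hu huR hue he
    have hRz : R ≤ st (z • b) := le_st_smul_of_norm hzR hRb
    obtain ⟨j, hj, hjb, hjR⟩ := hswap b (z • b) hzb.symm hRb hRz
    obtain ⟨k, hk, hkb, hkR⟩ := hswap (z • b) (base H) hzb' hRz hRa
    exact (hO.triangle hu hRa hu hj hk huR hjR hkR hua hjb hkb).elim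

/-- A four group of `H` containing a given involution. -/
theorem exists_pair (S : Setting H N q) {v : G} (hv : orderOf v = 2) (hvH : v ∈ H) :
    ∃ s : G, orderOf s = 2 ∧ s ∈ H ∧ s ≠ v ∧ Commute v s := by
  obtain ⟨a, b, ha, hb, hab, hc⟩ := S.pair
  obtain ⟨x, hax⟩ := StrongEmbed.exists_fix S.emb ha
  have hbx : b • x = x :=
    StrongEmbed.fix_unique S.emb ha (by rw [smul_smul, hc.eq, mul_smul, hax]) hax
  obtain ⟨g, hg⟩ := GSide.exists_smul x (base H)
  have hH : ∀ c : G, c • x = x → g * c * g⁻¹ ∈ H := fun c hc' => by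
    refine StrongEmbed.smul_mk_one_iff.1 ?_
    rw [mul_smul, mul_smul, inv_smul_eq_iff.2 hg.symm, hc', hg]
  obtain ⟨s, hs, hs2, hne, hcs⟩ := exists_partner (u := v) (v := g * a * g⁻¹) (w := g * b * g⁻¹)
    hvH hv (hH a hax) (by rw [Invol.orderOf_conj_eq, ha]) (hH b hbx)
    (by rw [Invol.orderOf_conj_eq, hb]) (fun h => hab (mul_left_cancel (mul_right_cancel h)))
    (show g * a * g⁻¹ * (g * b * g⁻¹) = g * b * g⁻¹ * (g * a * g⁻¹) by
      rw [conj_mul, conj_mul, hc.eq])
  exact ⟨s, hs2, hs, hne, hcs⟩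

/-- Step B1: only the base point is fixed by a nontrivial element of `N`. -/
theorem inf_st_eq_bot (S : Setting H N q) {b : G ⧸ H} (hb : b ≠ base H) : N ⊓ st b = ⊥ := by
  haveI : Fact q.Prime := ⟨S.prime⟩
  by_contra hX1
  set X := N ⊓ st b with hXdef
  have hN1 : N ≠ ⊥ := fun h => hX1 (eq_bot_iff.2 (inf_le_left.trans h.le))
  obtain ⟨R, hXR, hR⟩ := exists_syl (X := X) (D := st (base H) ⊓ st b)
    (inf_le_inf_right _ S.le_st) (S.isPGroup.to_le inf_le_left)
  obtain ⟨z, hzN, hzR, hzb⟩ := exists_moving S hN1 hb hR hXR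
  obtain ⟨u, hu, hua, huR⟩ := swapper_norm S.emb hb.symm hR
  obtain ⟨v, hv, hvH, hvR⟩ := exists_invol_norm S hb hR (S.le hzN) hzR hzb
  have hub : u • b = base H := swap_back hu hua
  have hui : u⁻¹ = u := Invol.inv_eq_self hu
  have huu : u * u = 1 := Invol.mul_self_eq_one hu
  have huH : u ∉ H := fun h => hb (hua.symm.trans (StrongEmbed.smul_mk_one_iff.2 h))
  have hXH : X ≤ H := inf_le_left.trans S.le
  have hXeq : X = N ⊓ R :=
    le_antisymm (le_inf inf_le_left hXR) (inf_le_inf_left _ (hR.1.trans inf_le_right))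
  have hDX : ∀ d ∈ st (base H) ⊓ st b, d ∈ normalizer (X : Set G) := fun d hd =>
    mem_normalizer_iff.2 fun x => by
      rw [hXdef, mem_inf, mem_inf, mem_normalizer_iff.1 (st_le_normalizer S hd.1) x,
        mem_normalizer_iff.1 (le_normalizer (hd.2 : d ∈ st b)) x]
  have hvX : v ∈ normalizer (X : Set G) := mem_normalizer_iff.2 fun x => by
    rw [hXeq, mem_inf, mem_inf, mem_normalizer_iff.1 (S.normal hvH) x,
      mem_normalizer_iff.1 hvR x]
  have hinvX : ∀ s, orderOf s = 2 → s ∈ H → s ∈ normalizer (X : Set G) := by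
    intro s hs hsH
    obtain ⟨d, hd, rfl⟩ := (transOdd_pair S.emb hb.symm).2.2 v s (by rwa [st_one]) hv
      (by rwa [st_one]) hs
    exact mul_mem (mul_mem (hDX d hd) hvX) (inv_mem (hDX d hd))
  obtain ⟨s, hs, hsH, hsv, hsc⟩ := exists_pair S hv hvH
  have hzX : z ∈ normalizer (X : Set G) := mem_normalizer_iff.2 fun x => by
    constructor
    · intro hx
      rw [S.comm z hzN x hx.1, mul_inv_cancel_right]
      exact hx
    · intro hx
      have e := S.comm z⁻¹ (inv_mem hzN) _ hx.1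
      rw [show z⁻¹ * (z * x * z⁻¹) = x * z⁻¹ by group] at e
      rwa [← mul_right_cancel e] at hx
  -- no swapper normalizes `X`
  have huX : u ∉ normalizer (X : Set G) := by
    intro huX
    set M := normalizer (X : Set G) with hM
    have hMtop : M ≠ ⊤ := S.normalizer_ne_top hXH hX1
    have hMH : ¬ M ≤ H := fun h => huH (h huX)
    have hzO := S.mem_core hMtop hMH hv hvX hvH hzN hzX
    have hle := coreMap_fix (coreMap_le_st S.emb hv hs hsv.symm hsc hvX (hinvX s hs hsH) hvH hsH) huX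
    rw [hua] at hle
    exact hzb (hle hzO)
  set X₂ := cj u X with hX₂
  set Y := X ⊓ X₂ with hYdef
  have hX₂st : X₂ ≤ st (base H) := by
    have h := le_st_smul (g := u) (inf_le_right : X ≤ st b)
    rwa [hub] at h
  have hX₂N : X₂ ≤ cj u N := cj_mono u inf_le_left
  have hX₂R : X₂ ≤ R := (cj_mono u hXR).trans (GSide.mem_norm_iff.1 huR).le
  have hne : ¬ X ≤ Y := fun h => huX (GSide.mem_norm_iff.2
    (eq_of_le_of_card_ge (h.trans inf_le_right) (by rw [hX₂, card_cj])).symm)
  have hNY : N ⊓ cj u N = Y := by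
    refine le_antisymm (fun x hx => ?_) (le_inf (inf_le_left.trans inf_le_left)
      (inf_le_right.trans hX₂N))
    have hxb : x • b = b := by
      have h := le_st_smul (g := u) S.le_st hx.2
      rwa [hua] at h
    refine ⟨⟨hx.1, hxb⟩, mem_cj.2 ⟨mem_cj.1 hx.2, ?_⟩⟩
    show (u⁻¹ * x * u) • b = b
    rw [mul_smul, mul_smul, hub, S.le_st hx.1, inv_smul_eq_iff, hub]
  have hzY : ∀ y ∈ Y, z * y * z⁻¹ = y := fun y hy => by
    rw [S.comm z hzN y hy.1.1, mul_inv_cancel_right]
  -- conjugation by `u`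
  have hYu : ∀ y ∈ Y, u * y * u⁻¹ ∈ Y := fun y hy =>
    ⟨by have h := mem_cj.1 hy.2; rwa [hui] at h ⊢, mem_map_of_mem _ hy.1⟩
  have hX₂u : ∀ x ∈ X₂, u * x * u⁻¹ ∈ X := fun x hx => by
    have h := mem_cj.1 hx
    rwa [hui] at h ⊢
  have hφ : ∀ y ∈ X₂, z * y * z⁻¹ * y⁻¹ ∈ Y → y ∈ Y := by
    intro y hy hyz
    have h1 : z * y * z⁻¹ ∈ cj u N := by
      have := mul_mem (hX₂N hyz.2) (hX₂N hy)
      rwa [inv_mul_cancel_right] at this
    have h2 : y ∈ cj (z⁻¹ * u) N := by
      rw [← cj_cj, mem_cj, inv_inv]; exact h1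
    have hYP : Y ≤ cj u N ⊓ cj (z⁻¹ * u) N := fun x hx => by
      refine ⟨hX₂N hx.2, ?_⟩
      show x ∈ cj (z⁻¹ * u) N
      rw [← cj_cj, mem_cj, inv_inv, hzY x hx]
      exact hX₂N hx.2
    have hbb : b ≠ z⁻¹ • b := fun h => hzb (by rw [← inv_smul_eq_iff.1 h.symm])
    obtain ⟨g, hgx, hgy⟩ := S.exists_map_pair hbb hb
    have e1 : cj g (cj u N) = N := by
      rw [cj_cj, cj_eq_of_smul S (y := 1) (by rw [mul_smul, hua, hgx, one_smul]), cj_one]
    have e2 : cj g (cj (z⁻¹ * u) N) = cj u N := by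
      rw [cj_cj, cj_eq_of_smul S (y := u) (by rw [mul_smul, mul_smul, hua, hgy])]
    have hPY : Nat.card (cj u N ⊓ cj (z⁻¹ * u) N : Subgroup G) ≤ Nat.card Y := by
      rw [← card_cj g]
      refine card_le_of_le (le_trans (le_inf (cj_mono g inf_le_left) (cj_mono g inf_le_right)) ?_)
      rw [e1, e2, hNY]
    rw [eq_of_le_of_card_ge hYP hPY]
    exact ⟨hX₂N hy, h2⟩
  -- both moving elements lie in the core of `N(R)`
  set M := normalizer (R : Set G) with hM
  have hRne : R ≠ ⊥ := fun h => hX1 (eq_bot_iff.2 (h ▸ hXR))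
  have hRH : R ≤ H := (hR.1.trans inf_le_left).trans st_one.le
  have hzO := S.mem_core (S.normalizer_ne_top hRH hRne) (fun h => huH (h huR)) hv hvR hvH hzN hzR
  set w := u * z * u⁻¹ with hwdef
  have hwO : w ∈ (Cfsg.oddCore M).map M.subtype := coreMap_conj huR hzO
  have hodd : Odd (Nat.card (closure ({z, w} : Set G))) := by
    refine (odd_coreMap M).of_dvd_nat (card_dvd_of_le ((closure_le _).2 ?_))
    rintro c (rfl | rfl)
    · exact hzO
    · exact hwO
  have hwN : w ∈ cj u N := mem_map_of_mem _ hzN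
  have hucomm : ∀ c ∈ cj u N, ∀ d ∈ cj u N, c * d = d * c := by
    rintro _ ⟨c, hc, rfl⟩ _ ⟨d, hd, rfl⟩
    rw [← map_mul, ← map_mul, S.comm c hc d hd]
  have hwY : ∀ y ∈ Y, w * y * w⁻¹ = y := fun y hy => by
    rw [hucomm w hwN y (hX₂N hy.2), mul_inv_cancel_right]
  have hzn : z ∈ normalizer (Y : Set G) := mem_normalizer_iff.2 fun x => by
    refine ⟨fun hx => by rw [hzY x hx]; exact hx, fun hx => ?_⟩
    have e := hzY _ hx
    rwa [mul_left_cancel (mul_right_cancel e)] at hx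
  have hwn : w ∈ normalizer (Y : Set G) := mem_normalizer_iff.2 fun x => by
    refine ⟨fun hx => by rw [hwY x hx]; exact hx, fun hx => ?_⟩
    have e := hwY _ hx
    rwa [mul_left_cancel (mul_right_cancel e)] at hx
  have hXn : X ≤ normalizer (Y : Set G) := fun x hx => mem_normalizer_iff.2 fun y => by
    constructor
    · intro hy
      rw [S.comm x hx.1 y hy.1.1, mul_inv_cancel_right]
      exact hy
    · intro hy
      have e := S.comm x⁻¹ (inv_mem hx.1) _ hy.1.1
      rw [show x⁻¹ * (x * y * x⁻¹) = y * x⁻¹ by group] at e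
      rwa [← mul_right_cancel e] at hy
  have hX₂n : ∀ x ∈ X, x ∈ normalizer (X₂ : Set G) := by
    intro x hx
    have hxD : x ∈ st (base H) ⊓ st b := ⟨S.le_st hx.1, hx.2⟩
    have hxu : u⁻¹ * x * u ∈ st (base H) ⊓ st b := mem_inf.2 ⟨mem_st_iff.2 (by
      rw [mul_smul, mul_smul, hua, hx.2, inv_smul_eq_iff, hua]), mem_st_iff.2 (by
      rw [mul_smul, mul_smul, hub, S.le_st hx.1, inv_smul_eq_iff, hub])⟩
    rw [GSide.mem_norm_iff, hX₂, cj_cj, show x * u = u * (u⁻¹ * x * u) by group, ← cj_cj,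
      GSide.mem_norm_iff.1 (hDX _ hxu)]
  have hXXcomm : ∀ x ∈ X, ∀ y ∈ X₂, x * y * x⁻¹ * y⁻¹ ∈ Y := by
    intro x hx y hy
    refine ⟨?_, mul_mem ((mem_normalizer_iff.1 (hX₂n x hx) y).1 hy) (X₂.inv_mem hy)⟩
    rw [show x * y * x⁻¹ * y⁻¹ = x * (y * x⁻¹ * y⁻¹) by group]
    exact mul_mem hx ((mem_normalizer_iff.1 (hDX y (hR.1 (hX₂R hy))) _).1 (inv_mem hx))
  have hzX₂ : ∀ y ∈ X₂, z * y * z⁻¹ * y⁻¹ ∈ X := by
    intro y hy
    rw [hXeq]
    refine ⟨?_, mul_mem ((mem_normalizer_iff.1 hzR y).1 (hX₂R hy)) (R.inv_mem (hX₂R hy))⟩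
    rw [show z * y * z⁻¹ * y⁻¹ = z * (y * z⁻¹ * y⁻¹) by group]
    exact mul_mem hzN ((mem_normalizer_iff.1 (st_le_normalizer S (hX₂st hy)) _).1 (inv_mem hzN))
  have hconj : ∀ x : G, w * x * w⁻¹ * x⁻¹ =
      u * (z * (u * x * u⁻¹) * z⁻¹ * (u * x * u⁻¹)⁻¹) * u⁻¹ := fun x => by
    calc w * x * w⁻¹ * x⁻¹ = u * z * u⁻¹ * x * u * z⁻¹ * u⁻¹ * x⁻¹ := by rw [hwdef]; group
      _ = u * z * u * x * u⁻¹ * z⁻¹ * u * x⁻¹ * (u * u)⁻¹ := by rw [huu, inv_one, mul_one, hui]
      _ = _ := by group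
  refine false_of_two_transvections_mod (r := q) S.ne_two hodd hXn hzn hwn hne
    (X₂ := X₂) (fun x hx y hy => ?_) (fun x hx y hy => ?_) hXXcomm (fun x hx => ?_) (fun y hy => ?_)
    (fun x hx => ?_) (fun y hy => ?_) hzX₂ (fun x hx => ?_) hφ (fun x hx h => ?_)
  · rw [S.comm x hx.1 y hy.1, mul_inv_cancel_right, mul_inv_cancel]; exact one_mem _
  · rw [hucomm x (hX₂N hx) y (hX₂N hy), mul_inv_cancel_right, mul_inv_cancel]; exact one_mem _
  · rw [S.exp x hx.1]; exact one_mem _
  · obtain ⟨x, hx, rfl⟩ := hy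
    rw [← map_pow, S.exp x hx.1, map_one]; exact one_mem _
  · rw [S.comm z hzN x hx.1, mul_inv_cancel_right, mul_inv_cancel]; exact one_mem _
  · rw [hucomm w hwN y (hX₂N hy), mul_inv_cancel_right, mul_inv_cancel]; exact one_mem _
  · rw [hconj]
    exact mem_map_of_mem _ (hzX₂ _ (mem_map_of_mem _ hx))
  · have h' := hYu _ h
    rw [hconj] at h'
    have e : ∀ c : G, u * (u * c * u⁻¹) * u⁻¹ = c := fun c => by
      rw [show u * (u * c * u⁻¹) * u⁻¹ = (u * u) * c * (u * u)⁻¹ by group, huu]; group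
    rw [e] at h'
    have h2 := hYu _ (hφ _ (mem_map_of_mem _ hx) h')
    simp only [MulEquiv.coe_toMonoidHom, MulAut.conj_apply] at h2
    rwa [e] at h2

/-- Step B1 as semiregularity. -/
theorem eq_base_of_fix (S : Setting H N q) {y : G} (hy : y ∈ N) (hy1 : y ≠ 1) {x : G ⧸ H}
    (hx : y • x = x) : x = base H := by
  by_contra hne
  exact hy1 (mem_bot.1 (inf_st_eq_bot S hne ▸ (⟨hy, hx⟩ : y ∈ N ⊓ st x)))

/-- Conjugation by an element normalizing `N` moves the centralizers in `N`. -/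
theorem card_inf_centralizer_conj {d : G} (hd : d ∈ normalizer (N : Set G)) (a : G) :
    Nat.card (N ⊓ centralizer ({d * a * d⁻¹} : Set G) : Subgroup G) =
      Nat.card (N ⊓ centralizer ({a} : Set G) : Subgroup G) := by
  rw [← card_cj d (N ⊓ centralizer ({a} : Set G))]
  congr 1
  have : N ⊓ centralizer ({d * a * d⁻¹} : Set G) = cj d (N ⊓ centralizer ({a} : Set G)) := by
    ext x
    rw [mem_cj, mem_inf, mem_inf, mem_centralizer_singleton_iff, mem_centralizer_singleton_iff]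
    have e1 : d⁻¹ * x * d ∈ N ↔ x ∈ N := by
      conv_rhs => rw [show x = d * (d⁻¹ * x * d) * d⁻¹ by group]
      exact mem_normalizer_iff.1 hd _
    have e2 : d⁻¹ * x * d * a = a * (d⁻¹ * x * d) ↔ x * (d * a * d⁻¹) = d * a * d⁻¹ * x := by
      constructor <;> intro h
      · calc x * (d * a * d⁻¹) = d * (d⁻¹ * x * d * a) * d⁻¹ := by group
          _ = d * (a * (d⁻¹ * x * d)) * d⁻¹ := by rw [h]
          _ = _ := by group
      · calc d⁻¹ * x * d * a = d⁻¹ * (x * (d * a * d⁻¹)) * d := by group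
          _ = d⁻¹ * (d * a * d⁻¹ * x) * d := by rw [h]
          _ = _ := by group
    rw [e1, e2]
  rw [this]

theorem mul_card_dvd_of_normal {K : Type*} [Group K] [Finite K] (A B : Subgroup K) [B.Normal] :
    Nat.card B * Nat.card A ∣ Nat.card K * Nat.card (B ⊓ A : Subgroup K) := by
  have h1 : Nat.card (A ⊔ B : Subgroup K) = Nat.card B * B.relIndex A := by
    rw [FusionLift.card_eq_relIndex_mul B (A ⊔ B), relIndex_sup_right, inf_eq_left.2 le_sup_right]
  have h2 := FusionLift.card_eq_relIndex_mul B A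
  rw [h2, show Nat.card B * (Nat.card (B ⊓ A : Subgroup K) * B.relIndex A) =
    Nat.card B * B.relIndex A * Nat.card (B ⊓ A : Subgroup K) by ring, ← h1]
  exact Nat.mul_dvd_mul_right (card_subgroup_dvd_card _) _

/-- Step B2: the involutions of `H` centralize `N`. -/
theorem le_centralizer_invol (S : Setting H N q) {t : G} (ht : orderOf t = 2) (htH : t ∈ H) :
    N ≤ centralizer ({t} : Set G) := by
  haveI : Fact q.Prime := ⟨S.prime⟩
  by_cases hN1 : N = ⊥
  · rw [hN1]; exact bot_le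
  obtain ⟨b, hb⟩ : ∃ b : G ⧸ H, b ≠ base H := by
    by_contra h
    push Not at h
    refine S.emb.1 (eq_top_iff.2 fun g _ => ?_)
    exact StrongEmbed.smul_mk_one_iff.1 (StrongEmbed.smul_mk_one_eq.trans (h _))
  set D := st (base H) ⊓ st b with hDdef
  have hDN : D ≤ normalizer (N : Set G) := inf_le_left.trans (st_le_normalizer S)
  have hmem : ∀ {c : G}, c ∈ H → c ∈ st (base H) := fun hc => by rwa [st_one]
  obtain ⟨R, -, hR⟩ := exists_syl (bot_le : ⊥ ≤ D) (IsPGroup.of_bot (p := q))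
  have hRN : R ≤ normalizer (N : Set G) := hR.1.trans hDN
  obtain ⟨z, hzN, hzR, hzb⟩ :=
    exists_moving S hN1 hb hR (by rw [inf_st_eq_bot S hb]; exact bot_le)
  obtain ⟨v, hv, hvH, hvR⟩ := exists_invol_norm S hb hR (S.le hzN) hzR hzb
  have hconj : ∀ s, orderOf s = 2 → s ∈ H → ∃ d ∈ D, d * v * d⁻¹ = s := fun s hs hsH =>
    (transOdd_pair S.emb hb.symm).2.2 v s (hmem hvH) hv (hmem hsH) hs
  suffices hvN : N ≤ centralizer ({v} : Set G) by
    obtain ⟨d, hd, rfl⟩ := hconj t ht htH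
    refine inf_eq_left.1 (eq_of_le_of_card_ge inf_le_left ?_)
    rw [card_inf_centralizer_conj (hDN hd), inf_eq_left.2 hvN]
  by_contra hvN
  obtain ⟨s, hs, hsH, hsv, hsc⟩ := exists_pair S hv hvH
  have hvs : orderOf (v * s) = 2 := by
    refine Invol.orderOf_eq_two ?_ fun h => hsv ?_
    · rw [hsc.symm.mul_mul_mul_comm, Invol.mul_self_eq_one hv, Invol.mul_self_eq_one hs, one_mul]
    · rw [eq_inv_of_mul_eq_one_right h, Invol.inv_eq_self hv]
  have hcards : ∀ c, orderOf c = 2 → c ∈ H →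
      Nat.card (N ⊓ centralizer ({v} : Set G) : Subgroup G) =
        Nat.card (N ⊓ centralizer ({c} : Set G) : Subgroup G) := fun c hc hcH => by
    obtain ⟨d, hd, rfl⟩ := hconj c hc hcH
    exact (card_inf_centralizer_conj (hDN hd) v).symm
  have hsq := BTwo.sq_mul_card_centralizer_le S.ne_two S.comm S.exp (Invol.mul_self_eq_one hv)
    (Invol.mul_self_eq_one hs) hsc.eq (S.normal hvH) (S.normal hsH) (hcards s hs hsH)
    (hcards _ hvs (mul_mem hvH hsH)) hvN
  -- the order `q²` divides the number of involutions of `H`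
  set I := Nat.card {x : G // orderOf x = 2 ∧ x ∈ H} with hI
  set C := centralizer ({v} : Set G) with hC
  have hIH : I * Nat.card ↥(C ⊓ H) = Nat.card H := card_orbit_mul H v _ fun x =>
    ⟨fun hx => by
      obtain ⟨d, hd, h⟩ := hconj x hx.1 hx.2
      exact ⟨d, st_one.le hd.1, h⟩, by
      rintro ⟨k, hk, rfl⟩
      exact ⟨by rw [Invol.orderOf_conj_eq, hv], mul_mem (mul_mem hk hvH) (inv_mem hk)⟩⟩
  have hID : I * Nat.card ↥(C ⊓ D) = Nat.card D := card_orbit_mul D v _ fun x =>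
    ⟨fun hx => hconj x hx.1 hx.2, by
      rintro ⟨k, hk, rfl⟩
      exact ⟨by rw [Invol.orderOf_conj_eq, hv],
        mul_mem (mul_mem (st_one.le hk.1) hvH) (inv_mem (st_one.le hk.1))⟩⟩
  have hNdvd : Nat.card N ∣ I * Nat.card (N ⊓ C : Subgroup G) := by
    haveI : (N.subgroupOf H).Normal := normal_subgroupOf_iff_le_normalizer S.le |>.2 S.normal
    have h := mul_card_dvd_of_normal ((C ⊓ H).subgroupOf H) (N.subgroupOf H)
    have e : N.subgroupOf H ⊓ (C ⊓ H).subgroupOf H = (N ⊓ C).subgroupOf H := by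
      ext x; simp [mem_subgroupOf]
    rw [e, Nat.card_congr (subgroupOfEquivOfLe S.le).toEquiv,
      Nat.card_congr (subgroupOfEquivOfLe (inf_le_right : C ⊓ H ≤ H)).toEquiv,
      Nat.card_congr (subgroupOfEquivOfLe (inf_le_left.trans S.le : N ⊓ C ≤ H)).toEquiv, ← hIH,
      show I * Nat.card ↥(C ⊓ H) * Nat.card ↥(N ⊓ C) = I * Nat.card ↥(N ⊓ C) * Nat.card ↥(C ⊓ H) by
        ring] at h
    exact Nat.dvd_of_mul_dvd_mul_right Nat.card_pos h
  have hqI : q ^ 2 ∣ I := by
    obtain ⟨n, hn⟩ := IsPGroup.iff_card.1 S.isPGroup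
    obtain ⟨j, hj⟩ := IsPGroup.iff_card.1 (S.isPGroup.to_le (inf_le_left : N ⊓ C ≤ N))
    rw [hn, hj] at hNdvd hsq
    rw [← pow_add] at hsq
    have hle := (Nat.pow_le_pow_iff_right S.prime.one_lt).1 hsq
    have h := (pow_dvd_pow q hle).trans hNdvd
    rw [pow_add] at h
    exact Nat.dvd_of_mul_dvd_mul_right (pow_pos S.prime.pos j) h
  have hlow : q ^ 2 * Nat.card (R ⊓ C : Subgroup G) ≤ Nat.card R := by
    have h1 : q ^ 2 * Nat.card (R ⊓ C : Subgroup G) ∣ Nat.card D := hID ▸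
      Nat.mul_dvd_mul hqI (card_dvd_of_le (le_inf inf_le_right (inf_le_left.trans hR.1)))
    rw [FusionLift.card_eq_relIndex_mul R D, inf_eq_left.2 hR.1] at h1
    obtain ⟨j, hj⟩ := IsPGroup.iff_card.1 (hR.2.1.to_le (inf_le_left : R ⊓ C ≤ R))
    have hco : (q ^ 2 * Nat.card (R ⊓ C : Subgroup G)).Coprime (R.relIndex D) := by
      rw [hj, ← pow_add]
      exact (S.prime.coprime_iff_not_dvd.2 (syl_not_dvd hR)).pow_left _
    exact Nat.le_of_dvd Nat.card_pos (hco.dvd_of_dvd_mul_right h1)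
  have hbig : q < Nat.card N := by
    have h1 : 1 ≤ Nat.card (N ⊓ C : Subgroup G) := Nat.card_pos
    have h2 := S.prime.one_lt
    calc q < q ^ 2 := by nlinarith
      _ ≤ q ^ 2 * Nat.card (N ⊓ C : Subgroup G) := Nat.le_mul_of_pos_right _ h1
      _ ≤ _ := hsq
  have hup := BTwo.card_le_mul_card_centralizer (t := v) S.ne_two S.comm S.exp hbig hR.2.1 hRN
    (Invol.mul_self_eq_one hv) (S.normal hvH) hvR fun g hg hgord hgv => ?_
  · have h1 : 0 < Nat.card (R ⊓ C : Subgroup G) := Nat.card_pos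
    have h2 := S.prime.one_lt
    have h3 := Nat.mul_lt_mul_of_pos_right (show q < q ^ 2 by nlinarith) h1
    exact absurd (hlow.trans hup) (not_le.2 h3)
  -- an inverted element of order `q` has at most `q` fixed points in `N`
  by_contra hbigA
  rw [not_le] at hbigA
  set A := N ⊓ centralizer ({g} : Set G) with hA
  set M := normalizer (zpowers g : Set G) with hM
  have hcentM : ∀ c : G, c * g = g * c → c ∈ M := fun c hc => by
    rw [hM, GSide.mem_norm_iff]
    show (zpowers g).map (MulAut.conj c).toMonoidHom = _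
    rw [MonoidHom.map_zpowers]
    simp [hc]
  have hg1 : g ≠ 1 := fun h => by rw [h, orderOf_one] at hgord; exact S.prime.one_lt.ne hgord
  have hMtop : M ≠ ⊤ := S.normalizer_ne_top
    (zpowers_le.2 (st_one.le (hR.1 hg).1)) (by simpa using hg1)
  have hvM : v ∈ M := by
    rw [hM, GSide.mem_norm_iff]
    show (zpowers g).map (MulAut.conj v).toMonoidHom = _
    rw [MonoidHom.map_zpowers]
    show zpowers (v * g * v⁻¹) = _
    rw [hgv, zpowers_inv]
  obtain ⟨u, hu, hua, huR⟩ := swapper_norm S.emb hb.symm hR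
  have hzc : ∀ r ∈ R, z * r = r * z := fun r hr => by
    have h1 : z * r * z⁻¹ * r⁻¹ ∈ N ⊓ st b := by
      refine ⟨?_, (hR.1 (mul_mem ((mem_normalizer_iff.1 hzR r).1 hr) (R.inv_mem hr))).2⟩
      rw [show z * r * z⁻¹ * r⁻¹ = z * (r * z⁻¹ * r⁻¹) by group]
      exact mul_mem hzN ((mem_normalizer_iff.1 (hRN hr) _).1 (inv_mem hzN))
    rw [inf_st_eq_bot S hb, mem_bot] at h1
    exact mul_inv_eq_iff_eq_mul.1 (mul_inv_eq_one.1 h1)
  set w := u * z * u⁻¹ with hw
  have hgu : u⁻¹ * g * u ∈ R := by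
    have := (mem_normalizer_iff.1 (inv_mem huR) g).1 hg
    rwa [inv_inv] at this
  have hwM : w ∈ M := hcentM w <| by
    calc w * g = u * (z * (u⁻¹ * g * u)) * u⁻¹ := by rw [hw]; group
      _ = u * (u⁻¹ * g * u * z) * u⁻¹ := by rw [hzc _ hgu]
      _ = g * w := by rw [hw]; group
  have hwo : w • base H ≠ base H := by
    rw [hw, mul_smul, mul_smul, Invol.inv_eq_self hu, hua]
    intro h
    refine hzb (MulAction.injective u ?_)
    show u • z • b = u • b
    rw [h, swap_back hu hua]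
  have hMH : ¬ M ≤ H := fun h => hwo (StrongEmbed.smul_mk_one_iff.2 (h hwM))
  have hAM : A ≤ M := fun y hy => hcentM y (mem_centralizer_singleton_iff.1 hy.2)
  have hAK : A ≤ normalizer ((Cfsg.oddCore M).map M.subtype : Set G) := fun y hy =>
    mem_normalizer_iff.2 fun o => ⟨coreMap_conj (hAM hy), fun ho => by
      have h := coreMap_conj (inv_mem (hAM hy)) ho
      simpa [mul_assoc] using h⟩
  have hK := le_st_of_semireg (a := base H) (A := A)
    (fun x hx y hy => S.comm x hx.1 y hy.1) (fun x hx => S.exp x hx.1) hbigA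
    (inf_le_left.trans S.le_st) (fun y hy hy1 x hx => eq_base_of_fix S hy.1 hy1 hx)
    _ (odd_coreMap M) hAK
  obtain ⟨y, hy, hy1⟩ : ∃ y ∈ A, y ≠ 1 := by
    by_contra h
    push Not at h
    have h1 : Nat.card A = 1 := by
      rw [card_eq_one, eq_bot_iff]; exact fun x hx => h x hx
    have := S.prime.one_lt
    omega
  exact hwo (eq_base_of_fix S hy.1 hy1
    (coreMap_fix hK hwM (S.mem_core hMtop hMH hv hvM hvH hy.1 (hAM hy))))

end CfsgLib.Bender.NormalPart

namespace CfsgLib.Bender.Core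

open Subgroup
open CfsgLib.FusionLift (cj mem_cj card_cj)
open CfsgLib.Bender.GSide

variable {G : Type*} [Group G] [Finite G] {H : Subgroup G} {q : ℕ} {N : G ⧸ H → Subgroup G}

/-- The member of the family at the base point, as data for the first two steps. -/
theorem normalSetting (hS : Setting H) (hN : Family q N) :
    NormalPart.Setting H (N (NormalPart.base H)) q where
  emb := hS.se
  trans := two_transitive_of_pair hS.se hS.pair
  core := hS.core
  pair := hS.pair
  ind := hS.ind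
  le := (hN.le_st _).trans st_one.le
  normal := st_one.ge.trans (hN.st_le_normalizer _)
  comm := hN.comm _
  prime := hN.prime
  ne_two := fun h => absurd (h ▸ hN.odd) (by decide)
  exp := hN.exp _

/-- Step B1. -/
theorem semireg (hS : Setting H) (hN : Family q N) : Semireg N := by
  intro x z hz hz1 y hy
  obtain ⟨g, hg⟩ := GSide.exists_smul x (NormalPart.base H)
  have hne : g * z * g⁻¹ ≠ 1 := fun h => hz1 (by
    calc z = g⁻¹ * (g * z * g⁻¹) * g := by group
      _ = 1 := by rw [h]; group)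
  have h := NormalPart.eq_base_of_fix (normalSetting hS hN) (hN.conj_mem hz hg) hne (x := g • y)
    (by rw [mul_smul, mul_smul, inv_smul_smul, hy])
  exact MulAction.injective g (h.trans hg.symm)

/-- Step B2. -/
theorem centInv (hS : Setting H) (hN : Family q N) : CentInv N := by
  intro x t ht htx z hz
  obtain ⟨g, hg⟩ := GSide.exists_smul x (NormalPart.base H)
  have htH : g * t * g⁻¹ ∈ H := StrongEmbed.smul_mk_one_iff.1
    (by rw [mul_smul, mul_smul, inv_smul_eq_iff.2 hg.symm, htx, hg])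
  have h := mem_centralizer_singleton_iff.1 (NormalPart.le_centralizer_invol (normalSetting hS hN)
    (by rw [Invol.orderOf_conj_eq, ht]) htH (hN.conj_mem hz hg))
  rw [conj_mul, conj_mul] at h
  exact (mul_left_cancel (mul_right_cancel h)).symm

end CfsgLib.Bender.Core
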