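import Cfsg.Agent.Bender.GSide
import Cfsg.Agent.KGroup.Invariant
import Cfsg.Agent.Kinf.TechExercises
import Cfsg.Agent.OddEnd.FourteenFinal

/-!
In a group of odd order a subgroup of order prime to `r` normalized by a Sylow `r`-subgroup lies in
the core of order prime to `r`.
-/

set_option autoImplicit false
set_option linter.style.haveILetI false

namespace CfsgLib.Bender

open Subgroup
open CfsgLib.Bender.GSide

variable {G : Type*} [Group G] [Finite G]

theorem invariant_mem_core {r : ℕ} [Fact r.Prime] (hr : r ≠ 2) {M R K : Subgroup G}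
    (hM : Odd (Nat.card M)) (hR : Syl r M R) (hK : K ≤ M) (hRK : R ≤ normalizer (K : Set G))
    (hKr : (Nat.card K).Coprime r) : K ≤ (Cfsg.pPrimeCore r M).map M.subtype := by
  haveI : Group.IsSolvable M := OddEnd.odd_solvable M hM
  have hRp : IsPGroup r (R.subgroupOf M) := hR.2.1.comap_subtype
  obtain ⟨S, hS⟩ := hRp.exists_le_sylow
  have hSR : (S : Subgroup M) = R.subgroupOf M := by
    refine le_antisymm (fun x hx => ?_) hS
    have h1 := hR.2.2 _ (map_subtype_le (S : Subgroup M)) (S.isPGroup'.map _)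
    have h2 : R ≤ (S : Subgroup M).map M.subtype := fun y hy => ⟨⟨y, hR.1 hy⟩, hS hy, rfl⟩
    show (x : G) ∈ R
    rw [eq_of_le_of_card_ge h2 h1]
    exact ⟨x, hx, rfl⟩
  obtain ⟨C, hCn, -, hC⟩ := Kinf.exists_scn_containing S.isPGroup' (⊤ : Subgroup (S : Subgroup M))
    ⊥ bot_le ⟨⟨fun a b => Subsingleton.elim _ _⟩⟩
  set B := C.map (S : Subgroup M).subtype
  have hmain := CfsgLib.Invariant.le_pPrimeCore (G := M) hM hr S (B := B) (H := K.subgroupOf M)
    (map_subtype_le _) ?_ ?_ (by rwa [Nat.card_congr (subgroupOfEquivOfLe hK).toEquiv]) ?_ ?_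
  · exact fun x hx => ⟨⟨x, hK hx⟩, hmain hx, rfl⟩
  · rintro _ ⟨x, hx, rfl⟩ _ ⟨y, hy, rfl⟩
    rw [← map_mul, ← map_mul]
    exact congrArg _ (mem_centralizer_iff.1 (show y ∈ centralizer (C : Set (S : Subgroup M)) from
      (hC.2.2.symm.le hy).2) x hx)
  · intro b hb
    have hb' : (b : G) ∈ R := by
      have h : b ∈ R.subgroupOf M := hSR ▸ map_subtype_le _ hb
      exact h
    exact mem_normalizer_iff.2 fun h => mem_normalizer_iff.1 (hRK hb') (h : G)
  · rintro x ⟨hxS, hxB⟩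
    refine ⟨⟨x, hxS⟩, hC.2.2.le ⟨mem_top _, mem_centralizer_iff.2 fun c hc => Subtype.ext ?_⟩, rfl⟩
    exact mem_centralizer_iff.1 hxB c ⟨c, hc, rfl⟩
  · rintro x hxS _ ⟨c, hc, rfl⟩
    set y : (S : Subgroup M) := ⟨x, hxS⟩
    have h1 : y * c * y⁻¹ * c⁻¹ ∈ C := mul_mem (hCn.conj_mem c hc y) (inv_mem hc)
    exact ⟨(y * c * y⁻¹ * c⁻¹) * c * (y * c * y⁻¹ * c⁻¹)⁻¹ * c⁻¹,
      mul_mem (mul_mem (mul_mem h1 hc) (inv_mem h1)) (inv_mem hc), rfl⟩

end CfsgLib.Bender
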