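import Cfsg.Agent.Bender.CoreT
import Cfsg.Agent.Bender.OddInvariant
import Cfsg.Agent.Coprime.Generation

/-!
The core of a strongly embedded subgroup: for a prime dividing the number of involutions of a point
stabilizer, a Sylow subgroup of a two-point stabilizer acts faithfully on the member of the family.
-/

set_option autoImplicit false
set_option linter.unusedSectionVars false
set_option linter.style.haveILetI false

namespace CfsgLib.Bender.Core

open Subgroup
open CfsgLib.FusionLift (cj mem_cj card_cj)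
open CfsgLib.Bender.GSide

variable {G : Type*} [Group G] [Finite G] {H : Subgroup G} {q r : ℕ} {N : G ⧸ H → Subgroup G}

/-- An element of order `r` of `R ⊓ K` central in the `r`-group `R`, for a nontrivial intersection
with a subgroup normalized by `R`. -/
theorem exists_central_order [Fact r.Prime] {R K : Subgroup G} (hR : IsPGroup r R)
    (hRK : R ≤ normalizer (K : Set G)) {y : G} (hy : y ∈ R) (hyK : y ∈ K) (hy1 : y ≠ 1) :
    ∃ x ∈ R, x ∈ K ∧ orderOf x = r ∧ ∀ g ∈ R, Commute g x := by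
  haveI := hR.isNilpotent
  haveI hn : (K.subgroupOf R).Normal := by
    constructor
    intro a ha g
    exact (mem_normalizer_iff.1 (hRK g.2) _).1 ha
  have hne : K.subgroupOf R ≠ ⊥ := fun h => by
    have h1 : (⟨y, hy⟩ : R) ∈ K.subgroupOf R := mem_subgroupOf.2 hyK
    rw [h, mem_bot] at h1
    exact hy1 (congrArg Subtype.val h1)
  obtain ⟨c, hc, hc1⟩ := SetLike.exists_of_lt (bot_lt_iff_ne_bot.2
    (PGroupBasic.inf_center_ne_bot (K.subgroupOf R) hne))
  have hcG : ((c : R) : G) ≠ 1 := fun h => hc1 (mem_bot.2 (Subtype.ext h))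
  obtain ⟨k, hk, -⟩ := exists_prime_order_pow hcG
  refine ⟨(c : G) ^ k, pow_mem c.2 k, pow_mem hc.1 k, ?_, fun g hg => ?_⟩
  · obtain ⟨n, hn⟩ := hR c
    have h1 : orderOf ((c : G) ^ k) ∣ r ^ n := (orderOf_pow_dvd k).trans (orderOf_dvd_of_pow_eq_one
      (by rw [← Subgroup.coe_pow, hn, Subgroup.coe_one]))
    exact (Nat.prime_dvd_prime_iff_eq hk Fact.out).1 (hk.dvd_of_dvd_pow h1)
  · exact (show Commute g (c : G) from
      congrArg Subtype.val (mem_center_iff.1 hc.2 ⟨g, hg⟩)).pow_right k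

/-- Two commuting independent elements of order `r` acting on a nontrivial abelian group of order
prime to `r` have a product of powers, not trivial, fixing a nontrivial element. -/
theorem exists_fixed_of_plane [Fact r.Prime] (hqp : q.Prime) (hrq : r ≠ q) {A : Subgroup G} (hAp : IsPGroup q A)
    {y x : G} (hy : orderOf y = r) (hx : orderOf x = r) (hc : Commute y x) (hnot : y ∉ zpowers x)
    (hyA : y ∈ normalizer (A : Set G)) (hxA : x ∈ normalizer (A : Set G))
    (hAc : ∀ z ∈ A, ∀ w ∈ A, z * w = w * z) (hne : A ≠ ⊥) :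
    ∃ (π : G) (i k : ℕ) (z : G), π = y ^ i * x ^ k ∧ π ≠ 1 ∧ z ∈ A ∧ z ≠ 1 ∧ Commute π z := by
  by_contra hno
  obtain ⟨a₀, ha₀, ha₀1⟩ : ∃ a ∈ A, a ≠ 1 := by
    by_contra h
    push Not at h
    exact hne ((eq_bot_iff_forall _).2 h)
  letI : CommGroup A :=
    { (inferInstance : Group A) with mul_comm := fun u v => Subtype.ext (hAc u u.2 v v.2) }
  set c := A.normalizerMonoidHom
  set Y : normalizer (A : Set G) := ⟨y, hyA⟩ with hYdef
  set X : normalizer (A : Set G) := ⟨x, hxA⟩ with hXdef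
  have hYX : Commute Y X := Subtype.ext hc.eq
  have hxr : x ^ r = 1 := hx ▸ pow_orderOf_eq_one x
  have hyr : y ^ r = 1 := hy ▸ pow_orderOf_eq_one y
  -- the sum over a nontrivial cyclic subgroup is fixed by it
  have key : ∀ (i k : ℕ) (a : A), y ^ i * x ^ k ≠ 1 →
      ∏ j ∈ Finset.range r, c ((Y ^ i * X ^ k) ^ j) a = 1 := by
    intro i k a hπ
    set P := Y ^ i * X ^ k with hPdef
    set f : ℕ → A := fun j => c (P ^ j) a with hf
    have hP : P ^ r = 1 := by
      refine Subtype.ext ?_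
      simp only [hPdef, hYdef, hXdef, SubmonoidClass.coe_pow, Subgroup.coe_mul, OneMemClass.coe_one]
      rw [(hc.pow_pow i k).mul_pow, ← pow_mul, mul_comm i, pow_mul, hyr, one_pow, ← pow_mul,
        mul_comm k, pow_mul, hxr, one_pow, mul_one]
    have hfix : c P (∏ j ∈ Finset.range r, f j) = ∏ j ∈ Finset.range r, f j := by
      have hsucc : ∀ j, c P (f j) = f (j + 1) := fun j => by
        simp only [hf, pow_succ', map_mul, MulAut.mul_apply]
      rw [map_prod, Finset.prod_congr rfl fun j _ => hsucc j]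
      have h0 : f r = f 0 := by simp only [hf, hP, pow_zero]
      have h1 := (Finset.prod_range_succ' f r).symm.trans (Finset.prod_range_succ f r)
      rw [h0] at h1
      exact mul_right_cancel h1
    by_contra hb
    refine hno ⟨_, i, k, _, rfl, hπ, (∏ j ∈ Finset.range r, f j).2,
      fun h => hb (Subtype.ext h), ?_⟩
    have h := congrArg Subtype.val hfix
    exact (mul_inv_eq_iff_eq_mul.1 h)
  have hprod : ∏ k ∈ Finset.range r, ∏ j ∈ Finset.range r,
      c ((Y ^ 1 * X ^ k) ^ j) ⟨a₀, ha₀⟩ = 1 := by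
    refine Finset.prod_eq_one fun k _ => key 1 k _ fun h => hnot ?_
    rw [pow_one] at h
    rw [eq_inv_of_mul_eq_one_left h]
    exact inv_mem (pow_mem (mem_zpowers x) k)
  rw [Finset.prod_comm, Finset.prod_eq_single 0 ?_ ?_] at hprod
  · simp only [pow_zero, map_one, MulAut.one_apply, Finset.prod_const, Finset.card_range] at hprod
    obtain ⟨n, hn⟩ := hAp ⟨a₀, ha₀⟩
    have h1 : orderOf (⟨a₀, ha₀⟩ : A) ∣ r := orderOf_dvd_of_pow_eq_one hprod
    have h2 : orderOf (⟨a₀, ha₀⟩ : A) ∣ q ^ n := orderOf_dvd_of_pow_eq_one hn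
    rcases (Nat.dvd_prime Fact.out).1 h1 with h | h
    · exact ha₀1 (congrArg Subtype.val (orderOf_eq_one_iff.1 h))
    · rcases Nat.eq_zero_or_pos n with rfl | hn0
      · rw [h, pow_zero, Nat.dvd_one] at h2
        exact (Fact.out : r.Prime).one_lt.ne' h2
      · exact hrq ((Nat.prime_dvd_prime_iff_eq Fact.out hqp).1
          ((Fact.out : r.Prime).dvd_of_dvd_pow (h ▸ h2)))
  · intro j hj hj0
    rw [Finset.mem_range] at hj
    have h : ∀ k, c ((Y ^ 1 * X ^ k) ^ j) ⟨a₀, ha₀⟩ =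
        c (Y ^ j) (c ((Y ^ 0 * X ^ j) ^ k) ⟨a₀, ha₀⟩) := fun k => by
      rw [pow_one, pow_zero, one_mul, (hYX.pow_right k).mul_pow, map_mul, MulAut.mul_apply,
        ← pow_mul, ← pow_mul, mul_comm k]
    rw [Finset.prod_congr rfl fun k _ => h k, ← map_prod, key 0 j _ ?_, map_one]
    rw [pow_zero, one_mul]
    intro h
    exact Nat.not_dvd_of_pos_of_lt (Nat.pos_of_ne_zero hj0) hj
      (hx ▸ orderOf_dvd_of_pow_eq_one h)
  · intro h
    exact absurd (Finset.mem_range.2 (Fact.out : r.Prime).pos) h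

/-- In a subgroup with even stabilizer of `e`, two points of the orbit of `e` are swapped by an
involution normalizing a Sylow subgroup of the stabilizer of `e` fixing the other point. -/
theorem exists_swap_norm [Fact r.Prime] (hH : Cfsg.IsStronglyEmbedded H) {M : Subgroup G}
    {e : G ⧸ H} (hK : Cfsg.IsStronglyEmbedded ((st e).subgroupOf M)) {Q : Subgroup G}
    (hQ : Syl r (M ⊓ st e) Q) {m : G} (hm : m ∈ M) (hne : m • e ≠ e) (hQm : Q ≤ st (m • e)) :
    ∃ k : G, k ∈ M ∧ orderOf k = 2 ∧ k • e = m • e ∧ k ∈ normalizer (Q : Set G) := by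
  set x := m • e with hx
  obtain ⟨u, hu, hux⟩ := StrongEmbed.exists_swap hK
    (x := QuotientGroup.mk (1 : M)) (y := QuotientGroup.mk (⟨m, hm⟩ : M)) (fun h => hne (by
      have h2 := QuotientGroup.eq.1 h
      rw [inv_one, one_mul, mem_subgroupOf] at h2
      exact h2))
  rw [← Subgroup.orderOf_coe] at hu
  rw [StrongEmbed.smul_mk_one_eq, QuotientGroup.eq, mem_subgroupOf] at hux
  have hue : (u : G) • e = x := by
    have h2 : ((u : G)⁻¹ * m) • e = e := hux
    rwa [mul_smul, inv_smul_eq_iff, eq_comm] at h2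
  have hux' := swap_back hu hue
  set D := M ⊓ st e ⊓ st x with hD
  have hQD : Q ≤ D := le_inf hQ.1 hQm
  have hle : cj (u : G) Q ≤ D := by
    refine le_inf (le_inf ?_ ?_) ?_
    · rintro _ ⟨w, hw, rfl⟩
      exact mul_mem (mul_mem u.2 (hQ.1 hw).1) (inv_mem u.2)
    · have := le_st_smul (g := (u : G)) (hQD.trans inf_le_right)
      rwa [hux'] at this
    · have := le_st_smul (g := (u : G)) (hQ.1.trans inf_le_right)
      rwa [hue] at this
  obtain ⟨d, hd, hdQ⟩ := syl_conj (show Syl r D Q from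
    ⟨hQD, hQ.2.1, fun P hP hPp => hQ.2.2 P (hP.trans inf_le_left) hPp⟩) hle (hQ.2.1.map _)
  rw [cj_cj] at hdQ
  set g := d * (u : G)
  have hge : g • e = x := by rw [mul_smul, hue]; exact hd.2
  have hgx : g • x = e := by rw [mul_smul, hux']; exact hd.1.2
  have hgM : g ∈ M := mul_mem hd.1.1 u.2
  have hg2 : g * g ∈ st e ⊓ st x :=
    mem_inf.2 ⟨MulAction.mem_stabilizer_iff.2 (by rw [mul_smul, hge, hgx]),
      MulAction.mem_stabilizer_iff.2 (by rw [mul_smul, hgx, hge])⟩
  obtain ⟨n, hn⟩ := (odd_pair hH (Ne.symm hne)).of_dvd_nat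
    (Subgroup.orderOf_dvd_natCard _ hg2)
  have hswap : g ^ (2 * n + 1) • e = x := by
    rw [pow_succ, mul_smul, hge, pow_mul, sq]
    exact (pow_mem hg2 n).2
  refine ⟨g ^ (2 * n + 1), pow_mem hgM _, Invol.orderOf_eq_two ?_ fun h => hne ?_, hswap,
    pow_mem (mem_norm_iff.2 (cj_eq_of_le hdQ le_rfl)) _⟩
  · rw [← pow_add, ← two_mul, pow_mul, sq, ← hn, pow_orderOf_eq_one]
  · rw [← hswap, h, one_smul]

section Setting

variable (hS : Setting H)
include hS

/-- A Sylow subgroup of the stabilizer in `M` of the centre of one of its involutions that is not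
a Sylow subgroup is normalized by an involution at that centre. -/
theorem exists_norm_of_not_syl [Fact r.Prime] {M : Subgroup G} {u : G}
    (huM : u ∈ M) (hu : orderOf u = 2) {e : G ⧸ H} (hue : u • e = e) (hr2 : r ≠ 2)
    {Q T : Subgroup G} (hQ : Syl r (M ⊓ st e) Q) (hT : Syl r M T) (hQT : Q ≤ T)
    (hTe : ¬ T ≤ st e) :
    ∃ v : G, orderOf v = 2 ∧ v ∈ M ∧ v • e = e ∧ v ∈ normalizer (Q : Set G) := by
  have hK : Cfsg.IsStronglyEmbedded ((st e).subgroupOf M) := by
    refine ⟨fun h => hTe (hT.1.trans (subgroupOf_eq_top.1 h)), ?_, fun m hm => ?_⟩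
    · rw [even_iff_two_dvd, ← hu]
      exact (Subgroup.orderOf_mk (H := M) u huM).symm ▸
        Subgroup.orderOf_dvd_natCard ((st e).subgroupOf M) (x := ⟨u, huM⟩) hue
    · have hne : (m : G) • e ≠ e := fun h => hm h
      refine (odd_pair hS.se hne.symm).of_dvd_nat ?_
      rw [← card_map_of_injective M.subtype_injective]
      refine card_dvd_of_le ?_
      rintro _ ⟨k, ⟨hk1, j, hj, rfl⟩, rfl⟩
      refine ⟨hk1, ?_⟩
      show ((m : G) * (j : G) * (m : G)⁻¹) • (m : G) • e = (m : G) • e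
      rw [mul_smul, mul_smul, inv_smul_smul, show (j : G) • e = e from hj]
  have hlt : Q < T := lt_of_le_of_ne hQT fun h => hTe (h ▸ hQ.1.trans inf_le_right)
  obtain ⟨Z, hQZ, hZT, hZN⟩ := exists_between hlt hT.2.1
  obtain ⟨z, hz, hze⟩ : ∃ z ∈ Z, z • e ≠ e := by
    by_contra h
    push Not at h
    exact hQZ.ne (eq_of_le_of_card_ge hQZ.le
      (hQ.2.2 Z (le_inf (hZT.trans hT.1) h) (hT.2.1.to_le hZT)))
  have hzM : z ∈ M := hT.1 (hZT hz)
  obtain ⟨i, hiM, hi, hie, hiQ⟩ := exists_swap_norm hS.se hK hQ hzM hze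
    (le_st_smul_of_norm (hZN hz) (hQ.1.trans inf_le_right))
  obtain ⟨f, hif⟩ := StrongEmbed.exists_fix hS.se hi
  have hfe : f ≠ e := fun h => hze (by rw [← hie]; exact h ▸ hif)
  obtain ⟨m, hm⟩ := isConj_iff.1 (StrongEmbed.isConj_of_invols hK
    (a := (⟨u, huM⟩ : M)) (b := ⟨i, hiM⟩) (by rw [← Subgroup.orderOf_coe, hu])
    (by rw [← Subgroup.orderOf_coe, hi]))
  have hmu : (m : G) * u * (m : G)⁻¹ = i := congrArg Subtype.val hm
  have hmf : (m : G) • e = f := by
    refine StrongEmbed.fix_unique hS.se hi ?_ hif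
    rw [← hmu, mul_smul, mul_smul, inv_smul_smul, hue]
  by_cases hQf : Q ≤ st f
  · obtain ⟨k, hkM, hk, hke, hkQ⟩ := exists_swap_norm hS.se hK hQ m.2 (hmf ▸ hfe) (hmf ▸ hQf)
    refine ⟨k * i * k⁻¹, by rw [Invol.orderOf_conj_eq, hi],
      mul_mem (mul_mem hkM hiM) (inv_mem hkM), ?_, mul_mem (mul_mem hkQ hiQ) (inv_mem hkQ)⟩
    rw [mul_smul, mul_smul, Invol.inv_eq_self hk, hke, hmf, hif, ← hmf, swap_back hk hke]
  · exfalso
    obtain ⟨O, hO⟩ := exists_oneClass hS.se ((Fact.out : r.Prime).odd_of_ne_two hr2) hQ.2.1 hi hiQ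
      hif hQf
    have hz2 : (z * z) • e ≠ e := fun h => hze (by
      obtain ⟨k, hk⟩ := IsPGroup.iff_card.1 hT.2.1
      obtain ⟨n, hn⟩ := (show Odd (Nat.card T) from hk ▸
        ((Fact.out : r.Prime).odd_of_ne_two hr2).pow).of_dvd_nat
          (Subgroup.orderOf_dvd_natCard _ (hZT hz))
      have h1 : z ^ orderOf z • e = e := by rw [pow_orderOf_eq_one, one_smul]
      have h2 : ∀ n : ℕ, (z * z) ^ n • e = e := fun n => (st e).pow_mem h n
      rwa [hn, pow_succ', pow_mul, sq, mul_smul, h2 n] at h1)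
    obtain ⟨k, -, hk, hke, hkQ⟩ := exists_swap_norm hS.se hK hQ (mul_mem hzM hzM) hz2
      (le_st_smul_of_norm (mul_mem (hZN hz) (hZN hz)) (hQ.1.trans inf_le_right))
    refine hO.triangle hi (hQ.1.trans inf_le_right) hi
      (show orderOf (z * i * z⁻¹) = 2 by rw [Invol.orderOf_conj_eq, hi]) hk hiQ
      (mul_mem (mul_mem (hZN hz) hiQ) (inv_mem (hZN hz))) hkQ hie
      (c := (z * z) • e) ?_ (swap_back hk hke)
    rw [mul_smul, mul_smul, inv_smul_smul, hie, mul_smul]

/-- A prime dividing the number of involutions of a point stabilizer is odd. -/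
theorem ne_two_of_dvd (hdvd : r ∣ Nat.card {t : G // orderOf t = 2 ∧ t ∈ H}) : r ≠ 2 := by
  rintro rfl
  obtain ⟨b, hab⟩ := exists_other hS (QuotientGroup.mk 1 : G ⧸ H)
  obtain ⟨t, htH, ht2⟩ := StrongEmbed.exists_invol hS.se
  have hte : t • (QuotientGroup.mk 1 : G ⧸ H) = QuotientGroup.mk 1 :=
    StrongEmbed.smul_mk_one_iff.2 htH
  have h := card_orbit_mul (st (QuotientGroup.mk 1 : G ⧸ H) ⊓ st b) t
    (fun x => orderOf x = 2 ∧ x ∈ H) fun x => ⟨fun hx => (transOdd_pair hS.se hab).2.2 t x hte ht2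
      (StrongEmbed.smul_mk_one_iff.2 hx.2) hx.1, by
      rintro ⟨k, hk, rfl⟩
      have hkH : k ∈ H := StrongEmbed.smul_mk_one_iff.1 hk.1
      exact ⟨by rw [Invol.orderOf_conj_eq, ht2], mul_mem (mul_mem hkH htH) (inv_mem hkH)⟩⟩
  have h2 := (odd_pair hS.se hab).of_dvd_nat (hdvd.trans (Dvd.intro _ h))
  exact absurd h2 (by decide)

variable (hN : Family q N) (hsr : Semireg N)
include hN hsr

/-- In case I the prime of the family is different. -/
theorem ne_of_caseI (hI : CaseI r H) [Fact r.Prime] : r ≠ q := by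
  rintro rfl
  obtain ⟨b, hb, hle⟩ := hI.exists_second hS (hN.isPGroup (QuotientGroup.mk 1)) (hN.le_st _)
  obtain ⟨z, hz, hz1⟩ := hN.exists_ne_one (QuotientGroup.mk 1)
  exact hb (hsr _ z hz hz1 b (hle hz)).symm

/-- In case I, an element of order `r` fixing two points whose centralizer fixes the first one
centralizes no nontrivial element of the family there. -/
theorem eq_one_of_centralizer_le (hI : CaseI r H) [Fact r.Prime] {a b : G ⧸ H} (hab : a ≠ b)
    {y : G} (hy : orderOf y = r) (hya : y • a = a) (hyb : y • b = b)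
    (hC : centralizer ({y} : Set G) ≤ st a) {z : G} (hz : z ∈ N a) (hyz : Commute y z) : z = 1 := by
  by_contra hz1
  haveI := two_pretransitive hS
  set C := centralizer ({y} : Set G)
  set Z := (N a ⊓ C).subgroupOf C
  haveI hn : Z.Normal := (normal_subgroupOf_iff_le_normalizer inf_le_right).2 fun g hg =>
    mem_normalizer_iff.2 fun x => and_congr (mem_normalizer_iff.1 (hN.st_le_normalizer a (hC hg)) x)
      (mem_normalizer_iff.1 (le_normalizer hg) x)
  have hzC : z ∈ C := mem_centralizer_singleton_iff.2 hyz.eq.symm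
  have hcore : z ∈ Cfsg.centralizerPPrimeCore r y := by
    refine ⟨⟨z, hzC⟩, Solvable.le_pPrimeCore r hn ?_ (mem_inf.2 ⟨hz, hzC⟩), rfl⟩
    rw [Nat.card_congr (subgroupOfEquivOfLe inf_le_right).toEquiv]
    haveI : Fact q.Prime := ⟨hN.prime⟩
    obtain ⟨i, hi⟩ := IsPGroup.iff_card.1 ((hN.isPGroup a).to_le (inf_le_left (b := C)))
    rw [hi]
    exact ((Nat.coprime_primes hN.prime Fact.out).2 (ne_of_caseI hS hN hsr hI).symm).pow_left i
  exact hab (hsr a z hz hz1 b (St.core_fixes_of_centralizer_le (St.two_le_card_quotient hS.se.1)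
    (Fact.out : r.Prime) (k := 1) (by rw [pow_one, hy]) hab hya hyb hC hcore)).symm

/-- A proper subgroup moving `a`, with an involution at `a`, a nontrivial element of the family at
`a` and a Sylow `r`-subgroup of the stabilizer of `a` does not exist. -/
theorem no_invol_at (hI : CaseI r H) [Fact r.Prime] (hr2 : r ≠ 2) {M : Subgroup G} (hM : M ≠ ⊤)
    {a : G ⧸ H} {R : Subgroup G} (hR : Syl r (st a) R) (hRM : R ≤ M) {z : G} (hz : z ∈ N a)
    (hzM : z ∈ M) (hz1 : z ≠ 1) {g : G} (hg : g ∈ M) (hga : g • a ≠ a) {t : G} (ht : t ∈ M)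
    (ht2 : orderOf t = 2) : t • a ≠ a := by
  intro hta
  by_cases hp : HasPair M
  · exact hga (fix_of_mem_family hS hN hsr hM hp ht ht2 hta hz hzM hz1 hg)
  · obtain ⟨P, hP, htP⟩ := exists_invariant_syl hr2 (M := M ⊓ st a)
      (fun h => hp (h.mono inf_le_left)) ⟨ht, hta⟩ ht2
    refine hI.not_normalizes hS ⟨hP.1.trans inf_le_right, hP.2.1, fun Q hQ hQp =>
      (hR.2.2 Q hQ hQp).trans (hP.2.2 R (le_inf hRM hR.1) hR.2.1)⟩ ht2 hta htP

/-- No subgroup of odd order contains a Sylow subgroup of a pair stabilizer and an element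
mapping the first point to the second. -/
theorem no_odd_transporter (hI : CaseI r H) [Fact r.Prime] {a b : G ⧸ H} (hab : a ≠ b)
    {R : Subgroup G} (hR : Syl r (st a ⊓ st b) R) {M : Subgroup G} (hM : Odd (Nat.card M))
    (hRM : R ≤ M) {c : G} (hc : c ∈ M) (hca : c • a = b) : False := by
  have hRc : cj c R ≤ M := by
    rintro _ ⟨x, hx, rfl⟩
    exact mul_mem (mul_mem hc (hRM hx)) (inv_mem hc)
  have hRb : Syl r (M ⊓ st b) R := by
    refine ⟨le_inf hRM (hR.1.trans inf_le_right), hR.2.1, fun Q hQ hQp => ?_⟩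
    obtain ⟨d, -, hd⟩ := syl_conj (hI.top hS hab.symm
      (show Syl r (st b ⊓ st a) R from inf_comm (st a) (st b) ▸ hR)) (hQ.trans inf_le_right) hQp
    rw [← card_cj d Q]
    exact card_le_of_le hd
  obtain ⟨d, hd, hdR⟩ := syl_conj hRb
    (le_inf hRc (hca ▸ le_st_smul (hR.1.trans inf_le_left))) (hR.2.1.map _)
  rw [cj_cj] at hdR
  set g := d * c with hg
  have hgN : g ∈ normalizer (R : Set G) := mem_norm_iff.2 (cj_eq_of_le hdR le_rfl)
  have hga : g • a = b := by rw [hg, mul_smul, hca]; exact hd.2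
  have hgb : g • b = a := by
    rcases hI a b hab R hR _ (le_st_smul_of_norm hgN (hR.1.trans inf_le_right)) with e | e
    · exact e
    · exact absurd (MulAction.injective g (hga.trans e.symm)) hab
  have hgM : g ∈ M := mul_mem hd.1 hc
  obtain ⟨k, hk⟩ := hM.of_dvd_nat (Subgroup.orderOf_dvd_natCard _ hgM)
  have h2 : g ^ 2 ∈ st a := by
    show g ^ 2 • a = a
    rw [sq, mul_smul, hga, hgb]
  have h3 : g ^ (orderOf g) • a = b := by
    rw [hk, pow_succ, mul_smul, hga, pow_mul]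
    exact (st b).pow_mem (show g ^ 2 • b = b by rw [sq, mul_smul, hgb, hga]) k
  rw [pow_orderOf_eq_one, one_smul] at h3
  exact hab h3

variable (hci : CentInv N)
include hci

/-- A central element of `R` centralized by the swapper commutes with an involution at `a`, when
every Sylow subgroup of the pair of the centre has a central element commuting with no involution
at the centre. -/
theorem exists_invol_at (hI : CaseI r H) [Fact r.Prime] (hr2 : r ≠ 2) {a b e : G ⧸ H}
    (hab : a ≠ b) {R : Subgroup G} (hR : Syl r (st a ⊓ st b) R) {u : G} (hu : orderOf u = 2)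
    (hua : u • a = b) (hue : u • e = e) {j : G} (hj : j ∈ R) (hj1 : j ≠ 1) (hju : Commute j u)
    (hjR : ∀ g ∈ R, Commute g j)
    (hcen : ∀ R' : Subgroup G, Syl r (st e ⊓ st a) R' →
      ∃ l ∈ R', (∀ g ∈ R', Commute g l) ∧ ∀ w : G, orderOf w = 2 → w • e = e → ¬ Commute l w) :
    ∃ t : G, orderOf t = 2 ∧ t • a = a ∧ Commute j t := by
  by_contra hno
  push Not at hno
  set M := centralizer ({j} : Set G) with hMdef
  have hM : M ≠ ⊤ := centralizer_ne_top hS hj1 (hR.1 hj).1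
  have hmem : ∀ {g : G}, Commute g j → g ∈ M := fun h => mem_centralizer_singleton_iff.2 h.eq
  have huM : u ∈ M := hmem hju.symm
  have hodd : ∀ t ∈ M, orderOf t = 2 → t • a ≠ a := fun t ht ht2 hta =>
    hno t ht2 hta (mem_centralizer_singleton_iff.1 ht).symm
  have hje : j • e = e := fix_of_commute hS.se hu hue hju
  obtain ⟨R', hjR', hR'⟩ := exists_syl (r := r) (X := zpowers j) (D := st e ⊓ st a)
    (zpowers_le.2 (mem_inf.2 ⟨hje, (hR.1 hj).1⟩)) (hR.2.1.to_le (zpowers_le.2 hj))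
  obtain ⟨l, hl, hlR', hlw⟩ := hcen R' hR'
  have hlM : l ∈ M ⊓ st e := ⟨hmem (hlR' j (hjR' (mem_zpowers j))).symm, (hR'.1 hl).1⟩
  -- no involution normalizes a Sylow subgroup of the stabilizer of the centre
  have key : ∀ Q : Subgroup G, Syl r (M ⊓ st e) Q → ∀ v ∈ M, orderOf v = 2 → v • e = e →
      v ∉ normalizer (Q : Set G) := by
    intro Q hQ v _ hv hve hvQ
    obtain ⟨d, hed, hQd⟩ := hI.exists_second hS hQ.2.1 (hQ.1.trans inf_le_right)
    obtain ⟨i, hi, hiQ⟩ := syl_conj hQ (zpowers_le.2 hlM) (hR'.2.1.to_le (zpowers_le.2 hl))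
    by_cases hc : Commute v (i * l * i⁻¹)
    · refine hlw (i⁻¹ * v * i⁻¹⁻¹) (by rw [Invol.orderOf_conj_eq, hv]) ?_ ?_
      · rw [inv_inv, mul_smul, mul_smul, show i • e = e from hi.2, hve,
          inv_smul_eq_iff.2 (show e = i • e from hi.2.symm)]
      · have h := hc.symm.map (MulAut.conj i⁻¹).toMonoidHom
        simp only [MulEquiv.coe_toMonoidHom, MulAut.conj_apply] at h
        rwa [show i⁻¹ * (i * l * i⁻¹) * i⁻¹⁻¹ = l by group] at h
    · obtain ⟨x, hx, hxp, hxinv⟩ := exists_inverted_prime ((odd_pair hS.se hed).of_dvd_nat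
        (card_dvd_of_le (le_inf (hQ.1.trans inf_le_right) hQd))) hv hvQ
        ⟨_, hiQ ⟨l, mem_zpowers l, rfl⟩, hc⟩
      have hx1 := eq_one_of_inverted_centre hS hN hsr hci hed.symm hv hve
        ((odd_pair hS.se hed).of_dvd_nat (Subgroup.orderOf_dvd_natCard _
          (mem_inf.2 ⟨(hQ.1 hx).2, hQd hx⟩)))
        (hQ.1 hx).2 (hQd hx) hxinv
      rw [hx1, orderOf_one] at hxp
      exact Nat.not_prime_one hxp
  by_cases hp : HasPair M
  · have hRM : R ≤ M := fun g hg => hmem (hjR g hg)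
    obtain ⟨Q, -, hQ⟩ := exists_syl (r := r) (bot_le : ⊥ ≤ M ⊓ st e) IsPGroup.of_bot
    obtain ⟨T, hQT, hT⟩ := exists_syl (r := r) (hQ.1.trans inf_le_left) hQ.2.1
    by_cases hTe : T ≤ st e
    · -- a full Sylow subgroup fixes the centre
      obtain ⟨g, hg, hgR⟩ := syl_conj hT hRM hR.2.1
      obtain ⟨g₁, hg₁⟩ := exists_smul e a
      have hTR : Nat.card T ≤ Nat.card R := by
        rw [← card_cj g₁ T]
        exact (hI.top hS hab hR).2.2 _ (hg₁ ▸ le_st_smul hTe) (hT.2.1.map _)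
      have hTa : cj g⁻¹ T = R := by rw [← cj_eq_of_le hgR hTR, cj_inv]
      have hfix : R ≤ st (g⁻¹ • e) := hTa ▸ le_st_smul hTe
      have hgu : g⁻¹ * u * g⁻¹⁻¹ ∈ M := mul_mem (mul_mem (inv_mem hg) huM) (inv_mem (inv_mem hg))
      have hgue : (g⁻¹ * u * g⁻¹⁻¹) • g⁻¹ • e = g⁻¹ • e := by
        rw [inv_inv, mul_smul, mul_smul, smul_inv_smul, hue]
      rcases hI a b hab R hR _ hfix with h | h
      · exact hodd _ hgu (by rw [Invol.orderOf_conj_eq, hu]) (h ▸ hgue)
      · refine hodd (u * (g⁻¹ * u * g⁻¹⁻¹) * u⁻¹) (mul_mem (mul_mem huM hgu) (inv_mem huM))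
          (by rw [Invol.orderOf_conj_eq, Invol.orderOf_conj_eq, hu]) ?_
        rw [Invol.inv_eq_self hu, mul_smul, mul_smul, hua]
        rw [h] at hgue
        rw [hgue, swap_back hu hua]
    · obtain ⟨v, hv, hvM, hve, hvQ⟩ :=
        exists_norm_of_not_syl hS huM hu hue hr2 hQ hT hQT hTe
      exact key Q hQ v hvM hv hve hvQ
  · obtain ⟨Q, hQ, huQ⟩ := exists_invariant_syl hr2 (M := M ⊓ st e)
      (fun h => hp (h.mono inf_le_left)) ⟨huM, hue⟩ hu
    exact key Q hQ u huM hu hue huQ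

/-- For a prime dividing the number of involutions of a point stabilizer, a Sylow subgroup of a
two-point stabilizer meets the centralizer of the member of the family trivially. -/
theorem eq_one_of_commute_family (hr : r.Prime) (hr2 : r ≠ 2)
    (hdvd : r ∣ Nat.card {t : G // orderOf t = 2 ∧ t ∈ H}) {a b : G ⧸ H} (hab : a ≠ b)
    {R : Subgroup G} (hR : Syl r (st a ⊓ st b) R) {y : G} (hy : y ∈ R)
    (hyN : ∀ z ∈ N a, Commute y z) : y = 1 := by
  haveI : Fact r.Prime := ⟨hr⟩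
  have hI := caseI_of_dvd hS hN hsr hci hr hr2 hdvd
  by_contra hy1
  have hpodd : ∀ {x : G} {c d : G ⧸ H}, c ≠ d → x • c = c → x • d = d → Odd (orderOf x) :=
    fun hcd hc hd => (odd_pair hS.se hcd).of_dvd_nat
      (Subgroup.orderOf_dvd_natCard _ (mem_inf.2 ⟨hc, hd⟩))
  -- properties of a central element, transported
  have huniv : ∀ P : Subgroup G → (G ⧸ H) → (G ⧸ H) → Prop,
      (∀ g : G, ∀ S c d, P S c d → P (cj g S) (g • c) (g • d)) →
      P R a b → ∀ c d : G ⧸ H, c ≠ d → ∀ S, Syl r (st c ⊓ st d) S → P S c d := by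
    intro P hP h c d hcd S hS'
    obtain ⟨g, rfl, rfl⟩ := exists_move hS hab hcd
    obtain ⟨k, hk, hkS⟩ := syl_conj hS'
      (le_inf (le_st_smul (g := g) (hR.1.trans inf_le_left))
        (le_st_smul (g := g) (hR.1.trans inf_le_right))) (hR.2.1.map _)
    rw [cj_cj] at hkS
    have hcard : Nat.card S ≤ Nat.card R := by
      rw [← card_cj g⁻¹ S]
      refine hR.2.2 _ (le_inf ?_ ?_) (hS'.2.1.map _)
      · have := le_st_smul (g := g⁻¹) (hS'.1.trans inf_le_left)
        rwa [inv_smul_smul] at this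
      · have := le_st_smul (g := g⁻¹) (hS'.1.trans inf_le_right)
        rwa [inv_smul_smul] at this
    have := hP (k * g) R a b h
    rwa [cj_eq_of_le hkS hcard, mul_smul, mul_smul, show k • g • a = g • a from hk.1,
      show k • g • b = g • b from hk.2] at this
  obtain ⟨u, hu, hua, huR⟩ := swapper_norm hS.se hab hR
  have hub := swap_back hu hua
  obtain ⟨e, hue⟩ := StrongEmbed.exists_fix hS.se hu
  have hea : e ≠ a := fun h => hab (by rw [← hua, ← h, hue])
  have hui := Invol.inv_eq_self hu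
  have hconj_u : ∀ g : G, u * (u * g * u⁻¹) * u⁻¹ = g := fun g => by
    rw [hui]
    simp only [mul_assoc, Invol.mul_self_eq_one hu, mul_one]
    rw [← mul_assoc, Invol.mul_self_eq_one hu, one_mul]
  have hRc : R ≤ normalizer ((centralizer (N a : Set G) : Subgroup G) : Set G) := fun g hg => by
    refine mem_norm_iff.2 (cj_eq_of_le ?_ le_rfl)
    rintro _ ⟨k, hk, rfl⟩
    refine mem_centralizer_iff.2 fun z hz => ?_
    rw [← mem_norm_iff.1 (hN.st_le_normalizer a (hR.1 hg).1)] at hz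
    obtain ⟨z', hz', rfl⟩ := hz
    rw [← map_mul, ← map_mul, mem_centralizer_iff.1 hk z' hz']
  by_cases hcase : ∃ x ∈ R, x ≠ 1 ∧ (∀ g ∈ R, Commute g x) ∧ (∀ z ∈ N a, Commute x z) ∧
      ∀ z ∈ N b, Commute x z
  · -- a central element centralizing both members
    obtain ⟨x, hx, hx1, hxR, hxa, hxb⟩ := hcase
    have hxu : Commute x u :=
      (commute_swapper hS hN hsr hci hab hu hua (hR.1 hx).1 (hR.1 hx).2 hxa hxb).symm
    have hcen : ∀ R' : Subgroup G, Syl r (st e ⊓ st a) R' →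
        ∃ l ∈ R', (∀ g ∈ R', Commute g l) ∧
          ∀ w : G, orderOf w = 2 → w • e = e → ¬ Commute l w := by
      intro R' hR'
      obtain ⟨l, hl, hl1, hlR, hle, hla⟩ := huniv (fun S c d => ∃ x ∈ S, x ≠ 1 ∧
        (∀ g ∈ S, Commute g x) ∧ (∀ z ∈ N c, Commute x z) ∧ ∀ z ∈ N d, Commute x z)
        (fun g S c d ⟨x, hx, hx1, hxR, hxc, hxd⟩ => by
          refine ⟨g * x * g⁻¹, ⟨x, hx, rfl⟩, fun h => hx1 (by simpa using h), ?_, ?_, ?_⟩
          · rintro _ ⟨k, hk, rfl⟩
            exact (hxR k hk).map (MulAut.conj g).toMonoidHom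
          · rw [← hN.smul]
            rintro _ ⟨z, hz, rfl⟩
            exact (hxc z hz).map (MulAut.conj g).toMonoidHom
          · rw [← hN.smul]
            rintro _ ⟨z, hz, rfl⟩
            exact (hxd z hz).map (MulAut.conj g).toMonoidHom)
        ⟨x, hx, hx1, hxR, hxa, hxb⟩ e a hea R' hR'
      refine ⟨l, hl, hlR, fun w hw hwe hlw => ?_⟩
      -- `C(l)` would fix `e`
      obtain ⟨z, hz, hz1⟩ := hN.exists_ne_one e
      obtain ⟨z', hz', hz'1⟩ := hN.exists_ne_one a
      exact no_invol_at hS hN hsr hI hr2 (centralizer_ne_top hS hl1 (hR'.1 hl).1)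
        (hI.top hS hea hR') (fun g hg => mem_centralizer_singleton_iff.2 (hlR g hg).eq) hz
        (mem_centralizer_singleton_iff.2 (hle z hz).eq.symm) hz1
        (g := z') (mem_centralizer_singleton_iff.2 (hla z' hz').eq.symm)
        (fun h => hea (hsr a z' hz' hz'1 e h)) (mem_centralizer_singleton_iff.2 hlw.eq.symm) hw hwe
    obtain ⟨t, ht, hta, hxt⟩ :=
      exists_invol_at hS hN hsr hci hI hr2 hab hR hu hua hue hx hx1 hxu hxR hcen
    obtain ⟨z, hz, hz1⟩ := hN.exists_ne_one a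
    exact no_invol_at hS hN hsr hI hr2 (centralizer_ne_top hS hx1 (hR.1 hx).1) (hI.top hS hab hR)
      (fun g hg => mem_centralizer_singleton_iff.2 (hxR g hg).eq) hz
      (mem_centralizer_singleton_iff.2 (hxa z hz).eq.symm) hz1
      (mem_centralizer_singleton_iff.2 hxu.eq.symm) (fun h => hab (h.symm.trans hua))
      (mem_centralizer_singleton_iff.2 hxt.eq.symm) ht hta
  push Not at hcase
  obtain ⟨x, hx, hxK, hxr, hxR⟩ := exists_central_order hR.2.1 hRc hy
    (mem_centralizer_iff.2 fun z hz => (hyN z hz).eq.symm) hy1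
  have hxN : ∀ z ∈ N a, Commute x z := fun z hz => (mem_centralizer_iff.1 hxK z hz).symm
  have hx1 : x ≠ 1 := fun h => hr.one_lt.ne' (hxr.symm.trans (orderOf_eq_one_iff.2 h))
  set x' := u * x * u⁻¹ with hx'
  have hx'R : x' ∈ R := (mem_normalizer_iff.1 huR x).1 hx
  have hx'cen : ∀ g ∈ R, Commute g x' := fun g hg => by
    have h := (hxR _ ((mem_normalizer_iff.1 huR g).1 hg)).map (MulAut.conj u).toMonoidHom
    simp only [MulEquiv.coe_toMonoidHom, MulAut.conj_apply, hconj_u] at h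
    exact h
  have hx'N : ∀ z ∈ N b, Commute x' z := by
    rw [← hua, ← hN.smul]
    rintro _ ⟨z, hz, rfl⟩
    exact (hxN z hz).map (MulAut.conj u).toMonoidHom
  have hxb : ¬ ∀ z ∈ N b, Commute x z := fun h => by
    obtain ⟨z, hz, hnz⟩ := hcase x hx hx1 hxR hxN
    exact hnz (h z hz)
  have hxx' : Commute x x' := hx'cen x hx
  set j := x * x' with hj
  set l := x⁻¹ * x' with hl
  have hjR : j ∈ R := mul_mem hx hx'R
  have hlR : l ∈ R := mul_mem (inv_mem hx) hx'R
  have hjcen : ∀ g ∈ R, Commute g j := fun g hg => (hxR g hg).mul_right (hx'cen g hg)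
  have hlcen : ∀ g ∈ R, Commute g l := fun g hg =>
    ((hxR g hg).inv_right).mul_right (hx'cen g hg)
  have hux' : u * x' * u⁻¹ = x := hconj_u x
  have hju : Commute j u := by
    have h : u * j * u⁻¹ = j := by
      rw [hj, ← conj_mul, ← hx', hux']; exact hxx'.eq.symm
    exact (mul_inv_eq_iff_eq_mul.1 h).symm
  have hlinv : u * l * u⁻¹ = l⁻¹ := by
    rw [hl, ← conj_mul, ← conj_inv, ← hx', hux', show (x⁻¹ * x')⁻¹ = x'⁻¹ * x by
      rw [mul_inv_rev x⁻¹ x', inv_inv x]]
  have hl1 : l ≠ 1 := fun h => hxb (fun z hz => by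
    rw [hl, inv_mul_eq_one] at h
    rw [h]; exact hx'N z hz)
  obtain ⟨z₀, hz₀, hz₀1⟩ := hN.exists_ne_one a
  have hj1 : j ≠ 1 := fun h => hz₀1 (eq_one_of_inverted_family hS hN hsr hci hab hu hua
    (hxr ▸ hr) (hR.1 hx).1 (hR.1 hx).2 (by rw [← hx']; exact eq_inv_of_mul_eq_one_right h) hz₀
    (hxN z₀ hz₀))
  have hlnc : ∀ {t : G}, orderOf t = 2 → ¬ Commute l t := fun ht =>
    not_commute_invol hS hN hsr hci hab hu hua hl1 (hR.1 hlR).1 (hR.1 hlR).2 hlinv ht
  have hcen : ∀ R' : Subgroup G, Syl r (st e ⊓ st a) R' →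
      ∃ l' ∈ R', (∀ g ∈ R', Commute g l') ∧
        ∀ w : G, orderOf w = 2 → w • e = e → ¬ Commute l' w := by
    intro R' hR'
    obtain ⟨l', hl', hl'c, hl'n⟩ := huniv (fun S _ _ => ∃ l ∈ S, (∀ g ∈ S, Commute g l) ∧
      ∀ t : G, orderOf t = 2 → ¬ Commute l t)
      (fun g S _ _ ⟨l, hl, hlS, hln⟩ => by
        refine ⟨g * l * g⁻¹, ⟨l, hl, rfl⟩, ?_, fun t ht hc => ?_⟩
        · rintro _ ⟨k, hk, rfl⟩
          exact (hlS k hk).map (MulAut.conj g).toMonoidHom
        · refine hln (g⁻¹ * t * g⁻¹⁻¹) (by rw [Invol.orderOf_conj_eq, ht]) ?_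
          have h := hc.map (MulAut.conj g⁻¹).toMonoidHom
          simp only [MulEquiv.coe_toMonoidHom, MulAut.conj_apply] at h
          rwa [show g⁻¹ * (g * l * g⁻¹) * g⁻¹⁻¹ = l by group] at h)
      ⟨l, hlR, hlcen, fun t ht => hlnc ht⟩ e a hea R' hR'
    exact ⟨l', hl', hl'c, fun w hw _ => hl'n w hw⟩
  obtain ⟨t, ht, hta, hjt⟩ :=
    exists_invol_at hS hN hsr hci hI hr2 hab hR hu hua hue hjR hj1 hju hjcen hcen
  -- an element of order `r` centralizing `N b` commutes with some involution at `a`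
  obtain ⟨x₂, hx₂, hx₂a, hx₂b, hx₂N, v₀, hv₀, hv₀a, hx₂v₀⟩ : ∃ x₂ : G, orderOf x₂ = r ∧
      x₂ • a = a ∧ x₂ • b = b ∧ (∀ z ∈ N b, Commute x₂ z) ∧
      ∃ v₀ : G, orderOf v₀ = 2 ∧ v₀ • a = a ∧ Commute x₂ v₀ := by
    set M := centralizer ({x} : Set G)
    have hMt : M ≠ ⊤ := centralizer_ne_top hS hx1 (hR.1 hx).1
    have hRM : R ≤ M := fun g hg => mem_centralizer_singleton_iff.2 (hxR g hg).eq
    have hNM : N a ≤ M := fun z hz => mem_centralizer_singleton_iff.2 (hxN z hz).eq.symm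
    obtain ⟨g, hgM, hga⟩ : ∃ g ∈ M, g • a ≠ a := by
      by_contra hall
      push Not at hall
      exact hz₀1 (eq_one_of_centralizer_le hS hN hsr hI hab hxr (hR.1 hx).1 (hR.1 hx).2
        (fun g hg => hall g hg) hz₀ (hxN z₀ hz₀))
    obtain ⟨w, hwM, hw⟩ : ∃ w ∈ M, orderOf w = 2 := by
      by_contra hall
      push Not at hall
      have hModd : Odd (Nat.card M) := by
        haveI : Fact (Nat.Prime 2) := ⟨Nat.prime_two⟩
        by_contra h
        obtain ⟨w, hw⟩ := exists_prime_orderOf_dvd_card' (G := M) 2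
          (even_iff_two_dvd.1 (Nat.not_odd_iff_even.1 h))
        exact hall w w.2 (by rwa [Subgroup.orderOf_coe])
      haveI := two_pretransitive hS
      rcases St.core_fixes_or_transitive (St.two_le_card_quotient hS.se.1) hr
        (x := x) (k := 1) (by rw [pow_one, hxr]) (Ω := G ⧸ H) with h | h
      · refine hab (hsr a z₀ hz₀ hz₀1 b (h z₀ ?_ b (hR.1 hx).2)).symm
        have hRM' : Syl r M R := by
          obtain ⟨T, hRT, hT⟩ := exists_syl hRM hR.2.1
          have hTR : R = T := by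
            by_contra hne
            obtain ⟨Z, hRZ, hZT, hZN⟩ := exists_between (lt_of_le_of_ne hRT hne) hT.2.1
            refine hRZ.ne (eq_of_le_of_card_ge hRZ.le (hR.2.2 Z ?_ (hT.2.1.to_le hZT)))
            intro k hk
            rcases hI a b hab R hR _ (le_st_smul_of_norm (hZN hk) (hR.1.trans inf_le_left)) with e | e
            · refine ⟨e, ?_⟩
              rcases hI a b hab R hR _ (le_st_smul_of_norm (hZN hk) (hR.1.trans inf_le_right))
                with e' | e'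
              · exact absurd (MulAction.injective k (e.trans e'.symm)) hab
              · exact e'
            · exfalso
              exact no_odd_transporter hS hN hsr hI hab hR hModd hRM ((hZT.trans hT.1) hk) e
          exact hTR ▸ hT
        refine invariant_mem_core hr2 hModd hRM' hNM
          ((hR.1.trans inf_le_left).trans (hN.st_le_normalizer a)) ?_ hz₀
        haveI : Fact q.Prime := ⟨hN.prime⟩
        obtain ⟨i, hi⟩ := IsPGroup.iff_card.1 (hN.isPGroup a)
        rw [hi]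
        exact ((Nat.coprime_primes hN.prime hr).2 (ne_of_caseI hS hN hsr hI).symm).pow_left i
      · obtain ⟨c, hc, hcb⟩ := h a b (hR.1 hx).1 (hR.1 hx).2
        exact no_odd_transporter hS hN hsr hI hab hR hModd hRM hc hcb
    obtain ⟨c, hwc⟩ := StrongEmbed.exists_fix hS.se hw
    have hca : c ≠ a := fun h =>
      no_invol_at hS hN hsr hI hr2 hMt (hI.top hS hab hR) hRM hz₀ (hNM hz₀) hz₀1 hgM hga hwM hw
        (h ▸ hwc)
    have hxc : x • c = c :=
      fix_of_commute hS.se hw hwc (show Commute x w from (mem_centralizer_singleton_iff.1 hwM).symm)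
    obtain ⟨h, hha, hhc⟩ := exists_move hS hca.symm hab
    refine ⟨u * (h * x * h⁻¹) * u⁻¹, ?_, ?_, ?_, ?_, u * (h * w * h⁻¹) * u⁻¹, ?_, ?_, ?_⟩
    · rw [Invol.orderOf_conj_eq, Invol.orderOf_conj_eq, hxr]
    · rw [hui, mul_smul, mul_smul, hua, mul_smul, mul_smul,
        show h⁻¹ • b = c from inv_smul_eq_iff.2 hhc.symm, hxc, hhc, hub]
    · rw [hui, mul_smul, mul_smul, hub, mul_smul, mul_smul,
        show h⁻¹ • a = a from inv_smul_eq_iff.2 hha.symm, (hR.1 hx).1, hha, hua]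
    · rw [← hua, ← hN.smul]
      rintro _ ⟨z, hz, rfl⟩
      rw [← hha, ← hN.smul] at hz
      obtain ⟨z', hz', rfl⟩ := hz
      exact (((hxN z' hz').map (MulAut.conj h).toMonoidHom)).map (MulAut.conj u).toMonoidHom
    · rw [Invol.orderOf_conj_eq, Invol.orderOf_conj_eq, hw]
    · rw [hui, mul_smul, mul_smul, hua, mul_smul, mul_smul,
        show h⁻¹ • b = c from inv_smul_eq_iff.2 hhc.symm, hwc, hhc, hub]
    · exact ((show Commute x w from (mem_centralizer_singleton_iff.1 hwM).symm).map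
        (MulAut.conj h).toMonoidHom).map (MulAut.conj u).toMonoidHom
  -- move to an involution `t` at `a` commuting with `j`
  set D := st a ⊓ st b with hD
  obtain ⟨R₄, hjR₄, hR₄⟩ := exists_syl (r := r)
    (X := zpowers j) (D := D ⊓ centralizer ({t} : Set G))
    (zpowers_le.2 ⟨hR.1 hjR, mem_centralizer_singleton_iff.2 hjt.eq⟩)
    (hR.2.1.to_le (zpowers_le.2 hjR))
  have hR₄b : R₄ ≤ normalizer ((centralizer (N b : Set G) : Subgroup G) : Set G) := fun g hg => by
    refine mem_norm_iff.2 (cj_eq_of_le ?_ le_rfl)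
    rintro _ ⟨k, hk, rfl⟩
    refine mem_centralizer_iff.2 fun z hz => ?_
    rw [← mem_norm_iff.1 (hN.st_le_normalizer b (hR₄.1 hg).1.2)] at hz
    obtain ⟨z', hz', rfl⟩ := hz
    rw [← map_mul, ← map_mul, mem_centralizer_iff.1 hk z' hz']
  obtain ⟨d, hd, hdt⟩ := (transOdd_pair hS.se hab).2.2 v₀ t hv₀a hv₀ hta ht
  set x₃ := d * x₂ * d⁻¹ with hx₃def
  have hx₃ : x₃ ∈ D ⊓ centralizer ({t} : Set G) := by
    refine mem_inf.2 ⟨D.mul_mem (D.mul_mem hd (mem_inf.2 ⟨hx₂a, hx₂b⟩)) (D.inv_mem hd),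
      mem_centralizer_singleton_iff.2 ?_⟩
    have h := hx₂v₀.map (MulAut.conj d).toMonoidHom
    simp only [MulEquiv.coe_toMonoidHom, MulAut.conj_apply, hdt] at h
    exact h.eq
  have hx₃N : ∀ z ∈ N b, Commute x₃ z := by
    rw [← mem_norm_iff.1 (hN.st_le_normalizer b hd.2)]
    rintro _ ⟨z, hz, rfl⟩
    exact (hx₂N z hz).map (MulAut.conj d).toMonoidHom
  obtain ⟨k, hk, hkR₄⟩ := syl_conj hR₄ (zpowers_le.2 hx₃) (IsPGroup.of_card (n := 1)
    (by rw [Nat.card_zpowers, hx₃def, Invol.orderOf_conj_eq, hx₂, pow_one]))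
  have hx₄ : k * x₃ * k⁻¹ ∈ R₄ := hkR₄ ⟨x₃, mem_zpowers _, rfl⟩
  have hx₄N : k * x₃ * k⁻¹ ∈ centralizer (N b : Set G) := by
    refine mem_centralizer_iff.2 fun z hz => ?_
    rw [← mem_norm_iff.1 (hN.st_le_normalizer b hk.1.2)] at hz
    obtain ⟨z', hz', rfl⟩ := hz
    exact ((hx₃N z' hz').map (MulAut.conj k).toMonoidHom).symm.eq
  obtain ⟨y₁, hy₁, hy₁N, hy₁r, hy₁R⟩ := exists_central_order hR₄.2.1 hR₄b hx₄ hx₄N (fun h => by
    have h2 := Invol.orderOf_conj_eq k x₃
    rw [h, orderOf_one, hx₃def, Invol.orderOf_conj_eq, hx₂] at h2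
    exact hr.one_lt.ne h2)
  have hjy : Commute j y₁ := hy₁R j (hjR₄ (mem_zpowers j))
  obtain ⟨i, hi, hij, hiy⟩ : ∃ i ∈ D, Commute i j ∧ i * y₁ * i⁻¹ ∈ R := by
    set P := zpowers j ⊔ zpowers y₁
    have hP : P ≤ D ⊓ centralizer ({j} : Set G) := sup_le
      (zpowers_le.2 ⟨hR.1 hjR, mem_centralizer_singleton_iff.2 rfl⟩)
      (zpowers_le.2 ⟨(hR₄.1 hy₁).1, mem_centralizer_singleton_iff.2 hjy.eq.symm⟩)
    have hRj : Syl r (D ⊓ centralizer ({j} : Set G)) R := ⟨le_inf hR.1 fun g hg =>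
      mem_centralizer_singleton_iff.2 (hjcen g hg).eq, hR.2.1,
      fun S hS' hSp => hR.2.2 S (hS'.trans inf_le_left) hSp⟩
    obtain ⟨i, hi, hiR⟩ := syl_conj hRj hP (hR₄.2.1.to_le
      (sup_le hjR₄ (zpowers_le.2 hy₁)))
    exact ⟨i, hi.1, mem_centralizer_singleton_iff.1 hi.2,
      hiR ⟨y₁, mem_sup_right (mem_zpowers _), rfl⟩⟩
  set y₂ := i * y₁ * i⁻¹ with hy₂def
  set v := i * t * i⁻¹ with hvdef
  have hv : orderOf v = 2 := by rw [hvdef, Invol.orderOf_conj_eq, ht]
  have hva : v • a = a := by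
    rw [hvdef, mul_smul, mul_smul, inv_smul_eq_iff.2 (show a = i • a from hi.1.symm), hta]
    exact hi.1
  have hy₂r : orderOf y₂ = r := by rw [hy₂def, Invol.orderOf_conj_eq, hy₁r]
  have hy₂v : Commute y₂ v :=
    (show Commute y₁ t from mem_centralizer_singleton_iff.1 (hR₄.1 hy₁).2).map
      (MulAut.conj i).toMonoidHom
  have hjv : Commute j v := by
    have h := hjt.map (MulAut.conj i).toMonoidHom
    simp only [MulEquiv.coe_toMonoidHom, MulAut.conj_apply] at h
    rwa [hij.eq, mul_inv_cancel_right] at h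
  have hy₂N : ∀ z ∈ N b, Commute y₂ z := by
    rw [← mem_norm_iff.1 (hN.st_le_normalizer b hi.2)]
    rintro _ ⟨z, hz, rfl⟩
    exact (show Commute y₁ z from (mem_centralizer_iff.1 hy₁N z hz).symm).map (MulAut.conj i).toMonoidHom
  have hjy₂ : Commute y₂ j := hjcen y₂ hiy
  have hy₂x' : Commute y₂ x' := hx'cen y₂ hiy
  -- an element of the plane fixing a vector
  have hnot : y₂ ∉ zpowers x' := by
    intro hmem
    have hx'r : orderOf x' = r := by rw [hx', Invol.orderOf_conj_eq, hxr]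
    have hx'm : x' ∈ zpowers y₂ := by
      rw [eq_of_le_of_card_ge (zpowers_le.2 hmem)
        (by rw [Nat.card_zpowers, Nat.card_zpowers, hx'r, hy₂r])]
      exact mem_zpowers x'
    obtain ⟨n, hn⟩ := mem_zpowers_iff.1 hx'm
    have hx'v : Commute x' v := hn ▸ hy₂v.zpow_left n
    have hxv : Commute x v := by
      have := hjv.mul_left hx'v.inv_left
      rwa [hj, mul_inv_cancel_right] at this
    exact hlnc hv (hxv.inv_left.mul_left hx'v)
  obtain ⟨π, i₁, i₂, z, hπ, hπ1, hz, hz1, hπz⟩ := exists_fixed_of_plane hN.prime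
    (ne_of_caseI hS hN hsr hI) (hN.isPGroup a) hy₂r (by rw [hx', Invol.orderOf_conj_eq, hxr])
    hy₂x' hnot (hN.st_le_normalizer a (hR.1 hiy).1) (hN.st_le_normalizer a (hR.1 hx'R).1)
    (hN.comm a) (hN.ne_bot a)
  set y₃ := y₂ ^ i₁ * j ^ i₂ with hy₃def
  have hy₃z : Commute y₃ z := by
    have h1 : y₃ = y₂ ^ i₁ * x' ^ i₂ * x ^ i₂ := by
      rw [hy₃def, hj, hxx'.mul_pow, mul_assoc]
      congr 1
      exact (hxx'.pow_pow i₂ i₂).eq
    rw [h1, ← hπ]
    exact hπz.mul_left ((hxN z hz).pow_left i₂)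
  have hy₃1 : y₃ ≠ 1 := by
    intro h
    have hjp : j ^ i₂ = (y₂ ^ i₁)⁻¹ := eq_inv_of_mul_eq_one_right (hy₃def.symm.trans h)
    by_cases hd2 : r ∣ i₂
    · have hjr : orderOf j ∣ r := orderOf_dvd_of_pow_eq_one (by
        have hx'r : x' ^ r = 1 := by
          rw [hx', conj_pow, ← hxr, pow_orderOf_eq_one, mul_one, mul_inv_cancel]
        rw [hj, hxx'.mul_pow, hx'r, ← hxr, pow_orderOf_eq_one, one_mul])
      have h1 : j ^ i₂ = 1 := orderOf_dvd_iff_pow_eq_one.1 (hjr.trans hd2)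
      have h2 : x' ^ i₂ = 1 := orderOf_dvd_iff_pow_eq_one.1
        (by rw [hx', Invol.orderOf_conj_eq, hxr]; exact hd2)
      rw [h1, eq_comm, inv_eq_one] at hjp
      exact hπ1 (by rw [hπ, hjp, h2, one_mul])
    · obtain ⟨m, hm⟩ : ∃ m, (j ^ i₂) ^ m = j := by
        refine exists_pow_eq_self_of_coprime (n := i₂) ?_
        have hjr : orderOf j ∣ r := orderOf_dvd_of_pow_eq_one (by
          have hx'r : x' ^ r = 1 := by
            rw [hx', conj_pow, ← hxr, pow_orderOf_eq_one, mul_one, mul_inv_cancel]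
          rw [hj, hxx'.mul_pow, hx'r, ← hxr, pow_orderOf_eq_one, one_mul])
        exact ((hr.coprime_iff_not_dvd.2 hd2).symm).coprime_dvd_right hjr
      refine hxb fun z' hz' => ?_
      have hjz : Commute j z' := by
        rw [← hm, hjp]
        exact (((hy₂N z' hz').pow_left i₁).inv_left).pow_left m
      have := hjz.mul_left (hx'N z' hz').inv_left
      rwa [hj, mul_inv_cancel_right] at this
  have hy₃R : y₃ ∈ R := mul_mem (pow_mem hiy _) (pow_mem hjR _)
  have hy₃v : Commute y₃ v := (hy₂v.pow_left _).mul_left (hjv.pow_left _)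
  have hy₃r : orderOf y₃ = r := by
    refine orderOf_eq_prime ?_ hy₃1
    rw [hy₃def, (hjy₂.pow_pow i₁ i₂).mul_pow, ← pow_mul, mul_comm, pow_mul, ← hy₂r,
      pow_orderOf_eq_one, one_pow, one_mul, ← pow_mul, mul_comm, pow_mul, hy₂r, hj, hxx'.mul_pow,
      hx', conj_pow, ← hxr, pow_orderOf_eq_one, mul_one, mul_inv_cancel, mul_one, one_pow]
  set M := centralizer ({y₃} : Set G)
  have hMt : M ≠ ⊤ := centralizer_ne_top hS hy₃1 (hR.1 hy₃R).1
  have hzM : z ∈ M := mem_centralizer_singleton_iff.2 hy₃z.eq.symm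
  have hvM : v ∈ M := mem_centralizer_singleton_iff.2 hy₃v.eq.symm
  obtain ⟨g, hgM, hga⟩ : ∃ g ∈ M, g • a ≠ a := by
    by_contra hall
    push Not at hall
    exact hz1 (eq_one_of_centralizer_le hS hN hsr hI hab hy₃r (hR.1 hy₃R).1 (hR.1 hy₃R).2
      (fun g hg => hall g hg) hz hy₃z)
  by_cases hp : HasPair M
  · exact hga (fix_of_mem_family hS hN hsr hMt hp hvM hv hva hz hzM hz1 hgM)
  obtain ⟨Q, hQ, hvQ⟩ := exists_invariant_syl hr2 (M := M ⊓ st a)
    (fun h => hp (h.mono inf_le_left)) ⟨hvM, hva⟩ hv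
  obtain ⟨c, hac, hQc⟩ := hI.exists_second hS hQ.2.1 (hQ.1.trans inf_le_right)
  have hlM : l ∈ M ⊓ st a :=
    ⟨mem_centralizer_singleton_iff.2 (hlcen y₃ hy₃R).eq.symm, (hR.1 hlR).1⟩
  obtain ⟨m, hm, hmQ⟩ := syl_conj hQ (zpowers_le.2 hlM) (hR.2.1.to_le (zpowers_le.2 hlR))
  by_cases hc : Commute v (m * l * m⁻¹)
  · refine hlnc (t := m⁻¹ * v * m⁻¹⁻¹) (by rw [Invol.orderOf_conj_eq, hv]) ?_
    have h := hc.symm.map (MulAut.conj m⁻¹).toMonoidHom
    simp only [MulEquiv.coe_toMonoidHom, MulAut.conj_apply] at h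
    rwa [show m⁻¹ * (m * l * m⁻¹) * m⁻¹⁻¹ = l by group] at h
  · obtain ⟨w, hw, hwp, hwinv⟩ := exists_inverted_prime ((odd_pair hS.se hac).of_dvd_nat
      (card_dvd_of_le (le_inf (hQ.1.trans inf_le_right) hQc))) hv hvQ
      ⟨_, hmQ ⟨l, mem_zpowers l, rfl⟩, hc⟩
    have hw1 := eq_one_of_inverted_centre hS hN hsr hci hac.symm hv hva
      (hpodd hac (hQ.1 hw).2 (hQc hw)) (hQ.1 hw).2 (hQc hw) hwinv
    rw [hw1, orderOf_one] at hwp
    exact Nat.not_prime_one hwp

end Setting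

end CfsgLib.Bender.Core
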