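import Cfsg.Agent.Bender.CoreT

/-!
The core of a strongly embedded subgroup: the involutions fixing a point commute (step C5).
-/

set_option autoImplicit false
set_option linter.unusedSectionVars false
set_option linter.style.haveILetI false

namespace CfsgLib.Bender.Core

open Subgroup
open CfsgLib.FusionLift (cj mem_cj card_cj)
open CfsgLib.Bender.GSide

variable {G : Type*} [Group G] [Finite G] {H : Subgroup G} {q : ℕ} {N : G ⧸ H → Subgroup G}

theorem card_mul_card_dvd_of_normal {K : Type*} [Group K] [Finite K] (A B : Subgroup K) [B.Normal] :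
    Nat.card B * Nat.card A ∣ Nat.card K * Nat.card (B ⊓ A : Subgroup K) := by
  have h1 : Nat.card (A ⊔ B : Subgroup K) = Nat.card B * B.relIndex A := by
    rw [FusionLift.card_eq_relIndex_mul B (A ⊔ B), relIndex_sup_right, inf_eq_left.2 le_sup_right]
  have h2 := FusionLift.card_eq_relIndex_mul B A
  rw [h2, show Nat.card B * (Nat.card (B ⊓ A : Subgroup K) * B.relIndex A) =
    Nat.card B * B.relIndex A * Nat.card (B ⊓ A : Subgroup K) by ring, ← h1]
  exact Nat.mul_dvd_mul_right (card_subgroup_dvd_card _) _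

theorem invol_commute (hS : Setting H) (hN : Family q N) (hsr : Semireg N) (hci : CentInv N)
    (hC4 : ∀ r : ℕ, r.Prime → r ∣ Nat.card {t : G // orderOf t = 2 ∧ t ∈ H} →
      ∀ a b : G ⧸ H, a ≠ b → ∀ R : Subgroup G, Syl r (st a ⊓ st b) R → ∀ y ∈ R,
        (∀ z ∈ N a, Commute y z) → y = 1) :
    ∀ (x : G ⧸ H) (s t : G), orderOf s = 2 → orderOf t = 2 → s • x = x → t • x = x →
      Commute s t := by
  intro a s t hs ht hsa hta
  obtain ⟨b, hab⟩ := exists_other hS a
  set m := Nat.card {v : G // orderOf v = 2 ∧ v ∈ H} with hm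
  set W : Subgroup G := closure {v : G | orderOf v = 2 ∧ v • a = a} with hW
  have hWa : W ≤ st a := (closure_le _).2 fun v hv => hv.2
  have hWc : W ≤ centralizer (N a : Set G) := (closure_le _).2 fun v hv =>
    mem_centralizer_iff.2 fun z hz => (hci a v hv.1 hv.2 z hz).eq.symm
  have hWn : st a ≤ normalizer (W : Set G) := fun g hg => mem_norm_iff.2 (cj_eq_of_le (by
    show (Subgroup.closure _).map _ ≤ _
    rw [MonoidHom.map_closure, closure_le]
    rintro _ ⟨v, hv, rfl⟩
    refine subset_closure ⟨(Invol.orderOf_conj_eq g v).trans hv.1, ?_⟩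
    show (g * v * g⁻¹) • a = a
    rw [mul_smul, mul_smul, inv_smul_eq_iff.2 (show g • a = a from hg).symm, hv.2, hg]) le_rfl)
  have horb : ∀ K : Subgroup G, K ≤ st a →
      (∀ v : G, orderOf v = 2 → v • a = a → ∃ k ∈ K, k * s * k⁻¹ = v) →
      m * Nat.card ↥(centralizer ({s} : Set G) ⊓ K) = Nat.card K := fun K hK htr => by
    rw [hm, ← StrongEmbed.card_fix a]
    exact card_orbit_mul K s _ fun x => ⟨fun hx => htr x hx.1 hx.2, by
      rintro ⟨k, hk, rfl⟩
      exact ⟨by rw [Invol.orderOf_conj_eq, hs],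
        by rw [mul_smul, mul_smul, inv_smul_eq_iff.2 (hK hk).symm, hsa, hK hk]⟩⟩
  have hDtr : ∀ v : G, orderOf v = 2 → v • a = a → ∃ k ∈ st a ⊓ st b, k * s * k⁻¹ = v :=
    fun v hv hva => (transOdd_pair hS.se hab).2.2 s v hsa hs hva hv
  have hD := horb _ inf_le_left hDtr
  have hA := horb _ le_rfl fun v hv hva =>
    let ⟨k, hk, e⟩ := hDtr v hv hva; ⟨k, hk.1, e⟩
  -- no prime divisor of the number of involutions divides the order of `W`
  have hco : (Nat.card W).Coprime m := by
    refine Nat.coprime_of_dvd fun r hr hrW hrm => ?_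
    haveI : Fact r.Prime := ⟨hr⟩
    have hr2 : r ≠ 2 := by
      rintro rfl
      exact Nat.not_even_iff_odd.2 (odd_pair hS.se hab)
        (even_iff_two_dvd.2 (hrm.trans (Dvd.intro _ hD)))
    obtain ⟨⟨y, hyW⟩, hy⟩ := exists_prime_orderOf_dvd_card' (G := W) r hrW
    rw [Subgroup.orderOf_mk] at hy
    have hI : CaseI r H := caseI_of_dvd hS hN hsr hci hr hr2 hrm
    have hyp : IsPGroup r (zpowers y) :=
      IsPGroup.of_card (n := 1) (by rw [Nat.card_zpowers, hy, pow_one])
    obtain ⟨c, hac, hyc⟩ := hI.exists_second hS hyp (zpowers_le.2 (hWa hyW))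
    obtain ⟨R, hyR, hR⟩ := exists_syl (le_inf (zpowers_le.2 (hWa hyW)) hyc) hyp
    have hy1 := hC4 r hr hrm a c hac R hR y (hyR (mem_zpowers y))
      fun z hz => (mem_centralizer_iff.1 (hWc hyW) z hz).symm
    rw [hy1, orderOf_one] at hy
    exact hr.one_lt.ne hy
  have hdvd : Nat.card W ∣ m * Nat.card ↥(W ⊓ centralizer ({s} : Set G)) := by
    set C := centralizer ({s} : Set G) with hC
    haveI : (W.subgroupOf (st a)).Normal :=
      (normal_subgroupOf_iff_le_normalizer hWa).2 hWn
    have h := card_mul_card_dvd_of_normal ((C ⊓ st a).subgroupOf (st a)) (W.subgroupOf (st a))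
    have e : W.subgroupOf (st a) ⊓ (C ⊓ st a).subgroupOf (st a) = (W ⊓ C).subgroupOf (st a) := by
      ext x; simp [mem_subgroupOf]
    rw [e, Nat.card_congr (subgroupOfEquivOfLe hWa).toEquiv,
      Nat.card_congr (subgroupOfEquivOfLe (inf_le_right : C ⊓ st a ≤ st a)).toEquiv,
      Nat.card_congr (subgroupOfEquivOfLe (inf_le_left.trans hWa : W ⊓ C ≤ st a)).toEquiv, ← hA,
      mul_right_comm] at h
    exact Nat.dvd_of_mul_dvd_mul_right Nat.card_pos h
  have hWs : W ≤ centralizer ({s} : Set G) :=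
    inf_eq_left.1 (eq_of_le_of_card_ge inf_le_left
      (Nat.le_of_dvd Nat.card_pos (hco.dvd_of_dvd_mul_left hdvd)))
  exact (mem_centralizer_singleton_iff.1 (hWs (subset_closure ⟨ht, hta⟩))).symm

end CfsgLib.Bender.Core
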