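import Cfsg.Agent.Blocks.Section
import Cfsg.Agent.Blocks.Congr
import Cfsg.Agent.Char.PermChar
import Cfsg.Agent.S0157

/-!
# A block dichotomy for the Steinberg character of a doubly transitive group

Let a finite group act doubly transitively, `x` an element of prime power order and `C` its
centralizer.  If the permutation character less one lies in the principal block, the core of `C`
of order prime to `r` fixes every fixed point of `x`; otherwise, by the second and third main
theorems, the permutation character of `C` on the fixed points of `x` has a one-dimensional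
principal block part at the identity, so that `C` is transitive on them.
-/

namespace CfsgLib.Bender.St

open Cfsg Finset CfsgLib.Block CfsgLib.Block.Chr CfsgLib.Char MulAction
open scoped ComplexConjugate

set_option linter.unusedSectionVars false
set_option linter.style.haveILetI false

universe u v

variable {G : Type u} [Group G] {Ω : Type v} [MulAction G Ω]

/-- The fixed points of `x`, as a set with an action of the centralizer. -/
def fixSub (Ω : Type v) [MulAction G Ω] (x : G) :
    SubMulAction (Subgroup.centralizer ({x} : Set G)) Ω where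
  carrier := {w | x • w = w}
  smul_mem' c w hw := by
    show x • ((c : G) • w) = (c : G) • w
    rw [← mul_smul, ← Subgroup.mem_centralizer_singleton_iff.1 c.2, mul_smul]
    exact congrArg _ hw

theorem mem_fixSub {x : G} {w : Ω} : w ∈ fixSub Ω x ↔ x • w = w := Iff.rfl

/-- A commuting product of a `r`-element and a `r`-regular element fixes a point exactly when both
factors do. -/
theorem smul_mul_eq_iff {r k : ℕ} (hr : r.Prime) {x v : G} (hx : orderOf x = r ^ k)
    (hv : ¬ r ∣ orderOf v) (hc : Commute x v) (w : Ω) :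
    (x * v) • w = w ↔ x • w = w ∧ v • w = w := by
  refine ⟨fun h => ?_, fun h => by rw [mul_smul, h.2, h.1]⟩
  have hco : Nat.Coprime (r ^ k) (orderOf v) := (hr.coprime_iff_not_dvd.2 hv).pow_left k
  obtain ⟨n, h1, h2⟩ := Nat.chineseRemainder hco 1 0
  have e1 : x ^ n = x := by
    conv_rhs => rw [← pow_one x]
    rw [pow_eq_pow_iff_modEq, hx]
    exact h1
  have e2 : v ^ n = 1 := orderOf_dvd_iff_pow_eq_one.1 (Nat.modEq_zero_iff_dvd.1 h2)
  have e3 : (x * v) ^ n = x := by rw [hc.mul_pow, e1, e2, mul_one]
  have hmem : x * v ∈ MulAction.stabilizer G w := MulAction.mem_stabilizer_iff.2 h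
  have hxw : x • w = w := MulAction.mem_stabilizer_iff.1 (e3 ▸ pow_mem hmem n)
  refine ⟨hxw, ?_⟩
  rw [hc.eq, mul_smul, hxw] at h
  exact h

variable [Finite Ω]

/-- The fixed points of a product on the section are the fixed points of `c` among those of `x`. -/
theorem card_fixedBy_mul {r k : ℕ} (hr : r.Prime) {x : G} (hx : orderOf x = r ^ k)
    (c : Subgroup.centralizer ({x} : Set G)) (hc : ¬ r ∣ orderOf c) :
    Nat.card (fixedBy Ω (x * (c : G))) = Nat.card (fixedBy (fixSub Ω x) c) := by
  have hcomm : Commute x (c : G) := (Subgroup.mem_centralizer_singleton_iff.1 c.2).symm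
  have hiff := smul_mul_eq_iff (Ω := Ω) hr hx (by rwa [Subgroup.orderOf_coe]) hcomm
  exact Nat.card_congr
    { toFun := fun w => ⟨⟨w.1, ((hiff w.1).1 w.2).1⟩, Subtype.ext ((hiff w.1).1 w.2).2⟩
      invFun := fun z => ⟨z.1.1, (hiff z.1.1).2 ⟨z.1.2, congrArg Subtype.val z.2⟩⟩
      left_inv := fun _ => rfl
      right_inv := fun _ => rfl }

/-- A permutation character has principal block part at least one at the identity. -/
theorem exists_blockPart_permChar {C : Type u} [Group C] [Fintype C] {M : Ideal AlgInt} [M.IsPrime]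
    (S : Subgroup C) :
    ∃ n : ℕ, 1 ≤ n ∧ blockPart (principalBlock M C) (permChar S) 1 = (n : ℂ) := by
  classical
  letI := irrFintype (G := C)
  haveI : Fintype S := Fintype.ofFinite _
  have hchar : IsCharacter C (permChar S) := IsCharacter.indFun isCharacter_one
  have hnat : ∀ ξ : IrrCharacter C, ∃ m : ℕ, classInner (permChar S) (ξ : C → ℂ) = m :=
    fun ξ => IsCharacter.exists_classInner_eq_natCast hchar ξ.2
  choose m hm using hnat
  have hone : classInner (permChar S) ((oneIrr C : IrrCharacter C) : C → ℂ) = 1 := by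
    rw [oneIrr_coe, permChar, classInner_indFun _
      (IsIrrCharacter.isClassFunction isIrrCharacter_one)]
    exact classInner_one_one
  have hm1 : m (oneIrr C) = 1 := by exact_mod_cast (hm (oneIrr C)).symm.trans hone
  refine ⟨∑ ξ ∈ univ.filter (· ∈ principalBlock M C), m ξ * charDegree (ξ : C → ℂ), ?_, ?_⟩
  · refine le_trans ?_ (single_le_sum (f := fun ξ : IrrCharacter C =>
      m ξ * charDegree (ξ : C → ℂ)) (fun _ _ => Nat.zero_le _)
      (mem_filter.2 ⟨mem_univ _, oneIrr_mem_principalBlock⟩))
    have := (irr_one (oneIrr C)).2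
    simp only [hm1, one_mul]
    omega
  · rw [blockPart_eq_sum_inner, Nat.cast_sum]
    exact sum_congr rfl fun ξ _ => by rw [hm, (irr_one ξ).1, Nat.cast_mul]

variable [Finite G]

/-- The dichotomy. -/
theorem core_fixes_or_transitive [IsMultiplyPretransitive G Ω 2] (hΩ : 2 ≤ Nat.card Ω) {r : ℕ}
    (hr : r.Prime) {x : G} {k : ℕ} (hx : orderOf x = r ^ k) :
    (∀ v ∈ centralizerPPrimeCore r x, ∀ w : Ω, x • w = w → v • w = w) ∨
      ∀ a b : Ω, x • a = a → x • b = b →
        ∃ c ∈ Subgroup.centralizer ({x} : Set G), c • a = b := by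
  classical
  haveI := Fintype.ofFinite G
  obtain ⟨M, hM⟩ := exists_isPModular hr
  haveI : M.IsPrime := hM.2.1.isPrime
  haveI : Fact r.Prime := ⟨hr⟩
  haveI : IsPretransitive G Ω := isPretransitive_of_is_two_pretransitive
  have hirr := (Cfsg.Agent.S0157.result (G := G) Ω hΩ).2 ‹_›
  let χ : IrrCharacter G := ⟨_, hirr⟩
  haveI : Fintype (Subgroup.centralizer ({x} : Set G)) := Fintype.ofFinite _
  by_cases hχ : χ ∈ principalBlock M G
  · left
    intro v hv w hw
    obtain ⟨v', hv', hvv⟩ := Subgroup.mem_map.1 hv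
    have hN : ¬ r ∣ Nat.card (pPrimeCore r (Subgroup.centralizer ({x} : Set G))) :=
      hr.coprime_iff_not_dvd.1
        (CfsgLib.Solvable.coprime_card_pPrimeCore (G := Subgroup.centralizer ({x} : Set G)) r).symm
    have hvreg : ¬ r ∣ orderOf v' := fun h => hN (h.trans (Subgroup.orderOf_dvd_natCard _ hv'))
    have h := principal_apply_mul_core hM hx hv hχ
    replace h : (Nat.card (fixedBy Ω (x * v)) : ℂ) - 1 = (Nat.card (fixedBy Ω x) : ℂ) - 1 := h
    rw [sub_left_inj, Nat.cast_inj] at h
    have hvc : Commute x v := by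
      rw [← hvv]; exact (Subgroup.mem_centralizer_singleton_iff.1 v'.2).symm
    have hiff := smul_mul_eq_iff (Ω := Ω) hr hx
      (by rw [← hvv]; exact (Subgroup.orderOf_coe v').symm ▸ hvreg) hvc
    have hsub : fixedBy Ω (x * v) ⊆ fixedBy Ω x := fun z hz => ((hiff z).1 hz).1
    have heq : fixedBy Ω (x * v) = fixedBy Ω x :=
      Set.eq_of_subset_of_ncard_le hsub (by rw [← Nat.card_coe_set_eq, ← Nat.card_coe_set_eq, h])
        (Set.toFinite _)
    exact ((hiff w).1 (heq.symm ▸ hw : w ∈ fixedBy Ω (x * v))).2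
  · right
    intro a b ha hb
    set C := Subgroup.centralizer ({x} : Set G) with hC
    letI := irrFintype (G := C)
    have hb0 := isPBlock_principalBlock (M := M) (G := C)
    have hnot : ¬ IsInducedBlock M C (principalBlock M C) (blockOf M (χ : G → ℂ)) := by
      intro hind
      refine hχ ?_
      rw [induced_unique ((third_main hM (centralizer_induced hM hx hb0)).2 rfl) hind]
      exact mem_blockOf_self χ
    have hone' : ¬ r ∣ orderOf (1 : C) := by rw [orderOf_one]; exact hr.not_dvd_one
    have h0 := blockPart_eq_zero_of_not_induced hM hx (isPBlock_blockOf χ) (mem_blockOf_self χ) hb0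
      hnot 1 hone'
    haveI : Fintype (orbitRel.Quotient C (fixSub Ω x)) := Fintype.ofFinite _
    let F : Option (orbitRel.Quotient C (fixSub Ω x)) → C → ℂ := fun i =>
      i.elim (oneIrr C : C → ℂ) fun q => permChar (stabilizer C q.out)
    let e : Option (orbitRel.Quotient C (fixSub Ω x)) → ℂ := fun i => i.elim (-1) fun _ => 1
    have hθ : ∀ c : C, ¬ r ∣ orderOf c →
        (χ : G → ℂ) (x * (c : G)) = ∑ i, e i * F i c := by
      intro c hc
      show (Nat.card (fixedBy Ω (x * (c : G))) : ℂ) - 1 = _
      rw [card_fixedBy_mul hr hx c hc,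
        show (Nat.card (fixedBy (fixSub Ω x) c) : ℂ) = _ from congrFun (fixedBy_eq_sum_orbits _) c,
        Fintype.sum_option, Finset.sum_apply]
      simp only [e, F, Option.elim_none, Option.elim_some, oneIrr_apply, one_mul, mul_one]
      ring
    rw [blockPart_congr_regular hM hb0 hθ hone', blockPart_sum_mul, Fintype.sum_option] at h0
    simp only [e, F, Option.elim_none, Option.elim_some, one_mul] at h0
    rw [blockPart_irr, if_pos oneIrr_mem_principalBlock, oneIrr_apply, mul_one] at h0
    choose n hn1 hn2 using fun q : orbitRel.Quotient C (fixSub Ω x) =>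
      exists_blockPart_permChar (M := M) (stabilizer C q.out)
    rw [sum_congr rfl fun q _ => hn2 q, ← Nat.cast_sum, neg_add_eq_zero] at h0
    have hsum : ∑ q, n q = 1 := by exact_mod_cast h0.symm
    have hle : Fintype.card (orbitRel.Quotient C (fixSub Ω x)) ≤ 1 := by
      rw [← hsum, ← Finset.card_univ, Finset.card_eq_sum_ones]
      exact sum_le_sum fun q _ => hn1 q
    have hq : (Quotient.mk'' (⟨b, hb⟩ : fixSub Ω x) : orbitRel.Quotient C (fixSub Ω x)) =
        Quotient.mk'' ⟨a, ha⟩ := Fintype.card_le_one_iff.1 hle _ _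
    obtain ⟨c, hc⟩ := orbitRel_apply.1 (Quotient.exact' hq)
    exact ⟨c, c.2, congrArg Subtype.val hc⟩

/-- If `x` fixes `a` and `b` and its centralizer fixes `a ≠ b`, the core of order prime to `r`
of the centralizer fixes every fixed point of `x`. -/
theorem core_fixes_of_centralizer_le [IsMultiplyPretransitive G Ω 2] (hΩ : 2 ≤ Nat.card Ω) {r : ℕ}
    (hr : r.Prime) {x : G} {k : ℕ} (hx : orderOf x = r ^ k) {a b : Ω} (hab : a ≠ b)
    (ha : x • a = a) (hb : x • b = b)
    (hC : Subgroup.centralizer ({x} : Set G) ≤ stabilizer G a) {v : G}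
    (hv : v ∈ centralizerPPrimeCore r x) : v • b = b := by
  rcases core_fixes_or_transitive hΩ hr hx with h | h
  · exact h v hv b hb
  · obtain ⟨c, hc, rfl⟩ := h a b ha hb
    exact absurd (mem_stabilizer_iff.1 (hC hc)).symm hab

/-- The form of double transitivity on cosets used by the Bender files. -/
theorem isMultiplyPretransitive_quotient {H : Subgroup G}
    (h2 : ∀ g₁ g₂ : G, g₁ ∉ H → g₂ ∉ H → ∃ h ∈ H, g₂⁻¹ * (h * g₁) ∈ H) :
    IsMultiplyPretransitive G (G ⧸ H) 2 := by
  refine is_two_pretransitive_iff.2 ?_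
  intro a b c e hab hce
  obtain ⟨g₁, h₁⟩ := exists_smul_eq G a ((1 : G) : G ⧸ H)
  obtain ⟨g₂, h₂⟩ := exists_smul_eq G c ((1 : G) : G ⧸ H)
  obtain ⟨b', hb'⟩ := QuotientGroup.mk_surjective (g₁ • b)
  obtain ⟨e', he'⟩ := QuotientGroup.mk_surjective (g₂ • e)
  have hb : b' ∉ H := fun h => hab (smul_left_cancel g₁
    (h₁.trans ((QuotientGroup.eq.2 (by simpa using h)).trans hb')))
  have he : e' ∉ H := fun h => hce (smul_left_cancel g₂
    (h₂.trans ((QuotientGroup.eq.2 (by simpa using h)).trans he')))
  obtain ⟨h, hh, hmem⟩ := h2 b' e' hb he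
  have hfix : h • ((1 : G) : G ⧸ H) = ((1 : G) : G ⧸ H) :=
    QuotientGroup.eq.2 (by simpa using hh)
  have hmove : h • (b' : G ⧸ H) = (e' : G ⧸ H) := by
    refine (QuotientGroup.eq (s := H)).2 ?_ |>.symm
    simpa [mul_assoc] using hmem
  refine ⟨g₂⁻¹ * (h * g₁), ?_, ?_⟩
  · rw [mul_smul, mul_smul, h₁, hfix, ← h₂, inv_smul_smul]
  · rw [mul_smul, mul_smul, ← hb', hmove, he', inv_smul_smul]

/-- A proper subgroup has at least two cosets. -/
theorem two_le_card_quotient {H : Subgroup G} (hH : H ≠ ⊤) :
    2 ≤ Nat.card (G ⧸ H) :=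
  (Subgroup.one_lt_index_of_ne_top hH : 1 < H.index)

end CfsgLib.Bender.St
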