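import Cfsg.Agent.Bender.CoreLemmas
import Cfsg.Agent.Bender.StLemma
import Cfsg.Agent.Solvable.Fitting
import Cfsg.Agent.Solvable.CoprimeAbelian
import Cfsg.Agent.Solvable.FpfComplement

/-!
The core of a strongly embedded subgroup, step C6: no element of a two-point stabilizer centralizes
the member of the family at one of the two points.
-/

set_option autoImplicit false
set_option linter.unusedSectionVars false
set_option linter.style.haveILetI false

namespace CfsgLib.Bender.Core.CSix

open Subgroup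
open scoped commutatorElement
open CfsgLib.FusionLift (cj mem_cj card_cj)
open CfsgLib.Bender.GSide

variable {G : Type*} [Group G] [Finite G] {H : Subgroup G}

/-- The involutions fixing a point commute with each other. -/
def InvolComm (H : Subgroup G) : Prop :=
  ∀ (x : G ⧸ H) (s t : G), orderOf s = 2 → orderOf t = 2 → s • x = x → t • x = x → Commute s t

theorem conj_commute {g x t : G} (h : Commute x t) : Commute (g * x * g⁻¹) (g * t * g⁻¹) :=
  (Commute.map h (MulAut.conj g).toMonoidHom : _)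

/-- An element of the same prime order normalizing the subgroup generated by `x` commutes with it. -/
theorem commute_of_conj_mem {r : ℕ} [Fact r.Prime] {x y : G} (hx : orderOf x = r) (hy : y ^ r = 1)
    (h : y * x * y⁻¹ ∈ zpowers x) : Commute y x := by
  obtain ⟨i, hi⟩ := mem_powers_iff_mem_zpowers.2 h
  have hi' : y * x * y⁻¹ = x ^ i := hi.symm
  have hk : ∀ k : ℕ, y ^ k * x * (y ^ k)⁻¹ = x ^ (i ^ k) := by
    intro k
    induction k with
    | zero => simp
    | succ k ihk =>
      calc y ^ (k + 1) * x * (y ^ (k + 1))⁻¹ = y * (y ^ k * x * (y ^ k)⁻¹) * y⁻¹ := by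
            rw [pow_succ']; group
        _ = x ^ (i ^ (k + 1)) := by rw [ihk, ← conj_pow, hi', ← pow_mul, pow_succ']
  have h1 := hk r
  rw [hy, one_mul, inv_one, mul_one] at h1
  have h2 : x ^ (i ^ r) = x ^ i := by
    rw [pow_eq_pow_iff_modEq, hx, ← ZMod.natCast_eq_natCast_iff, Nat.cast_pow, ZMod.pow_card]
  exact mul_inv_eq_iff_eq_mul.1 (by rw [hi', ← h2, ← h1])

/-- Two elements of the same prime order, one a power of the other. -/
theorem mem_zpowers_symm {r : ℕ} {x y : G} (hx : orderOf x = r) (hy : orderOf y = r)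
    (h : y ∈ zpowers x) : x ∈ zpowers y :=
  (eq_of_le_of_card_ge (zpowers_le.2 h) (by rw [Nat.card_zpowers, Nat.card_zpowers, hx, hy])).ge
    (mem_zpowers x)

/-- Two commuting elements of the same prime order, the second outside the subgroup generated by
the first, give a noncyclic commutative subgroup of `K`. -/
theorem exists_plane {r : ℕ} {g h : G} (hg : orderOf g = r) (hh : orderOf h = r) (hc : Commute g h)
    (hne : h ∉ zpowers g) {K : Subgroup G} (hgK : g ∈ K) (hhK : h ∈ K) :
    ∃ E : Subgroup G, IsMulCommutative E ∧ ¬ IsCyclic E ∧ g ∈ E ∧ (∀ e ∈ E, e ^ r = 1) ∧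
      E ≤ K := by
  refine ⟨closure {g, h}, ?_, ?_, subset_closure (by simp), fun e he => ?_, ?_⟩
  · refine isMulCommutative_closure fun a ha b hb => ?_
    rcases ha with rfl | rfl <;> rcases hb with rfl | rfl
    exacts [rfl, hc.eq, hc.eq.symm, rfl]
  · intro hcyc
    obtain ⟨j, hj⟩ := FpfComplement.mem_zpowers_of_cyclic (T := (closure {g, h} : Subgroup G))
      (u := ⟨h, subset_closure (by simp)⟩) (v := ⟨g, subset_closure (by simp)⟩)
      (by rw [← Subgroup.orderOf_coe, ← Subgroup.orderOf_coe, hh, hg])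
    exact hne ⟨j, by simpa using congrArg Subtype.val hj⟩
  · haveI : IsMulCommutative (closure {g, h} : Subgroup G) := by
      refine isMulCommutative_closure fun a ha b hb => ?_
      rcases ha with rfl | rfl <;> rcases hb with rfl | rfl
      exacts [rfl, hc.eq, hc.eq.symm, rfl]
    induction he using closure_induction with
    | mem w hw =>
      rcases hw with rfl | rfl
      · rw [← hg, pow_orderOf_eq_one]
      · rw [← hh, pow_orderOf_eq_one]
    | one => exact one_pow r
    | mul v w hv hw e e' =>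
      have hvw : Commute v w :=
        congrArg Subtype.val (mul_comm' (⟨v, hv⟩ : (closure {g, h} : Subgroup G)) ⟨w, hw⟩)
      rw [hvw.mul_pow, e, e', mul_one]
    | inv v hv e => rw [inv_pow, e, inv_one]
  · rw [closure_le]
    rintro w (rfl | rfl)
    exacts [hgK, hhK]

/-- The identity and the involutions fixing `a`. -/
def vee (hV : InvolComm H) (a : G ⧸ H) : Subgroup G where
  carrier := {v | v * v = 1 ∧ v • a = a}
  one_mem' := ⟨one_mul 1, one_smul _ a⟩
  mul_mem' := by
    rintro v w ⟨hv, hva⟩ ⟨hw, hwa⟩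
    refine ⟨?_, by rw [mul_smul, hwa, hva]⟩
    by_cases hv1 : v = 1
    · rw [hv1, one_mul, hw]
    by_cases hw1 : w = 1
    · rw [hw1, mul_one, hv]
    have hc := hV a v w (Invol.orderOf_eq_two hv hv1) (Invol.orderOf_eq_two hw hw1) hva hwa
    rw [hc.symm.mul_mul_mul_comm, hv, hw, one_mul]
  inv_mem' := by
    rintro v ⟨hv, hva⟩
    rw [inv_eq_of_mul_eq_one_right hv]
    exact ⟨hv, hva⟩

theorem mem_vee {hV : InvolComm H} {a : G ⧸ H} {v : G} :
    v ∈ vee hV a ↔ v * v = 1 ∧ v • a = a := Iff.rfl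

theorem invol_mem_vee {hV : InvolComm H} {a : G ⧸ H} {t : G} (ht : orderOf t = 2) (hta : t • a = a) :
    t ∈ vee hV a := ⟨Invol.mul_self_eq_one ht, hta⟩

theorem card_vee_coprime (hV : InvolComm H) (a : G ⧸ H) {E : Subgroup G} (hE : Odd (Nat.card E)) :
    (Nat.card E).Coprime (Nat.card (vee hV a)) := by
  haveI : Fact (Nat.Prime 2) := ⟨Nat.prime_two⟩
  have h2 : IsPGroup 2 (vee hV a) := fun v => ⟨1, Subtype.ext (by
    show ((v : G)) ^ (2 ^ 1) = 1
    rw [pow_one, sq]; exact v.2.1)⟩
  obtain ⟨k, hk⟩ := IsPGroup.iff_card.1 h2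
  rw [hk]
  exact (Nat.coprime_two_right.2 hE).pow_right k

theorem st_le_normalizer_vee (hV : InvolComm H) (a : G ⧸ H) :
    st a ≤ normalizer (vee hV a : Set G) := by
  intro g hg
  refine mem_norm_iff.2 (cj_eq_of_le (cj_le_iff.2 fun v hv => ⟨?_, ?_⟩) le_rfl)
  · calc g * v * g⁻¹ * (g * v * g⁻¹) = g * (v * v) * g⁻¹ := by group
      _ = 1 := by rw [hv.1, mul_one, mul_inv_cancel]
  · rw [mul_smul, mul_smul, inv_smul_eq_iff.2 (show g • a = a from hg).symm, hv.2]
    exact hg

section Setting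

variable (hS : Setting H)
include hS

theorem multPretrans : MulAction.IsMultiplyPretransitive G (G ⧸ H) 2 :=
  St.isMultiplyPretransitive_quotient (two_transitive_of_pair hS.se hS.pair)

theorem exists_move {a b c : G ⧸ H} (hab : a ≠ b) (hac : a ≠ c) :
    ∃ g : G, g • a = a ∧ g • c = b :=
  (MulAction.is_two_pretransitive_iff (G := G) (α := G ⧸ H)).1 (multPretrans hS) hac hab

theorem exists_move' {a b c d : G ⧸ H} (hab : a ≠ b) (hcd : c ≠ d) :
    ∃ g : G, g • c = a ∧ g • d = b :=
  (MulAction.is_two_pretransitive_iff (G := G) (α := G ⧸ H)).1 (multPretrans hS) hcd hab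

/-- Each point is fixed by two distinct involutions. -/
theorem exists_two (a : G ⧸ H) :
    ∃ s t : G, orderOf s = 2 ∧ orderOf t = 2 ∧ s ≠ t ∧ s • a = a ∧ t • a = a := by
  obtain ⟨u, v, hu, hv, hne, hc⟩ := hS.pair
  obtain ⟨x, hx⟩ := StrongEmbed.exists_fix hS.se hu
  have hvx : v • x = x := StrongEmbed.fix_unique hS.se hu
    (by rw [smul_smul, hc.eq, mul_smul, hx]) hx
  obtain ⟨g, hg⟩ := exists_smul x a
  have hmem : ∀ w : G, w • x = x → (g * w * g⁻¹) • a = a := fun w hw => by
    rw [← hg, mul_smul, mul_smul, inv_smul_smul, hw]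
  exact ⟨g * u * g⁻¹, g * v * g⁻¹, by rw [Invol.orderOf_conj_eq, hu],
    by rw [Invol.orderOf_conj_eq, hv], fun h => hne (mul_left_cancel (mul_right_cancel h)),
    hmem u hx, hmem v hvx⟩

/-- A noncyclic commutative subgroup of odd order of a point stabilizer has an element centralizing
two involutions fixing the point. -/
theorem false_of_plane (hV : InvolComm H) {a : G ⧸ H} {E : Subgroup G} [IsMulCommutative E]
    (hncyc : ¬ IsCyclic E) (hodd : Odd (Nat.card E)) (hEa : E ≤ st a)
    (hone : ∀ e ∈ E, e ≠ 1 → ∀ s t : G, orderOf s = 2 → s • a = a → orderOf t = 2 → t • a = a →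
      Commute e s → Commute e t → s = t) : False := by
  have hgen := CoprimeAct.generated_by_centralizers hncyc (hEa.trans (st_le_normalizer_vee hV a))
    (card_vee_coprime hV a hodd)
  have hle : vee hV a ≤ centralizer (E : Set G) := by
    rw [← hgen]
    refine iSup₂_le fun e he v hv => ?_
    obtain ⟨⟨hv2, hva⟩, hve⟩ := hv
    refine mem_centralizer_iff.2 fun f hf => ?_
    by_cases hv1 : v = 1
    · rw [hv1, mul_one, one_mul]
    have hv' := Invol.orderOf_eq_two hv2 hv1
    have hfe : Commute f e :=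
      congrArg Subtype.val (mul_comm' (⟨f, hf⟩ : E) ⟨e, he.1⟩)
    have hev : Commute e v := (mem_centralizer_singleton_iff.1 hve).symm
    have hfv : (f * v * f⁻¹) • a = a := by
      rw [mul_smul, mul_smul, inv_smul_eq_iff.2 (show f • a = a from hEa hf).symm, hva]
      exact hEa hf
    have h2 : Commute e (f * v * f⁻¹) := by
      have := conj_commute (g := f) hev
      rwa [hfe.mul_inv_cancel] at this
    exact mul_inv_eq_iff_eq_mul.1
      (hone e he.1 he.2 _ v (by rw [Invol.orderOf_conj_eq, hv']) hfv hv' hva h2 hev)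
  obtain ⟨s, t, hs, ht, hne, hsa, hta⟩ := exists_two hS a
  haveI : Nontrivial E := (Subgroup.nontrivial_iff_ne_bot _).2 fun h =>
    hncyc (h ▸ isCyclic_of_subsingleton)
  obtain ⟨⟨e, he⟩, hne1⟩ := exists_ne (1 : E)
  exact hne (hone e he (fun h => hne1 (Subtype.ext h)) s t hs hsa ht hta
    (mem_centralizer_iff.1 (hle (invol_mem_vee hs hsa)) e he)
    (mem_centralizer_iff.1 (hle (invol_mem_vee ht hta)) e he))

variable {q : ℕ} {N : G ⧸ H → Subgroup G} (hN : Family q N) (hsr : Semireg N)

include hN hsr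

/-- No nontrivial element fixing `a` and `b` commutes with two involutions fixing `a` and with a
nontrivial element of the member of the family at `a`. -/
theorem zlemma (hV : InvolComm H) {a b : G ⧸ H} (hab : a ≠ b) {g₀ s t z : G} (hg₀ : g₀ ≠ 1)
    (hga : g₀ • a = a) (hgb : g₀ • b = b) (hs : orderOf s = 2) (hsa : s • a = a)
    (ht : orderOf t = 2) (hta : t • a = a) (hst : s ≠ t) (hgs : Commute g₀ s) (hgt : Commute g₀ t)
    (hz : z ∈ N a) (hz1 : z ≠ 1) (hgz : Commute g₀ z) : False := by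
  -- pass to a power of prime order
  have ho : orderOf g₀ ≠ 1 := fun h => hg₀ (orderOf_eq_one_iff.1 h)
  set r := (orderOf g₀).minFac with hr
  have hrp : r.Prime := Nat.minFac_prime ho
  obtain ⟨m, hm⟩ := Nat.minFac_dvd (orderOf g₀)
  set g := g₀ ^ m with hg
  have hm0 : m ≠ 0 := fun h => (orderOf_pos g₀).ne' (by rw [hm, h, mul_zero])
  have hgo : orderOf g = r := by
    rw [hg, orderOf_pow' _ hm0, hm, Nat.gcd_mul_left_left, Nat.mul_div_cancel _ (Nat.pos_of_ne_zero hm0)]
  have hg1 : g ≠ 1 := fun h => hrp.ne_one (by rw [← hgo, h, orderOf_one])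
  have hga' : g • a = a := (pow_mem (show g₀ ∈ st a from hga) m : _)
  have hgb' : g • b = b := (pow_mem (show g₀ ∈ st b from hgb) m : _)
  haveI : Fact r.Prime := ⟨hrp⟩
  have hrodd : Odd r := by
    have h := (odd_pair hS.se hab).of_dvd_nat
      (Subgroup.orderOf_dvd_natCard (st a ⊓ st b) (x := g) ⟨hga', hgb'⟩)
    rwa [hgo] at h
  have hgs' : Commute g s := hgs.pow_left m
  have hgt' : Commute g t := hgt.pow_left m
  have hgz' : Commute g z := hgz.pow_left m
  set M := centralizer ({g} : Set G) with hM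
  have hsM : s ∈ M := mem_centralizer_singleton_iff.2 hgs'.symm.eq
  have htM : t ∈ M := mem_centralizer_singleton_iff.2 hgt'.symm.eq
  have hzM : z ∈ M := mem_centralizer_singleton_iff.2 hgz'.symm.eq
  by_cases hMa : M ≤ st a
  · haveI := multPretrans hS
    have hn : ((vee hV a).subgroupOf M).Normal := ⟨fun v hv k =>
      (mem_normalizer_iff.1 (st_le_normalizer_vee hV a (hMa k.2)) _).1 hv⟩
    have hcop : (Nat.card ((vee hV a).subgroupOf M)).Coprime r := by
      have hc : (Nat.card (zpowers g)).Coprime (Nat.card (vee hV a)) :=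
        card_vee_coprime hV a (by rw [Nat.card_zpowers, hgo]; exact hrodd)
      rw [Nat.card_zpowers, hgo] at hc
      refine (hc.symm).coprime_dvd_left ?_
      rw [← card_map_of_injective M.subtype_injective, subgroupOf_map_subtype]
      exact card_dvd_of_le inf_le_left
    have hs' : s ∈ Cfsg.centralizerPPrimeCore r g :=
      ⟨⟨s, hsM⟩, Solvable.le_pPrimeCore r hn hcop (invol_mem_vee (hV := hV) hs hsa), rfl⟩
    have hsb := St.core_fixes_of_centralizer_le (St.two_le_card_quotient hS.se.1) hrp (k := 1)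
      (by rw [hgo, pow_one]) hab hga' hgb' hMa hs'
    exact hab (StrongEmbed.fix_unique hS.se hs hsa hsb)
  · obtain ⟨k, hk, hka⟩ : ∃ k ∈ M, k • a ≠ a := by
      by_contra h
      push Not at h
      exact hMa fun k hk => h k hk
    have hp : HasPair M := ⟨s, t, hsM, htM, hs, ht, hst, hV a s t hs ht hsa hta⟩
    have hnorm : M ⊓ st a ≤ normalizer (↑(N a ⊓ M) : Set G) := by
      rintro w ⟨hw1, hw2⟩
      refine mem_normalizer_iff.2 fun v => ?_
      rw [mem_inf, mem_inf, mem_normalizer_iff.1 (hN.st_le_normalizer a hw2) v,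
        mem_normalizer_iff.1 (le_normalizer hw1) v]
    have h := fixes_orbit hS (centralizer_ne_top hS hg1 hga') hp hsM hs hsa
      (Z := N a ⊓ M) (le_inf inf_le_right (inf_le_left.trans (hN.le_st a)))
      ((hN.odd_card a).of_dvd_nat (card_dvd_of_le inf_le_left)) hnorm hk ⟨hz, hzM⟩
    exact hka (hsr a z hz hz1 _ h)

variable (hV : InvolComm H)
  (hI : ∀ r : ℕ, r.Prime → r ∣ Nat.card {t : G // orderOf t = 2 ∧ t ∈ H} → CaseI r H)

include hV hI

omit hS hN hsr hV hI in
theorem syl_top_of_fix (_hse : Cfsg.IsStronglyEmbedded H) {r : ℕ} [Fact r.Prime] (hrodd : Odd r)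
    {a b : G ⧸ H} (hab : a ≠ b) {R : Subgroup G} (hR : Syl r (st a ⊓ st b) R)
    (hfix : ∀ c : G ⧸ H, (∀ g ∈ R, g • c = c) → c = a ∨ c = b) :
    ∀ P : Subgroup G, IsPGroup r P → Nat.card P ≤ Nat.card R := by
  obtain ⟨Y, hRY, hY⟩ := exists_syl (D := (⊤ : Subgroup G)) le_top hR.2.1
  intro P hP
  refine (hY.2.2 P le_top hP).trans (Nat.le_of_eq (congrArg (fun K : Subgroup G => Nat.card K) ?_))
  by_contra hne
  obtain ⟨Z, hRZ, hZY, hZn⟩ := exists_between (lt_of_le_of_ne hRY (Ne.symm hne)) hY.2.1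
  have hperm : ∀ w ∈ Z, ∀ c : G ⧸ H, (∀ g ∈ R, g • c = c) → w • c = a ∨ w • c = b := by
    intro w hw c hc
    refine hfix _ fun g hg => ?_
    have h1 : w⁻¹ * g * w ∈ R := by
      simpa using (mem_normalizer_iff.1 (inv_mem (hZn hw)) g).1 hg
    have h2 := hc _ h1
    rwa [mul_smul, mul_smul, inv_smul_eq_iff] at h2
  have hle : Z ≤ st a ⊓ st b := by
    intro w hw
    have hwodd : Odd (orderOf w) := by
      obtain ⟨k, hk⟩ := (IsPGroup.iff_card.1 (hY.2.1.to_le hZY))
      exact (hk ▸ hrodd.pow : Odd (Nat.card Z)).of_dvd_nat (Subgroup.orderOf_dvd_natCard Z hw)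
    have hRa : ∀ g ∈ R, g • a = a := fun g hg => (hR.1 hg).1
    have hRb : ∀ g ∈ R, g • b = b := fun g hg => (hR.1 hg).2
    have ha : w • a = a := by
      refine (hperm w hw a hRa).resolve_right fun h => hab ?_
      have hwb : w • b = a := (hperm w hw b hRb).resolve_right fun h' =>
        hab (smul_left_cancel w (h.trans h'.symm))
      obtain ⟨m, hm⟩ := hwodd
      have h2 : ∀ j : ℕ, (w ^ (2 * j)) • a = a := by
        intro j
        induction j with
        | zero => simp
        | succ j ihj => rw [show 2 * (j + 1) = 2 + 2 * j by ring, pow_add, mul_smul, ihj, sq, mul_smul, h, hwb]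
      have h3 : (w ^ orderOf w) • a = b := by rw [hm, pow_succ', mul_smul, h2, h]
      rwa [pow_orderOf_eq_one, one_smul] at h3
    refine ⟨ha, (hperm w hw b hRb).resolve_left fun h => hab ?_⟩
    exact smul_left_cancel w (ha.trans h.symm)
  exact absurd (hR.2.2 Z hle (hY.2.1.to_le hZY)) (not_le.2 (Solvable.card_lt_of_lt hRZ))

/-- The prime `q` does not divide the number of involutions fixing a point. -/
theorem ne_q {a b : G ⧸ H} (hab : a ≠ b) {r : ℕ} (hr : r.Prime)
    (hdvd : r ∣ Nat.card {t : G // orderOf t = 2 ∧ t • a = a}) : r ≠ q := by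
  intro he
  subst he
  haveI : Fact r.Prime := ⟨hr⟩
  obtain ⟨R, -, hR⟩ := exists_syl (bot_le : ⊥ ≤ st a ⊓ st b) (IsPGroup.of_bot (p := r))
  have hfix := hI r hr (StrongEmbed.card_fix a ▸ hdvd) a b hab R hR
  have hRn : R ≤ normalizer (N a : Set G) :=
    fun g hg => hN.st_le_normalizer a (hR.1 hg).1
  let e : R → N a → N a := fun g z =>
    ⟨(g : G) * z * (g : G)⁻¹, (mem_normalizer_iff.1 (hRn g.2) z).1 z.2⟩
  letI : MulAction R (N a) :=
    { smul := e
      one_smul := fun z => Subtype.ext (show (1 : G) * z * (1 : G)⁻¹ = z by simp)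
      mul_smul := fun g g' z => Subtype.ext
        (show ((g : G) * g') * z * ((g : G) * g')⁻¹ = (g : G) * ((g' : G) * z * (g' : G)⁻¹) * (g : G)⁻¹
          by group) }
  have hdvdN : r ∣ Nat.card (N a) := by
    obtain ⟨k, hk⟩ := IsPGroup.iff_card.1 (hN.isPGroup a)
    rw [hk]
    refine dvd_pow_self r fun h0 => hN.ne_bot a (eq_bot_of_card_eq _ (by rw [hk, h0, pow_zero]))
  obtain ⟨z, hzfix, hz1⟩ := hR.2.1.exists_fixed_point_of_prime_dvd_card_of_fixed_point (N a) hdvdN
    (a := 1) (fun g => Subtype.ext (show (g : G) * 1 * (g : G)⁻¹ = 1 by simp))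
  have hz1' : (z : G) ≠ 1 := fun h => hz1 (Subtype.ext h).symm
  rcases hfix ((z : G) • b) (fun g hg => by
    have h : g * (z : G) * g⁻¹ = z := congrArg Subtype.val (hzfix ⟨g, hg⟩)
    show g • (z : G) • b = (z : G) • b
    rw [smul_smul, mul_inv_eq_iff_eq_mul.1 h, mul_smul, (hR.1 hg).2]) with h | h
  · exact hab (smul_left_cancel (z : G) (h.trans (show (z : G) • a = a from hN.le_st a z.2).symm)).symm
  · exact hab (hsr a z z.2 hz1' b h).symm

/-- An element of prime order in a two-point stabilizer, centralizing the member of the family at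
`a` and no involution fixing `a`, has a centralizer of even order. -/
theorem even_centralizer {a b : G ⧸ H} (hab : a ≠ b) {r : ℕ} [Fact r.Prime] (hrodd : Odd r) {x : G}
    (hx : orderOf x = r) (hxa : x • a = a) (hxb : x • b = b)
    (hxN : ∀ z ∈ N a, Commute x z) (hxn : st a ⊓ st b ≤ normalizer (zpowers x : Set G))
    (hdvd : r ∣ Nat.card {t : G // orderOf t = 2 ∧ t • a = a}) :
    ∃ w : G, orderOf w = 2 ∧ Commute x w := by
  by_contra hno
  push Not at hno
  set M := centralizer ({x} : Set G) with hM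
  have hModd : Odd (Nat.card M) := by
    haveI : Fact (Nat.Prime 2) := ⟨Nat.prime_two⟩
    by_contra h
    obtain ⟨w, hw⟩ := exists_prime_orderOf_dvd_card' (G := M) 2
      (even_iff_two_dvd.1 (Nat.not_odd_iff_even.1 h))
    exact hno w (by rwa [Subgroup.orderOf_coe]) (mem_centralizer_singleton_iff.1 w.2).symm
  haveI := multPretrans hS
  have hrp : r.Prime := Fact.out
  have hx1 : x ≠ 1 := fun h => hrp.ne_one (by rw [← hx, h, orderOf_one])
  have hNM : N a ≤ M := fun z hz => mem_centralizer_singleton_iff.2 (hxN z hz).symm.eq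
  obtain ⟨z, hz, hz1⟩ := hN.exists_ne_one a
  have hfix := hI r hrp (StrongEmbed.card_fix a ▸ hdvd) a b hab
  obtain ⟨R, hxR, hR⟩ := exists_syl (zpowers_le.2 (mem_inf.2 ⟨hxa, hxb⟩) : zpowers x ≤ st a ⊓ st b)
    (IsPGroup.of_card (n := 1) (by rw [Nat.card_zpowers, hx, pow_one]))
  have hRM : R ≤ M := fun g hg => by
    have hgx : g * x * g⁻¹ ∈ zpowers x :=
      (mem_normalizer_iff.1 (hxn (hR.1 hg)) x).1 (mem_zpowers x)
    obtain ⟨i, hi⟩ := mem_powers_iff_mem_zpowers.2 hgx
    have hi' : g * x * g⁻¹ = x ^ i := hi.symm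
    obtain ⟨k, hk⟩ := hR.2.1 ⟨g, hg⟩
    have hk' : g ^ r ^ k = 1 := by simpa using congrArg Subtype.val hk
    have hpow : ∀ j : ℕ, g ^ j * x * (g ^ j)⁻¹ = x ^ (i ^ j) := by
      intro j
      induction j with
      | zero => simp
      | succ j ihj =>
        calc g ^ (j + 1) * x * (g ^ (j + 1))⁻¹ = g * (g ^ j * x * (g ^ j)⁻¹) * g⁻¹ := by
              rw [pow_succ']; group
          _ = x ^ (i ^ (j + 1)) := by rw [ihj, ← conj_pow, hi', ← pow_mul, pow_succ']
    have h1 := hpow (r ^ k)
    rw [hk', one_mul, inv_one, mul_one] at h1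
    have h2 : x ^ (i ^ r ^ k) = x ^ i := by
      rw [pow_eq_pow_iff_modEq, hx, ← ZMod.natCast_eq_natCast_iff, Nat.cast_pow]
      clear h1
      induction k generalizing g with
      | zero => simp
      | succ k ihk => rw [pow_succ, pow_mul, ZMod.pow_card]; exact ZMod.pow_card_pow _
    refine mem_centralizer_singleton_iff.2 ?_
    exact mul_inv_eq_iff_eq_mul.1 (by rw [hi', ← h2, ← h1])
  have htop := syl_top_of_fix hS.se hrodd hab hR (hfix R hR)
  rcases St.core_fixes_or_transitive (Ω := G ⧸ H) (St.two_le_card_quotient hS.se.1) hrp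
    (k := 1) (x := x) (by rw [hx, pow_one]) with hcore | htrans
  · -- the core fixes the fixed points
    by_cases hMa : M ≤ st a
    · have hn : ((N a).subgroupOf M).Normal := ⟨fun v hv k =>
        (mem_normalizer_iff.1 (hN.st_le_normalizer a (hMa k.2)) _).1 hv⟩
      have hcop : (Nat.card ((N a).subgroupOf M)).Coprime r := by
        rw [Nat.card_congr (subgroupOfEquivOfLe hNM).toEquiv]
        haveI : Fact q.Prime := ⟨hN.prime⟩
        obtain ⟨k, hk⟩ := IsPGroup.iff_card.1 (hN.isPGroup a)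
        rw [hk]
        exact ((Nat.coprime_primes hN.prime hrp).2
          (ne_q hS hN hsr hV hI hab hrp hdvd).symm).pow_left k
      have hz' : z ∈ Cfsg.centralizerPPrimeCore r x :=
        ⟨⟨z, hNM hz⟩, Solvable.le_pPrimeCore r hn hcop hz, rfl⟩
      exact hab (hsr a z hz hz1 b (hcore z hz' b hxb)).symm
    · obtain ⟨k, hk, hka⟩ : ∃ k ∈ M, k • a ≠ a := by
        by_contra h
        push Not at h
        exact hMa fun k hk => h k hk
      haveI : Group.IsSolvable M := OddEnd.odd_solvable M hModd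
      set O := Cfsg.pPrimeCore r M
      haveI : O.Normal := (Solvable.pPrimeCore_spec r).1
      let π := QuotientGroup.mk' O
      set A := (Cfsg.pCore r (M ⧸ O)).comap π
      haveI : A.Normal := (Solvable.pCore_spec r).1.comap π
      haveI : Group.IsSolvable (M ⧸ O) :=
        Group.isSolvable_of_surjective (QuotientGroup.mk'_surjective O)
      -- the preimage fixes `a`
      obtain ⟨S, hS'⟩ := (hR.2.1.comap_subtype : IsPGroup r (R.subgroupOf M)).exists_le_sylow
      have hSR : (S : Subgroup M) = R.subgroupOf M := (eq_of_le_of_card_ge hS' (by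
        show Nat.card (S : Subgroup M) ≤ Nat.card (R.subgroupOf M)
        rw [Nat.card_congr (subgroupOfEquivOfLe hRM).toEquiv,
          ← card_map_of_injective M.subtype_injective (K := (S : Subgroup M))]
        exact htop _ (S.isPGroup'.map _))).symm
      have hAa : ∀ m : M, m ∈ A → (m : G) • a = a := by
        intro m hm
        obtain ⟨s, hs, hse⟩ := (Fitting.pCore_le_sylow
          (S.mapSurjective (QuotientGroup.mk'_surjective O)) hm :
            π m ∈ (S : Subgroup M).map π)
        have hO : m * s⁻¹ ∈ O := by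
          refine (QuotientGroup.eq_one_iff _).1 ?_
          show π (m * s⁻¹) = 1
          rw [map_mul, map_inv, hse, mul_inv_cancel]
        have h1 : ((m * s⁻¹ : M) : G) • a = a := hcore _ ⟨_, hO, rfl⟩ a hxa
        have h2 : (s : G) • a = a := (hR.1 (hSR ▸ hs : s ∈ R.subgroupOf M)).1
        calc (m : G) • a = ((m * s⁻¹ : M) : G) • (s : G) • a := by
              rw [smul_smul]; simp
          _ = a := by rw [h2, h1]
      -- so it meets the member trivially
      have hinter : ∀ v : M, v ∈ A → (v : G) ∈ N a → v = 1 := by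
        intro v hv hvN
        by_contra hv1
        have h := hAa _ (Subgroup.Normal.conj_mem inferInstance v hv ⟨k, hk⟩⁻¹)
        simp only [inv_inv, Subgroup.coe_mul, Subgroup.coe_inv] at h
        rw [mul_smul, mul_smul, inv_smul_eq_iff] at h
        exact hka (hsr a v hvN (fun h' => hv1 (Subtype.ext h')) _ h)
      have hzA : (⟨z, hNM hz⟩ : M) ∈ A := by
        refine Fitting.centralizer_pCore_le (Fitting.pPrimeCore_quotient_eq_bot r) ?_
        refine mem_centralizer_iff.2 fun y hy => ?_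
        obtain ⟨y, rfl⟩ := QuotientGroup.mk'_surjective O y
        have hyA : y ∈ A := hy
        rw [← map_mul, ← map_mul]
        congr 1
        refine (commutatorElement_eq_one_iff_mul_comm.1 (hinter ⁅y, (⟨z, hNM hz⟩ : M)⁆ ?_ ?_))
        · rw [commutatorElement_def, mul_assoc, mul_assoc]
          refine mul_mem hyA ?_
          rw [← mul_assoc]
          exact Subgroup.Normal.conj_mem inferInstance _ (inv_mem hyA) _
        · rw [commutatorElement_def]
          simp only [Subgroup.coe_mul, Subgroup.coe_inv]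
          exact mul_mem ((mem_normalizer_iff.1 (hN.st_le_normalizer a (hAa y hyA)) z).1 hz) (inv_mem hz)
      exact hz1 (congrArg Subtype.val (hinter _ hzA hz))
  · -- the centralizer is transitive on the fixed points
    obtain ⟨g, hg, hga⟩ := htrans a b hxa hxb
    have hRD : R ≤ M ⊓ st b := le_inf hRM (hR.1.trans inf_le_right)
    have hgR : cj g R ≤ M ⊓ st b := le_inf
      (cj_le_iff.2 fun w hw => mul_mem (mul_mem hg (hRM hw)) (inv_mem hg))
      (hga ▸ le_st_smul (hR.1.trans inf_le_left))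
    obtain ⟨d, hd, hdR⟩ := syl_conj (D := M ⊓ st b) (Y := R)
      ⟨hRD, hR.2.1, fun P _ hP => htop P hP⟩ hgR (hR.2.1.map _)
    set n := d * g
    have hnR : n ∈ normalizer (R : Set G) := by
      refine mem_norm_iff.2 ?_
      rw [← cj_cj]
      exact eq_of_le_of_card_ge hdR (by rw [card_cj, card_cj])
    have hna : n • a = b := by rw [mul_smul, hga]; exact hd.2
    have hnb : n • b = a := by
      refine (hfix R hR (n • b) fun w hw => ?_).resolve_right fun h =>
        hab (smul_left_cancel n (hna.trans h.symm))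
      have h1 : n⁻¹ * w * n ∈ R := by
        simpa using (mem_normalizer_iff.1 (inv_mem hnR) w).1 hw
      have h2 : (n⁻¹ * w * n) • b = b := (hR.1 h1).2
      rwa [mul_smul, mul_smul, inv_smul_eq_iff] at h2
    obtain ⟨m, hm⟩ : Odd (orderOf n) :=
      hModd.of_dvd_nat (Subgroup.orderOf_dvd_natCard M (mul_mem hd.1 hg))
    have h2 : ∀ j : ℕ, (n ^ (2 * j)) • a = a := by
      intro j
      induction j with
      | zero => simp
      | succ j ihj => rw [show 2 * (j + 1) = 2 + 2 * j by ring, pow_add, mul_smul, ihj, sq, mul_smul, hna, hnb]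
    have h3 : (n ^ orderOf n) • a = b := by rw [hm, pow_succ', mul_smul, h2, hna]
    rw [pow_orderOf_eq_one, one_smul] at h3
    exact hab h3

/-- Step C6. -/
theorem centralizer_trivial {a b : G ⧸ H} (hab : a ≠ b) {d : G} (hda : d • a = a)
    (hdb : d • b = b) (hd : ∀ z ∈ N a, Commute d z) : d = 1 := by
  by_contra hd1
  set D := st a ⊓ st b with hDdef
  have hDodd : Odd (Nat.card D) := odd_pair hS.se hab
  set X := D ⊓ centralizer (N a : Set G) with hXdef
  have hXmem : ∀ g, g ∈ X ↔ g ∈ D ∧ ∀ z ∈ N a, Commute g z := fun g => by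
    simp only [hXdef, mem_inf, mem_centralizer_iff, SetLike.mem_coe]
    exact ⟨fun h => ⟨h.1, fun z hz => (h.2 z hz).symm⟩, fun h => ⟨h.1, fun z hz => (h.2 z hz).symm⟩⟩
  obtain ⟨z, hz, hz1⟩ := hN.exists_ne_one a
  -- an element of `X` centralizes at most one involution fixing `a`
  have hone : ∀ g ∈ X, g ≠ 1 → ∀ s t : G, orderOf s = 2 → s • a = a → orderOf t = 2 → t • a = a →
      Commute g s → Commute g t → s = t := by
    intro g hg hg1 s t hs hsa ht hta hgs hgt
    by_contra hne
    obtain ⟨hgD, hgN⟩ := (hXmem g).1 hg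
    exact zlemma hS hN hsr hV hab hg1 hgD.1 hgD.2 hs hsa ht hta hne hgs hgt hz hz1 (hgN z hz)
  -- a subgroup of prime order, normal in `D`
  haveI hXn : (X.subgroupOf D).Normal := ⟨fun g hg k => by
    rw [mem_subgroupOf, hXmem] at hg ⊢
    refine ⟨((k : D) * g * (k : D)⁻¹ : D).2, fun v hv => ?_⟩
    have hk : (k : G)⁻¹ * v * (k : G) ∈ N a := by
      simpa using (mem_normalizer_iff.1 (hN.st_le_normalizer a (inv_mem k.2.1)) v).1 hv
    have := conj_commute (g := (k : G)) (hg.2 _ hk)
    simpa [mul_assoc] using this⟩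
  have hXne : X.subgroupOf D ≠ ⊥ := fun h => hd1 (by
    have hmem : (⟨d, hda, hdb⟩ : D) ∈ X.subgroupOf D :=
      mem_subgroupOf.2 ((hXmem d).2 ⟨⟨hda, hdb⟩, hd⟩)
    rw [h, mem_bot] at hmem
    exact congrArg Subtype.val hmem)
  haveI : Group.IsSolvable D := OddEnd.odd_solvable D hDodd
  obtain ⟨A, hAn, hA1, hAX, hAc, -, r, hr, hAexp, -⟩ :=
    Solvable.exists_normal_elementary_le hXne inferInstance
  haveI : Fact r.Prime := ⟨hr⟩
  obtain ⟨x₀, hx₀A, hx₀1⟩ : ∃ x₀ ∈ A, x₀ ≠ 1 := by
    by_contra h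
    push Not at h
    exact hA1 ((eq_bot_iff_forall _).2 h)
  have hord : ∀ y : D, y ∈ A → y ≠ 1 → orderOf (y : G) = r := fun y hy hy1 =>
    (Subgroup.orderOf_coe y).trans (orderOf_eq_prime (hAexp y hy) hy1)
  set x := (x₀ : G) with hxdef
  have hx : orderOf x = r := hord x₀ hx₀A hx₀1
  have hrodd : Odd r := hx ▸ hDodd.of_dvd_nat (Subgroup.orderOf_dvd_natCard D x₀.2)
  have hxX : x ∈ X := hAX hx₀A
  have hx1 : x ≠ 1 := fun h => hx₀1 (Subtype.ext h)
  have hnoplane : ∀ g h : G, g ∈ X → h ∈ X → orderOf g = r → orderOf h = r → Commute g h →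
      h ∈ zpowers g := by
    intro g h hgX hhX hgo hho hc
    by_contra hne
    obtain ⟨E, hEc, hEn, -, -, hEX⟩ := exists_plane hgo hho hc hne hgX hhX
    exact false_of_plane hS hV hEn (hDodd.of_dvd_nat (card_dvd_of_le (hEX.trans inf_le_left)))
      (hEX.trans (inf_le_left.trans inf_le_left)) fun e he => hone e (hEX he)
  have hxconj : ∀ k ∈ D, k * x * k⁻¹ ∈ zpowers x := by
    intro k hk
    have hmem : (⟨k, hk⟩ : D) * x₀ * (⟨k, hk⟩ : D)⁻¹ ∈ A := hAn.conj_mem x₀ hx₀A _
    refine hnoplane x (k * x * k⁻¹) hxX (hAX hmem) hx (by rw [Invol.orderOf_conj_eq, hx]) ?_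
    exact congrArg Subtype.val (congrArg Subtype.val
      (mul_comm' (⟨x₀, hx₀A⟩ : A) ⟨_, hmem⟩))
  have hxn : D ≤ normalizer (zpowers x : Set G) := fun k hk =>
    mem_norm_iff.2 (cj_eq_of_le (cj_le_iff.2 fun w hw => by
      obtain ⟨j, rfl⟩ := hw
      show k * x ^ j * k⁻¹ ∈ zpowers x
      rw [← conj_zpow]
      exact zpow_mem (hxconj k hk) j) le_rfl)
  have hcomm_conj : ∀ {v : G}, Commute x v → ∀ k ∈ D, Commute x (k * v * k⁻¹) := by
    intro v hv k hk
    obtain ⟨j, hj⟩ := mem_zpowers_symm hx (by rw [Invol.orderOf_conj_eq, hx]) (hxconj k hk)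
    rw [← hj]
    exact (conj_commute hv).zpow_left j
  have hxa : x • a = a := x₀.2.1
  have hxb : x • b = b := x₀.2.2
  have hxN : ∀ z ∈ N a, Commute x z := ((hXmem x).1 hxX).2
  -- no involution fixing `a` commutes with `x`
  have hfpf : ∀ t : G, orderOf t = 2 → t • a = a → ¬ Commute x t := by
    intro t ht hta hxt
    obtain ⟨s, s', hs, hs', hne, hsa, hs'a⟩ := exists_two hS a
    have hall : ∀ w : G, orderOf w = 2 → w • a = a → Commute x w := fun w hw hwa => by
      obtain ⟨k, hk, rfl⟩ := (transOdd_pair hS.se hab).2.2 t w hta ht hwa hw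
      exact hcomm_conj hxt k hk
    exact hne (hone x hxX hx1 s s' hs hsa hs' hs'a (hall s hs hsa) (hall s' hs' hs'a))
  -- so `r` divides the number of these involutions
  have hdvd : r ∣ Nat.card {t : G // orderOf t = 2 ∧ t • a = a} := by
    let e : zpowers x → {t : G // orderOf t = 2 ∧ t • a = a} → {t : G // orderOf t = 2 ∧ t • a = a} :=
      fun g t => ⟨(g : G) * t * (g : G)⁻¹, by rw [Invol.orderOf_conj_eq, t.2.1], by
        have hg : (g : G) • a = a := (zpowers_le.2 (show x ∈ st a from hxa) g.2 : _)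
        rw [mul_smul, mul_smul, inv_smul_eq_iff.2 hg.symm, t.2.2, hg]⟩
    letI : MulAction (zpowers x) {t : G // orderOf t = 2 ∧ t • a = a} :=
      { smul := e
        one_smul := fun t => Subtype.ext (show (1 : G) * t * (1 : G)⁻¹ = t by simp)
        mul_smul := fun g g' t => Subtype.ext
          (show ((g : G) * g') * t * ((g : G) * g')⁻¹ = (g : G) * ((g' : G) * t * (g' : G)⁻¹) * (g : G)⁻¹
            by group) }
    by_contra h
    obtain ⟨t, ht⟩ := (IsPGroup.of_card (n := 1) (by rw [Nat.card_zpowers, hx, pow_one]) :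
      IsPGroup r (zpowers x)).nonempty_fixed_point_of_prime_not_dvd_card _ h
    exact hfpf t t.2.1 t.2.2 (mul_inv_eq_iff_eq_mul.1 (congrArg Subtype.val (ht ⟨x, mem_zpowers x⟩)))
  -- the centralizer of `x` contains an involution, whose centre gives one at `b`
  obtain ⟨w, hw, hxw⟩ := even_centralizer hS hN hsr hV hI hab hrodd hx hxa hxb hxN hxn hdvd
  obtain ⟨c, hwc⟩ := StrongEmbed.exists_fix hS.se hw
  have hac : a ≠ c := fun h => hfpf w hw (h ▸ hwc) hxw
  have hxc : x • c = c :=
    StrongEmbed.fix_unique hS.se hw (by rw [smul_smul, ← hxw.eq, mul_smul, hwc]) hwc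
  obtain ⟨g, hga, hgc⟩ := exists_move hS hab hac
  have hga' : g⁻¹ • a = a := inv_smul_eq_iff.2 hga.symm
  have hgc' : g⁻¹ • b = c := inv_smul_eq_iff.2 hgc.symm
  have hyX : g * x * g⁻¹ ∈ X := by
    refine (hXmem _).2 ⟨⟨?_, ?_⟩, fun v hv => ?_⟩
    · show (g * x * g⁻¹) • a = a
      rw [mul_smul, mul_smul, hga', hxa, hga]
    · show (g * x * g⁻¹) • b = b
      rw [mul_smul, mul_smul, hgc', hxc, hgc]
    · have := conj_commute (g := g) (hxN _ (hN.conj_mem hv hga'))
      simpa [mul_assoc] using this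
  have hyo : orderOf (g * x * g⁻¹) = r := by rw [Invol.orderOf_conj_eq, hx]
  have hyx : g * x * g⁻¹ ∈ zpowers x :=
    hnoplane x _ hxX hyX hx hyo (commute_of_conj_mem hx (by rw [← hyo, pow_orderOf_eq_one])
      (hxconj _ ((hXmem _).1 hyX).1)).symm
  have hwb : (g * w * g⁻¹) • b = b := by rw [mul_smul, mul_smul, hgc', hwc, hgc]
  have hxw' : Commute x (g * w * g⁻¹) := by
    obtain ⟨j, hj⟩ := mem_zpowers_symm hx hyo hyx
    rw [← hj]
    exact (conj_commute hxw).zpow_left j
  -- `x` centralizes all involutions fixing `b`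
  have hxVb : ∀ t : G, orderOf t = 2 → t • b = b → Commute x t := fun t ht htb => by
    obtain ⟨k, hk, rfl⟩ := (transOdd_pair hS.se hab.symm).2.2 (g * w * g⁻¹) t hwb
      (by rw [Invol.orderOf_conj_eq, hw]) htb ht
    exact hcomm_conj hxw' k ⟨hk.2, hk.1⟩
  -- the same element transported by a swapper
  obtain ⟨u, hu, hua⟩ := StrongEmbed.exists_swap hS.se hab
  have hub := swap_back hu hua
  have hua' : u⁻¹ • a = b := inv_smul_eq_iff.2 hub.symm
  have hub' : u⁻¹ • b = a := inv_smul_eq_iff.2 hua.symm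
  set x' := u * x * u⁻¹ with hx'def
  have hx' : orderOf x' = r := by rw [hx'def, Invol.orderOf_conj_eq, hx]
  have hx'D : x' ∈ D := ⟨show (u * x * u⁻¹) • a = a by rw [mul_smul, mul_smul, hua', hxb, hub],
    show (u * x * u⁻¹) • b = b by rw [mul_smul, mul_smul, hub', hxa, hua]⟩
  have hx'Va : ∀ t : G, orderOf t = 2 → t • a = a → Commute x' t := fun t ht hta => by
    have hc' := hxVb (u⁻¹ * t * u) (by simpa using (Invol.orderOf_conj_eq u⁻¹ t).trans ht)
      (by rw [mul_smul, mul_smul, hub, hta, hua'])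
    have := conj_commute (g := u) hc'
    simpa [mul_assoc, hx'def] using this
  have hx'fpf : ∀ t : G, orderOf t = 2 → t • b = b → ¬ Commute x' t := fun t ht htb hc' => by
    refine hfpf (u⁻¹ * t * u) (by simpa using (Invol.orderOf_conj_eq u⁻¹ t).trans ht)
      (by rw [mul_smul, mul_smul, hua, htb, hub']) ?_
    have := conj_commute (g := u⁻¹) hc'
    simpa [mul_assoc, hx'def] using this
  -- a second element centralizing the involutions fixing `a`
  have hzb : z • b ≠ b := fun h => hab (hsr a z hz hz1 b h).symm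
  obtain ⟨g₁, hg₁b, hg₁z⟩ := exists_move' hS hab hzb.symm
  have hg₁a' : g₁⁻¹ • a = b := inv_smul_eq_iff.2 hg₁b.symm
  have hg₁b' : g₁⁻¹ • b = z • b := inv_smul_eq_iff.2 hg₁z.symm
  set σ := g₁ * x * g₁⁻¹ with hσdef
  have hσ : orderOf σ = r := by rw [hσdef, Invol.orderOf_conj_eq, hx]
  have hxzb : x • z • b = z • b := by rw [smul_smul, (hxN z hz).eq, mul_smul, hxb]
  have hσD : σ ∈ D := ⟨show (g₁ * x * g₁⁻¹) • a = a by rw [mul_smul, mul_smul, hg₁a', hxb, hg₁b],
    show (g₁ * x * g₁⁻¹) • b = b by rw [mul_smul, mul_smul, hg₁b', hxzb, hg₁z]⟩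
  have hxVzb : ∀ t : G, orderOf t = 2 → t • z • b = z • b → Commute x t := fun t ht htz => by
    have hc' := hxVb (z⁻¹ * t * z) (by simpa using (Invol.orderOf_conj_eq z⁻¹ t).trans ht)
      (by rw [mul_smul, mul_smul, htz, inv_smul_smul])
    have := conj_commute (g := z) hc'
    rw [(hxN z hz).symm.mul_inv_cancel] at this
    simpa [mul_assoc] using this
  have hσV : ∀ t : G, orderOf t = 2 → t • a = a ∨ t • b = b → Commute σ t := by
    intro t ht htab
    have ho : orderOf (g₁⁻¹ * t * g₁) = 2 := by simpa using (Invol.orderOf_conj_eq g₁⁻¹ t).trans ht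
    have hc' : Commute x (g₁⁻¹ * t * g₁) := by
      rcases htab with h | h
      · exact hxVb _ ho (by rw [mul_smul, mul_smul, hg₁b, h, hg₁a'])
      · exact hxVzb _ ho (by rw [mul_smul, mul_smul, hg₁z, h, hg₁b'])
    have := conj_commute (g := g₁) hc'
    simpa [mul_assoc, hσdef] using this
  have hσx' : σ ∉ zpowers x' := fun h => by
    obtain ⟨j, hj⟩ := mem_zpowers_symm hx' hσ h
    obtain ⟨t, -, ht, -, -, htb, -⟩ := exists_two hS b
    exact hx'fpf t ht htb (hj ▸ (hσV t ht (Or.inr htb)).zpow_left j)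
  have hx'conj : σ * x' * σ⁻¹ ∈ zpowers x' := by
    have hmem : u⁻¹ * σ * u ∈ D := ⟨show (u⁻¹ * σ * u) • a = a by
        rw [mul_smul, mul_smul, hua, show σ • b = b from hσD.2, hub'],
      show (u⁻¹ * σ * u) • b = b by
        rw [mul_smul, mul_smul, hub, show σ • a = a from hσD.1, hua']⟩
    obtain ⟨j, hj⟩ := hxconj _ hmem
    refine ⟨j, ?_⟩
    show x' ^ j = σ * x' * σ⁻¹
    rw [hx'def, conj_zpow, show x ^ j = _ from hj]
    group
  have hcomm : Commute x' σ :=
    (commute_of_conj_mem hx' (by rw [← hσ, pow_orderOf_eq_one]) hx'conj).symm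
  have hx'C : x' ∈ centralizer (vee hV a : Set G) := mem_centralizer_iff.2 fun v hv => by
    by_cases hv1 : v = 1
    · rw [hv1, one_mul, mul_one]
    · exact (hx'Va v (Invol.orderOf_eq_two hv.1 hv1) hv.2).symm.eq
  have hσC : σ ∈ centralizer (vee hV a : Set G) := mem_centralizer_iff.2 fun v hv => by
    by_cases hv1 : v = 1
    · rw [hv1, one_mul, mul_one]
    · exact (hσV v (Invol.orderOf_eq_two hv.1 hv1) (Or.inl hv.2)).symm.eq
  obtain ⟨E, hEc, hEn, -, hEexp, hEK⟩ := exists_plane (K := D ⊓ centralizer (vee hV a : Set G)) hx'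
    hσ hcomm hσx' ⟨hx'D, hx'C⟩ ⟨hσD, hσC⟩
  -- the plane has an element with a fixed point on the member of the family
  have hEr : IsPGroup r E := fun e => ⟨1, Subtype.ext (by simpa using hEexp e e.2)⟩
  have hcop : (Nat.card E).Coprime (Nat.card (N a)) := by
    haveI : Fact q.Prime := ⟨hN.prime⟩
    obtain ⟨i, hi⟩ := IsPGroup.iff_card.1 hEr
    obtain ⟨k, hk⟩ := IsPGroup.iff_card.1 (hN.isPGroup a)
    rw [hi, hk]
    exact ((Nat.coprime_primes hr hN.prime).2 (ne_q hS hN hsr hV hI hab hr hdvd)).pow i k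
  have hgen := CoprimeAct.generated_by_centralizers hEn
    ((hEK.trans (inf_le_left.trans inf_le_left)).trans (hN.st_le_normalizer a)) hcop
  obtain ⟨s, t, hs, ht, hne, hsa, hta⟩ := exists_two hS a
  refine hN.ne_bot a (le_bot_iff.1 (hgen.symm.le.trans (iSup₂_le fun e he v hv => ?_)))
  rw [mem_bot]
  by_contra hv1
  obtain ⟨hvN, hve⟩ := hv
  exact zlemma hS hN hsr hV hab he.2 (hEK he.1).1.1 (hEK he.1).1.2 hs hsa ht hta hne
    (mem_centralizer_iff.1 (hEK he.1).2 s (invol_mem_vee hs hsa)).symm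
    (mem_centralizer_iff.1 (hEK he.1).2 t (invol_mem_vee ht hta)).symm hvN hv1
    (mem_centralizer_singleton_iff.1 hve).symm

end Setting

end CfsgLib.Bender.Core.CSix
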