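import Cfsg.Agent.Bender.CoreC7Ker

/-!
The core of a strongly embedded subgroup, step C7: for every prime `p` dividing the number of
involutions at a point there is a torus, and the linear part of the two-point stabilizer is
transitive on the involutions at the point.
-/

set_option autoImplicit false
set_option linter.unusedSectionVars false
set_option linter.style.haveILetI false

namespace CfsgLib.Bender.Core.CSeven

open Subgroup
open CfsgLib.FusionLift (cj mem_cj card_cj)
open CfsgLib.Bender.GSide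
open CfsgLib.Bender.Core.CSix (InvolComm vee mem_vee invol_mem_vee st_le_normalizer_vee)
open CfsgLib.Bender.Semilinear (Lin linPart)
open CfsgLib.Bender.KSix (Rep)

universe u

variable {G : Type u} [Group G] [Finite G] {H : Subgroup G}

/-- An element of order `l` normalizing, not centralizing, a cyclic group of prime order without
fixed points on a `t`-group has a nontrivial fixed point there. -/
theorem exists_fixed_of_frobenius {t l r : ℕ} [Fact t.Prime] [Fact l.Prime] [Fact r.Prime]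
    (hlt : l ≠ t) (hrt : r ≠ t) {W : Subgroup G} (hW : IsPGroup t W) (hW1 : W ≠ ⊥) {x L : G}
    (hx : orderOf x = l) (hL : orderOf L = r) (hxW : x ∈ normalizer (W : Set G))
    (hLW : L ∈ normalizer (W : Set G)) (hxL : x * L * x⁻¹ ∈ zpowers L) (hne : ¬ Commute x L)
    (hfix : ∀ w ∈ W, Commute L w → w = 1) : ∃ w ∈ W, w ≠ 1 ∧ Commute x w := by
  by_contra hno
  push Not at hno
  refine hW1 (le_bot_iff.1 (CfsgLib.OddLocal.FixedLine.le_of_frobenius hlt hW hx
    (U := zpowers L) (zpowers_le.2 hLW)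
    (IsPGroup.coprime_card_of_ne (p₁ := r) (p₂ := t) hrt _ _ (isPGroup_zpowers hL) hW)
    (mem_normalizer_zpowers hxL) hxW ((eq_bot_iff_forall _).2 fun w hw => ?_) (Y := ⊥)
    (fun w hw => ?_) fun v hv w hw => ?_))
  · by_contra hw1
    have hwo : orderOf w = r := orderOf_eq_prime (pow_eq_one_of_mem_zpowers hL (mem_inf.1 hw).1) hw1
    obtain ⟨i, hi⟩ := CSix.mem_zpowers_symm hL hwo (mem_inf.1 hw).1
    exact hne (hi ▸ (show Commute x w from
      (mem_centralizer_singleton_iff.1 (mem_inf.1 hw).2).symm).zpow_right i)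
  · exact mem_bot.2 (hfix w (mem_inf.1 hw).1
      (mem_centralizer_iff.1 (mem_inf.1 hw).2 L (mem_zpowers L)))
  · refine mem_bot.2 ?_
    by_contra hw1
    have hv' : v ∈ normalizer (W : Set G) := zpowers_le.2 hLW hv
    refine hno (v⁻¹ * w * v) (by
      simpa using (mem_normalizer_iff.1 (inv_mem hv') w).1 (mem_inf.1 hw).1)
      (fun h => hw1 ?_) ?_
    · calc w = v * (v⁻¹ * w * v) * v⁻¹ := by group
        _ = 1 := by rw [h]; group
    · have h := CSix.conj_commute (g := v⁻¹)
        (show Commute (v * x * v⁻¹) w from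
          (mem_centralizer_singleton_iff.1 (mem_inf.1 hw).2).symm)
      rw [inv_inv, show v⁻¹ * (v * x * v⁻¹) * v = x by group] at h
      exact h

variable (hS : Setting H) {q : ℕ} {N : G ⧸ H → Subgroup G} (hN : Family q N) (hsr : Semireg N)
  (hci : CentInv N) {hV : InvolComm H} {a b : G ⧸ H} (hab : a ≠ b) {k : ℕ}
  (hk : Nat.card (vee hV a) = 2 ^ k)
include hS hN hsr hci hab hk

omit hN hsr hci hab in
theorem dvd_card_invol {p : ℕ} (hp : p ∣ 2 ^ k - 1) :
    p ∣ Nat.card {t : G // orderOf t = 2 ∧ t • a = a} :=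
  (card_invol hS hV hk).2.symm ▸ hp

section Coord

variable {F : Type} [Field F] [Finite F] {e : Additive (vee hV a) ≃+ F} (hF : Nat.card F = 2 ^ k)
  (hrep : ∀ d ∈ barD hV a b, ∃ c i, Rep e d c i)
include hF hrep

/-- A prime not dividing the rank acts linearly. -/
theorem linAt_of_not_dvd {r : ℕ} (hr : r.Prime) (hrk : ¬ r ∣ k) : LinAt e b r := by
  have key : ∀ d ∈ st a ⊓ st b, ∀ n : ℕ, d ^ r ^ n = 1 → LinOn e d := fun d hd n hn => by
    obtain ⟨c, i, hdi⟩ := hrep _ (act_mem_barD (hV := hV) hd)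
    refine ⟨(mem_inf.1 hd).1, Semilinear.lin_of_coprime hF (card_invol hS hV hk).1 hdi
      (n := r ^ n) ?_ ((hr.coprime_iff_not_dvd.2 hrk).pow_left n)⟩
    rw [← map_pow, ← map_one (act hV a)]
    congr 1
    exact Subtype.ext hn
  exact ⟨fun d hd hdo => key d hd 1 (by rw [pow_one, ← hdo, pow_orderOf_eq_one]),
    fun _ _ _ d hd n hn _ => key d hd n hn⟩

theorem exists_torus_of_lin {p : ℕ} [Fact p.Prime] (hp : p ∣ 2 ^ k - 1) (hlin : LinAt e b p) :
    ∃ R u y, Torus hV N a b p R u y ∧ ∀ r ∈ R, LinOn e r := by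
  obtain ⟨R, -, hR⟩ := exists_syl (bot_le : ⊥ ≤ st a ⊓ st b) (IsPGroup.of_bot (p := p))
  obtain ⟨u, hu, hua, huR⟩ := swapper_norm hS.se hab hR
  obtain ⟨y, hy, hyl⟩ := exists_torus_of_linAt hS hN hsr hci hV hR hF hrep hab
    (dvd_card_invol hS hk hp) hlin hu hua huR
  exact ⟨R, u, y, hy, hyl⟩

/-- A linearly acting generator of order `p` of a torus spans a normal subgroup of the two-point
stabilizer. -/
theorem Torus.conj_mem_zpowers {p : ℕ} [Fact p.Prime] {R : Subgroup G} {u y : G}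
    (hp : p ∣ 2 ^ k - 1) (hT : Torus hV N a b p R u y) (hy : LinOn e y) {d : G}
    (hd : d ∈ st a ⊓ st b) : d * y * d⁻¹ ∈ zpowers y := by
  obtain ⟨c, i, hdi⟩ := hrep _ (act_mem_barD (hV := hV) hd)
  have hda := (mem_inf.1 hd).1
  have hyD : y ∈ st a ⊓ st b := hT.syl.1 hT.mem
  set w := d * y * d⁻¹ * (y ^ 2 ^ i)⁻¹ with hw
  have hwV : w ∈ centralizer (vee hV a : Set G) := by
    refine (act_eq_one (g := (⟨d, hda⟩ : st a) * ⟨y, hT.mem_st⟩ * ⟨d, hda⟩⁻¹ *
      (⟨y, hT.mem_st⟩ ^ 2 ^ i)⁻¹)).1 ?_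
    simp only [map_mul, map_inv, map_pow]
    rw [mul_inv_eq_one]
    exact (hy.lin hT.mem_st).conj hF hdi
  have hwD : w ∈ st a ⊓ st b :=
    mul_mem (mul_mem (mul_mem hd hyD) (inv_mem hd)) (inv_mem (pow_mem hyD _))
  have hcy : Commute y w := hT.commute_kerD hS hN hsr hci hab (dvd_card_invol hS hk hp)
    (mem_inf.2 ⟨hwD, hwV⟩)
  have hwy : w * y ^ 2 ^ i = d * y * d⁻¹ := by rw [hw, inv_mul_cancel_right]
  have hwp : w ^ p = 1 := by
    have h1 : (w * y ^ 2 ^ i) ^ p = 1 := by
      rw [hwy, conj_pow, ← hT.order, pow_orderOf_eq_one, mul_one, mul_inv_cancel]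
    rwa [(hcy.symm.pow_right _).mul_pow, ← pow_mul, mul_comm _ p, pow_mul, ← hT.order,
      pow_orderOf_eq_one, one_pow, mul_one, hT.order] at h1
  have hw1 : w = 1 := by
    by_contra hw1
    refine hT.not_dvd_kerV hS hN hsr hci hab (dvd_card_invol hS hk hp) ?_
    rw [← orderOf_eq_prime hwp hw1]
    exact Subgroup.orderOf_dvd_natCard _ (mem_inf.2 ⟨(mem_inf.1 hwD).1, hwV⟩)
  rw [← hwy, hw1, one_mul]
  exact pow_mem (mem_zpowers y) _

/-- Every prime dividing the number of involutions at the point acts linearly. -/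
theorem linAt_of_dvd {p : ℕ} [Fact p.Prime] (hp : p ∣ 2 ^ k - 1) : LinAt e b p := by
  have hk2 := (card_invol hS hV hk).1
  obtain ⟨r, hr, hrm, hrk, hdet⟩ := Semilinear.exists_detecting_prime hk2
  haveI : Fact r.Prime := ⟨hr⟩
  have hrdvd := dvd_card_invol (a := a) hS hk hrm
  obtain ⟨R, v, L, hT, hlinR⟩ :=
    exists_torus_of_lin hS hN hsr hci hab hk hF hrep hrm
      (linAt_of_not_dvd hS hN hsr hci hab hk hF hrep hr hrk)
  have hLl : LinOn e L := hlinR L hT.mem
  have hLD : L ∈ st a ⊓ st b := hT.syl.1 hT.mem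
  have hnorm : ∀ d ∈ st a ⊓ st b, d * L * d⁻¹ ∈ zpowers L := fun d hd =>
    hT.conj_mem_zpowers hS hN hsr hci hab hk hF hrep hrm hLl hd
  -- elements commuting with `L` act linearly
  have key : ∀ d ∈ st a ⊓ st b, Commute d L → LinOn e d := fun d hd hc => by
    obtain ⟨c, i, hdi⟩ := hrep _ (act_mem_barD (hV := hV) hd)
    refine ⟨(mem_inf.1 hd).1, Semilinear.lin_of_commute hF hk2 hr hdet (hLl.lin hT.mem_st)
      (hT.orderOf_ybar hS hN hsr hci hab hrdvd) hdi ?_
      ((show Commute (⟨d, (mem_inf.1 hd).1⟩ : st a) ⟨L, hT.mem_st⟩ from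
        Subtype.ext hc.eq).map (act hV a))⟩
    refine ((odd_pair hS.se hab).of_dvd_nat (Subgroup.orderOf_dvd_natCard _ hd)).of_dvd_nat ?_
    refine (orderOf_map_dvd (act hV a) _).trans ?_
    rw [Subgroup.orderOf_mk]
  have hdvd := dvd_card_invol (a := a) hS hk hp
  have hpp : p.Prime := Fact.out
  haveI : Fact (Nat.Prime 2) := ⟨Nat.prime_two⟩
  haveI : Fact q.Prime := ⟨hN.prime⟩
  have hI := caseI_all hS hV hN hsr hci
  refine ⟨fun d hd hdo => key d hd ?_, fun u hu hua d hd n hn hinv => key d hd ?_⟩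
  · by_contra hnc
    obtain ⟨z, hz, hz1, hdz⟩ := exists_fixed_of_frobenius
      (CSix.ne_q hS hN hsr hV hI hab hpp hdvd) (CSix.ne_q hS hN hsr hV hI hab hr hrdvd)
      (hN.isPGroup a) (hN.ne_bot a) hdo hT.order (hN.st_le_normalizer a (mem_inf.1 hd).1)
      (hN.st_le_normalizer a hT.mem_st) (hnorm d hd) hnc hT.fpfN
    have hV2 : IsPGroup 2 (vee hV a) := fun v => ⟨1, by rw [pow_one, sq]; exact sq_vee hV a v⟩
    obtain ⟨t, ht, ht1, hdt⟩ := exists_fixed_of_frobenius
      (prime_ne_two hS hV hpp hdvd) (prime_ne_two hS hV hr hrdvd) hV2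
      (fun h => by
        obtain ⟨s, -, hs, -, -, hsa, -⟩ := CSix.exists_two hS a
        have hs' : s ∈ vee hV a := invol_mem_vee hs hsa
        rw [h, mem_bot] at hs'
        rw [hs', orderOf_one] at hs
        exact absurd hs (by norm_num))
      hdo hT.order (st_le_normalizer_vee hV a (mem_inf.1 hd).1)
      (st_le_normalizer_vee hV a hT.mem_st) (hnorm d hd) hnc hT.fpfV
    exact not_commute_of_fixedN hS hV hN hsr hab hdvd (n := 1)
      (fun h => hpp.ne_one (by rw [← hdo, h, orderOf_one]))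
      (by rw [pow_one, ← hdo, pow_orderOf_eq_one]) hd hz hz1 hdz
      (Invol.orderOf_eq_two ht.1 ht1) ht.2 hdt
  · -- an inverted element commutes with `L`
    obtain ⟨j, hj⟩ := hnorm d hd
    have hj' : L ^ j = d * L * d⁻¹ := hj
    have huv : u * v ∈ st a ⊓ st b := mem_inf.2
      ⟨MulAction.mem_stabilizer_iff.2 (by rw [mul_smul, hT.swap, swap_back hu hua]),
      MulAction.mem_stabilizer_iff.2 (by rw [mul_smul, swap_back hT.u_invol hT.swap, hua])⟩
    have hX : u * L * u⁻¹ ∈ zpowers L := by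
      obtain ⟨m, hm⟩ := hnorm _ huv
      refine ⟨-m, ?_⟩
      show L ^ (-m) = u * L * u⁻¹
      have hm' : L ^ m = u * v * L * (u * v)⁻¹ := hm
      rw [zpow_neg, hm', show u * v * L * (u * v)⁻¹ = u * (v * L * v⁻¹) * u⁻¹ by group,
        hT.inv L hT.mem, ← conj_inv, inv_inv]
    obtain ⟨c, hc⟩ := hX
    set X := u * L * u⁻¹ with hXdef
    have hc' : L ^ c = X := hc
    have h1 : d * X * d⁻¹ = X ^ j := by
      rw [← hc', ← conj_zpow, ← hj', ← zpow_mul, ← zpow_mul, mul_comm]
    have h2 : d⁻¹ * X * d = X ^ j := by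
      rw [hXdef, conj_zpow, hj', ← conj_mul, ← conj_mul, ← conj_inv, hinv, inv_inv]
    have h3 : Commute (d ^ 2) X := by
      show d ^ 2 * X = X * d ^ 2
      calc d ^ 2 * X = d * (d * X * d⁻¹) * d := by rw [sq]; group
        _ = d * (d⁻¹ * X * d) * d := by rw [h1, h2]
        _ = X * d ^ 2 := by rw [sq]; group
    obtain ⟨m, hm⟩ : Odd (orderOf d) :=
      (odd_pair hS.se hab).of_dvd_nat (Subgroup.orderOf_dvd_natCard _ hd)
    have h4 := h3.pow_left (m + 1)
    rw [← pow_mul, show 2 * (m + 1) = orderOf d + 1 by omega, pow_succ, pow_orderOf_eq_one,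
      one_mul] at h4
    obtain ⟨i, hi⟩ := CSix.mem_zpowers_symm hT.order
      (show orderOf X = r by rw [hXdef, Invol.orderOf_conj_eq, hT.order]) ⟨c, hc⟩
    exact hi ▸ h4.zpow_right i

/-- The Sylow subgroup of a torus acts linearly. -/
theorem Torus.linOn {p : ℕ} [Fact p.Prime] {R : Subgroup G} {u y : G} (hp : p ∣ 2 ^ k - 1)
    (hT : Torus hV N a b p R u y) {r : G} (hr : r ∈ R) : LinOn e r := by
  obtain ⟨n, hn⟩ := exists_pow_eq_one hT.syl.2.1 hr
  exact (linAt_of_dvd hS hN hsr hci hab hk hF hrep hp).2 u hT.u_invol hT.swap r (hT.syl.1 hr) n hn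
    (hT.inv r hr)

end Coord

/-- Step C7: for every prime dividing the number of involutions at a point there is a torus. -/
theorem exists_torus {p : ℕ} [Fact p.Prime] (hp : p ∣ 2 ^ k - 1) :
    ∃ R u y, Torus hV N a b p R u y := by
  obtain ⟨F, iF, iFf, e, hF, hrep⟩ := exists_coord hS hV hab hk
  obtain ⟨R, u, y, hT, -⟩ := exists_torus_of_lin hS hN hsr hci hab hk hF hrep hp
    (linAt_of_dvd hS hN hsr hci hab hk hF hrep hp)
  exact ⟨R, u, y, hT⟩

/-- The generator of order `p` of a torus spans a normal subgroup of the two-point stabilizer. -/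
theorem Torus.zpowers_normal {p : ℕ} [Fact p.Prime] {R : Subgroup G} {u y : G}
    (hp : p ∣ 2 ^ k - 1) (hT : Torus hV N a b p R u y) {d : G} (hd : d ∈ st a ⊓ st b) :
    d * y * d⁻¹ ∈ zpowers y := by
  obtain ⟨F, iF, iFf, e, hF, hrep⟩ := exists_coord hS hV hab hk
  exact hT.conj_mem_zpowers hS hN hsr hci hab hk hF hrep hp
    (hT.linOn hS hN hsr hci hab hk hF hrep hp hT.mem) hd

/-- Such a prime does not divide the part of the two-point stabilizer centralizing all involutions
at the point. -/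
theorem not_dvd_kerD {p : ℕ} [Fact p.Prime] (hp : p ∣ 2 ^ k - 1) :
    ¬ p ∣ Nat.card ↥(st a ⊓ st b ⊓ centralizer (vee hV a : Set G)) := by
  obtain ⟨R, u, y, hT⟩ := exists_torus hS hN hsr hci hab hk hp
  exact fun h => hT.not_dvd_kerV hS hN hsr hci hab (dvd_card_invol hS hk hp)
    (h.trans (card_dvd_of_le (inf_le_inf_right _ inf_le_left)))

/-- Such a prime does not divide the order of the stabilizer of an involution at the point in the
two-point stabilizer. -/
theorem not_dvd_stab {p : ℕ} [Fact p.Prime] (hp : p ∣ 2 ^ k - 1) {t : G} (ht : orderOf t = 2)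
    (hta : t • a = a) :
    ¬ p ∣ Nat.card ↥(st a ⊓ st b ⊓ centralizer ({t} : Set G)) := by
  obtain ⟨F, iF, iFf, e, hF, hrep⟩ := exists_coord hS hV hab hk
  intro h
  obtain ⟨⟨d, hd⟩, hdo⟩ := exists_prime_orderOf_dvd_card' p h
  rw [Subgroup.orderOf_mk] at hdo
  obtain ⟨hdD, hdt⟩ := mem_inf.1 hd
  refine not_dvd_kerD hS hN hsr hci hab hk hp (hdo ▸ Subgroup.orderOf_dvd_natCard _ (mem_inf.2
    ⟨hdD, ((linAt_of_dvd hS hN hsr hci hab hk hF hrep hp).1 d hdD hdo).centralizes hF ht hta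
      (mem_centralizer_singleton_iff.1 hdt)⟩))

section Coord

variable {F : Type} [Field F] [Finite F] {e : Additive (vee hV a) ≃+ F} (hF : Nat.card F = 2 ^ k)
  (hrep : ∀ d ∈ barD hV a b, ∃ c i, Rep e d c i)
include hF hrep

/-- The linear part of the two-point stabilizer has as many elements as there are involutions at
the point. -/
theorem card_linPart : Nat.card ↥(barD hV a b ⊓ linPart e) = 2 ^ k - 1 := by
  classical
  haveI : Finite (MulAut (vee hV a)) := Finite.of_injective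
    (fun φ : MulAut (vee hV a) => (φ : vee hV a → vee hV a)) DFunLike.coe_injective
  obtain ⟨hk2, hm⟩ := card_invol hS hV hk
  set P := barD hV a b ⊓ linPart e
  obtain ⟨t, -, ht, -, -, hta, -⟩ := CSix.exists_two hS a
  set m₀ : vee hV a := ⟨t, invol_mem_vee ht hta⟩
  have hm₀ : m₀ ≠ 1 := fun h => by
    have h' : t = 1 := congrArg Subtype.val h
    rw [h', orderOf_one] at ht
    exact absurd ht (by norm_num)
  refine le_antisymm ?_ ?_
  · have hinj : Function.Injective (fun d : P => (⟨(d : MulAut (vee hV a)) m₀,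
        fun h => hm₀ (EmbeddingLike.map_eq_one_iff.1 h)⟩ : {v : vee hV a // v ≠ 1})) := by
      intro c d h
      have h1 : (c : MulAut (vee hV a)) m₀ = (d : MulAut (vee hV a)) m₀ := congrArg Subtype.val h
      refine Subtype.ext (inv_mul_eq_one.1 ?_).symm
      refine ((Semilinear.Lin.inv (mem_inf.1 d.2).2).mul (mem_inf.1 c.2).2).eq_one_of_fixed hF hm₀ ?_
      rw [MulAut.mul_apply, h1, MulAut.inv_apply_self]
    refine (Nat.card_le_card_of_injective _ hinj).trans (le_of_eq ?_)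
    haveI := Fintype.ofFinite (vee hV a)
    rw [Nat.card_eq_fintype_card, Fintype.card_subtype_compl, Fintype.card_subtype_eq,
      ← Nat.card_eq_fintype_card, hk]
  · refine Nat.le_of_dvd Nat.card_pos ((Nat.dvd_iff_prime_pow_dvd_dvd _ _).2 fun p j hp hpj => ?_)
    rcases Nat.eq_zero_or_pos j with rfl | hj
    · exact one_dvd _
    haveI : Fact p.Prime := ⟨hp⟩
    have hp' : p ∣ 2 ^ k - 1 := (dvd_pow_self p hj.ne').trans hpj
    obtain ⟨R, u, y, hT⟩ := exists_torus hS hN hsr hci hab hk hp'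
    have hRD := hT.syl.1
    have horb := card_orbit_mul (st a ⊓ st b) t (fun x => orderOf x = 2 ∧ x • a = a) fun x =>
      ⟨fun hx => (transOdd_pair hS.se hab).2.2 t x hta ht hx.2 hx.1, by
        rintro ⟨w, hw, rfl⟩
        exact ⟨by rw [Invol.orderOf_conj_eq, ht],
          by rw [mul_smul, mul_smul, inv_smul_eq_iff.2 hw.1.symm, hta, hw.1]⟩⟩
    rw [hm, FusionLift.card_eq_relIndex_mul R (st a ⊓ st b), inf_eq_left.2 hRD] at horb
    have h1 : p ^ j ∣ R.relIndex (st a ⊓ st b) * Nat.card R :=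
      hpj.trans (Dvd.intro _ (horb.trans (mul_comm _ _)))
    refine (((hp.coprime_iff_not_dvd.2 (syl_not_dvd hT.syl)).pow_left j).dvd_of_dvd_mul_left
      h1).trans ?_
    set φ : R →* MulAut (vee hV a) :=
      (act hV a).comp (Subgroup.inclusion (hRD.trans inf_le_left))
    have hφ : Function.Injective φ := (injective_iff_map_eq_one φ).2 fun r h =>
      Subtype.ext ((eq_bot_iff_forall _).1 hT.ker r (mem_inf.2 ⟨r.2, act_eq_one.1 h⟩))
    rw [Nat.card_congr (MonoidHom.ofInjective hφ).toEquiv]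
    refine card_dvd_of_le ?_
    rintro _ ⟨r, rfl⟩
    exact mem_inf.2 ⟨act_mem_barD (hV := hV) (hRD r.2),
      (hT.linOn hS hN hsr hci hab hk hF hrep hp' r.2).lin _⟩

end Coord

omit hk in
include hV in
/-- The kernel of the action on the member of the family fixes no second point. -/
theorem fixN_inf_eq_bot : st a ⊓ centralizer (N a : Set G) ⊓ st b = ⊥ :=
  (eq_bot_iff_forall _).2 fun _ hd =>
    eq_one_of_fixN hS hN hsr hci hab hV (mem_inf.1 hd).1 (mem_inf.1 hd).2

end CfsgLib.Bender.Core.CSeven
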