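import Cfsg.Agent.Bender.CoreC7Prime
import Cfsg.Agent.FGSA.ThompsonNil
import Cfsg.Agent.OddLocal.UniquenessTools

/-!
The core of a strongly embedded subgroup, step C7, third part: consequences of a torus at a prime
`p`: the kernels of the actions of the point stabilizer on the involutions and on the member of the
family, and the `p`-local structure of the image in the automorphisms of the involutions.
-/

set_option autoImplicit false
set_option linter.unusedSectionVars false
set_option linter.style.haveILetI false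

namespace CfsgLib.Bender.Core.CSeven

open Subgroup
open CfsgLib.FusionLift (cj mem_cj card_cj)
open CfsgLib.Bender.GSide
open CfsgLib.Bender.Core.CSix (InvolComm vee mem_vee invol_mem_vee st_le_normalizer_vee)

universe u

variable {G : Type u} [Group G] [Finite G] {H : Subgroup G} {q : ℕ} {N : G ⧸ H → Subgroup G}

/-- The action of the stabilizer of a point on the member of the family at it. -/
def actN (hN : Family q N) (a : G ⧸ H) : st a →* MulAut (N a) :=
  (normalizerMonoidHom (N a)).comp (Subgroup.inclusion (hN.st_le_normalizer a))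

theorem actN_apply (hN : Family q N) {a : G ⧸ H} (g : st a) (z : N a) :
    ((actN hN a g z : N a) : G) = g * z * (g : G)⁻¹ := rfl

theorem actN_eq_one (hN : Family q N) {a : G ⧸ H} {g : st a} :
    actN hN a g = 1 ↔ (g : G) ∈ centralizer (N a : Set G) := by
  constructor
  · intro h
    refine mem_centralizer_iff.2 fun v hv => ?_
    have h1 := actN_apply hN g (⟨v, hv⟩ : N a)
    rw [h, MulAut.one_apply] at h1
    exact (mul_inv_eq_iff_eq_mul.1 h1.symm).symm
  · intro h
    refine MulEquiv.ext fun v => Subtype.ext ?_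
    rw [actN_apply, MulAut.one_apply, ← mem_centralizer_iff.1 h v v.2, mul_inv_cancel_right]

section Normal

variable {a : G ⧸ H}

theorem st_le_normalizer_kerV (hV : InvolComm H) :
    st a ≤ normalizer ((st a ⊓ centralizer (vee hV a : Set G) : Subgroup G) : Set G) :=
  fun _ hg => mem_norm_iff.2 (cj_eq_of_le (cj_le_iff.2 fun _ hd => mem_inf.2
    ⟨mul_mem (mul_mem hg (mem_inf.1 hd).1) (inv_mem hg),
      conj_mem_centralizer_vee hg (mem_inf.1 hd).2⟩) le_rfl)

theorem conj_mem_centralizer_member (hN : Family q N) {g d : G} (hg : g ∈ st a)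
    (hd : d ∈ centralizer (N a : Set G)) : g * d * g⁻¹ ∈ centralizer (N a : Set G) := by
  refine mem_centralizer_iff.2 fun v hv => ?_
  have hv' : g⁻¹ * v * g ∈ N a := by
    simpa using (mem_normalizer_iff.1 (hN.st_le_normalizer a (inv_mem hg)) v).1 hv
  have h := CSix.conj_commute (g := g)
    (show Commute d (g⁻¹ * v * g) from (mem_centralizer_iff.1 hd _ hv').symm)
  rw [show g * (g⁻¹ * v * g) * g⁻¹ = v by group] at h
  exact h.symm.eq

theorem st_le_normalizer_fixN (hN : Family q N) :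
    st a ≤ normalizer ((st a ⊓ centralizer (N a : Set G) : Subgroup G) : Set G) :=
  fun _ hg => mem_norm_iff.2 (cj_eq_of_le (cj_le_iff.2 fun _ hd => mem_inf.2
    ⟨mul_mem (mul_mem hg (mem_inf.1 hd).1) (inv_mem hg),
      conj_mem_centralizer_member hN hg (mem_inf.1 hd).2⟩) le_rfl)

end Normal

variable {p : ℕ} [Fact p.Prime] {hV : InvolComm H} {a b : G ⧸ H} {R : Subgroup G} {u y : G}

theorem Torus.mem_st (hT : Torus hV N a b p R u y) : y ∈ st a :=
  (mem_inf.1 (hT.syl.1 hT.mem)).1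

theorem Torus.commute (hT : Torus hV N a b p R u y) {c d : G} (hc : c ∈ R) (hd : d ∈ R) :
    Commute c d := by
  obtain ⟨g, hg⟩ := hT.cyc.exists_generator
  obtain ⟨i, hi⟩ := hg ⟨c, hc⟩
  obtain ⟨j, hj⟩ := hg ⟨d, hd⟩
  have hi' : (g : G) ^ i = c := congrArg Subtype.val hi
  have hj' : (g : G) ^ j = d := congrArg Subtype.val hj
  rw [← hi', ← hj']
  exact Commute.zpow_zpow_self _ i j

theorem Torus.ne_one (hT : Torus hV N a b p R u y) : y ≠ 1 := fun h =>
  (Fact.out : p.Prime).ne_one (by rw [← hT.order, h, orderOf_one])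

variable (hS : Setting H) (hN : Family q N) (hsr : Semireg N) (hci : CentInv N) (hab : a ≠ b)
  (hdvd : p ∣ Nat.card {t : G // orderOf t = 2 ∧ t • a = a}) (hT : Torus hV N a b p R u y)
include hS hN hsr hci

include hab in
/-- Nothing nontrivial centralizing the member of the family at `a` fixes `a` and `b`. -/
theorem eq_one_of_fixN (hV : InvolComm H) {d : G} (hd : d ∈ st a ⊓ centralizer (N a : Set G))
    (hdb : d • b = b) : d = 1 :=
  CSix.centralizer_trivial hS hN hsr hV (caseI_all hS hV hN hsr hci) hab (mem_inf.1 hd).1 hdb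
    fun z hz => (mem_centralizer_iff.1 (mem_inf.1 hd).2 z hz).symm

include hab hdvd hT

theorem Torus.exists_conj_mem {s : G} (hs : s ∈ st a) (hso : orderOf s = p) :
    ∃ d ∈ st a, d * s * d⁻¹ ∈ R := by
  obtain ⟨d, hd, hdR⟩ := syl_conj
    ((caseI_all hS hV hN hsr hci p Fact.out (StrongEmbed.card_fix a ▸ hdvd)).top hS hab hT.syl)
    (zpowers_le.2 hs) (isPGroup_zpowers hso)
  exact ⟨d, hd, cj_le_iff.1 hdR s (mem_zpowers s)⟩

/-- The prime does not divide the kernel of the action on the involutions. -/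
theorem Torus.not_dvd_kerV :
    ¬ p ∣ Nat.card ↥(st a ⊓ centralizer (vee hV a : Set G)) := by
  intro h
  obtain ⟨⟨s, hs⟩, hso⟩ := exists_prime_orderOf_dvd_card' p h
  rw [Subgroup.orderOf_mk] at hso
  obtain ⟨d, hd, hdR⟩ := hT.exists_conj_mem hS hN hsr hci hab hdvd (mem_inf.1 hs).1 hso
  have h1 := (eq_bot_iff_forall _).1 hT.ker _
    (mem_inf.2 ⟨hdR, conj_mem_centralizer_vee hd (mem_inf.1 hs).2⟩)
  rw [conj_eq_one_iff] at h1
  rw [h1, orderOf_one] at hso
  exact (Fact.out : p.Prime).ne_one hso.symm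

/-- The prime does not divide the kernel of the action on the member of the family. -/
theorem Torus.not_dvd_fixN :
    ¬ p ∣ Nat.card ↥(st a ⊓ centralizer (N a : Set G)) := by
  intro h
  obtain ⟨⟨s, hs⟩, hso⟩ := exists_prime_orderOf_dvd_card' p h
  rw [Subgroup.orderOf_mk] at hso
  obtain ⟨d, hd, hdR⟩ := hT.exists_conj_mem hS hN hsr hci hab hdvd (mem_inf.1 hs).1 hso
  have h1 := eq_one_of_fixN hS hN hsr hci hab hV (d := d * s * d⁻¹)
    (mem_inf.2 ⟨mul_mem (mul_mem hd (mem_inf.1 hs).1) (inv_mem hd),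
      conj_mem_centralizer_member hN hd (mem_inf.1 hs).2⟩) (mem_inf.1 (hT.syl.1 hdR)).2
  rw [conj_eq_one_iff] at h1
  rw [h1, orderOf_one] at hso
  exact (Fact.out : p.Prime).ne_one hso.symm

theorem Torus.orderOf_ybar : orderOf (act hV a ⟨y, hT.mem_st⟩) = p := by
  refine orderOf_eq_prime ?_ fun h => hT.ne_one ?_
  · rw [← map_pow, ← map_one (act hV a)]
    congr 1
    exact Subtype.ext (show y ^ p = 1 by rw [← hT.order, pow_orderOf_eq_one])
  · exact (eq_bot_iff_forall _).1 hT.ker y (mem_inf.2 ⟨hT.mem, act_eq_one.1 h⟩)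

/-- An element normalizing the image of `⟨y⟩` comes from the two-point stabilizer. -/
theorem Torus.normalizer_le :
    (act hV a).range ⊓ normalizer (zpowers (act hV a ⟨y, hT.mem_st⟩) : Set (MulAut (vee hV a))) ≤
      barD hV a b := by
  intro φ hφ
  obtain ⟨⟨⟨h, hh⟩, rfl⟩, hn⟩ := mem_inf.1 hφ
  set K := st a ⊓ centralizer (vee hV a : Set G) with hK
  have hyK : zpowers y ≤ normalizer (K : Set G) :=
    (zpowers_le.2 hT.mem_st).trans (st_le_normalizer_kerV hV)
  set Y := zpowers y ⊔ K with hY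
  have hYa : Y ≤ st a := sup_le (zpowers_le.2 hT.mem_st) inf_le_left
  -- the conjugate of `y` lies in `Y`
  obtain ⟨i, hi⟩ := (mem_normalizer_iff.1 hn (act hV a ⟨y, hT.mem_st⟩)).1 (mem_zpowers _)
  have hmem : h * y * h⁻¹ ∈ Y := by
    have hc : h * y * h⁻¹ * (y ^ i)⁻¹ ∈ K := mem_inf.2
      ⟨mul_mem (mul_mem (mul_mem hh hT.mem_st) (inv_mem hh)) (inv_mem (zpow_mem hT.mem_st i)),
      (act_eq_one (g := (⟨h, hh⟩ : st a) * ⟨y, hT.mem_st⟩ * ⟨h, hh⟩⁻¹ *
        (⟨y, hT.mem_st⟩ ^ i)⁻¹)).1 (by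
          simp only [map_mul, map_inv, map_zpow]
          rw [mul_inv_eq_one]
          exact hi.symm)⟩
    rw [show h * y * h⁻¹ = h * y * h⁻¹ * (y ^ i)⁻¹ * y ^ i by group]
    exact mul_mem (mem_sup_right hc) (mem_sup_left (zpow_mem (mem_zpowers y) i))
  -- the subgroup `⟨y⟩` is a Sylow subgroup of `Y`
  have hsyl : Syl p Y (zpowers y) := by
    refine ⟨le_sup_left, isPGroup_zpowers hT.order, fun P hP hPp => ?_⟩
    obtain ⟨n, hn'⟩ := IsPGroup.iff_card.1 hPp
    have h1 : Nat.card P ∣ Nat.card (zpowers y) * Nat.card K :=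
      (card_dvd_of_le hP).trans (Solvable.card_sup_dvd hyK)
    have h2 : (Nat.card P).Coprime (Nat.card K) := by
      rw [hn']
      exact Nat.Coprime.pow_left _ ((Fact.out : p.Prime).coprime_iff_not_dvd.2
        (hT.not_dvd_kerV hS hN hsr hci hab hdvd))
    exact Nat.le_of_dvd Nat.card_pos (h2.dvd_of_dvd_mul_right h1)
  obtain ⟨d, hd, hdY⟩ := syl_conj hsyl (zpowers_le.2 hmem)
    (isPGroup_zpowers (by rw [Invol.orderOf_conj_eq, hT.order]))
  have h0 : d * h * y * (d * h)⁻¹ ∈ zpowers y := by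
    have := cj_le_iff.1 hdY _ (mem_zpowers _)
    rwa [show d * h * y * (d * h)⁻¹ = d * (h * y * h⁻¹) * d⁻¹ by group]
  obtain ⟨w, hw, c, hc, rfl⟩ := (Solvable.mem_sup_of_le_normalizer hyK).1 hd
  obtain ⟨j, rfl⟩ := hw
  set h' := y ^ j * c * h with hh'
  have hh'a : h' ∈ st a := mul_mem (hYa hd) hh
  -- it fixes `b`
  have hfix : ∀ r ∈ R, r • h' • b = h' • b := by
    intro r hr
    have h1 : Commute (h'⁻¹ * r * h') (h'⁻¹ * y * h') := by
      simpa using CSix.conj_commute (g := h'⁻¹) (hT.commute hr hT.mem)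
    obtain ⟨m, hm⟩ := CSix.mem_zpowers_symm (x := h'⁻¹ * y * h') (y := y)
      (by simpa using (Invol.orderOf_conj_eq h'⁻¹ y).trans hT.order) hT.order (by
        obtain ⟨l, hl⟩ := h0
        refine ⟨l, ?_⟩
        show (h'⁻¹ * y * h') ^ l = y
        have hl' : y ^ l = h' * y * h'⁻¹ := hl
        calc (h'⁻¹ * y * h') ^ l = (h'⁻¹ * y * h'⁻¹⁻¹) ^ l := by rw [inv_inv]
          _ = h'⁻¹ * y ^ l * h'⁻¹⁻¹ := by rw [conj_zpow]
          _ = y := by rw [hl']; group)
    have h2 : Commute (h'⁻¹ * r * h') y := by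
      have hm' : y ^ m = h'⁻¹ * y * h' := hm
      obtain ⟨l, hl⟩ := CSix.mem_zpowers_symm (x := y) (y := h'⁻¹ * y * h') hT.order
        (by simpa using (Invol.orderOf_conj_eq h'⁻¹ y).trans hT.order) ⟨m, hm'⟩
      exact hl ▸ h1.zpow_right l
    have h3 := (mem_inf.1 (hT.cent_le (mem_centralizer_singleton_iff.2 h2.eq))).2
    change (h'⁻¹ * r * h') • b = b at h3
    rwa [mul_smul, mul_smul, inv_smul_eq_iff] at h3
  have hb' : h' • b = b :=
    (caseI_all hS hV hN hsr hci p Fact.out (StrongEmbed.card_fix a ▸ hdvd) a b hab R hT.syl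
      (h' • b) hfix).resolve_left fun h => hab (smul_left_cancel h'
        ((show h' • a = a from hh'a).trans h.symm))
  have hmem' := act_mem_barD (hV := hV) (d := h') (mem_inf.2 ⟨hh'a, hb'⟩)
  have heq : act hV a ⟨h, hh⟩ = (act hV a ⟨y, hT.mem_st⟩ ^ j)⁻¹ * act hV a ⟨h', hh'a⟩ := by
    rw [show (⟨h', hh'a⟩ : st a) = ⟨y, hT.mem_st⟩ ^ j * ⟨c, (mem_inf.1 hc).1⟩ * ⟨h, hh⟩ from
      Subtype.ext rfl, map_mul, map_mul, map_zpow,
      act_eq_one.2 (show ((⟨c, (mem_inf.1 hc).1⟩ : st a) : G) ∈ _ from (mem_inf.1 hc).2),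
      mul_one, inv_mul_cancel_left]
  rw [heq]
  exact mul_mem (inv_mem (zpow_mem (act_mem_barD (hV := hV) (hT.syl.1 hT.mem)) j)) hmem'

/-- The `p`-subgroups of the image are cyclic. -/
theorem Torus.isCyclic_pgroup {P : Subgroup (MulAut (vee hV a))} (hP : P ≤ (act hV a).range)
    (hPp : IsPGroup p P) : IsCyclic P := by
  have htop := (caseI_all hS hV hN hsr hci p Fact.out (StrongEmbed.card_fix a ▸ hdvd)).top hS hab
    hT.syl
  obtain ⟨S, hS'⟩ := (hT.syl.2.1.comap_subtype : IsPGroup p (R.subgroupOf (st a))).exists_le_sylow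
  have hSR : (S : Subgroup (st a)) = R.subgroupOf (st a) := (eq_of_le_of_card_ge hS' (by
    show Nat.card (S : Subgroup (st a)) ≤ Nat.card (R.subgroupOf (st a))
    rw [Nat.card_congr (subgroupOfEquivOfLe htop.1).toEquiv,
      ← card_map_of_injective (st a).subtype_injective (K := (S : Subgroup (st a)))]
    exact htop.2.2 _ (map_subtype_le _) (S.isPGroup'.map _))).symm
  haveI : IsCyclic (S : Subgroup (st a)) := by
    haveI := hT.cyc
    rw [hSR]
    exact isCyclic_of_injective (subgroupOfEquivOfLe htop.1).toMonoidHom (MulEquiv.injective _)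
  set f := (act hV a).rangeRestrict
  let S' := S.mapSurjective (f := f) (MonoidHom.rangeRestrict_surjective _)
  haveI : IsCyclic (S' : Subgroup (act hV a).range) :=
    isCyclic_of_surjective (f.subgroupMap S) (MonoidHom.subgroupMap_surjective f _)
  obtain ⟨P', hP'⟩ := (hPp.comap_subtype : IsPGroup p (P.subgroupOf (act hV a).range)).exists_le_sylow
  haveI : IsCyclic (P' : Subgroup (act hV a).range) :=
    isCyclic_of_injective (P'.equiv S').toMonoidHom (MulEquiv.injective _)
  haveI : IsCyclic (P.subgroupOf (act hV a).range) :=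
    isCyclic_of_injective (Subgroup.inclusion hP') (inclusion_injective hP')
  exact isCyclic_of_injective (subgroupOfEquivOfLe hP).symm.toMonoidHom (MulEquiv.injective _)

/-- The kernel of the action on the member of the family is nilpotent. -/
theorem Torus.isNilpotent_fixN :
    Group.IsNilpotent ↥(st a ⊓ centralizer (N a : Set G)) := by
  set L := st a ⊓ centralizer (N a : Set G) with hL
  have hyn : y ∈ normalizer (L : Set G) := st_le_normalizer_fixN hN hT.mem_st
  refine ThompsonNil.isNilpotent (Fact.out : p.Prime) (normalizerMonoidHom L ⟨y, hyn⟩) ?_ ?_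
  · rw [← map_pow, ← map_one (normalizerMonoidHom L)]
    congr 1
    exact Subtype.ext (show y ^ p = 1 by rw [← hT.order, pow_orderOf_eq_one])
  · intro l hl
    have h1 : y * (l : G) * y⁻¹ = l := congrArg Subtype.val hl
    refine Subtype.ext (eq_one_of_fixN hS hN hsr hci hab hV l.2 ?_)
    exact (mem_inf.1 (hT.cent_le (mem_centralizer_singleton_iff.2
      (mul_inv_eq_iff_eq_mul.1 h1).symm))).2

omit hab hdvd hT in
theorem vee_le_fixN (hV : InvolComm H) (a : G ⧸ H) :
    vee hV a ≤ st a ⊓ centralizer (N a : Set G) := by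
  intro v hv
  refine mem_inf.2 ⟨hv.2, mem_centralizer_iff.2 fun z hz => ?_⟩
  by_cases hv1 : v = 1
  · rw [hv1, one_mul, mul_one]
  · exact (hci a v (Invol.orderOf_eq_two hv.1 hv1) hv.2 z hz).symm.eq

/-- The kernel of the action on the member of the family centralizes the involutions. -/
theorem Torus.fixN_le :
    st a ⊓ centralizer (N a : Set G) ≤ centralizer (vee hV a : Set G) := by
  set L := st a ⊓ centralizer (N a : Set G) with hL
  haveI : Group.IsNilpotent L := hT.isNilpotent_fixN hS hN hsr hci hab hdvd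
  have hle : vee hV a ≤ L := vee_le_fixN hS hN hsr hci hV a
  haveI : ((vee hV a).subgroupOf L).Normal := (normal_subgroupOf_iff_le_normalizer hle).2
    (inf_le_left.trans (st_le_normalizer_vee hV a))
  obtain ⟨v, hv, hv1⟩ : ∃ v ∈ (vee hV a).subgroupOf L ⊓ center L, v ≠ 1 := by
    by_contra h
    push Not at h
    refine PGroupBasic.inf_center_ne_bot ((vee hV a).subgroupOf L) (fun h0 => ?_)
      ((eq_bot_iff_forall _).2 h)
    obtain ⟨s, -, hs, -, -, hsa, -⟩ := CSix.exists_two hS a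
    have hs' : s ∈ vee hV a := invol_mem_vee hs hsa
    have h1 := (eq_bot_iff_forall _).1 h0 ⟨s, hle hs'⟩ hs'
    have h2 : s = 1 := congrArg Subtype.val h1
    rw [h2, orderOf_one] at hs
    exact absurd hs (by norm_num)
  have hvv : (v : G) ∈ vee hV a := hv.1
  have hv2 : orderOf (v : G) = 2 := Invol.orderOf_eq_two hvv.1 fun h => hv1 (Subtype.ext h)
  intro l hl
  refine mem_centralizer_vee fun t ht hta => ?_
  obtain ⟨d, hd, rfl⟩ := (transOdd_pair hS.se hab).2.2 (v : G) t hvv.2 hv2 hta ht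
  have hda : d⁻¹ ∈ st a := inv_mem (mem_inf.1 hd).1
  have hl' : d⁻¹ * l * d⁻¹⁻¹ ∈ L :=
    (mem_normalizer_iff.1 (st_le_normalizer_fixN hN hda) l).1 hl
  have h := CSix.conj_commute (g := d)
    (show Commute (d⁻¹ * l * d⁻¹⁻¹) (v : G) from
      congrArg Subtype.val (mem_center_iff.1 hv.2 ⟨_, hl'⟩))
  rwa [show d * (d⁻¹ * l * d⁻¹⁻¹) * d⁻¹ = l by group] at h

/-- An element of a `p'`-subgroup normalized by `y`, acting on the member of the family in a way
commuting with `y`, acts there as an element commuting with `y`. -/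
theorem Torus.exists_centralized {K : Subgroup G} (hK : K ≤ st a)
    (hyK : y ∈ normalizer (K : Set G)) (hcop : ¬ p ∣ Nat.card K) {k : G} (hk : k ∈ K)
    (hc : Commute (actN hN a ⟨k, hK hk⟩) (actN hN a ⟨y, hT.mem_st⟩)) :
    ∃ c ∈ K, c ∈ st a ⊓ st b ∧ Commute y c ∧ k⁻¹ * c ∈ centralizer (N a : Set G) := by
  set L := K ⊓ centralizer (N a : Set G) with hL
  have hA : zpowers y ≤ normalizer (K : Set G) := zpowers_le.2 hyK
  have hAL : zpowers y ≤ normalizer (L : Set G) := fun g hg =>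
    mem_norm_iff.2 (cj_eq_of_le (cj_le_iff.2 fun d hd => mem_inf.2
      ⟨(mem_normalizer_iff.1 (hA hg) d).1 (mem_inf.1 hd).1,
        conj_mem_centralizer_member hN (zpowers_le.2 hT.mem_st hg) (mem_inf.1 hd).2⟩) le_rfl)
  have hco : (Nat.card (zpowers y)).Coprime (Nat.card K) := by
    rw [Nat.card_zpowers, hT.order]
    exact (Fact.out : p.Prime).coprime_iff_not_dvd.2 hcop
  obtain ⟨c, hc', hkc⟩ := CoprimeAct.exists_centralizing_mem_coset hA hco inf_le_left hAL
    (Or.inl inferInstance) hk (fun g hg => by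
      obtain ⟨i, rfl⟩ := hg
      refine mem_inf.2 ⟨mul_mem (inv_mem hk)
        ((mem_normalizer_iff.1 (hA (zpow_mem (mem_zpowers y) i)) k).1 hk), ?_⟩
      refine (actN_eq_one hN (g := (⟨k, hK hk⟩ : st a)⁻¹ *
        (⟨y, hT.mem_st⟩ ^ i * ⟨k, hK hk⟩ * (⟨y, hT.mem_st⟩ ^ i)⁻¹))).1 ?_
      simp only [map_mul, map_inv, map_zpow]
      rw [(hc.zpow_right i).symm.mul_inv_cancel, inv_mul_cancel])
  have hcy : Commute y c := mem_centralizer_iff.1 (mem_inf.1 hc').2 y (mem_zpowers y)
  exact ⟨c, (mem_inf.1 hc').1, hT.cent_le (mem_centralizer_singleton_iff.2 hcy.eq.symm), hcy,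
    (mem_inf.1 hkc).2⟩

/-- The elements commuting with `y` in the action of such a subgroup form a group of odd order. -/
theorem Torus.odd_centralized {K : Subgroup G} (hK : K ≤ st a)
    (hyK : y ∈ normalizer (K : Set G)) (hcop : ¬ p ∣ Nat.card K) :
    Odd (Nat.card ↥((K.subgroupOf (st a)).map (actN hN a) ⊓
      centralizer ({actN hN a ⟨y, hT.mem_st⟩} : Set (MulAut (N a))))) := by
  haveI : Fact (Nat.Prime 2) := ⟨Nat.prime_two⟩
  by_contra hev
  obtain ⟨⟨φ, hφ⟩, hφ2⟩ := exists_prime_orderOf_dvd_card' 2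
    (even_iff_two_dvd.1 (Nat.not_odd_iff_even.1 hev))
  rw [Subgroup.orderOf_mk] at hφ2
  obtain ⟨⟨⟨k, hka⟩, hk, rfl⟩, hφy⟩ := mem_inf.1 hφ
  obtain ⟨c, -, hcD, -, hkc⟩ := hT.exists_centralized hS hN hsr hci hab hdvd hK hyK hcop
    (mem_subgroupOf.1 hk) (mem_centralizer_singleton_iff.1 hφy)
  have heq : actN hN a ⟨k, hka⟩ = actN hN a ⟨c, (mem_inf.1 hcD).1⟩ := by
    refine (inv_mul_eq_one.1 ?_)
    rw [← map_inv, ← map_mul]
    exact (actN_eq_one hN).2 hkc
  have hodd : Odd (orderOf (actN hN a ⟨c, (mem_inf.1 hcD).1⟩)) := by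
    refine ((odd_pair hS.se hab).of_dvd_nat (Subgroup.orderOf_dvd_natCard _ hcD)).of_dvd_nat ?_
    refine (orderOf_map_dvd (actN hN a) _).trans ?_
    rw [Subgroup.orderOf_mk]
  rw [← heq, hφ2] at hodd
  exact absurd hodd (by decide)

theorem Torus.fpf_actN (z : N a) (hz : actN hN a ⟨y, hT.mem_st⟩ z = z) : z = 1 :=
  Subtype.ext (hT.fpfN z z.2 (mul_inv_eq_iff_eq_mul.1
    ((actN_apply hN ⟨y, hT.mem_st⟩ z).symm.trans (congrArg Subtype.val hz))))

theorem Torus.orderOf_actN : orderOf (actN hN a ⟨y, hT.mem_st⟩) = p := by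
  refine orderOf_eq_prime ?_ fun h => ?_
  · rw [← map_pow, ← map_one (actN hN a)]
    congr 1
    exact Subtype.ext (show y ^ p = 1 by rw [← hT.order, pow_orderOf_eq_one])
  · obtain ⟨z, hz, hz1⟩ := hN.exists_ne_one a
    exact hz1 (congrArg Subtype.val
      (hT.fpf_actN hS hN hsr hci hab hdvd ⟨z, hz⟩ (by rw [h, MulAut.one_apply])))

theorem Torus.ybar_mem_normalizer {K : Subgroup G} (hyK : y ∈ normalizer (K : Set G)) :
    actN hN a ⟨y, hT.mem_st⟩ ∈
      normalizer ((K.subgroupOf (st a)).map (actN hN a) : Set (MulAut (N a))) := by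
  refine le_normalizer_map (actN hN a) (mem_map_of_mem _ (mem_normalizer_iff.2 fun g => ?_))
  rw [mem_subgroupOf, mem_subgroupOf]
  exact mem_normalizer_iff.1 hyK (g : G)

omit hS hN hsr hci hab hdvd hT in
theorem card_map_subgroupOf_dvd {L : Type*} [Group L] {K S : Subgroup G} (hK : K ≤ S) (f : S →* L) :
    Nat.card ↥((K.subgroupOf S).map f) ∣ Nat.card K := by
  refine (card_map_dvd _ f).trans ?_
  rw [Nat.card_congr (subgroupOfEquivOfLe hK).toEquiv]

/-- A `2`-subgroup of the image normalized by the image of `y` is trivial. -/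
theorem Torus.two_eq_bot {U : Subgroup (MulAut (vee hV a))} (hU : U ≤ (act hV a).range)
    (hU2 : IsPGroup 2 U) (hyU : act hV a ⟨y, hT.mem_st⟩ ∈ normalizer (U : Set _)) : U = ⊥ := by
  haveI : Fact (Nat.Prime 2) := ⟨Nat.prime_two⟩
  letI : CommGroup (N a) :=
    { (inferInstance : Group (N a)) with
      mul_comm := fun z w => Subtype.ext (hN.comm a z z.2 w w.2) }
  haveI : Fact q.Prime := ⟨hN.prime⟩
  have hp2 : p ≠ 2 := prime_ne_two hS hV Fact.out hdvd
  set K := (U.comap (act hV a)).map (st a).subtype with hKdef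
  have hKa : K ≤ st a := map_subtype_le _
  have hKmem : ∀ {g : G} (hg : g ∈ st a), g ∈ K ↔ act hV a ⟨g, hg⟩ ∈ U := fun {g} hg => by
    rw [hKdef, mem_map]
    exact ⟨fun ⟨w, hw, hwg⟩ => by
      have : w = ⟨g, hg⟩ := Subtype.ext hwg
      exact this ▸ hw, fun h => ⟨_, h, rfl⟩⟩
  have hcop : ¬ p ∣ Nat.card K := by
    intro h
    obtain ⟨⟨s, hs⟩, hso⟩ := exists_prime_orderOf_dvd_card' p h
    rw [Subgroup.orderOf_mk] at hso
    have hsU := (hKmem (hKa hs)).1 hs
    obtain ⟨n, hn⟩ := exists_pow_eq_one hU2 hsU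
    have hs1 : act hV a ⟨s, hKa hs⟩ ^ p = 1 := by
      rw [← map_pow, ← map_one (act hV a)]
      congr 1
      exact Subtype.ext (show s ^ p = 1 by rw [← hso, pow_orderOf_eq_one])
    have h1 : act hV a ⟨s, hKa hs⟩ = 1 := by
      rw [← pow_one (act hV a ⟨s, hKa hs⟩),
        ← (((Nat.coprime_primes Fact.out Nat.prime_two).2 hp2).pow_right n :
          Nat.gcd p (2 ^ n) = 1)]
      exact pow_gcd_eq_one.2 ⟨hs1, hn⟩
    refine hT.not_dvd_kerV hS hN hsr hci hab hdvd (hso ▸ Subgroup.orderOf_dvd_natCard _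
      (mem_inf.2 ⟨hKa hs, act_eq_one.1 h1⟩))
  have hyK : y ∈ normalizer (K : Set G) := by
    refine mem_norm_iff.2 (cj_eq_of_le (cj_le_iff.2 fun g hg => ?_) le_rfl)
    refine (hKmem (mul_mem (mul_mem hT.mem_st (hKa hg)) (inv_mem hT.mem_st))).2 ?_
    have h := (mem_normalizer_iff.1 hyU _).1 ((hKmem (hKa hg)).1 hg)
    rwa [← map_inv, ← map_mul, ← map_mul] at h
  have hco : (Nat.card (zpowers y)).Coprime (Nat.card K) := by
    rw [Nat.card_zpowers, hT.order]
    exact (Fact.out : p.Prime).coprime_iff_not_dvd.2 hcop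
  obtain ⟨P, hP⟩ := CoprimeAct.exists_invariant_sylow (zpowers_le.2 hyK) hco
    (Or.inl inferInstance) 2
  set T := (P : Subgroup K).map K.subtype
  have hTK : T ≤ K := map_subtype_le _
  have hTa : T ≤ st a := hTK.trans hKa
  have hTp : IsPGroup 2 T := P.isPGroup'.map _
  have hTcop : ¬ p ∣ Nat.card T := fun h => hcop (h.trans (card_dvd_of_le hTK))
  have hyT : y ∈ normalizer (T : Set G) := hP (mem_zpowers y)
  -- `T` centralizes the member of the family
  set Ti := (T.subgroupOf (st a)).map (actN hN a)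
  have hodd : Odd (Nat.card Ti) := FpfCentral.odd_card (q := q) (r := p)
    (fun h => Nat.not_even_iff_odd.2 hN.odd (h ▸ even_two))
    (CSix.ne_q hS hN hsr hV (caseI_all hS hV hN hsr hci) hab Fact.out hdvd)
    (fun z => Subtype.ext (hN.exp a z z.2)) (hT.orderOf_actN hS hN hsr hci hab hdvd)
    (hT.ybar_mem_normalizer hS hN hsr hci hab hdvd hyT)
    (fun h => hTcop (h.trans (card_map_subgroupOf_dvd hTa _)))
    (fun z hz => hT.fpf_actN hS hN hsr hci hab hdvd z hz)
    (hT.odd_centralized hS hN hsr hci hab hdvd hTa hyT hTcop)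
  have hTi : Ti = ⊥ := by
    obtain ⟨n, hn⟩ := IsPGroup.iff_card.1 ((hTp.comap_subtype :
      IsPGroup 2 (T.subgroupOf (st a))).map (actN hN a))
    refine eq_bot_of_card_eq _ ?_
    rcases Nat.eq_zero_or_pos n with rfl | hn0
    · exact hn
    · exact absurd (hn ▸ hodd) (Nat.not_odd_iff_even.2 (even_two.pow_of_ne_zero hn0.ne'))
  have hTV : ∀ g, ∀ hg : g ∈ T, act hV a ⟨g, hTa hg⟩ = 1 := fun g hg => by
    refine act_eq_one.2 (hT.fixN_le hS hN hsr hci hab hdvd (mem_inf.2 ⟨hTa hg, ?_⟩))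
    exact (actN_eq_one hN (g := ⟨g, hTa hg⟩)).1 ((eq_bot_iff_forall _).1 hTi _
      (mem_map_of_mem _ (mem_subgroupOf.2 hg)))
  set f : K →* MulAut (vee hV a) := (act hV a).comp (Subgroup.inclusion hKa)
  have hrange : f.range = U := by
    refine le_antisymm ?_ fun φ hφ => ?_
    · rintro _ ⟨g, rfl⟩
      exact (hKmem (hKa g.2)).1 g.2
    · obtain ⟨g, rfl⟩ := hU hφ
      exact ⟨⟨g, (hKmem g.2).2 hφ⟩, rfl⟩
  have hker : (P : Subgroup K) ≤ f.ker := fun g hg =>
    MonoidHom.mem_ker.2 (hTV g (mem_map_of_mem K.subtype hg))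
  have hdvdP : Nat.card U ∣ (P : Subgroup K).index := by
    rw [← hrange, ← index_ker]
    exact index_dvd_of_le hker
  refine eq_bot_of_card_eq _ ?_
  obtain ⟨n, hn⟩ := IsPGroup.iff_card.1 hU2
  rcases Nat.eq_zero_or_pos n with rfl | hn0
  · exact hn
  · exact absurd ((dvd_pow_self 2 hn0.ne').trans (hn ▸ hdvdP)) P.not_dvd_index

/-- A subgroup of odd prime power order of the image normalized by the image of `y` is centralized
by it. -/
theorem Torus.odd_le_centralizer {s : ℕ} [Fact s.Prime] (hs : s ≠ 2) (hsp : s ≠ p)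
    {U : Subgroup (MulAut (vee hV a))} (hUs : IsPGroup s U)
    (hyU : act hV a ⟨y, hT.mem_st⟩ ∈ normalizer (U : Set _)) :
    U ≤ centralizer ({act hV a ⟨y, hT.mem_st⟩} : Set (MulAut (vee hV a))) := by
  haveI : Fact (Nat.Prime 2) := ⟨Nat.prime_two⟩
  haveI : Finite (MulAut (vee hV a)) := Finite.of_injective
    (fun φ : MulAut (vee hV a) => (φ : vee hV a → vee hV a)) DFunLike.coe_injective
  haveI := FpfCentral.finite_hol (V := vee hV a)
  have hp2 : p ≠ 2 := prime_ne_two hS hV Fact.out hdvd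
  set ℓ := act hV a ⟨y, hT.mem_st⟩
  have hfpf : ∀ v, ℓ v = v → v = 1 := fun v hv => Subtype.ext (hT.fpfV v v.2
    (mul_inv_eq_iff_eq_mul.1 ((act_apply ⟨y, hT.mem_st⟩ v).symm.trans (congrArg Subtype.val hv))))
  set κ : MulAut (vee hV a) →* (vee hV a) ⋊[MonoidHom.id (MulAut (vee hV a))] MulAut (vee hV a) :=
    SemidirectProduct.inr
  have key := CfsgLib.OddLocal.FixedLine.fpf_centralizes (p := 2) (s := s) (r := p) hs hp2 hs hp2
    (Ne.symm hsp)
    (FpfCentral.elementary (fun v : vee hV a => by rw [sq]; exact sq_vee hV a v)) (x := κ ℓ)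
    ((orderOf_injective κ SemidirectProduct.inr_injective ℓ).trans
      (hT.orderOf_ybar hS hN hsr hci hab hdvd))
    (OddFixed.mem_normalizer_inl ℓ) (FpfCentral.fixed_inr hfpf) (Q := U.map κ) (hUs.map κ)
    (by rintro _ ⟨w, -, rfl⟩; exact OddFixed.mem_normalizer_inl w)
    ((eq_bot_iff_forall _).2 fun w hw => by
      obtain ⟨w, -, rfl⟩ := hw.1
      rw [FpfCentral.eq_one_of_centralizes hw.2, map_one])
    (FpfCentral.inr_mem_normalizer hyU)
  intro φ hφ
  refine mem_centralizer_singleton_iff.2 (SemidirectProduct.inr_injective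
    (φ := MonoidHom.id (MulAut (vee hV a))) ?_)
  rw [map_mul, map_mul]
  exact mem_centralizer_singleton_iff.1 (key (mem_map_of_mem κ hφ))

/-- The kernel of the action on the involutions acts on the member of the family centralizing
`y`. -/
theorem Torus.kerV_commute {k : G} (hk : k ∈ st a ⊓ centralizer (vee hV a : Set G)) :
    Commute (actN hN a ⟨k, (mem_inf.1 hk).1⟩) (actN hN a ⟨y, hT.mem_st⟩) := by
  letI : CommGroup (N a) :=
    { (inferInstance : Group (N a)) with
      mul_comm := fun z w => Subtype.ext (hN.comm a z z.2 w w.2) }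
  haveI : Fact q.Prime := ⟨hN.prime⟩
  set K := st a ⊓ centralizer (vee hV a : Set G) with hK
  have hKa : K ≤ st a := inf_le_left
  have hyK : y ∈ normalizer (K : Set G) := st_le_normalizer_kerV hV hT.mem_st
  have hcop := hT.not_dvd_kerV hS hN hsr hci hab hdvd
  set Ki := (K.subgroupOf (st a)).map (actN hN a) with hKi
  -- no normal `q`-subgroup
  have hq0 : Cfsg.pCore q Ki = ⊥ := by
    set P := (Cfsg.pCore q Ki).map Ki.subtype with hP
    have hPp : IsPGroup q P := (Solvable.isPGroup_pCore q).map _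
    have hPn : ∀ g : st a, actN hN a g ∈ normalizer (P : Set (MulAut (N a))) := fun g =>
      CfsgLib.OddLocal.UTool.normalizer_le_normalizer_map Ki _
        (characteristic_iff_map_le.2 fun φ => Solvable.le_pCore _
          ((Solvable.pCore_spec q).1.map φ.toMonoidHom φ.surjective)
          ((Solvable.pCore_spec q).2.map _))
        (le_normalizer_map (actN hN a) (mem_map_of_mem _ (mem_normalizer_iff.2 fun w => by
          rw [mem_subgroupOf, mem_subgroupOf]
          exact mem_normalizer_iff.1 (st_le_normalizer_kerV hV g.2) (w : G))))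
    let W : Subgroup (N a) :=
      { carrier := {z | ∀ φ ∈ P, φ z = z}
        one_mem' := fun φ _ => map_one φ
        mul_mem' := fun hz hw φ hφ => by rw [map_mul, hz φ hφ, hw φ hφ]
        inv_mem' := fun hz φ hφ => by rw [map_inv, hz φ hφ] }
    have hdN : q ∣ Nat.card (N a) := by
      obtain ⟨n, hn⟩ := IsPGroup.iff_card.1 (hN.isPGroup a)
      rw [hn]
      refine dvd_pow_self q fun h0 => hN.ne_bot a (eq_bot_of_card_eq _ (by rw [hn, h0, pow_zero]))
    obtain ⟨z, hz, hz1⟩ := hPp.exists_fixed_point_of_prime_dvd_card_of_fixed_point (N a) hdN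
      (a := (1 : N a)) (fun φ => map_one (φ : MulAut (N a)))
    have hW : W.map (N a).subtype = N a := by
      refine hN.minimal a _ (map_subtype_le _) (fun h => hz1 ?_) fun g hg => ?_
      · exact (Subtype.ext ((eq_bot_iff_forall _).1 h z ⟨z, fun φ hφ => hz ⟨φ, hφ⟩, rfl⟩)).symm
      · refine mem_norm_iff.2 (cj_eq_of_le (cj_le_iff.2 ?_) le_rfl)
        rintro _ ⟨w, hw, rfl⟩
        refine ⟨actN hN a ⟨g, hg⟩ w, fun φ hφ => ?_, rfl⟩
        set γ := actN hN a ⟨g, hg⟩
        have hφ' : γ⁻¹ * φ * γ ∈ P := by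
          simpa using (mem_normalizer_iff.1 (inv_mem (hPn ⟨g, hg⟩)) φ).1 hφ
        calc φ (γ w) = γ ((γ⁻¹ * φ * γ) w) := by
              rw [MulAut.mul_apply, MulAut.mul_apply, MulAut.apply_inv_self]
          _ = γ w := by rw [hw _ hφ']
    refine (eq_bot_iff_forall _).2 fun φ hφ => Subtype.ext (MulEquiv.ext fun w => ?_)
    obtain ⟨w', hw', hww⟩ := (hW.ge w.2 : (w : G) ∈ W.map (N a).subtype)
    have := hw' (φ : MulAut (N a)) (mem_map_of_mem Ki.subtype hφ)
    rwa [Subtype.ext (show (w' : G) = w from hww)] at this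
  have h := FpfCentral.le_centralizer (q := q) (r := p)
    (fun h => Nat.not_even_iff_odd.2 hN.odd (h ▸ even_two)) (prime_ne_two hS hV Fact.out hdvd)
    (CSix.ne_q hS hN hsr hV (caseI_all hS hV hN hsr hci) hab Fact.out hdvd)
    (fun z => Subtype.ext (hN.exp a z z.2)) (hT.orderOf_actN hS hN hsr hci hab hdvd)
    (hT.ybar_mem_normalizer hS hN hsr hci hab hdvd hyK)
    (fun h => hcop (h.trans (card_map_subgroupOf_dvd hKa _)))
    (fun z hz => hT.fpf_actN hS hN hsr hci hab hdvd z hz)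
    (hT.odd_centralized hS hN hsr hci hab hdvd hKa hyK hcop) hq0
  exact mem_centralizer_singleton_iff.1 (h (mem_map_of_mem _ (mem_subgroupOf.2 hk)))

/-- The kernel of the action on the involutions, element form. -/
theorem Torus.kerV_exists {h : G} (hh : h ∈ st a ⊓ centralizer (vee hV a : Set G)) :
    ∃ l ∈ st a ⊓ centralizer (N a : Set G),
      ∃ d ∈ st a ⊓ st b ⊓ centralizer (vee hV a : Set G), Commute y d ∧ l * d = h := by
  obtain ⟨c, hcK, hcD, hcy, hhc⟩ := hT.exists_centralized hS hN hsr hci hab hdvd inf_le_left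
    (st_le_normalizer_kerV hV hT.mem_st) (hT.not_dvd_kerV hS hN hsr hci hab hdvd) hh
    (hT.kerV_commute hS hN hsr hci hab hdvd hh)
  have hha := (mem_inf.1 hh).1
  have hca := (mem_inf.1 hcD).1
  refine ⟨h * c⁻¹, mem_inf.2 ⟨mul_mem hha (inv_mem hca), ?_⟩, c,
    mem_inf.2 ⟨hcD, (mem_inf.1 hcK).2⟩, hcy, inv_mul_cancel_right h c⟩
  rw [show h * c⁻¹ = h * (h⁻¹ * c)⁻¹ * h⁻¹ by group]
  exact conj_mem_centralizer_member hN hha (inv_mem hhc)

/-- The kernel of the action on the involutions. -/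
theorem Torus.kerV_eq : st a ⊓ centralizer (vee hV a : Set G) =
    (st a ⊓ centralizer (N a : Set G)) ⊔ (st a ⊓ st b ⊓ centralizer (vee hV a : Set G)) := by
  refine le_antisymm (fun h hh => ?_) (sup_le (le_inf inf_le_left
    (hT.fixN_le hS hN hsr hci hab hdvd)) (inf_le_inf_right _ inf_le_left))
  obtain ⟨l, hl, d, hd, -, rfl⟩ := hT.kerV_exists hS hN hsr hci hab hdvd hh
  exact mul_mem (mem_sup_left hl) (mem_sup_right hd)

/-- The element `y` centralizes the kernel of the action of the two-point stabilizer on the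
involutions. -/
theorem Torus.commute_kerD {d : G}
    (hd : d ∈ st a ⊓ st b ⊓ centralizer (vee hV a : Set G)) : Commute y d := by
  obtain ⟨l, hl, d', hd', hyd', he⟩ := hT.kerV_exists hS hN hsr hci hab hdvd
    (mem_inf.2 ⟨(mem_inf.1 (mem_inf.1 hd).1).1, (mem_inf.1 hd).2⟩)
  have hlb : l • b = b := by
    have h1 : l = d * d'⁻¹ := eq_mul_inv_of_mul_eq he
    rw [h1, mul_smul, inv_smul_eq_iff.2 (show d' • b = b from (mem_inf.1 (mem_inf.1 hd').1).2).symm]
    exact (mem_inf.1 (mem_inf.1 hd).1).2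
  rw [eq_one_of_fixN hS hN hsr hci hab hV hl hlb, one_mul] at he
  exact he ▸ hyd'

end CfsgLib.Bender.Core.CSeven
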