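import Cfsg.Agent.Bender.CoreV

/-!
The core of a strongly embedded subgroup, step C7, second part: for a prime `p` dividing the number
of involutions at a point, at which the two-point stabilizer acts linearly, a Sylow `p`-subgroup of
the two-point stabilizer is cyclic, inverted by a swapper and fixed-point-free.
-/

set_option autoImplicit false
set_option linter.unusedSectionVars false
set_option linter.style.haveILetI false

namespace CfsgLib.Bender.Core.CSeven

open Subgroup
open CfsgLib.FusionLift (cj mem_cj card_cj)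
open CfsgLib.Bender.GSide
open CfsgLib.Bender.Core.CSix (InvolComm vee mem_vee invol_mem_vee st_le_normalizer_vee)
open CfsgLib.Bender.Semilinear (Lin linPart)
open CfsgLib.Bender.KSix (Rep)

universe u

variable {G : Type u} [Group G] [Finite G] {H : Subgroup G}

/-- At the prime `p` the two-point stabilizer acts linearly: on elements of order `p` and on
inverted `p`-elements. -/
def LinAt {hV : InvolComm H} {a : G ⧸ H} {F : Type} [Field F] [Finite F]
    (e : Additive (vee hV a) ≃+ F) (b : G ⧸ H) (p : ℕ) : Prop :=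
  (∀ d ∈ st a ⊓ st b, orderOf d = p → LinOn e d) ∧
    ∀ u : G, orderOf u = 2 → u • a = b → ∀ d ∈ st a ⊓ st b, ∀ n : ℕ, d ^ p ^ n = 1 →
      u * d * u⁻¹ = d⁻¹ → LinOn e d

/-- A Sylow `p`-subgroup `R` of a two-point stabilizer, inverted by the swapper `u`, with its
element `y` of order `p`. -/
structure Torus (hV : InvolComm H) (N : G ⧸ H → Subgroup G) (a b : G ⧸ H) (p : ℕ)
    (R : Subgroup G) (u y : G) : Prop where
  syl : Syl p (st a ⊓ st b) R
  u_invol : orderOf u = 2
  swap : u • a = b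
  cyc : IsCyclic R
  inv : ∀ r ∈ R, u * r * u⁻¹ = r⁻¹
  mem : y ∈ R
  order : orderOf y = p
  fpfV : ∀ v ∈ vee hV a, Commute y v → v = 1
  fpfN : ∀ z ∈ N a, Commute y z → z = 1
  cent_le : centralizer ({y} : Set G) ≤ st a ⊓ st b
  ker : R ⊓ centralizer (vee hV a : Set G) = ⊥

section Swap

variable {a b : G ⧸ H} {u : G}

theorem orderOf_conj_invol {g t : G} (ht : orderOf t = 2) : orderOf (g⁻¹ * t * g) = 2 := by
  simpa using (Invol.orderOf_conj_eq g⁻¹ t).trans ht

theorem swap_conj_mem (hu : orderOf u = 2) (hua : u • a = b) {d : G} (hd : d ∈ st a ⊓ st b) :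
    u * d * u⁻¹ ∈ st a ⊓ st b := by
  have hub := swap_back hu hua
  refine mem_inf.2 ⟨MulAction.mem_stabilizer_iff.2 ?_, MulAction.mem_stabilizer_iff.2 ?_⟩
  · rw [mul_smul, mul_smul, inv_smul_eq_iff.2 hub.symm, show d • b = b from hd.2, hub]
  · rw [mul_smul, mul_smul, inv_smul_eq_iff.2 hua.symm, show d • a = a from hd.1, hua]

/-- What centralizes the involutions at one point is moved by a swapper to what centralizes those at
the other. -/
theorem swap_commute (hua : u • a = b) {hV : InvolComm H} {g t : G}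
    (hg : g ∈ centralizer (vee hV a : Set G)) (ht : orderOf t = 2) (htb : t • b = b) :
    Commute (u * g * u⁻¹) t := by
  have h := CSix.conj_commute (g := u) (commute_of_mem_centralizer hg (t := u⁻¹ * t * u)
    (orderOf_conj_invol ht)
    (by rw [mul_smul, mul_smul, hua, htb, ← hua, inv_smul_smul]))
  rwa [show u * (u⁻¹ * t * u) * u⁻¹ = t by group] at h

theorem conj_conj_invol (hu : orderOf u = 2) (g : G) : u * (u * g * u⁻¹) * u⁻¹ = g := by
  have h := Invol.mul_self_eq_one hu
  rw [Invol.inv_eq_self hu]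
  simp only [mul_assoc, h, mul_one]
  rw [← mul_assoc, h, one_mul]

end Swap

section Prime

variable {p : ℕ} [Fact p.Prime] {a b : G ⧸ H}

theorem pow_eq_one_of_mem_zpowers {g x : G} (hg : orderOf g = p) (hx : x ∈ zpowers g) :
    x ^ p = 1 := by
  obtain ⟨i, rfl⟩ := hx
  show (g ^ i) ^ p = 1
  rw [← zpow_natCast, zpow_comm, zpow_natCast, ← hg, pow_orderOf_eq_one, one_zpow]

theorem exists_conj_mem {R : Subgroup G} (hR : Syl p (st a ⊓ st b) R) {s : G}
    (hs : s ∈ st a ⊓ st b) (hso : orderOf s = p) : ∃ d ∈ st a ⊓ st b, d * s * d⁻¹ ∈ R := by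
  obtain ⟨d, hd, hdR⟩ := syl_conj hR (zpowers_le.2 hs) (isPGroup_zpowers hso)
  exact ⟨d, hd, cj_le_iff.1 hdR s (mem_zpowers s)⟩

variable (hS : Setting H) {q : ℕ} {N : G ⧸ H → Subgroup G} (hN : Family q N) (hsr : Semireg N)
  (hci : CentInv N) (hV : InvolComm H)
include hS hN hsr hci

include hV in
/-- Two commuting elements of order `p` of a two-point stabilizer, independent, have a nontrivial
product with a nontrivial fixed point in the member of the family. -/
theorem exists_fixed_line (hab : a ≠ b)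
    (hdvd : p ∣ Nat.card {t : G // orderOf t = 2 ∧ t • a = a}) {g h : G} (hg : orderOf g = p)
    (hh : orderOf h = p) (hgD : g ∈ st a ⊓ st b) (hhD : h ∈ st a ⊓ st b) (hc : Commute g h)
    (hne : h ∉ zpowers g) :
    ∃ i j : ℤ, g ^ i * h ^ j ≠ 1 ∧ ∃ z ∈ N a, z ≠ 1 ∧ Commute (g ^ i * h ^ j) z := by
  set E := closure ({g, h} : Set G) with hE
  haveI : IsMulCommutative E := by
    refine isMulCommutative_closure fun x hx y hy => ?_
    rcases hx with rfl | rfl <;> rcases hy with rfl | rfl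
    exacts [rfl, hc.eq, hc.eq.symm, rfl]
  have hncyc : ¬ IsCyclic E := by
    intro hcyc
    obtain ⟨j, hj⟩ := FpfComplement.mem_zpowers_of_cyclic (T := E)
      (u := ⟨h, subset_closure (by simp)⟩) (v := ⟨g, subset_closure (by simp)⟩)
      (by rw [← Subgroup.orderOf_coe, ← Subgroup.orderOf_coe, hh, hg])
    exact hne ⟨j, by simpa using congrArg Subtype.val hj⟩
  have hn : zpowers g ≤ normalizer (zpowers h : Set G) := zpowers_le.2 (mem_normalizer_zpowers
    (by rw [hc.eq, mul_inv_cancel_right]; exact mem_zpowers h))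
  have hEle : E ≤ zpowers g ⊔ zpowers h := (closure_le _).2 (by
    rintro x (rfl | rfl)
    exacts [mem_sup_left (mem_zpowers _), mem_sup_right (mem_zpowers _)])
  have hEp : IsPGroup p E := ((isPGroup_zpowers hg).to_sup_of_normal_right'
    (isPGroup_zpowers hh) hn).to_le hEle
  have hED : E ≤ st a ⊓ st b := (closure_le _).2 (by
    rintro x (rfl | rfl)
    exacts [hgD, hhD])
  haveI : Fact q.Prime := ⟨hN.prime⟩
  have hcop : (Nat.card E).Coprime (Nat.card (N a)) := by
    refine IsPGroup.coprime_card_of_ne (p₁ := p) (p₂ := q) ?_ _ _ hEp (hN.isPGroup a)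
    exact CSix.ne_q hS hN hsr hV (caseI_all hS hV hN hsr hci) hab Fact.out hdvd
  have hgen := CoprimeAct.generated_by_centralizers hncyc
    ((hED.trans inf_le_left).trans (hN.st_le_normalizer a)) hcop
  by_contra hno
  push Not at hno
  refine hN.ne_bot a (le_bot_iff.1 (hgen.symm.le.trans (iSup₂_le fun x hx v hv => ?_)))
  rw [mem_bot]
  by_contra hv1
  obtain ⟨c, hc', d, hd', rfl⟩ := (Solvable.mem_sup_of_le_normalizer hn).1 (hEle hx.1)
  obtain ⟨i, rfl⟩ := hc'
  obtain ⟨j, rfl⟩ := hd'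
  exact hno i j hx.2 v hv.1 hv1 (mem_centralizer_singleton_iff.1 hv.2).symm

variable {R : Subgroup G} (hR : Syl p (st a ⊓ st b) R)

include hV hR in
/-- A Sylow subgroup contains at most one subgroup of order `p` centralizing all involutions at
the point, as far as commuting elements go. -/
theorem mem_zpowers_of_ker (hab : a ≠ b)
    (hdvd : p ∣ Nat.card {t : G // orderOf t = 2 ∧ t • a = a}) {g h : G} (hg : orderOf g = p)
    (hh : orderOf h = p) (hgR : g ∈ R) (hgV : g ∈ centralizer (vee hV a : Set G)) (hhR : h ∈ R)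
    (hhV : h ∈ centralizer (vee hV a : Set G)) (hc : Commute g h) : h ∈ zpowers g := by
  by_contra hne
  obtain ⟨i, j, h1, z, hz, hz1, hxz⟩ :=
    exists_fixed_line hS hN hsr hci hV hab hdvd hg hh (hR.1 hgR) (hR.1 hhR) hc hne
  obtain ⟨s, t, hs, -, -, hsa, -⟩ := CSix.exists_two hS a
  obtain ⟨n, hn⟩ := exists_pow_eq_one hR.2.1 (mul_mem (zpow_mem hgR i) (zpow_mem hhR j))
  exact not_commute_of_fixedN hS hV hN hsr hab hdvd h1 hn
    (hR.1 (mul_mem (zpow_mem hgR i) (zpow_mem hhR j))) hz hz1 hxz hs hsa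
    (commute_of_mem_centralizer (mul_mem (zpow_mem hgV i) (zpow_mem hhV j)) hs hsa)

variable {F : Type} [Field F] [Finite F] {k : ℕ}

/-- An element of order `p` with a nontrivial fixed point on the member of the family, central in
a Sylow subgroup, commutes with some involution. -/
theorem exists_invol_commute (hV : InvolComm H) (hab : a ≠ b)
    (hdvd : p ∣ Nat.card {t : G // orderOf t = 2 ∧ t • a = a}) (hR : Syl p (st a ⊓ st b) R)
    {x : G} (hx : orderOf x = p) (hxR : x ∈ R) (hRx : ∀ r ∈ R, Commute r x) {z : G} (hz : z ∈ N a)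
    (hz1 : z ≠ 1) (hxz : Commute x z) : ∃ w : G, orderOf w = 2 ∧ Commute x w := by
  by_contra hno
  push Not at hno
  obtain ⟨A, hAD, hAn, hAc, -⟩ := exists_fixing_core hS hab (prime_ne_two hS hV Fact.out hdvd)
    (caseI_all hS hV hN hsr hci p Fact.out (StrongEmbed.card_fix a ▸ hdvd)) hR hx hxR hRx
    (odd_centralizer hno)
  have hzM : z ∈ centralizer ({x} : Set G) := mem_centralizer_singleton_iff.2 hxz.symm.eq
  have hzA : z ∈ A := hAc z hzM fun v hv => by
    have h1 : z * v * z⁻¹ * v⁻¹ ∈ A := mul_mem (hAn z hzM v hv) (inv_mem hv)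
    have h2 : z * v * z⁻¹ * v⁻¹ ∈ N a := by
      rw [mul_assoc, mul_assoc, ← mul_assoc v z⁻¹]
      exact mul_mem hz
        ((mem_normalizer_iff.1 (hN.st_le_normalizer a (hAD hv).1) _).1 (inv_mem hz))
    have h3 : z * v * z⁻¹ * v⁻¹ = 1 := by
      by_contra h
      exact hab (hsr a _ h2 h b (hAD h1).2).symm
    exact mul_inv_eq_iff_eq_mul.1 (mul_inv_eq_one.1 h3)
  exact hab (hsr a z hz hz1 b (hAD hzA).2).symm

variable {e : Additive (vee hV a) ≃+ F} (hF : Nat.card F = 2 ^ k)
  (hrep : ∀ d ∈ barD hV a b, ∃ c i, Rep e d c i) (hab : a ≠ b)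
  (hdvd : p ∣ Nat.card {t : G // orderOf t = 2 ∧ t • a = a}) (hlin : LinAt e b p)
  {u : G} (hu : orderOf u = 2) (hua : u • a = b) (huR : u ∈ normalizer (R : Set G))

include hV hR hF hab hdvd hlin hu hua in
/-- An element of order `p` central in a Sylow subgroup with a fixed point on the member of the
family gives such a fixed point to the image under the swapper of the element `g` generating the
only subgroup of order `p` of the kernel. -/
theorem exists_fixed_of_central {g : G} (hg : orderOf g = p)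
    (huniq : ∀ s : G, orderOf s = p → s ∈ R → s ∈ centralizer (vee hV a : Set G) → s ∈ zpowers g)
    {x : G} (hx : orderOf x = p) (hxR : x ∈ R) (hRx : ∀ r ∈ R, Commute r x) {z : G} (hz : z ∈ N a)
    (hz1 : z ≠ 1) (hxz : Commute x z) :
    ∃ z' ∈ N a, z' ≠ 1 ∧ Commute (u * g * u⁻¹) z' := by
  obtain ⟨w, hw, hxw⟩ := exists_invol_commute hS hN hsr hci hV hab hdvd hR hx hxR hRx hz hz1 hxz
  obtain ⟨c, hwc⟩ := StrongEmbed.exists_fix hS.se hw
  have hx1 : x ≠ 1 := fun h => (Fact.out : p.Prime).ne_one (by rw [← hx, h, orderOf_one])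
  have hxp : x ^ p ^ 1 = 1 := by rw [pow_one, ← hx, pow_orderOf_eq_one]
  have hxD := hR.1 hxR
  have hac : a ≠ c := fun h =>
    not_commute_of_fixedN hS hV hN hsr hab hdvd hx1 hxp hxD hz hz1 hxz hw (h ▸ hwc) hxw
  have hxc : x • c = c := fix_of_commute hS.se hw hwc hxw
  obtain ⟨f, hfa, hfc⟩ := exists_move hS hac hab
  have hfa' : f⁻¹ • a = a := inv_smul_eq_iff.2 hfa.symm
  have hfc' : f⁻¹ • b = c := inv_smul_eq_iff.2 hfc.symm
  set x' := f * x * f⁻¹ with hx'def
  have hx'D : x' ∈ st a ⊓ st b := mem_inf.2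
    ⟨MulAction.mem_stabilizer_iff.2 (by
      rw [hx'def, mul_smul, mul_smul, hfa', show x • a = a from hxD.1, hfa]),
    MulAction.mem_stabilizer_iff.2 (by rw [hx'def, mul_smul, mul_smul, hfc', hxc, hfc])⟩
  have hub := swap_back hu hua
  set x'' := u * x' * u⁻¹ with hx''def
  have hx''D : x'' ∈ st a ⊓ st b := swap_conj_mem hu hua hx'D
  have hx''o : orderOf x'' = p := by
    rw [hx''def, hx'def, Invol.orderOf_conj_eq, Invol.orderOf_conj_eq, hx]
  have hx''V : x'' ∈ centralizer (vee hV a : Set G) :=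
    (hlin.1 x'' hx''D hx''o).centralizes hF (t := u * (f * w * f⁻¹) * u⁻¹)
      (by rw [Invol.orderOf_conj_eq, Invol.orderOf_conj_eq, hw])
      (by rw [mul_smul, mul_smul, inv_smul_eq_iff.2 hub.symm, mul_smul, mul_smul, hfc', hwc, hfc,
        hub])
      (CSix.conj_commute (CSix.conj_commute hxw))
  obtain ⟨d, hd, hdR⟩ := exists_conj_mem hR hx''D hx''o
  obtain ⟨i, hi⟩ := huniq _ (by rw [Invol.orderOf_conj_eq, hx''o]) hdR
    (conj_mem_centralizer_vee hd.1 hx''V)
  have hmem : g ∈ zpowers (d * x'' * d⁻¹) := CSix.mem_zpowers_symm hg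
    (by rw [Invol.orderOf_conj_eq, hx''o]) ⟨i, hi⟩
  obtain ⟨j, hj⟩ := hmem
  set δ := u * d * u⁻¹ with hδdef
  have hδ : δ ∈ st a ⊓ st b := swap_conj_mem hu hua hd
  have hg' : u * g * u⁻¹ = (δ * x' * δ⁻¹) ^ j := by
    rw [show δ * x' * δ⁻¹ = u * (d * x'' * d⁻¹) * u⁻¹ by
      rw [hδdef, hx''def, Invol.inv_eq_self hu, mul_inv_rev, mul_inv_rev, Invol.inv_eq_self hu]
      group, conj_zpow, ← hj]
  refine ⟨δ * (f * z * f⁻¹) * δ⁻¹, hN.conj_mem (hN.conj_mem hz hfa) hδ.1, ?_, ?_⟩
  · simpa using hz1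
  · rw [hg']
    exact (CSix.conj_commute (CSix.conj_commute hxz)).zpow_left j

include hV hR hF hrep hab hdvd hlin hu hua huR

/-- No nontrivial element of the Sylow subgroup centralizes the involutions at the point. -/
theorem kerR_eq_bot : R ⊓ centralizer (vee hV a : Set G) = ⊥ := by
  by_contra hne
  have hub := swap_back hu hua
  set R₁ := R ⊓ centralizer (vee hV a : Set G) with hR₁
  haveI : Group.IsNilpotent R := hR.2.1.isNilpotent
  haveI : (R₁.subgroupOf R).Normal := ⟨fun r hr s => by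
    rw [mem_subgroupOf] at hr ⊢
    exact ⟨((s * r * s⁻¹ : R)).2, conj_mem_centralizer_vee (hR.1 s.2).1 hr.2⟩⟩
  obtain ⟨g₀, hg₀, hg₀1⟩ : ∃ g₀ ∈ R₁.subgroupOf R ⊓ center R, g₀ ≠ 1 := by
    by_contra h
    push Not at h
    exact PGroupBasic.inf_center_ne_bot (R₁.subgroupOf R)
      (fun h0 => hne (by rw [← map_subgroupOf_eq_of_le (show R₁ ≤ R from inf_le_left), h0,
        Subgroup.map_bot])) ((eq_bot_iff_forall _).2 h)
  obtain ⟨n₀, hn₀p, hn₀1⟩ := exists_prime_order_pow (x := (g₀ : G))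
    (fun h => hg₀1 (Subtype.ext h))
  set g := (g₀ : G) ^ n₀ with hgdef
  have hgR : g ∈ R := pow_mem g₀.2 n₀
  have hgo : orderOf g = p := orderOf_eq_of_prime hR.2.1 hgR hn₀p
  have hgV : g ∈ centralizer (vee hV a : Set G) := pow_mem (mem_subgroupOf.1 hg₀.1).2 n₀
  have hgc : ∀ r ∈ R, Commute r g := fun r hr =>
    (show Commute r (g₀ : G) from
      congrArg Subtype.val (mem_center_iff.1 hg₀.2 ⟨r, hr⟩)).pow_right n₀
  have huniq : ∀ s : G, orderOf s = p → s ∈ R → s ∈ centralizer (vee hV a : Set G) →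
      s ∈ zpowers g := fun s hs hsR hsV =>
    mem_zpowers_of_ker hS hN hsr hci hV hR hab hdvd hgo hs hgR hgV hsR hsV (hgc s hsR).symm
  obtain ⟨s₀, -, hs₀, -, -, hs₀a, -⟩ := CSix.exists_two hS a
  have hg1 : g ≠ 1 := fun h => (Fact.out : p.Prime).ne_one (by rw [← hgo, h, orderOf_one])
  have hgfpf : ∀ z ∈ N a, Commute g z → z = 1 := fun z hz hgz => by
    by_contra hz1
    exact not_commute_of_fixedN hS hV hN hsr hab hdvd hg1 (n := 1)
      (by rw [pow_one, ← hgo, pow_orderOf_eq_one]) (hR.1 hgR) hz hz1 hgz hs₀ hs₀a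
      (commute_of_mem_centralizer hgV hs₀ hs₀a)
  have hinvl : ∀ x : G, x ∈ R → u * x * u⁻¹ = x⁻¹ → x ∈ centralizer (vee hV a : Set G) → x = 1 :=
    fun x hx hinv hxV => by
      by_contra hx1
      exact not_commute_invol hS hN hsr hci hab hu hua hx1 (hR.1 hx).1 (hR.1 hx).2 hinv hs₀
        (commute_of_mem_centralizer hxV hs₀ hs₀a)
  set g' := u * g * u⁻¹ with hg'def
  have hg'R : g' ∈ R := (mem_normalizer_iff.1 huR g).1 hgR
  have hg'o : orderOf g' = p := by rw [hg'def, Invol.orderOf_conj_eq, hgo]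
  have hug' : u * g' * u⁻¹ = g := conj_conj_invol hu g
  have hg'c : ∀ r ∈ R, Commute r g' := fun r hr => by
    have h := CSix.conj_commute (g := u) (hgc _ ((mem_normalizer_iff.1 huR r).1 hr))
    rwa [conj_conj_invol hu r] at h
  by_cases hA : g' ∈ zpowers g
  · -- the swapper centralizes `g`
    have hug : Commute u g := by
      by_contra hnc
      obtain ⟨x, hx, hxp, hinv⟩ := exists_inverted_prime (Y := zpowers g)
        ((odd_pair hS.se hab).of_dvd_nat (card_dvd_of_le ((zpowers_le.2 hgR).trans hR.1))) hu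
        (mem_normalizer_zpowers hA) ⟨g, mem_zpowers g, hnc⟩
      refine hxp.ne_one ?_
      rw [hinvl x (zpowers_le.2 hgR hx) hinv (zpowers_le.2 hgV hx), orderOf_one]
    have hgg' : g' = g := by rw [hg'def, hug.eq, mul_inv_cancel_right]
    -- `S₁`: the elements of the kernel whose images are in the kernel
    have hS₁u : ∀ s ∈ R₁, u * s * u⁻¹ ∈ R₁ → Commute u s := by
      intro s hs hs'
      by_contra hnc
      let S₁ : Subgroup G := R₁ ⊓ R₁.comap (MulAut.conj u).toMonoidHom
      have hS₁ : ∀ {w : G}, w ∈ S₁ ↔ w ∈ R₁ ∧ u * w * u⁻¹ ∈ R₁ := fun {w} => Iff.rfl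
      obtain ⟨x, hx, hxp, hinv⟩ := exists_inverted_prime (Y := S₁)
        ((odd_pair hS.se hab).of_dvd_nat (card_dvd_of_le (inf_le_left.trans (inf_le_left.trans hR.1))))
        hu (mem_normalizer_iff.2 fun w => by
          rw [hS₁, hS₁, conj_conj_invol hu, and_comm]) ⟨s, hS₁.2 ⟨hs, hs'⟩, hnc⟩
      refine hxp.ne_one ?_
      rw [hinvl x (hS₁.1 hx).1.1 hinv (hS₁.1 hx).1.2, orderOf_one]
    obtain ⟨y, hyR, hyo, hyinv⟩ := exists_inverted hS hab hdvd hR hu hua huR
    have hy1 : y ≠ 1 := fun h => (Fact.out : p.Prime).ne_one (by rw [← hyo, h, orderOf_one])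
    have hyodd : Odd (orderOf y) :=
      (odd_pair hS.se hab).of_dvd_nat (Subgroup.orderOf_dvd_natCard _ (hR.1 hyR))
    -- commutators with an element of order `p` lie in the kernel
    have hker : ∀ d ∈ R, ∀ w ∈ R, orderOf w = p → d * w * d⁻¹ * w⁻¹ ∈ R₁ := by
      intro d hd w hw hwo
      refine mem_inf.2 ⟨mul_mem (mul_mem (mul_mem hd hw) (inv_mem hd)) (inv_mem hw), ?_⟩
      obtain ⟨c, i, hdi⟩ := hrep _ (act_mem_barD (hV := hV) (hR.1 hd))
      set φ := act hV a ⟨d, (hR.1 hd).1⟩ with hφ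
      set ψ := act hV a ⟨w, (hR.1 hw).1⟩ with hψ
      have hwl : Lin e ψ := (hlin.1 w (hR.1 hw) hwo).lin _
      have hconj := hwl.conj hF hdi
      have hcomm : Commute φ ψ := by
        by_cases hψ1 : ψ = 1
        · rw [hψ1]; exact Commute.one_right φ
        obtain ⟨n, hn⟩ := exists_pow_eq_one hR.2.1 hd
        refine commute_of_conj_pow (p := p) (n := n) (orderOf_eq_prime ?_ hψ1) ?_ ?_
        · rw [hψ, ← map_pow, ← map_one (act hV a)]
          congr 1
          exact Subtype.ext (show w ^ p = 1 by rw [← hwo, pow_orderOf_eq_one])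
        · rw [hφ, ← map_pow, ← map_one (act hV a)]
          congr 1
          exact Subtype.ext hn
        · rw [hconj]; exact pow_mem (mem_zpowers ψ) _
      refine (act_eq_one (g := (⟨d, (hR.1 hd).1⟩ : st a) * ⟨w, (hR.1 hw).1⟩ *
        ⟨d, (hR.1 hd).1⟩⁻¹ * ⟨w, (hR.1 hw).1⟩⁻¹)).1 ?_
      simp only [map_mul, map_inv]
      rw [← hφ, ← hψ, hcomm.eq, mul_inv_cancel_right, mul_inv_cancel]
    have hR₁y : ∀ s ∈ R₁, u * s * u⁻¹ ∈ R₁ → Commute y s := by
      intro s hs hs'
      have hus := hS₁u s hs hs'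
      have huy : u * y⁻¹ * u⁻¹ = y := by rw [← conj_inv, hyinv, inv_inv]
      have hus' : u * s * u⁻¹ = s := hus.mul_inv_cancel
      have h1 : y * s * y⁻¹ ∈ R₁ := mem_inf.2
        ⟨mul_mem (mul_mem hyR hs.1) (inv_mem hyR), conj_mem_centralizer_vee (hR.1 hyR).1 hs.2⟩
      have h2 : u * (y * s * y⁻¹) * u⁻¹ = y⁻¹ * s * y := by
        rw [← conj_mul, ← conj_mul, hyinv, hus', huy]
      have h3 : u * (y * s * y⁻¹) * u⁻¹ ∈ R₁ := by
        rw [h2]
        refine mem_inf.2 ⟨mul_mem (mul_mem (inv_mem hyR) hs.1) hyR, ?_⟩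
        have := conj_mem_centralizer_vee (inv_mem (mem_inf.1 (hR.1 hyR)).1) hs.2
        rwa [inv_inv] at this
      have h4 : y * s * y⁻¹ = y⁻¹ * s * y := by
        have := (hS₁u _ h1 h3).mul_inv_cancel
        rw [h2] at this
        exact this.symm
      have h5 : Commute (y ^ 2) s := by
        show y ^ 2 * s = s * y ^ 2
        calc y ^ 2 * s = y * (y * s * y⁻¹) * y := by rw [sq]; group
          _ = s * y ^ 2 := by rw [h4, sq]; group
      obtain ⟨m, hm⟩ := hyodd
      have h6 := h5.pow_left (m + 1)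
      rwa [← pow_mul, show 2 * (m + 1) = orderOf y + 1 by omega, pow_succ, pow_orderOf_eq_one,
        one_mul] at h6
    have hdy : ∀ d ∈ R, d * y * d⁻¹ * y⁻¹ ∈ zpowers g := by
      intro d hd
      set s := d * y * d⁻¹ * y⁻¹ with hs_def
      have hs : s ∈ R₁ := hker d hd y hyR hyo
      have hs' : u * s * u⁻¹ ∈ R₁ := by
        rw [show u * s * u⁻¹ = u * d * u⁻¹ * (u * y * u⁻¹) * (u * d * u⁻¹)⁻¹ * (u * y * u⁻¹)⁻¹ by
          rw [hs_def]; group, hyinv]
        exact hker _ ((mem_normalizer_iff.1 huR d).1 hd) _ (inv_mem hyR)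
          (by rw [orderOf_inv, hyo])
      by_cases hs1 : s = 1
      · rw [hs1]; exact one_mem _
      refine huniq s (orderOf_eq_prime ?_ hs1) hs.1 hs.2
      have hsy : Commute y s := hR₁y s hs hs'
      have h1 : (s * y) ^ p = 1 := by
        rw [hs_def, inv_mul_cancel_right, conj_pow, ← hyo, pow_orderOf_eq_one, mul_one,
          mul_inv_cancel]
      rwa [hsy.symm.mul_pow, ← hyo, pow_orderOf_eq_one, mul_one, hyo] at h1
    have hyg : y ∉ zpowers g := fun h =>
      hy1 (hinvl y hyR hyinv (zpowers_le.2 hgV h))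
    obtain ⟨i, j, hx1, z, hz, hz1, hxz⟩ := exists_fixed_line hS hN hsr hci hV hab hdvd hgo hyo
      (hR.1 hgR) (hR.1 hyR) (hgc y hyR).symm hyg
    have hgi : ∀ m : ℤ, ∀ r ∈ R, Commute r (g ^ m) := fun m r hr => (hgc r hr).zpow_right m
    have hyj : y ^ j ≠ 1 := by
      intro h
      rw [h, mul_one] at hx1 hxz
      refine hz1 (hgfpf z hz ?_)
      obtain ⟨m, hm⟩ := CSix.mem_zpowers_symm hgo
        (orderOf_eq_prime (by rw [← zpow_natCast, zpow_comm, zpow_natCast, ← hgo,
          pow_orderOf_eq_one, one_zpow]) hx1) ⟨i, rfl⟩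
      exact hm ▸ hxz.zpow_left m
    have hyjo : orderOf (y ^ j) = p := orderOf_eq_prime
      (by rw [← zpow_natCast, zpow_comm, zpow_natCast, ← hyo, pow_orderOf_eq_one, one_zpow]) hyj
    have hyfpf : ∀ v ∈ N a, Commute (y ^ j) v → v = 1 := fun v hv hyv => by
      refine eq_one_of_inverted_family hS hN hsr hci hab hu hua (g := y ^ j)
        (hyjo ▸ Fact.out) (hR.1 (zpow_mem hyR j)).1 (hR.1 (zpow_mem hyR j)).2 ?_ hv hyv
      rw [← conj_zpow, hyinv, inv_zpow]
    -- `y` is central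
    have hyc : ∀ d ∈ R, Commute d (y ^ j) := by
      intro d hd
      obtain ⟨f, hf⟩ := hdy d hd
      have hf' : d * y * d⁻¹ = g ^ f * y := by
        rw [show g ^ f = _ from hf, inv_mul_cancel_right]
      have hdyj : d * y ^ j * d⁻¹ = (g ^ f) ^ j * y ^ j := by
        rw [← conj_zpow, hf', (hgi f y hyR).symm.mul_zpow]
      by_cases hfj : (g ^ f) ^ j = 1
      · rw [hfj, one_mul] at hdyj
        exact mul_inv_eq_iff_eq_mul.1 hdyj
      exfalso
      have hso : orderOf ((g ^ f) ^ j) = p := orderOf_eq_prime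
        (pow_eq_one_of_mem_zpowers hgo (zpow_mem (zpow_mem (mem_zpowers g) f) j)) hfj
      obtain ⟨m, hm⟩ := CSix.mem_zpowers_symm hgo hso (zpow_mem (zpow_mem (mem_zpowers g) f) j)
      have hrec : ∀ n : ℕ, d ^ n * y ^ j * (d ^ n)⁻¹ = ((g ^ f) ^ j) ^ n * y ^ j := by
        intro n
        induction n with
        | zero => simp
        | succ n ih =>
          rw [show d ^ (n + 1) * y ^ j * (d ^ (n + 1))⁻¹ = d ^ n * (d * y ^ j * d⁻¹) * (d ^ n)⁻¹ by
            rw [pow_succ]; group, hdyj, ← conj_mul,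
            (((hgi f _ (pow_mem hd n)).zpow_right j)).mul_inv_cancel, ih, ← mul_assoc, pow_succ']
      obtain ⟨n, hn⟩ := mem_powers_iff_mem_zpowers.2
        (show g ^ i ∈ zpowers ((g ^ f) ^ j) from
          zpow_mem (show g ∈ zpowers ((g ^ f) ^ j) from ⟨m, hm⟩) i)
      have hn' : ((g ^ f) ^ j) ^ n = g ^ i := hn
      have hconj := hrec n
      rw [hn'] at hconj
      rw [← hconj] at hxz
      have h2 := CSix.conj_commute (g := (d ^ n)⁻¹) hxz
      rw [show (d ^ n)⁻¹ * (d ^ n * y ^ j * (d ^ n)⁻¹) * (d ^ n)⁻¹⁻¹ = y ^ j by group] at h2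
      have h3 := hyfpf _ (hN.conj_mem hz
        (show (d ^ n)⁻¹ • a = a from inv_mem (pow_mem (mem_inf.1 (hR.1 hd)).1 n))) h2
      exact hz1 (conj_eq_one_iff.1 h3)
    have hxo : orderOf (g ^ i * y ^ j) = p := orderOf_eq_prime (by
      rw [((hgi i _ (zpow_mem hyR j)).symm).mul_pow, ← zpow_natCast, ← zpow_natCast, zpow_comm,
        zpow_natCast g, ← hgo, pow_orderOf_eq_one, one_zpow, one_mul, zpow_comm, zpow_natCast, hgo,
        ← hyo, pow_orderOf_eq_one, one_zpow]) hx1
    obtain ⟨z', hz', hz'1, hgz'⟩ := exists_fixed_of_central hS hN hsr hci hV hR hF hab hdvd hlin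
      hu hua hgo huniq hxo (mul_mem (zpow_mem hgR i) (zpow_mem hyR j))
      (fun r hr => (hgi i r hr).mul_right (hyc r hr)) hz hz1 hxz
    exact hz'1 (hgfpf z' hz' (by rwa [← hg'def, hgg'] at hgz'))
  · -- the two images are independent
    obtain ⟨i, j, hx1, z, hz, hz1, hxz⟩ := exists_fixed_line hS hN hsr hci hV hab hdvd hgo hg'o
      (hR.1 hgR) (hR.1 hg'R) (hgc g' hg'R).symm hA
    have hxo : orderOf (g ^ i * g' ^ j) = p := orderOf_eq_prime (by
      rw [((hgc g' hg'R).symm.zpow_zpow i j).mul_pow, ← zpow_natCast, ← zpow_natCast, zpow_comm,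
        zpow_natCast g, ← hgo, pow_orderOf_eq_one, one_zpow, one_mul, zpow_comm, zpow_natCast, hgo,
        ← hg'o, pow_orderOf_eq_one, one_zpow]) hx1
    obtain ⟨z', hz', hz'1, hgz'⟩ := exists_fixed_of_central hS hN hsr hci hV hR hF hab hdvd hlin
      hu hua hgo huniq hxo (mul_mem (zpow_mem hgR i) (zpow_mem hg'R j))
      (fun r hr => ((hgc r hr).zpow_right i).mul_right ((hg'c r hr).zpow_right j)) hz hz1 hxz
    have hza : z' • a = a := hN.le_st a hz'
    have hzb : z' • b ≠ b := fun h => hab (hsr a z' hz' hz'1 b h).symm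
    have hzba : z' • b ≠ a := fun h => hab (smul_left_cancel z' (hza.trans h.symm))
    obtain ⟨f, hfb, hfc⟩ := exists_move hS hzb.symm hab.symm
    have hfb' : f⁻¹ • b = b := inv_smul_eq_iff.2 hfb.symm
    have hfc' : f⁻¹ • a = z' • b := inv_smul_eq_iff.2 hfc.symm
    set x := f * g' * f⁻¹ with hxdef
    have hxo' : orderOf x = p := by rw [hxdef, Invol.orderOf_conj_eq, hg'o]
    have hgzb : g' • z' • b = z' • b := by
      rw [smul_smul, hgz'.eq, mul_smul, show g' • b = b from (hR.1 hg'R).2]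
    have hxD : x ∈ st a ⊓ st b := mem_inf.2
      ⟨MulAction.mem_stabilizer_iff.2 (by rw [hxdef, mul_smul, mul_smul, hfc', hgzb, hfc]),
      MulAction.mem_stabilizer_iff.2 (by
        rw [hxdef, mul_smul, mul_smul, hfb', show g' • b = b from (hR.1 hg'R).2, hfb])⟩
    have hxb : ∀ t : G, orderOf t = 2 → t • b = b → Commute x t := by
      intro t ht htb
      have h := CSix.conj_commute (g := f) (swap_commute hua hgV (t := f⁻¹ * t * f)
        (orderOf_conj_invol ht)
        (by rw [mul_smul, mul_smul, hfb, htb, hfb']))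
      rwa [show f * (f⁻¹ * t * f) * f⁻¹ = t by group] at h
    have hxa : x ∈ centralizer (vee hV a : Set G) := by
      obtain ⟨t, -, ht, -, -, hta, -⟩ := CSix.exists_two hS a
      refine (hlin.1 x hxD hxo').centralizes hF (t := t) ht hta ?_
      have h1 : Commute g' (f⁻¹ * t * f) := by
        have h := CSix.conj_commute (g := z')
          (swap_commute hua hgV (t := z'⁻¹ * (f⁻¹ * t * f) * z')
            (orderOf_conj_invol (orderOf_conj_invol ht))
            (by rw [mul_smul, mul_smul, mul_smul, mul_smul, hfc, hta, hfc', inv_smul_smul]))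
        rwa [← hg'def, hgz'.symm.mul_inv_cancel,
          show z' * (z'⁻¹ * (f⁻¹ * t * f) * z') * z'⁻¹ = f⁻¹ * t * f by group] at h
      have h := CSix.conj_commute (g := f) h1
      rwa [show f * (f⁻¹ * t * f) * f⁻¹ = t by group] at h
    obtain ⟨d, hd, hdR⟩ := exists_conj_mem hR hxD hxo'
    set s := d * x * d⁻¹ with hsdef
    have hso : orderOf s = p := by rw [hsdef, Invol.orderOf_conj_eq, hxo']
    have hs1 : s ∈ zpowers g := huniq s hso hdR (conj_mem_centralizer_vee hd.1 hxa)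
    have hs2 : u * s * u⁻¹ ∈ zpowers g := by
      refine huniq _ (by rw [Invol.orderOf_conj_eq, hso]) ((mem_normalizer_iff.1 huR s).1 hdR)
        (mem_centralizer_vee fun t ht hta => ?_)
      have hd' : d⁻¹ • b = b := inv_mem (mem_inf.1 hd).2
      have h := CSix.conj_commute (g := u) (CSix.conj_commute (g := d)
        (hxb (d⁻¹ * (u⁻¹ * t * u) * d)
          (orderOf_conj_invol (orderOf_conj_invol ht))
          (by rw [mul_smul, mul_smul, mul_smul, mul_smul, show d • b = b from hd.2, hub, hta,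
            inv_smul_eq_iff.2 hub.symm, hd'])))
      rwa [show u * (d * (d⁻¹ * (u⁻¹ * t * u) * d) * d⁻¹) * u⁻¹ = t by group] at h
    obtain ⟨m, hm⟩ := CSix.mem_zpowers_symm hgo hso hs1
    refine hA ?_
    rw [hg'def, show g = _ from hm.symm]
    show u * s ^ m * u⁻¹ ∈ zpowers (s ^ m)
    rw [show zpowers (s ^ m) = zpowers g by rw [show s ^ m = g from hm], ← conj_zpow]
    exact zpow_mem hs2 m

/-- A Sylow subgroup is cyclic, inverted by the swapper and fixed-point-free. -/
theorem exists_torus_of_linAt :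
    ∃ y, Torus hV N a b p R u y ∧ ∀ r ∈ R, LinOn e r := by
  have hker := kerR_eq_bot hS hN hsr hci hV hR hF hrep hab hdvd hlin hu hua huR
  obtain ⟨y, hyR, hyo, hyinv⟩ := exists_inverted hS hab hdvd hR hu hua huR
  have hp : p.Prime := Fact.out
  have hy1 : y ≠ 1 := fun h => hp.ne_one (by rw [← hyo, h, orderOf_one])
  have hRa : R ≤ st a := hR.1.trans inf_le_left
  have hkr : ∀ r ∈ R, r ∈ centralizer (vee hV a : Set G) → r = 1 := fun r hr hrV =>
    (eq_bot_iff_forall _).1 hker r ⟨hr, hrV⟩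
  -- the only subgroup of order `p`
  have huniq : ∀ s ∈ R, orderOf s = p → s ∈ zpowers y := by
    intro s hs hso
    set φ := act hV a ⟨y, hRa hyR⟩
    set ψ := act hV a ⟨s, hRa hs⟩
    have ho : ∀ (w : G) (hw : w ∈ R), orderOf w = p →
        orderOf (act hV a ⟨w, hRa hw⟩) = p := fun w hw hwo => by
      refine orderOf_eq_prime ?_ fun h => hp.ne_one ?_
      · rw [← map_pow, ← map_one (act hV a)]
        congr 1
        exact Subtype.ext (show w ^ p = 1 by rw [← hwo, pow_orderOf_eq_one])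
      · rw [← hwo, hkr w hw (act_eq_one.1 h), orderOf_one]
    haveI : IsCyclic (closure ({φ, ψ} : Set (MulAut (vee hV a)))) :=
      Semilinear.isCyclic_linPart (e := e) _ ((closure_le _).2 (by
        rintro x (rfl | rfl)
        exacts [(hlin.1 y (hR.1 hyR) hyo).lin _, (hlin.1 s (hR.1 hs) hso).lin _]))
    obtain ⟨j, hj⟩ := FpfComplement.mem_zpowers_of_cyclic
      (T := (closure ({φ, ψ} : Set (MulAut (vee hV a))) : Subgroup _))
      (u := ⟨ψ, subset_closure (by simp)⟩) (v := ⟨φ, subset_closure (by simp)⟩)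
      (by rw [← Subgroup.orderOf_coe, ← Subgroup.orderOf_coe, ho y hyR hyo, ho s hs hso])
    have hj' : φ ^ j = ψ := congrArg Subtype.val hj
    refine ⟨j, (mul_inv_eq_one.1 (hkr (y ^ j * s⁻¹) (mul_mem (zpow_mem hyR j) (inv_mem hs)) ?_))⟩
    refine (act_eq_one (g := ⟨y, hRa hyR⟩ ^ j * ⟨s, hRa hs⟩⁻¹)).1 ?_
    rw [map_mul, map_zpow, map_inv, hj', mul_inv_cancel]
  have hyodd : Odd (orderOf y) :=
    (odd_pair hS.se hab).of_dvd_nat (Subgroup.orderOf_dvd_natCard _ (hR.1 hyR))
  have hinv : ∀ r ∈ R, u * r * u⁻¹ = r⁻¹ := by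
    intro r hr
    obtain ⟨c, hc, i, hi, hcu, hiu, rfl⟩ := split
      ((odd_pair hS.se hab).of_dvd_nat (card_dvd_of_le hR.1)) (Invol.mul_self_eq_one hu) hr
      (by simpa [Invol.inv_eq_self hu] using (mem_normalizer_iff.1 huR r).1 hr)
    obtain rfl : c = 1 := by
      by_contra hc1
      obtain ⟨n, hnp, hn1⟩ := exists_prime_order_pow hc1
      have hno := orderOf_eq_of_prime hR.2.1 (pow_mem hc n) hnp
      obtain ⟨m, hm⟩ := CSix.mem_zpowers_symm hyo hno (huniq _ (pow_mem hc n) hno)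
      have hcu' : Commute u c := hcu
      exact hy1 (eq_one_of_inverted_commute hyodd hyinv (hm ▸ (hcu'.pow_right n).zpow_right m))
    rw [one_mul, Invol.inv_eq_self hu]
    exact hiu
  have hcomm : ∀ c ∈ R, ∀ d ∈ R, Commute c d := by
    intro c hc d hd
    have h := hinv (c * d) (mul_mem hc hd)
    rw [← conj_mul, hinv c hc, hinv d hd, mul_inv_rev] at h
    have h' := congrArg (fun z : G => z⁻¹) h
    simp only [mul_inv_rev, inv_inv] at h'
    exact h'.symm
  have hlinR : ∀ r ∈ R, LinOn e r := fun r hr => by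
    obtain ⟨n, hn⟩ := exists_pow_eq_one hR.2.1 hr
    exact hlin.2 u hu hua r (hR.1 hr) n hn (hinv r hr)
  have hcyc : IsCyclic R := by
    set φ : R →* MulAut (vee hV a) := (act hV a).comp (Subgroup.inclusion hRa) with hφ
    haveI : IsCyclic φ.range := Semilinear.isCyclic_linPart (e := e) _ (by
      rintro _ ⟨r, rfl⟩
      exact (hlinR r r.2).lin _)
    refine isCyclic_of_injective φ.rangeRestrict (MonoidHom.rangeRestrict_injective_iff.2 ?_)
    refine (injective_iff_map_eq_one φ).2 fun r h => Subtype.ext (hkr r r.2 ?_)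
    exact act_eq_one.1 h
  have hno : ∀ w : G, orderOf w = 2 → ¬ Commute y w := fun w hw =>
    not_commute_invol hS hN hsr hci hab hu hua hy1 (hR.1 hyR).1 (hR.1 hyR).2 hyinv hw
  refine ⟨y, ⟨hR, hu, hua, hcyc, hinv, hyR, hyo, fun v hv hyv => ?_, fun z hz hyz => ?_, ?_,
    hker⟩, hlinR⟩
  · by_contra hv1
    exact hno v (Invol.orderOf_eq_two hv.1 hv1) hyv
  · exact eq_one_of_inverted_family hS hN hsr hci hab hu hua (hyo ▸ hp) (hR.1 hyR).1 (hR.1 hyR).2
      hyinv hz hyz
  · obtain ⟨A, hAD, hAn, -, hRA⟩ := exists_fixing_core hS hab (prime_ne_two hS hV hp hdvd)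
      (caseI_all hS hV hN hsr hci p hp (StrongEmbed.card_fix a ▸ hdvd)) hR hyo hyR
      (fun r hr => hcomm r hr y hyR) (odd_centralizer hno)
    intro g hg
    have hfix : ∀ c, (∀ v ∈ A, v • c = c) → g • c = a ∨ g • c = b := fun c hc => by
      refine caseI_all hS hV hN hsr hci p hp (StrongEmbed.card_fix a ▸ hdvd) a b hab R hR _ ?_
      intro r hr
      have h := hc _ (hAn g⁻¹ (inv_mem hg) r (hRA hcomm hr))
      rw [inv_inv, mul_smul, mul_smul, inv_smul_eq_iff] at h
      exact h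
    have hga := hfix a fun v hv => (hAD hv).1
    have hgb := hfix b fun v hv => (hAD hv).2
    have hgodd : Odd (orderOf g) :=
      (odd_centralizer hno).of_dvd_nat (Subgroup.orderOf_dvd_natCard _ hg)
    rcases hga with h | h
    · exact mem_inf.2 ⟨h, hgb.resolve_left fun h' => hab (smul_left_cancel g (h.trans h'.symm))⟩
    · exact absurd (eq_of_odd_swap hgodd h
        (hgb.resolve_right fun h' => hab (smul_left_cancel g (h.trans h'.symm)))) hab

end Prime

end CfsgLib.Bender.Core.CSeven
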