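import Cfsg.Agent.Bender.CharUniform
import Cfsg.Agent.Bender.CoreC7Ker
import Cfsg.Agent.Bender.CoreTop

/-!
# The degree bound in the setting of the core theorem
-/

set_option autoImplicit false
set_option linter.unusedSectionVars false
set_option linter.style.haveILetI false

namespace CfsgLib.Bender.Core.CSeven

open Subgroup
open CfsgLib.FusionLift (cj mem_cj card_cj)
open CfsgLib.Bender.GSide
open CfsgLib.Bender.Core.CSix (InvolComm vee invol_mem_vee)

universe u

variable {G : Type u} [Group G] [Finite G] {H : Subgroup G} {q : ℕ} {N : G ⧸ H → Subgroup G}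
variable {p : ℕ} [Fact p.Prime] {hV : InvolComm H} {a b : G ⧸ H} {R : Subgroup G} {u y : G}
variable (hS : Setting H) (hN : Family q N) (hsr : Semireg N) (hci : CentInv N) (hab : a ≠ b)
  (hdvd : p ∣ Nat.card {t : G // orderOf t = 2 ∧ t • a = a}) (hT : Torus hV N a b p R u y)
include hS hN hsr hci hab hdvd hT

/-- Nontrivial characters of the principal 2-block have degree at least `(|N| - 1) * |S|`. -/
theorem Torus.deg_bound (M : Ideal Cfsg.AlgInt) [M.IsPrime] (hM : Cfsg.IsPModular 2 M)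
    (χ : Cfsg.IrrCharacter G) (hχ : χ ∈ Cfsg.principalBlock M G)
    (hχ1 : χ ≠ CfsgLib.Block.oneIrr G) :
    (Nat.card (N a) - 1) * Nat.card (coreOf 2 (st a ⊓ centralizer (N a : Set G))) ≤
      CharPart.deg χ := by
  classical
  haveI := Fintype.ofFinite G
  haveI : Fact (2 : ℕ).Prime := ⟨Nat.prime_two⟩
  set L := st a ⊓ centralizer (N a : Set G) with hL
  set S := coreOf 2 L
  have hSL : S ≤ L := map_subtype_le _
  have hS2 : IsPGroup 2 S := (Solvable.isPGroup_pCore 2).map _
  have hSn : ∀ h ∈ st a, ∀ s ∈ S, h * s * h⁻¹ ∈ S := by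
    intro h hh s hs
    have hchar : (Cfsg.pCore 2 L).Characteristic := characteristic_iff_map_le.2 fun φ =>
      Solvable.le_pCore 2 (Subgroup.Normal.map (Solvable.pCore_normal 2) _ φ.surjective)
        ((Solvable.isPGroup_pCore 2).map _)
    exact (mem_normalizer_iff.1 (CfsgLib.OddLocal.UTool.normalizer_le_normalizer_map L _ hchar
      (st_le_normalizer_fixN hN hh)) s).1 hs
  have hfix : ∀ {i : G}, orderOf i = 2 → ∀ {g : G}, i • a = a → (g * i * g⁻¹) • a = a → g • a = a := by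
    intro i hi g h1 h2
    rw [mul_smul, mul_smul, ← eq_inv_smul_iff] at h2
    exact (inv_smul_eq_iff.1 (StrongEmbed.fix_unique hS.se hi h2 h1)).symm
  have hmove : ∀ g s : G, s ∈ S → s ≠ 1 → g * s * g⁻¹ ∈ st a → g ∈ st a := by
    intro g s hs hs1 hg
    obtain ⟨k, hk⟩ := hS2 ⟨s, hs⟩
    obtain ⟨j, -, hj⟩ := (Nat.dvd_prime_pow Nat.prime_two).1
      (orderOf_dvd_of_pow_eq_one (show s ^ 2 ^ k = 1 from congrArg Subtype.val hk))
    have hj0 : 0 < j := Nat.pos_of_ne_zero fun h => hs1 (orderOf_eq_one_iff.1 (by rw [hj, h, pow_zero]))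
    have ho : orderOf (s ^ 2 ^ (j - 1)) = 2 := by
      rw [orderOf_pow' _ (by positivity), hj, Nat.gcd_eq_right (pow_dvd_pow 2 (Nat.sub_le j 1)),
        Nat.pow_div (Nat.sub_le j 1) two_pos, Nat.sub_sub_self hj0, pow_one]
    have hsa : s ∈ st a := (mem_inf.1 (hSL hs)).1
    refine hfix ho (g := g) (pow_mem hsa _) ?_
    rw [← conj_pow]
    exact pow_mem hg _
  have hsy : ∀ s ∈ S, ∀ z ∈ N a, Commute s z := fun s hs z hz =>
    (mem_centralizer_iff.1 (mem_inf.1 (hSL hs)).2 z hz).symm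
  have hSne : S ≠ ⊥ := by
    intro h
    obtain ⟨t, ht, hta⟩ : ∃ t : G, orderOf t = 2 ∧ t • a = a := by
      obtain ⟨⟨t, ht⟩, -⟩ := nonempty_subtype.1 <| by
        have hpos : 0 < Nat.card {t : G // orderOf t = 2 ∧ t • a = a} := by
          obtain ⟨g, hg⟩ := exists_smul (QuotientGroup.mk 1 : G ⧸ H) a
          obtain ⟨i, hiH, hi⟩ := StrongEmbed.exists_invol hS.se
          haveI : Nonempty {t : G // orderOf t = 2 ∧ t • a = a} :=
            ⟨⟨g * i * g⁻¹, by rw [← MulAut.conj_apply, MulEquiv.orderOf_eq, hi], by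
              rw [← hg, mul_smul, mul_smul, inv_smul_smul,
                StrongEmbed.smul_mk_one_iff.2 hiH]⟩⟩
          exact Nat.card_pos
        exact ((Nat.card_pos_iff.1 hpos).1.map fun x => (⟨x, trivial⟩ :
          {x : {t : G // orderOf t = 2 ∧ t • a = a} // True}))
      exact ⟨t, ht⟩
    have htV : t ∈ vee hV a := invol_mem_vee ht hta
    have htL : t ∈ L := vee_le_fixN hS hN hsr hci hV a htV
    have hn : (zpowers (⟨t, htL⟩ : L)).Normal := by
      constructor
      intro c hc g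
      obtain ⟨i, rfl⟩ := hc
      refine ⟨i, ?_⟩
      have hcg : Commute (g : G) t := commute_of_mem_centralizer
        (hT.fixN_le hS hN hsr hci hab hdvd g.2) ht hta
      have hcg' : Commute g (⟨t, htL⟩ : L) := Subtype.ext hcg.eq
      show (⟨t, htL⟩ : L) ^ i = g * (⟨t, htL⟩ : L) ^ i * g⁻¹
      rw [(hcg'.zpow_right i).eq, mul_inv_cancel_right]
    have hp2 : IsPGroup 2 (zpowers (⟨t, htL⟩ : L)) :=
      IsPGroup.of_card (n := 1) (by rw [Nat.card_zpowers, Subgroup.orderOf_mk, ht, pow_one])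
    have htS : t ∈ S := ⟨⟨t, htL⟩, Solvable.le_pCore 2 hn hp2 (mem_zpowers _), rfl⟩
    rw [h, mem_bot] at htS
    rw [htS, orderOf_one] at ht
    exact absurd ht (by decide)
  have hcy : ∀ z ∈ N a, z ≠ 1 → centralizer ({z} : Set G) ≤ st a := by
    intro z hz hz1 c hc
    refine hsr a z hz hz1 (c • a) ?_
    rw [← mul_smul, ← mem_centralizer_singleton_iff.1 hc, mul_smul]
    exact congrArg _ (hN.le_st a hz)
  have hker : ∀ K : Subgroup G, K.Normal → N a ≤ K → K = ⊤ := by
    intro K hK hle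
    haveI := hK
    by_cases hodd : Odd (Nat.card K)
    · refine absurd ?_ (hN.ne_bot a)
      rw [← le_bot_iff, ← hS.core]
      exact hle.trans (Subgroup.normal_le_normalCore.2 (normal_odd_le hS.se hS.pair hK hodd))
    · obtain ⟨i, hi⟩ := exists_prime_orderOf_dvd_card' (G := K) 2
        (even_iff_two_dvd.1 (Nat.not_odd_iff_even.1 hodd))
      rw [eq_top_iff, ← hS.gen, closure_le]
      intro t ht
      obtain ⟨c, hc⟩ := isConj_iff.1 (StrongEmbed.isConj_of_invols hS.se
        (a := (i : G)) (b := t) (by rwa [orderOf_coe]) ht)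
      rw [← hc]
      exact hK.conj_mem _ i.2 c
  refine CharUniform.deg_ge (H := st a) hN.prime hN.odd (hN.isPGroup a) (hN.comm a) (hN.ne_bot a)
    hS2 hSne (hSL.trans inf_le_left) hSn hmove hcy hsy hker hχ1 ?_
  intro s hs z hz
  obtain ⟨hsS, hs1⟩ := CharPart.mem_els1.1 hs
  obtain ⟨k, hk⟩ := hS2 ⟨s, hsS⟩
  obtain ⟨j, -, hj⟩ := (Nat.dvd_prime_pow Nat.prime_two).1
    (orderOf_dvd_of_pow_eq_one (show s ^ 2 ^ k = 1 from congrArg Subtype.val hk))
  refine CfsgLib.Block.principal_apply_mul_core hM hj ?_ hχ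
  have hCa : centralizer ({s} : Set G) ≤ st a := fun c hc => hmove c s hsS hs1 (by
    rw [mem_centralizer_singleton_iff.1 hc, mul_inv_cancel_right]
    exact (mem_inf.1 (hSL hsS)).1)
  have hNC : N a ≤ centralizer ({s} : Set G) := fun w hw =>
    mem_centralizer_singleton_iff.2 (hsy s hsS w hw).eq.symm
  refine ⟨⟨z, hNC hz⟩, ?_, rfl⟩
  refine Solvable.le_pPrimeCore 2 (N := (N a).subgroupOf (centralizer ({s} : Set G)))
    ⟨fun w hw g => (mem_normalizer_iff.1 (hN.st_le_normalizer a (hCa g.2)) w).1 hw⟩ ?_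
    (show (⟨z, hNC hz⟩ : centralizer ({s} : Set G)) ∈ _ from hz)
  rw [Nat.card_congr (subgroupOfEquivOfLe hNC).toEquiv]
  exact Nat.coprime_two_right.2 (hN.odd_card a)

end CfsgLib.Bender.Core.CSeven
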