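/-
Bender's theorem on strongly embedded subgroups: at most `2 ^ k` automorphisms of an elementary
abelian group of order `2 ^ k` commute with a semilinear map of Frobenius type with a fixed point.
-/
import Cfsg.Agent.Bender.Semilinear
import Mathlib.FieldTheory.Galois.NormalBasis
import Mathlib.FieldTheory.Finite.Basic

set_option autoImplicit false
set_option linter.style.haveILetI false

namespace CfsgLib.Bender.FixFrob

open CfsgLib.Bender.KSix (Rep)

universe u

variable {M : Type u} [CommGroup M] [Finite M] {F : Type} [Field F] [Finite F]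

/-- The automorphisms commuting with `x ↦ c * x ^ 2` having a nontrivial fixed point are at most as
many as the points. -/
theorem card_commute_le (e : Additive M ≃+ F) {k : ℕ} (hk : Nat.card M = 2 ^ k) {g : MulAut M}
    {c : F} (hg : Rep e g c 1) {m₀ : M} (hm₀ : m₀ ≠ 1) (hfix : g m₀ = m₀) :
    Nat.card {x : MulAut M // Commute x g} ≤ 2 ^ k := by
  classical
  haveI := Fintype.ofFinite F
  haveI : CharP F 2 := by
    refine CharTwo.of_one_ne_zero_of_two_eq_zero one_ne_zero ?_
    have h1 : (Fintype.card F : F) = 0 := Nat.cast_card_eq_zero F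
    rw [Fintype.card_eq_nat_card, ← Nat.card_congr e.toEquiv, Nat.card_congr Additive.toMul, hk,
      Nat.cast_pow, Nat.cast_ofNat] at h1
    exact pow_eq_zero_iff'.1 h1 |>.1
  letI : Algebra (ZMod 2) F := ZMod.algebra F 2
  haveI : Fact (Nat.Prime 2) := ⟨Nat.prime_two⟩
  set f₀ := e (Additive.ofMul m₀) with hf₀
  have hf₀0 : f₀ ≠ 0 := fun h => hm₀ (e.map_eq_zero_iff.mp h :)
  have hc : c * f₀ ^ 2 = f₀ := by
    have := hg.2 m₀
    rw [hfix, pow_one] at this
    exact this.symm
  -- coordinates in which `g` is squaring
  let m : F → M := fun z => Additive.toMul (e.symm (f₀ * z))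
  have hgm : ∀ z, g (m z) = m (z ^ 2) := fun z => by
    refine Additive.ofMul.injective (e.injective ?_)
    rw [hg.2, pow_one]
    simp only [m, ofMul_toMul, e.apply_symm_apply]
    rw [mul_pow, ← mul_assoc, hc]
  set b := IsGalois.normalBasis (ZMod 2) F
  set w := b 1
  let Φ : {x : MulAut M // Commute x g} → M := fun x => (x : MulAut M) (m w)
  have hinj : Function.Injective Φ := by
    rintro ⟨x, hx⟩ ⟨y, hy⟩ h
    change x (m w) = y (m w) at h
    have hpow : ∀ n : ℕ, x (m (w ^ 2 ^ n)) = y (m (w ^ 2 ^ n)) := by
      intro n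
      induction n with
      | zero => simpa using h
      | succ n ih =>
        rw [pow_succ, pow_mul, ← hgm, ← MulAut.mul_apply, hx.eq, MulAut.mul_apply, ih,
          ← MulAut.mul_apply, ← hy.eq, MulAut.mul_apply]
    let S : AddSubgroup F :=
      { carrier := {z | x (m z) = y (m z)}
        zero_mem' := by
          show x (m 0) = y (m 0)
          simp [m]
        add_mem' := fun {z z'} hz hz' => by
          show x (m (z + z')) = y (m (z + z'))
          simp only [m, mul_add, map_add, toMul_add, map_mul]
          exact congr_arg₂ (· * ·) hz hz'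
        neg_mem' := fun {z} hz => by
          show x (m (-z)) = y (m (-z))
          simp only [m, mul_neg, map_neg, toMul_neg, map_inv]
          exact congrArg (·⁻¹) hz }
    have hS : AddSubgroup.toZModSubmodule 2 S = ⊤ := by
      rw [eq_top_iff, ← b.span_eq, Submodule.span_le]
      rintro _ ⟨σ, rfl⟩
      obtain ⟨n, hn⟩ := (FiniteField.bijective_frobeniusAlgHom_pow (ZMod 2) F).2 σ.toAlgHom
      have hσ : σ w = w ^ 2 ^ (n : ℕ) := by
        have := DFunLike.congr_fun hn w
        rw [Singer.frobenius_pow_apply, ZMod.card] at this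
        exact this.symm
      show x (m (b σ)) = y (m (b σ))
      rw [IsGalois.normalBasis_apply, hσ]
      exact hpow n
    refine Subtype.ext (MulEquiv.ext fun v => ?_)
    have hv : f₀⁻¹ * e (Additive.ofMul v) ∈ AddSubgroup.toZModSubmodule 2 S := hS ▸ Submodule.mem_top
    have hv' : x (m (f₀⁻¹ * e (Additive.ofMul v))) = y (m (f₀⁻¹ * e (Additive.ofMul v))) := hv
    simpa [m, mul_inv_cancel_left₀ hf₀0] using hv'
  exact (Nat.card_le_card_of_injective Φ hinj).trans_eq hk

end CfsgLib.Bender.FixFrob
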