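import Cfsg.Agent.Bender.CoreKern
import Cfsg.Agent.Bender.CoreFixFrob

/-!
The core of a strongly embedded subgroup, step C7 with the Frobenius automorphism: the counts
entering the weight inequality.
-/

set_option autoImplicit false
set_option linter.unusedSectionVars false
set_option linter.style.haveILetI false

namespace CfsgLib.Bender.Core.CSeven

open Subgroup
open CfsgLib.Bender.GSide
open CfsgLib.Bender.Core.CSix (InvolComm vee mem_vee invol_mem_vee st_le_normalizer_vee)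

universe u

variable {G : Type u} [Group G] [Finite G] {H : Subgroup G}
variable {N : G ⧸ H → Subgroup G} {hV : InvolComm H} {a b : G ⧸ H}

/-- The part of the two-point stabilizer fixing all involutions of the point. -/
abbrev kerD (hV : InvolComm H) (a b : G ⧸ H) : Subgroup G :=
  st a ⊓ st b ⊓ centralizer (vee hV a : Set G)

/-- The order of the group induced on the two-core by that part. -/
noncomputable abbrev eZero (hV : InvolComm H) (N : G ⧸ H → Subgroup G) (a b : G ⧸ H) : ℕ :=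
  (centralizer (sTwo N a : Set G)).relIndex (kerD hV a b)

/-- The number of elements of the image of the point stabilizer fixing an involution. -/
noncomputable abbrev aFix (hV : InvolComm H) (a : G ⧸ H) (t : vee hV a) : ℕ :=
  Nat.card {x : MulAut (vee hV a) // x ∈ (act hV a).range ∧ x t = t}

/-- A product map bounds an order. -/
theorem card_le_mul {A B C : Subgroup G} (h : ∀ c ∈ C, ∃ x ∈ A, ∃ y ∈ B, x * y = c) :
    Nat.card C ≤ Nat.card A * Nat.card B := by
  rw [← Nat.card_prod]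
  choose x hx y hy hxy using h
  refine Nat.card_le_card_of_injective
    (fun c : C => ((⟨x c c.2, hx c c.2⟩, ⟨y c c.2, hy c c.2⟩) : A × B)) fun c c' hcc => ?_
  have h1 : x c c.2 = x c' c'.2 := congrArg Subtype.val (congrArg Prod.fst hcc)
  have h2 : y c c.2 = y c' c'.2 := congrArg Subtype.val (congrArg Prod.snd hcc)
  exact Subtype.ext ((hxy c c.2).symm.trans (by rw [h1, h2, hxy]))

theorem mul_card_le {A B C : Subgroup G} (hA : A ≤ C) (hB : B ≤ C)
    (hd : ∀ x ∈ A, x ∈ B → x = 1) : Nat.card A * Nat.card B ≤ Nat.card C := by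
  rw [← Nat.card_prod]
  refine Nat.card_le_card_of_injective
    (fun z : A × B => (⟨(z.1 : G) * z.2, C.mul_mem (hA z.1.2) (hB z.2.2)⟩ : C))
    fun z z' hzz => ?_
  have h : (z.1 : G) * z.2 = z'.1 * z'.2 := congrArg Subtype.val hzz
  have h1 : (z'.1 : G)⁻¹ * z.1 = z'.2 * (z.2 : G)⁻¹ := by
    rw [eq_mul_inv_iff_mul_eq, mul_assoc, h, inv_mul_cancel_left]
  have h2 := hd _ (A.mul_mem (A.inv_mem z'.1.2) z.1.2)
    (h1 ▸ B.mul_mem z'.2.2 (B.inv_mem z.2.2))
  have h3 : (z'.1 : G) = z.1 := inv_mul_eq_one.1 h2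
  refine Prod.ext (Subtype.ext h3.symm) (Subtype.ext ?_)
  rw [h3] at h
  exact mul_left_cancel h

namespace Kern

variable (K : Kern hV N a b)
include K

theorem card_fixL_le :
    Nat.card ↥(fixL N a) ≤ Nat.card ↥(sTwo N a) * Nat.card ↥(fixL N a ⊓ oddSt a) := by
  refine card_le_mul fun c hc => ?_
  obtain ⟨x, y, hxy, ⟨k, hk⟩, hy, hxz, hyz⟩ := K.exists_parts c
  have hxL := zpowers_le.2 hc hxz
  have hyL := zpowers_le.2 hc hyz
  refine ⟨x, K.mem_sTwo_of_fixL hxL hk, y, mem_inf.2 ⟨hyL, ?_⟩, hxy⟩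
  refine K.mem_oddSt_of_commute (mem_inf.1 hyL).1 hy fun s hs => ?_
  haveI := K.nil
  have h := FGSA.commute_of_coprime_orderOf (⟨y, hyL⟩ : fixL N a) ⟨s, K.sTwo_le_fixL hs⟩ ?_
  · exact congrArg Subtype.val h.eq
  · rw [Subgroup.orderOf_mk, Subgroup.orderOf_mk]
    obtain ⟨j, hj⟩ := K.isPGroup_sTwo ⟨s, hs⟩
    refine Nat.Coprime.coprime_dvd_right (orderOf_dvd_of_pow_eq_one (congrArg Subtype.val hj))
      ((Nat.coprime_two_right.2 hy).pow_right j)

theorem card_kerD :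
    Nat.card ↥(kerD hV a b) =
      eZero hV N a b * Nat.card ↥(centralizer (sTwo N a : Set G) ⊓ kerD hV a b) := by
  have h := relIndex_mul_relIndex (⊥ : Subgroup G) (centralizer (sTwo N a : Set G) ⊓ kerD hV a b)
    (kerD hV a b) bot_le inf_le_right
  rw [relIndex_bot_left, relIndex_bot_left, inf_relIndex_right] at h
  rw [← h, mul_comm]

theorem fixed_mul_le :
    Nat.card ↥(fixL N a ⊓ oddSt a) * Nat.card ↥(centralizer (sTwo N a : Set G) ⊓ kerD hV a b) ≤
      Nat.card ↥(oddSt a) := by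
  refine mul_card_le inf_le_right (fun d hd => ?_) fun x hx hxd => ?_
  · have hdD : d ∈ st a ⊓ st b := (mem_inf.1 (mem_inf.1 hd).2).1
    exact K.mem_oddSt_of_commute (mem_inf.1 hdD).1
      (K.odd.of_dvd_nat (Subgroup.orderOf_dvd_natCard _ hdD)) fun s hs =>
        (mem_centralizer_iff.1 (mem_inf.1 hd).1 s hs).symm
  · exact K.disj x (mem_inf.1 hx).1
      (MulAction.mem_stabilizer_iff.1 (mem_inf.1 (mem_inf.1 (mem_inf.1 hxd).2).1).2)

theorem card_kerV_le :
    Nat.card ↥(st a ⊓ centralizer (vee hV a : Set G)) ≤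
      eZero hV N a b * (Nat.card ↥(sTwo N a) * Nat.card ↥(oddSt a)) :=
  calc Nat.card ↥(st a ⊓ centralizer (vee hV a : Set G))
      ≤ Nat.card ↥(fixL N a) * Nat.card ↥(kerD hV a b) := card_le_mul K.split
    _ ≤ (Nat.card ↥(sTwo N a) * Nat.card ↥(fixL N a ⊓ oddSt a)) * Nat.card ↥(kerD hV a b) :=
        Nat.mul_le_mul_right _ K.card_fixL_le
    _ = eZero hV N a b * (Nat.card ↥(sTwo N a) * (Nat.card ↥(fixL N a ⊓ oddSt a) *
          Nat.card ↥(centralizer (sTwo N a : Set G) ⊓ kerD hV a b))) := by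
        rw [K.card_kerD]; ring
    _ ≤ _ := Nat.mul_le_mul_left _ (Nat.mul_le_mul_left _ K.fixed_mul_le)

/-- The bound on the centralizer of an involution. -/
theorem card_centralizer_le {t : G} (ht : orderOf t = 2) (hta : t ∈ st a) :
    Nat.card ↥(centralizer ({t} : Set G)) ≤ aFix hV a ⟨t, invol_mem_vee ht hta⟩ *
      (eZero hV N a b * (Nat.card ↥(sTwo N a) * Nat.card ↥(oddSt a))) := by
  set C := centralizer ({t} : Set G)
  have hC : C ≤ st a := K.centralizer_le (K.invol_mem hta ht) fun h => by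
    rw [h, orderOf_one] at ht; exact absurd ht (by norm_num)
  set f := (act hV a).comp (Subgroup.inclusion hC)
  rw [← f.ker.card_mul_index, index_ker, mul_comm]
  refine Nat.mul_le_mul ?_ (le_trans ?_ K.card_kerV_le)
  · refine Nat.card_le_card_of_injective
      (fun x : f.range => (⟨x.1, by obtain ⟨c, hc⟩ := x.2; exact ⟨_, hc⟩, by
        obtain ⟨c, hc⟩ := x.2
        rw [← hc]
        refine Subtype.ext ?_
        show (c : G) * t * (c : G)⁻¹ = t
        rw [mem_centralizer_singleton_iff.1 c.2, mul_inv_cancel_right]⟩ :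
        {x : MulAut (vee hV a) // x ∈ (act hV a).range ∧ x ⟨t, invol_mem_vee ht hta⟩ =
          ⟨t, invol_mem_vee ht hta⟩}))
      fun x y h => Subtype.ext (congrArg (fun z : {x : MulAut (vee hV a) //
        x ∈ (act hV a).range ∧ x ⟨t, invol_mem_vee ht hta⟩ = ⟨t, invol_mem_vee ht hta⟩} => z.1) h)
  · refine Nat.card_le_card_of_injective (fun c : f.ker => (⟨((c : C) : G),
      mem_inf.2 ⟨hC (c : C).2, (act_eq_one (g := Subgroup.inclusion hC c)).1 c.2⟩⟩ :
      ↥(st a ⊓ centralizer (vee hV a : Set G)))) fun x y h => ?_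
    exact Subtype.ext (Subtype.ext
      (congrArg (fun z : ↥(st a ⊓ centralizer (vee hV a : Set G)) => (z : G)) h :))

open Classical in
/-- The bound on the elements centralizing `g` modulo the odd core. -/
theorem exists_cg [Fintype G] {g t : G} (hg : g ∈ st a) (ht : orderOf t = 2) (hta : t ∈ st a)
    (hgt : Commute g t) {k : ℕ}
    (hfix : Nat.card {x : MulAut (vee hV a) // Commute x (act hV a ⟨g, hg⟩)} ≤ 2 ^ k) :
    ∃ Cg : Subgroup G, (∀ c ∈ st a, c * g * c⁻¹ * g⁻¹ ∈ oddSt a → c ∈ Cg) ∧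
      Nat.card Cg ≤ 2 ^ (k + 1) * eZero hV N a b *
        ((CharWeight.fixed1 (sTwo N a) g).card * Nat.card ↥(oddSt a)) := by
  set J := (oddSt a).subgroupOf (st a) with hJ
  haveI : J.Normal := ⟨fun y hy h => (mem_normalizer_iff.1 (K.oddSt_norm h.2) y).1 hy⟩
  set π := QuotientGroup.mk' J
  set Cg := ((centralizer {π ⟨g, hg⟩}).comap π).map (st a).subtype with hCg
  have hmem : ∀ c (hc : c ∈ st a), c ∈ Cg ↔ c * g * c⁻¹ * g⁻¹ ∈ oddSt a := by
    intro c hc
    have e : c * g * c⁻¹ * g⁻¹ ∈ oddSt a ↔ π (⟨c, hc⟩ * ⟨g, hg⟩ * ⟨c, hc⟩⁻¹ * ⟨g, hg⟩⁻¹) = 1 :=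
      (QuotientGroup.eq_one_iff (N := J) (⟨c, hc⟩ * ⟨g, hg⟩ * ⟨c, hc⟩⁻¹ * ⟨g, hg⟩⁻¹)).symm
    rw [e, map_mul, map_mul, map_mul, map_inv, map_inv, mul_inv_eq_one, mul_inv_eq_iff_eq_mul]
    constructor
    · rintro ⟨z, hz, hzc⟩
      obtain rfl : z = ⟨c, hc⟩ := Subtype.ext hzc
      exact mem_centralizer_singleton_iff.1 hz
    · intro h
      exact ⟨⟨c, hc⟩, mem_centralizer_singleton_iff.2 h, rfl⟩
  have hCga : Cg ≤ st a := map_subtype_le _
  refine ⟨Cg, fun c hc h => (hmem c hc).2 h, ?_⟩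
  set f := (act hV a).comp (Subgroup.inclusion hCga)
  set Kv := st a ⊓ centralizer (vee hV a : Set G) with hKv
  have h1 : Nat.card Cg ≤ 2 ^ k * Nat.card ↥(Cg ⊓ Kv) := by
    rw [← f.ker.card_mul_index, index_ker, mul_comm]
    refine Nat.mul_le_mul (le_trans ?_ hfix) ?_
    · refine Nat.card_le_card_of_injective (fun x : f.range => (⟨x.1, ?_⟩ :
        {x : MulAut (vee hV a) // Commute x (act hV a ⟨g, hg⟩)}))
        fun x y h => Subtype.ext (congrArg (fun z : {x : MulAut (vee hV a) //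
          Commute x (act hV a ⟨g, hg⟩)} => z.1) h)
      obtain ⟨c, hc⟩ := x.2
      rw [← hc]
      have h := (hmem c (hCga c.2)).1 c.2
      have h' := (act_eq_one (g := ⟨(c : G), hCga c.2⟩ * ⟨g, hg⟩ * ⟨(c : G), hCga c.2⟩⁻¹ *
        ⟨g, hg⟩⁻¹)).2 (K.oddSt_le_vee h)
      rw [map_mul, map_mul, map_mul, map_inv, map_inv, mul_inv_eq_one, mul_inv_eq_iff_eq_mul] at h'
      exact h'
    · refine Nat.card_le_card_of_injective (fun c : f.ker => (⟨((c : Cg) : G),
        mem_inf.2 ⟨(c : Cg).2, mem_inf.2 ⟨hCga (c : Cg).2,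
          (act_eq_one (g := Subgroup.inclusion hCga c)).1 c.2⟩⟩⟩ : ↥(Cg ⊓ Kv))) fun x y h => ?_
      exact Subtype.ext (Subtype.ext (congrArg (fun z : ↥(Cg ⊓ Kv) => (z : G)) h :))
  -- the part in the product of the two cores
  set M := sTwo N a ⊔ oddSt a with hM
  have hSn : sTwo N a ≤ normalizer ((oddSt a : Subgroup G) : Set G) := K.sTwo_le.trans K.oddSt_norm
  have hMK : M ≤ Kv := sup_le
    (le_inf K.sTwo_le (K.sTwo_le_fixL.trans K.le_vee)) (le_inf K.oddSt_le K.oddSt_le_vee)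
  set Sg := sTwo N a ⊓ centralizer ({g} : Set G) with hSg
  have h2 : Nat.card ↥(M ⊓ (Cg ⊓ Kv)) ≤ Nat.card Sg * Nat.card ↥(oddSt a) := by
    refine card_le_mul fun c hc => ?_
    obtain ⟨hcM, hcC, -⟩ := hc
    obtain ⟨s, hs, j, hj, rfl⟩ := (Solvable.mem_sup_of_le_normalizer hSn).1 hcM
    refine ⟨s, mem_inf.2 ⟨hs, mem_centralizer_singleton_iff.2 ?_⟩, j, hj, rfl⟩
    have hsa := K.sTwo_le hs
    have hc' := (hmem _ (hCga hcC)).1 hcC
    have hj' : j * g * j⁻¹ * g⁻¹ ∈ oddSt a := by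
      rw [show j * g * j⁻¹ * g⁻¹ = j * (g * j⁻¹ * g⁻¹) by group]
      exact mul_mem hj ((mem_normalizer_iff.1 (K.oddSt_norm hg) _).1 (inv_mem hj))
    have hsj : s * (j * g * j⁻¹ * g⁻¹) * s⁻¹ ∈ oddSt a :=
      (mem_normalizer_iff.1 (K.oddSt_norm hsa) _).1 hj'
    have hJs : s * g * s⁻¹ * g⁻¹ ∈ oddSt a := by
      have := mul_mem (inv_mem hsj) hc'
      rwa [show (s * (j * g * j⁻¹ * g⁻¹) * s⁻¹)⁻¹ * (s * j * g * (s * j)⁻¹ * g⁻¹) =
        s * g * s⁻¹ * g⁻¹ by group] at this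
    have hS : s * g * s⁻¹ * g⁻¹ ∈ sTwo N a := by
      rw [show s * g * s⁻¹ * g⁻¹ = s * (g * s⁻¹ * g⁻¹) by group]
      exact mul_mem hs ((mem_normalizer_iff.1 (K.sTwo_norm hg) _).1 (inv_mem hs))
    exact (mul_inv_eq_iff_eq_mul.1 (mul_inv_eq_one.1 (disjoint_def.1 K.disjoint_core hS hJs)))
  -- the index of the product of the two cores
  have h3 : M.relIndex Kv ≤ eZero hV N a b := by
    have hm : Nat.card ↥(sTwo N a) * Nat.card ↥(oddSt a) ≤ Nat.card M :=
      mul_card_le le_sup_left le_sup_right fun x hx hx' => disjoint_def.1 K.disjoint_core hx hx'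
    have h := relIndex_mul_relIndex (⊥ : Subgroup G) M Kv bot_le hMK
    rw [relIndex_bot_left, relIndex_bot_left] at h
    refine Nat.le_of_mul_le_mul_left ?_ (show 0 < Nat.card ↥(sTwo N a) * Nat.card ↥(oddSt a) from
      Nat.mul_pos Nat.card_pos Nat.card_pos)
    calc Nat.card ↥(sTwo N a) * Nat.card ↥(oddSt a) * M.relIndex Kv
        ≤ Nat.card M * M.relIndex Kv := Nat.mul_le_mul_right _ hm
      _ = Nat.card Kv := h
      _ ≤ _ := K.card_kerV_le
      _ = _ := by ring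
  have h4 : Nat.card ↥(Cg ⊓ Kv) ≤ eZero hV N a b * (Nat.card Sg * Nat.card ↥(oddSt a)) := by
    have h := relIndex_mul_relIndex (⊥ : Subgroup G) (M ⊓ (Cg ⊓ Kv)) (Cg ⊓ Kv) bot_le inf_le_right
    rw [relIndex_bot_left, relIndex_bot_left, inf_relIndex_right] at h
    rw [← h, mul_comm]
    refine Nat.mul_le_mul (le_trans ?_ h3) h2
    exact relIndex_le_of_le_right inf_le_right index_ne_zero_of_finite
  have h5 : Nat.card Sg ≤ 2 * (CharWeight.fixed1 (sTwo N a) g).card := by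
    have he : CharPart.els1 Sg = CharWeight.fixed1 (sTwo N a) g := by
      ext z
      simp only [CharWeight.fixed1, Finset.mem_filter, CharPart.mem_els1, hSg, mem_inf,
        mem_centralizer_singleton_iff]
      constructor
      · rintro ⟨⟨h, h'⟩, h''⟩
        exact ⟨⟨h, h''⟩, h'.symm⟩
      · rintro ⟨⟨h, h''⟩, h'⟩
        exact ⟨⟨h, h'.eq.symm⟩, h''⟩
    have hc := CharPart.card_els1 Sg
    rw [he] at hc
    have hpos : 0 < (CharWeight.fixed1 (sTwo N a) g).card := Finset.card_pos.2 ⟨t, by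
      rw [← he, CharPart.mem_els1, hSg, mem_inf, mem_centralizer_singleton_iff]
      exact ⟨⟨K.invol_mem hta ht, hgt.eq.symm⟩, fun h => by
        rw [h, orderOf_one] at ht; exact absurd ht (by norm_num)⟩⟩
    omega
  calc Nat.card Cg ≤ 2 ^ k * Nat.card ↥(Cg ⊓ Kv) := h1
    _ ≤ 2 ^ k * (eZero hV N a b * (Nat.card Sg * Nat.card ↥(oddSt a))) := Nat.mul_le_mul_left _ h4
    _ ≤ 2 ^ k * (eZero hV N a b * ((2 * (CharWeight.fixed1 (sTwo N a) g).card) *
          Nat.card ↥(oddSt a))) := by gcongr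
    _ = _ := by rw [pow_succ]; ring

end Kern

end CfsgLib.Bender.Core.CSeven
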