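import Cfsg.Agent.Bender.CoreV

/-!
The core of a strongly embedded subgroup, step C7: a two point stabilizer induces the Frobenius
automorphism of the field of its coordinates, or centralizes the linear maps of some prime order.
-/

set_option autoImplicit false
set_option linter.unusedSectionVars false
set_option linter.style.haveILetI false

namespace CfsgLib.Bender.Semilinear

open CfsgLib.Bender.KSix (Rep)

universe u

variable {M : Type u} [CommGroup M] [Finite M] {F : Type} [Field F] [Finite F]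
  {e : Additive M ≃+ F} {k : ℕ}

theorem Rep.congr (hF : Nat.card F = 2 ^ k) {d : MulAut M} {a : F} {i j : ℕ} (h : Rep e d a i)
    (hij : i % k = j % k) : Rep e d a j :=
  ⟨h.1, fun m => by rw [h.2, frob_eq hF hij]⟩

/-- A group of semilinear maps contains a map inducing the Frobenius automorphism, or centralizes
the linear maps of some prime order dividing the number of nonzero vectors. -/
theorem frob_or_central (hk : 2 ≤ k) (hF : Nat.card F = 2 ^ k) (D : Subgroup (MulAut M))
    (hrep : ∀ d ∈ D, ∃ c i, Rep e d c i) :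
    (∃ g ∈ D, ∃ c, Rep e g c 1) ∨
      ∃ p : ℕ, p.Prime ∧ p ∣ 2 ^ k - 1 ∧
        ∀ d ∈ D, ∀ x : MulAut M, Lin e x → x ^ p = 1 → Commute d x := by
  classical
  haveI : NeZero k := ⟨by omega⟩
  let J : AddSubgroup (ZMod k) :=
    { carrier := {z | ∃ d ∈ D, ∃ c i, Rep e d c i ∧ (i : ZMod k) = z}
      zero_mem' := ⟨1, one_mem _, 1, 0, KSix.Rep.one, Nat.cast_zero⟩
      add_mem' := by
        rintro _ _ ⟨d, hd, c, i, hr, rfl⟩ ⟨d', hd', c', i', hr', rfl⟩
        exact ⟨d * d', mul_mem hd hd', _, _, hr.mul hr', Nat.cast_add _ _⟩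
      neg_mem' := by
        rintro _ ⟨d, hd, c, i, hr, rfl⟩
        obtain ⟨c', hc'⟩ := hr.pow (k - 1)
        exact ⟨d ^ (k - 1), pow_mem hd _, c', _, hc', by
          rw [Nat.cast_mul, Nat.cast_sub (by omega : 1 ≤ k), ZMod.natCast_self, Nat.cast_one,
            zero_sub, neg_one_mul]⟩ }
  obtain ⟨⟨a, ha⟩, hgen⟩ := IsAddCyclic.exists_generator (α := J)
  by_cases hg : Nat.gcd a.val k = 1
  · left
    obtain ⟨d, hd, c, i, hr, hi⟩ := ha
    have hi' : i % k = a.val % k := by
      rw [← hi, ZMod.val_natCast, Nat.mod_mod]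
    obtain ⟨n, -, hn⟩ := Nat.exists_mul_mod_eq_one_of_coprime (show Nat.Coprime a.val k from hg)
      (show 1 < k by omega)
    obtain ⟨c', hc'⟩ := hr.pow n
    refine ⟨d ^ n, pow_mem hd _, c', Rep.congr hF hc' ?_⟩
    rw [Nat.mul_mod, hi', ← Nat.mul_mod, Nat.mul_comm, hn, Nat.one_mod_eq_one.2 (by omega)]
  · right
    obtain ⟨l, hl, hla⟩ := Nat.exists_prime_and_dvd hg
    obtain ⟨p, hp, hpl⟩ := Nat.exists_prime_and_dvd (show 2 ^ l - 1 ≠ 1 from by
      have := Nat.pow_le_pow_right (show 1 ≤ 2 by norm_num) hl.two_le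
      omega)
    refine ⟨p, hp, hpl.trans (Nat.pow_sub_one_dvd_pow_sub_one 2 (hla.trans (Nat.gcd_dvd_right _ _))),
      fun d hd x hx hxp => ?_⟩
    obtain ⟨c, i, hr⟩ := hrep d hd
    obtain ⟨z, hz⟩ := AddSubgroup.mem_zmultiples_iff.1
      (hgen ⟨(i : ZMod k), d, hd, c, i, hr, rfl⟩)
    have hli : l ∣ i := by
      have h1 : (z • a : ZMod k) = (i : ZMod k) := congrArg Subtype.val hz
      have h2 := congrArg (ZMod.castHom (hla.trans (Nat.gcd_dvd_right _ _)) (ZMod l)) h1
      have h3 : ZMod.castHom (hla.trans (Nat.gcd_dvd_right _ _)) (ZMod l) a = 0 := by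
        rw [ZMod.castHom_apply, ← ZMod.natCast_val, ZMod.natCast_eq_zero_iff]
        exact hla.trans (Nat.gcd_dvd_left _ _)
      rw [map_zsmul, map_natCast, h3, smul_zero] at h2
      exact (ZMod.natCast_eq_zero_iff _ _).1 h2.symm
    have hpi : p ∣ 2 ^ i - 1 := hpl.trans (Nat.pow_sub_one_dvd_pow_sub_one 2 hli)
    have h1 : x ^ (2 ^ i - 1) = 1 := by
      obtain ⟨w, hw⟩ := hpi
      rw [hw, pow_mul, hxp, one_pow]
    have h2 : x ^ 2 ^ i = x := by
      rw [show 2 ^ i = (2 ^ i - 1) + 1 by have := Nat.one_le_two_pow (n := i); omega, pow_succ, h1,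
        one_mul]
    exact mul_inv_eq_iff_eq_mul.1 ((Lin.conj hF hr hx).trans h2)

end CfsgLib.Bender.Semilinear
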