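import Mathlib.LinearAlgebra.Charpoly.Basic
import Mathlib.LinearAlgebra.Dimension.Free
import Mathlib.FieldTheory.IsAlgClosed.AlgebraicClosure
import Mathlib.FieldTheory.Finite.Basic
import Mathlib.Algebra.Module.ZMod

/-!
An elementary abelian group with a fixed-point-free cyclic group of order `2 ^ k - 1` that is
squared by another automorphism is large.
-/

set_option autoImplicit false
set_option linter.style.haveILetI false
set_option linter.unusedSectionVars false

namespace CfsgLib.Bender.NormBound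

open Polynomial

/-- An odd number congruent to a power of `2` modulo `2 ^ k - 1` and larger than `1` is at least
`2 ^ k + 1`. -/
theorem odd_ge {k Q i : ℕ} (hk : 2 ≤ k) (hi : i < k) (hQ : Odd Q) (hQ1 : 1 < Q)
    (h : Q % (2 ^ k - 1) = 2 ^ i % (2 ^ k - 1)) : 2 ^ k + 1 ≤ Q := by
  have hk4 : 4 ≤ 2 ^ k := le_trans (by norm_num) (Nat.pow_le_pow_right two_pos hk)
  have hi2 : 2 * 2 ^ i ≤ 2 ^ k := by
    rw [← pow_succ']; exact Nat.pow_le_pow_right two_pos (by omega)
  have hkev : Even (2 ^ k) := Nat.even_pow.2 ⟨even_two, by omega⟩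
  obtain ⟨c, hc⟩ := hkev
  obtain ⟨j, hj⟩ := hQ
  rw [Nat.mod_eq_of_lt (a := 2 ^ i) (by omega)] at h
  have hdiv := Nat.div_add_mod Q (2 ^ k - 1)
  rcases Nat.eq_zero_or_pos i with rfl | hi0
  · rw [pow_zero] at h
    rcases Nat.lt_or_ge (Q / (2 ^ k - 1)) 2 with ht | ht
    · interval_cases hq : Q / (2 ^ k - 1)
      · omega
      · omega
    · have := Nat.mul_le_mul_left (2 ^ k - 1) ht
      omega
  · obtain ⟨e, he⟩ : Even (2 ^ i) := Nat.even_pow.2 ⟨even_two, by omega⟩
    have hpos : 2 ≤ 2 ^ i := le_trans (by norm_num) (Nat.pow_le_pow_right two_pos hi0)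
    rcases Nat.eq_zero_or_pos (Q / (2 ^ k - 1)) with ht | ht
    · rw [ht, mul_zero] at hdiv; omega
    · have := Nat.le_mul_of_pos_right (2 ^ k - 1) ht
      omega

section Operator

variable {N : Type*} [CommGroup N] {q : ℕ} [Module (ZMod q) (Additive N)]

/-- An automorphism as a linear map. -/
def operator (a : MulAut N) : Module.End (ZMod q) (Additive N) :=
  (MulEquiv.toAdditive a).toAddMonoidHom.toZModLinearMap q

theorem operator_mul (a b : MulAut N) :
    (operator (a * b) : Module.End (ZMod q) (Additive N)) = operator a * operator b :=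
  LinearMap.ext fun _ => rfl

theorem operator_one : (operator (1 : MulAut N) : Module.End (ZMod q) (Additive N)) = 1 :=
  LinearMap.ext fun _ => rfl

/-- Automorphisms as linear maps. -/
def operatorHom : MulAut N →* Module.End (ZMod q) (Additive N) where
  toFun := operator
  map_one' := operator_one
  map_mul' := operator_mul

end Operator

variable {N : Type*} [CommGroup N] [Finite N] [Nontrivial N] {q k : ℕ}

/-- The bound. -/
theorem pow_le_card (hq : q.Prime) (hodd : Odd q) (hk : 2 ≤ k) (hexp : ∀ x : N, x ^ q = 1)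
    (c g : MulAut N) (hc : c ^ (2 ^ k - 1) = 1)
    (hfix : ∀ j, 0 < j → j < 2 ^ k - 1 → ∀ x, (c ^ j) x = x → x = 1)
    (hg : g * c * g⁻¹ = c ^ 2) : (2 ^ k + 1) ^ k ≤ Nat.card N := by
  classical
  haveI : Fact q.Prime := ⟨hq⟩
  set m := 2 ^ k - 1 with hm
  have hk4 : 4 ≤ 2 ^ k := le_trans (by norm_num) (Nat.pow_le_pow_right two_pos hk)
  letI : Module (ZMod q) (Additive N) :=
    AddCommGroup.zmodModule (n := q) (G := Additive N) fun x => hexp x.toMul
  let End' := Module.End (ZMod q) (Additive N)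
  let E : MulAut N →* Module.End (ZMod q) (Additive N) := operatorHom
  set C := E c with hC
  set P := minpoly (ZMod q) C with hP
  have hint : IsIntegral (ZMod q) C := Algebra.IsIntegral.isIntegral C
  haveI : Nontrivial (Module.End (ZMod q) (Additive N)) := by
    obtain ⟨x, hx⟩ := exists_ne (1 : N)
    refine ⟨⟨1, 0, fun h => hx ?_⟩⟩
    exact Additive.ofMul.injective (LinearMap.congr_fun h (Additive.ofMul x))
  have hPdeg : P.degree ≠ 0 := (minpoly.degree_pos hint).ne'
  have hP0 : P ≠ 0 := minpoly.ne_zero hint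
  have hCm : C ^ m = 1 := by rw [hC, ← map_pow, hc, map_one]
  obtain ⟨x₀, hx₀⟩ := IsAlgClosed.exists_aeval_eq_zero (AlgebraicClosure (ZMod q)) P hPdeg
  -- the square of a root is a root
  have hsq : ∀ x : AlgebraicClosure (ZMod q), aeval x P = 0 → aeval (x ^ 2) P = 0 := by
    intro x hx
    have hu : IsUnit (E g) := ⟨⟨E g, E g⁻¹, by rw [← map_mul, mul_inv_cancel, map_one],
      by rw [← map_mul, inv_mul_cancel, map_one]⟩, rfl⟩
    have hgC : E g * C = C ^ 2 * E g := by
      rw [hC, ← map_pow, ← map_mul, ← map_mul, ← hg, inv_mul_cancel_right]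
    have hpoly : ∀ R : (ZMod q)[X], E g * aeval C R = aeval (C ^ 2) R * E g := by
      intro R
      induction R using Polynomial.induction_on' with
      | add R S hR hS => rw [map_add, map_add, mul_add, hR, hS, add_mul]
      | monomial n a =>
        rw [aeval_monomial, aeval_monomial, ← mul_assoc, ← Algebra.commutes, mul_assoc, mul_assoc]
        congr 1
        exact SemiconjBy.pow_right hgC n
    have h2 : aeval (C ^ 2) P = 0 := by
      refine hu.mul_left_eq_zero.1 ?_
      rw [← hpoly, minpoly.aeval, mul_zero]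
    obtain ⟨R, hR⟩ : P ∣ P.comp (X ^ 2) := minpoly.dvd _ _ (by rw [aeval_comp, map_pow, aeval_X, h2])
    have h3 : aeval x (P.comp (X ^ 2)) = 0 := by rw [hR, map_mul, hx, zero_mul]
    rwa [aeval_comp, map_pow, aeval_X] at h3
  -- Frobenius images of roots are roots
  have hfrob : ∀ x : AlgebraicClosure (ZMod q), aeval x P = 0 → aeval (x ^ q) P = 0 := by
    intro x hx
    rw [← Polynomial.expand_aeval, ZMod.expand_card, map_pow, hx, zero_pow hq.ne_zero]
  have horb : ∀ i l : ℕ, aeval (x₀ ^ (2 ^ i * q ^ l)) P = 0 := by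
    intro i
    induction i with
    | zero =>
      intro l
      induction l with
      | zero => simpa using hx₀
      | succ l ihl => rw [pow_succ q, ← mul_assoc, pow_mul]; exact hfrob _ ihl
    | succ i ihi => intro l; rw [pow_succ 2, mul_right_comm, pow_mul]; exact hsq _ (ihi l)
  -- a root has order `m`
  have hxm : x₀ ^ m = 1 := by
    obtain ⟨R, hR⟩ : P ∣ X ^ m - 1 := minpoly.dvd _ _ (by simp [hCm])
    have h : aeval x₀ (X ^ m - 1 : (ZMod q)[X]) = 0 := by rw [hR, map_mul, hx₀, zero_mul]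
    simpa [sub_eq_zero] using h
  have hord : orderOf x₀ = m := by
    refine (orderOf_eq_iff (by omega)).2 ⟨hxm, fun j hj hj0 hxj => ?_⟩
    set R : (ZMod q)[X] := X ^ j - 1 with hRd
    set D := EuclideanDomain.gcd P R with hD
    obtain ⟨P', hP'⟩ := EuclideanDomain.gcd_dvd_left P R
    obtain ⟨R', hR'⟩ := EuclideanDomain.gcd_dvd_right P R
    rw [← hD] at hP' hR'
    have hDx : aeval x₀ D = 0 := by
      rw [hD, EuclideanDomain.gcd_eq_gcd_ab P R, map_add, map_mul, map_mul, hx₀,
        show aeval x₀ R = 0 by simp [hRd, hxj], zero_mul, zero_mul, add_zero]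
    have hinj : Function.Injective (aeval C R) := by
      rw [injective_iff_map_eq_zero]
      intro v hv
      rw [hRd, map_sub, map_pow, aeval_X, map_one, LinearMap.sub_apply, sub_eq_zero, hC,
        ← map_pow] at hv
      exact congrArg Additive.ofMul (hfix j hj0 hj v.toMul hv)
    have hDinj : Function.Injective (aeval C D) := by
      rw [hR', mul_comm, map_mul] at hinj
      exact Function.Injective.of_comp hinj
    have hP'0 : aeval C P' = 0 := by
      refine LinearMap.ext fun v => hDinj ?_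
      show aeval C D (aeval C P' v) = aeval C D 0
      rw [map_zero, ← Module.End.mul_apply, ← map_mul, ← hP', minpoly.aeval]
      rfl
    have hD0 : D ≠ 0 := fun h => hP0 (by rw [hP', h, zero_mul])
    have hP'ne : P' ≠ 0 := fun h => hP0 (by rw [hP', h, mul_zero])
    have h1 := minpoly.degree_le_of_ne_zero (ZMod q) C hP'ne hP'0
    rw [← hP, degree_eq_natDegree hP0, degree_eq_natDegree hP'ne, Nat.cast_le, hP',
      natDegree_mul hD0 hP'ne] at h1
    have h2 : D = Polynomial.C (D.coeff 0) := eq_C_of_natDegree_eq_zero (by omega)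
    rw [h2, aeval_C, map_eq_zero] at hDx
    exact hD0 (by rw [h2, hDx, map_zero])
  -- the least exponent with `q ^ f` a power of two modulo `m`
  have hcop : q.Coprime m := by
    refine hq.coprime_iff_not_dvd.2 fun ⟨t, ht⟩ => ?_
    have ht0 : 0 < t := Nat.pos_of_ne_zero fun h => by rw [h, mul_zero] at ht; omega
    have htm : t < m := by
      have := Nat.mul_le_mul_right t hq.two_le
      omega
    -- a root of order divisible by the characteristic
    have h : (x₀ ^ t) ^ q = (1 : AlgebraicClosure (ZMod q)) ^ q := by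
      rw [one_pow, ← pow_mul, mul_comm, ← ht, hxm]
    have h' : x₀ ^ t = 1 := frobenius_inj (AlgebraicClosure (ZMod q)) q h
    exact absurd (hord ▸ orderOf_le_of_pow_eq_one ht0 h') (not_le.2 htm)
  haveI : NeZero m := ⟨by omega⟩
  have hex : ∃ f, 0 < f ∧ ∃ i < k, (q ^ f : ZMod m) = 2 ^ i := by
    refine ⟨Nat.totient m, Nat.totient_pos.2 (by omega), 0, by omega, ?_⟩
    have := (ZMod.natCast_eq_natCast_iff _ _ _).2 (Nat.ModEq.pow_totient hcop)
    simpa using this
  obtain ⟨f, ⟨hf0, i₀, hi₀, hfi⟩, hmin⟩ :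
      ∃ f, (0 < f ∧ ∃ i < k, (q ^ f : ZMod m) = 2 ^ i) ∧
        ∀ l < f, ¬ (0 < l ∧ ∃ i < k, (q ^ l : ZMod m) = 2 ^ i) :=
    ⟨Nat.find hex, Nat.find_spec hex, fun l hl => Nat.find_min hex hl⟩
  -- the roots are distinct
  have h2k : (2 ^ k : ZMod m) = 1 := by
    have : ((2 ^ k : ℕ) : ZMod m) = ((1 : ℕ) : ZMod m) := by
      rw [ZMod.natCast_eq_natCast_iff]
      exact (Nat.modEq_iff_dvd' (by omega)).2 dvd_rfl |>.symm
    simpa using this
  have hinjroot : Function.Injective fun z : Fin k × Fin f => x₀ ^ (2 ^ (z.1 : ℕ) * q ^ (z.2 : ℕ)) := by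
    have key : ∀ i i' l l' : ℕ, i < k → i' < k → l ≤ l' → l' < f →
        (2 ^ i * q ^ l : ZMod m) = 2 ^ i' * q ^ l' → i = i' ∧ l = l' := by
      intro i i' l l' hi hi' hl hl' he
      have hqu : IsUnit (q : ZMod m) := (ZMod.isUnit_iff_coprime q m).2 hcop
      have he1 : (2 ^ i : ZMod m) = 2 ^ i' * q ^ (l' - l) := by
        refine (hqu.pow l).mul_right_cancel ?_
        rw [he, mul_assoc, ← pow_add, Nat.sub_add_cancel hl]
      have he2 : (q ^ (l' - l) : ZMod m) = 2 ^ ((i + (k - i')) % k) := by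
        have h3 : (2 : ZMod m) ^ ((i + (k - i')) % k) = 2 ^ (i + (k - i')) := by
          conv_rhs => rw [← Nat.mod_add_div (i + (k - i')) k, pow_add, pow_mul, h2k, one_pow, mul_one]
        have h4 : (2 : ZMod m) ^ (k - i') * 2 ^ i' = 1 := by
          rw [← pow_add, Nat.sub_add_cancel hi'.le, h2k]
        rw [h3, pow_add, he1, mul_comm, ← mul_assoc, h4, one_mul]
      rcases Nat.eq_zero_or_pos (l' - l) with hd | hd
      · refine ⟨?_, by omega⟩
        rw [hd, pow_zero, mul_one] at he1
        have he3 : ((2 ^ i : ℕ) : ZMod m) = ((2 ^ i' : ℕ) : ZMod m) := by simpa using he1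
        rw [ZMod.natCast_eq_natCast_iff'] at he3
        have hlt : ∀ j, j < k → 2 ^ j < m := fun j hj => by
          have : 2 * 2 ^ j ≤ 2 ^ k := by
            rw [← pow_succ']; exact Nat.pow_le_pow_right two_pos (by omega)
          omega
        rw [Nat.mod_eq_of_lt (hlt i hi), Nat.mod_eq_of_lt (hlt i' hi')] at he3
        exact Nat.pow_right_injective le_rfl he3
      · exact absurd ⟨hd, _, Nat.mod_lt _ (by omega), he2⟩ (hmin (l' - l) (by omega))
    rintro ⟨⟨i, hi⟩, ⟨l, hl⟩⟩ ⟨⟨i', hi'⟩, ⟨l', hl'⟩⟩ he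
    have he' := (orderOf_pos_iff.1 (hord ▸ (by omega : 0 < m))).pow_eq_pow_iff_modEq.1 he
    rw [hord, ← ZMod.natCast_eq_natCast_iff] at he'
    push_cast at he'
    rcases le_total l l' with h | h
    · obtain ⟨rfl, rfl⟩ := key i i' l l' hi hi' h hl' he'; rfl
    · obtain ⟨rfl, rfl⟩ := key i' i l' l hi' hi h hl he'.symm; rfl
  have hroots : k * f ≤ P.natDegree := by
    have h := Finset.card_le_card (s := Finset.univ.image fun z : Fin k × Fin f =>
      x₀ ^ (2 ^ (z.1 : ℕ) * q ^ (z.2 : ℕ)))
      (t := (P.aroots (AlgebraicClosure (ZMod q))).toFinset) (by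
        intro x hx
        obtain ⟨z, -, rfl⟩ := Finset.mem_image.1 hx
        exact Multiset.mem_toFinset.2 (mem_aroots.2 ⟨hP0, horb _ _⟩))
    rw [Finset.card_image_of_injective _ hinjroot, Finset.card_univ, Fintype.card_prod,
      Fintype.card_fin, Fintype.card_fin] at h
    refine h.trans ((Multiset.toFinset_card_le _).trans ?_)
    refine (card_roots' _).trans (natDegree_map_le (f := algebraMap (ZMod q) _) (p := P))
  have hdim : P.natDegree ≤ Module.finrank (ZMod q) (Additive N) := by
    have h := natDegree_le_of_dvd (LinearMap.minpoly_dvd_charpoly C) (LinearMap.charpoly_monic C).ne_zero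
    rwa [LinearMap.charpoly_natDegree] at h
  have hQ : 2 ^ k + 1 ≤ q ^ f := by
    refine odd_ge hk hi₀ hodd.pow (Nat.one_lt_pow hf0.ne' hq.one_lt) ?_
    rw [← ZMod.natCast_eq_natCast_iff']
    simpa using hfi
  calc (2 ^ k + 1) ^ k ≤ (q ^ f) ^ k := Nat.pow_le_pow_left hQ k
    _ = q ^ (k * f) := by rw [← pow_mul, mul_comm]
    _ ≤ q ^ Module.finrank (ZMod q) (Additive N) := Nat.pow_le_pow_right hq.pos (hroots.trans hdim)
    _ = Nat.card N := by
      have h := Module.natCard_eq_pow_finrank (K := ZMod q) (V := Additive N)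
      rw [Nat.card_zmod] at h
      exact h.symm

end CfsgLib.Bender.NormBound
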