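import Cfsg.Agent.Bender.CoreC7
import Cfsg.Agent.Bender.NormBound
import Cfsg.Agent.Solvable.Hall

/-!
The core of a strongly embedded subgroup, step C7: if the two-point stabilizer induces the Frobenius
automorphism, the member of the family is large.
-/

set_option autoImplicit false
set_option linter.unusedSectionVars false
set_option linter.style.haveILetI false

namespace CfsgLib.Bender.Core.CSeven

open Subgroup
open scoped Pointwise
open CfsgLib.SZ (mem_conj_smul)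
open CfsgLib.FusionLift (cj mem_cj card_cj)
open CfsgLib.Bender.GSide
open CfsgLib.Bender.Core.CSix (InvolComm vee)
open CfsgLib.Bender.Semilinear (Lin linPart)
open CfsgLib.Bender.KSix (Rep)

universe u

variable {G : Type u} [Group G] [Finite G] {H : Subgroup G} {q : ℕ} {N : G ⧸ H → Subgroup G}
variable (hS : Setting H) (hN : Family q N) (hsr : Semireg N) (hci : CentInv N) {hV : InvolComm H}
  {a b : G ⧸ H} (hab : a ≠ b) {k : ℕ} (hk : Nat.card (vee hV a) = 2 ^ k)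
variable {F : Type} [Field F] [Finite F] {e : Additive (vee hV a) ≃+ F} (hF : Nat.card F = 2 ^ k)
  (hrep : ∀ d ∈ barD hV a b, ∃ c i, Rep e d c i)
include hS hN hsr hci hab hk hF hrep

/-- A cyclic subgroup of the two-point stabilizer mapping onto its linear part. -/
theorem exists_cyclic_lift : ∃ (c : G) (hc : c ∈ st a ⊓ st b), orderOf c = 2 ^ k - 1 ∧
    orderOf (act hV a ⟨c, (mem_inf.1 hc).1⟩) = 2 ^ k - 1 ∧
    Lin e (act hV a ⟨c, (mem_inf.1 hc).1⟩) := by
  set m := 2 ^ k - 1 with hm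
  haveI : Finite (MulAut (vee hV a)) := Finite.of_injective
    (fun φ : MulAut (vee hV a) => (φ : vee hV a → vee hV a)) DFunLike.coe_injective
  set P := barD hV a b ⊓ linPart e with hP
  haveI : IsCyclic P := Semilinear.isCyclic_linPart (e := e) P inf_le_right
  obtain ⟨γ, hγ⟩ := IsCyclic.exists_ofOrder_eq_natCard (α := P)
  rw [card_linPart hS hN hsr hci hab hk hF hrep, ← Subgroup.orderOf_coe, ← hm] at hγ
  obtain ⟨d, hd, hdγ⟩ := exists_of_mem_barD (mem_inf.1 γ.2).1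
  set E := st a ⊓ st b ⊓ centralizer (vee hV a : Set G) with hE
  have hco : (Nat.card E).Coprime m := Nat.coprime_of_dvd fun p hp hpE hpm =>
    haveI := Fact.mk hp
    not_dvd_kerD hS hN hsr hci hab hk hpm hpE
  have hdm : d ^ m ∈ E := by
    refine mem_inf.2 ⟨pow_mem hd m, (act_eq_one (g := (⟨d, (mem_inf.1 hd).1⟩ : st a) ^ m)).1 ?_⟩
    rw [map_pow, hdγ, ← hγ, pow_orderOf_eq_one]
  have hk2 : 4 ≤ 2 ^ k :=
    le_trans (by norm_num) (Nat.pow_le_pow_right two_pos (card_invol hS hV hk).1)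
  obtain ⟨n, -, hn⟩ := Nat.exists_mul_mod_eq_one_of_coprime hco (show 1 < m by omega)
  have hact : act hV a ⟨d ^ (Nat.card E * n), pow_mem (mem_inf.1 hd).1 _⟩ = (γ : MulAut _) := by
    rw [show (⟨d ^ (Nat.card E * n), _⟩ : st a) = (⟨d, (mem_inf.1 hd).1⟩ : st a) ^ (Nat.card E * n)
      from Subtype.ext rfl, map_pow, hdγ]
    conv_rhs => rw [← pow_one (γ : MulAut (vee hV a))]
    rw [pow_eq_pow_iff_modEq, hγ, Nat.ModEq, hn, Nat.one_mod_eq_one.2 (by omega)]
  have hcm : (d ^ (Nat.card E * n)) ^ m = 1 := by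
    rw [← pow_mul, mul_comm, pow_mul, pow_mul, show (d ^ m) ^ Nat.card E = 1 from
      congrArg Subtype.val (pow_card_eq_one' (x := (⟨d ^ m, hdm⟩ : E))), one_pow]
  refine ⟨_, pow_mem hd (Nat.card E * n), Nat.dvd_antisymm (orderOf_dvd_of_pow_eq_one hcm) ?_,
    (congrArg orderOf hact).trans hγ, ?_⟩
  · rw [← hγ, ← hact]
    refine (orderOf_map_dvd (act hV a) _).trans ?_
    rw [Subgroup.orderOf_mk]
  · rw [hact]
    exact (mem_inf.1 γ.2).2

omit hF hrep in
/-- Nontrivial elements of the two-point stabilizer of order dividing the number of involutions at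
the point have no fixed point on the member of the family. -/
theorem eq_one_of_commute_member {x : G} (hx : x ∈ st a ⊓ st b) (hxm : x ^ (2 ^ k - 1) = 1)
    (hx1 : x ≠ 1) {z : G} (hz : z ∈ N a) (hxz : Commute x z) : z = 1 := by
  obtain ⟨n, hnp, -⟩ := exists_prime_order_pow hx1
  haveI : Fact (orderOf (x ^ n)).Prime := ⟨hnp⟩
  have hp : orderOf (x ^ n) ∣ 2 ^ k - 1 := (orderOf_pow_dvd n).trans (orderOf_dvd_of_pow_eq_one hxm)
  obtain ⟨R, u, y, hT⟩ := exists_torus hS hN hsr hci hab hk hp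
  obtain ⟨d, hd, hdR⟩ := exists_conj_mem hT.syl (pow_mem hx n) rfl
  haveI := hT.cyc
  obtain ⟨i, hi⟩ := FpfComplement.mem_zpowers_of_cyclic (T := R) (u := ⟨y, hT.mem⟩)
    (v := ⟨_, hdR⟩) (by rw [Subgroup.orderOf_mk, Subgroup.orderOf_mk, hT.order,
      Invol.orderOf_conj_eq])
  have hi' : (d * x ^ n * d⁻¹) ^ i = y := congrArg Subtype.val hi
  have h := hT.fpfN (d * z * d⁻¹) (hN.conj_mem hz (mem_inf.1 hd).1)
    (hi' ▸ (CSix.conj_commute (g := d) (hxz.pow_left n)).zpow_left i)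
  exact conj_eq_one_iff.1 h

/-- If the two-point stabilizer induces the Frobenius automorphism, the member of the family has at
least `(2 ^ k + 1) ^ k` elements. -/
theorem pow_le_card_member (hg : ∃ g ∈ barD hV a b, ∃ c, Rep e g c 1) :
    (2 ^ k + 1) ^ k ≤ Nat.card (N a) := by
  obtain ⟨γf, hγf, c₁, hrep₁⟩ := hg
  obtain ⟨f, hf, rfl⟩ := exists_of_mem_barD hγf
  obtain ⟨c, hc, hco, hγo, hlin⟩ := exists_cyclic_lift hS hN hsr hci hab hk hF hrep
  set m := 2 ^ k - 1 with hm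
  have hk2 := (card_invol hS hV hk).1
  have hca := (mem_inf.1 hc).1
  have hfa := (mem_inf.1 hf).1
  set γ := act hV a ⟨c, hca⟩ with hγ
  set E := st a ⊓ st b ⊓ centralizer (vee hV a : Set G) with hE
  have hcE : zpowers c ≤ normalizer (E : Set G) := zpowers_le.2 (mem_norm_iff.2 (cj_eq_of_le
    (cj_le_iff.2 fun d hd => mem_inf.2 ⟨mul_mem (mul_mem hc (mem_inf.1 hd).1) (inv_mem hc),
      conj_mem_centralizer_vee hca (mem_inf.1 hd).2⟩) le_rfl))
  have hcoE : m.Coprime (Nat.card E) := Nat.coprime_of_dvd fun p hp hpm hpE =>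
    haveI := Fact.mk hp
    not_dvd_kerD hS hN hsr hci hab hk hpm hpE
  set X := zpowers c ⊔ E with hX
  have hXD : X ≤ st a ⊓ st b := sup_le (zpowers_le.2 hc) inf_le_left
  have hXcard : Nat.card X = m * Nat.card E := by
    rw [hX, Solvable.card_sup_of_disjoint hcE, Nat.card_zpowers, hco]
    exact disjoint_iff.1 (disjoint_of_coprime_natCard (by rwa [Nat.card_zpowers, hco]))
  -- the conjugate by the preimage of the Frobenius map
  set c' := f * c * f⁻¹ with hc'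
  have hconj : act hV a ⟨f, hfa⟩ * γ * (act hV a ⟨f, hfa⟩)⁻¹ = γ ^ 2 := by
    rw [hlin.conj hF hrep₁, pow_one]
  have hc'X : c' ∈ X := by
    have hw : c' * (c ^ 2)⁻¹ ∈ E := by
      refine mem_inf.2 ⟨mul_mem (mul_mem (mul_mem hf hc) (inv_mem hf)) (inv_mem (pow_mem hc 2)),
        (act_eq_one (g := (⟨f, hfa⟩ : st a) * ⟨c, hca⟩ * ⟨f, hfa⟩⁻¹ * (⟨c, hca⟩ ^ 2)⁻¹)).1 ?_⟩
      simp only [map_mul, map_inv, map_pow]
      rw [← hγ, hconj, mul_inv_cancel]
    rw [show c' = c' * (c ^ 2)⁻¹ * c ^ 2 by group]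
    exact mul_mem (mem_sup_right hw) (mem_sup_left (pow_mem (mem_zpowers c) 2))
  haveI : Group.IsSolvable X :=
    OddEnd.odd_solvable X ((odd_pair hS.se hab).of_dvd_nat (card_dvd_of_le hXD))
  have hzc : ∀ (w : G) (hw : w ∈ X), orderOf w = m →
      Nat.card (zpowers (⟨w, hw⟩ : X)) = m := fun w hw ho => by
    rw [Nat.card_zpowers, Subgroup.orderOf_mk, ho]
  have hcX : c ∈ X := mem_sup_left (mem_zpowers c)
  obtain ⟨w, hw⟩ := Hall.hall_conj hXcard hcoE
    (hzc c' hc'X (by rw [hc', Invol.orderOf_conj_eq, hco])) (hzc c hcX hco)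
  -- a preimage squaring `c`
  set g := (w : G) * f with hgdef
  have hga : g ∈ st a := mul_mem (mem_inf.1 (hXD w.2)).1 hfa
  obtain ⟨i, hi⟩ : g * c * g⁻¹ ∈ zpowers c := by
    have h1 : w * ⟨c', hc'X⟩ * w⁻¹ ∈ zpowers (⟨c, hcX⟩ : X) := by
      rw [← hw, mem_conj_smul]
      rw [show w⁻¹ * (w * ⟨c', hc'X⟩ * w⁻¹) * w = (⟨c', hc'X⟩ : X) by group]
      exact mem_zpowers _
    obtain ⟨i, hi⟩ := h1
    refine ⟨i, ?_⟩
    have hi' : c ^ i = (w : G) * c' * (w : G)⁻¹ := congrArg Subtype.val hi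
    show c ^ i = g * c * g⁻¹
    rw [hi', hgdef, hc']
    group
  have hsq : g * c * g⁻¹ = c ^ 2 := by
    have hi' : c ^ i = g * c * g⁻¹ := hi
    have hwγ : Commute (act hV a ⟨(w : G), (mem_inf.1 (hXD w.2)).1⟩) γ := by
      obtain ⟨s, hs, t, ht, hst⟩ := (Solvable.mem_sup_of_le_normalizer hcE).1 w.2
      obtain ⟨j, rfl⟩ := hs
      rw [show (⟨(w : G), (mem_inf.1 (hXD w.2)).1⟩ : st a) =
        (⟨c, hca⟩ : st a) ^ j * ⟨t, (mem_inf.1 (mem_inf.1 ht).1).1⟩ from Subtype.ext hst.symm,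
        map_mul, map_zpow, act_eq_one.2 (show ((⟨t, (mem_inf.1 (mem_inf.1 ht).1).1⟩ : st a) : G) ∈ _
          from (mem_inf.1 ht).2), mul_one]
      exact Commute.zpow_self γ j
    have h1 : γ ^ i = γ ^ (2 : ℤ) := by
      rw [hγ, ← map_zpow, show (⟨c, hca⟩ : st a) ^ i = ⟨g, hga⟩ * ⟨c, hca⟩ * ⟨g, hga⟩⁻¹ from
        Subtype.ext hi', show (⟨g, hga⟩ : st a) = ⟨(w : G), (mem_inf.1 (hXD w.2)).1⟩ * ⟨f, hfa⟩
          from Subtype.ext rfl, map_mul, map_mul, map_inv, map_mul, ← hγ, mul_inv_rev,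
        show ∀ x y z : MulAut (vee hV a), x * y * z * (y⁻¹ * x⁻¹) = x * (y * z * y⁻¹) * x⁻¹ from
          fun x y z => by group, hconj, (hwγ.pow_right 2).mul_inv_cancel, zpow_ofNat]
    have h2 : (orderOf c : ℤ) ∣ i - 2 := by
      rw [hco, ← hγo]
      exact orderOf_dvd_sub_iff_zpow_eq_zpow.2 h1
    rw [← hi', orderOf_dvd_sub_iff_zpow_eq_zpow.1 h2, zpow_ofNat]
  -- the bound
  letI : CommGroup (N a) :=
    { (inferInstance : Group (N a)) with
      mul_comm := fun z w => Subtype.ext (hN.comm a z z.2 w w.2) }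
  haveI : Nontrivial (N a) := (Subgroup.nontrivial_iff_ne_bot _).2 (hN.ne_bot a)
  refine NormBound.pow_le_card hN.prime hN.odd hk2
    (fun z => Subtype.ext (hN.exp a z z.2)) (actN hN a ⟨c, hca⟩) (actN hN a ⟨g, hga⟩) ?_ ?_ ?_
  · rw [← map_pow, ← map_one (actN hN a)]
    congr 1
    exact Subtype.ext (show c ^ (2 ^ k - 1) = 1 by rw [← hm, ← hco, pow_orderOf_eq_one])
  · intro j hj hjm z hz
    rw [← map_pow] at hz
    have h1 : c ^ j * (z : G) * (c ^ j)⁻¹ = z := congrArg Subtype.val hz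
    refine Subtype.ext (eq_one_of_commute_member hS hN hsr hci hab hk (pow_mem hc j) ?_ ?_ z.2
      (mul_inv_eq_iff_eq_mul.1 h1))
    · rw [← hm, ← pow_mul, mul_comm, pow_mul, ← hco, pow_orderOf_eq_one, one_pow]
    · exact pow_ne_one_of_lt_orderOf hj.ne' (hco ▸ hjm)
  · rw [← map_inv, ← map_mul, ← map_mul, ← map_pow]
    congr 1
    exact Subtype.ext hsq

end CfsgLib.Bender.Core.CSeven
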