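import Cfsg.Agent.Bender.CoreC7Ker
import Cfsg.Agent.Bender.LemmaA.Bounds
import Cfsg.Agent.FGSA.Nilpotent
import Cfsg.Agent.Solvable.FpfComplement
import Mathlib.LinearAlgebra.Matrix.GeneralLinearGroup.Card

/-!
The core of a strongly embedded subgroup, step C7, size bounds: the image of the kernel of the
action on the involutions in the automorphisms of the two-core of the fixed group, and the
stabilizer of an involution in the image of the point stabilizer, when the latter is even.
-/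

set_option autoImplicit false
set_option linter.unusedSectionVars false
set_option linter.style.haveILetI false

namespace CfsgLib.Bender.Core.CSeven

open Subgroup
open CfsgLib.FusionLift (cj mem_cj card_cj)
open CfsgLib.Bender.GSide
open CfsgLib.Bender.Core.CSix (InvolComm vee mem_vee invol_mem_vee st_le_normalizer_vee)
open CfsgLib.Bender.KSix (Rep)

universe u

variable {G : Type u} [Group G] [Finite G] {H : Subgroup G} {q : ℕ} {N : G ⧸ H → Subgroup G}

/-- The order of the automorphism group of an elementary abelian group of order `2 ^ k`. -/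
theorem card_mulAut_le {M : Type u} [CommGroup M] [Finite M] (hsq : ∀ m : M, m * m = 1) {k : ℕ}
    (hk : Nat.card M = 2 ^ k) : Nat.card (MulAut M) ≤ ∏ i ∈ Finset.range k, (2 ^ k - 2 ^ i) := by
  classical
  letI : Module (ZMod 2) (Additive M) := AddCommGroup.zmodModule (Singer.nsmul_two hsq)
  haveI : Fact (Nat.Prime 2) := ⟨Nat.prime_two⟩
  haveI : Module.Finite (ZMod 2) (Additive M) := Module.Finite.of_finite
  have hfr : Module.finrank (ZMod 2) (Additive M) = k := by
    have h := Module.natCard_eq_pow_finrank (K := ZMod 2) (V := Additive M)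
    rw [Nat.card_zmod, Nat.card_congr Additive.toMul, hk] at h
    exact (Nat.pow_right_injective le_rfl h).symm
  let b := Module.finBasisOfFinrankEq (ZMod 2) (Additive M) hfr
  let T := LinearMap.toMatrixAlgEquiv b
  let E : MulAut M →* Module.End (ZMod 2) (Additive M) :=
    { toFun := Singer.endo, map_one' := LinearMap.ext fun _ => rfl,
      map_mul' := fun _ _ => LinearMap.ext fun _ => rfl }
  let f : MulAut M →* GL (Fin k) (ZMod 2) :=
    ((T : Module.End (ZMod 2) (Additive M) →* Matrix (Fin k) (Fin k) (ZMod 2)).comp E).toHomUnits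
  have hf : Function.Injective f := by
    intro x y h
    have h1 : E x = E y := T.injective (congrArg Units.val h)
    refine MulEquiv.ext fun m => Additive.ofMul.injective ?_
    exact LinearMap.congr_fun h1 (Additive.ofMul m)
  refine (Nat.card_le_card_of_injective f hf).trans (le_of_eq ?_)
  rw [Matrix.card_GL_field, ZMod.card, Finset.prod_range fun i => 2 ^ k - 2 ^ i]

variable {hV : InvolComm H} {a b : G ⧸ H}

/-- The transitivity of the image on the involutions gives the order of the stabilizer. -/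
theorem card_stab_mul (hS : Setting H) (hab : a ≠ b) {k : ℕ}
    (hk : Nat.card (vee hV a) = 2 ^ k) {t : vee hV a} (ht : t ≠ 1) :
    Nat.card {x : MulAut (vee hV a) // x ∈ (act hV a).range ∧ x t = t} * (2 ^ k - 1) =
      Nat.card (act hV a).range := by
  set A := (act hV a).range
  have horb : MulAction.orbit A t = {(1 : vee hV a)}ᶜ := by
    ext v
    simp only [Set.mem_compl_iff, Set.mem_singleton_iff]
    constructor
    · rintro ⟨x, rfl⟩ h
      exact ht ((x : MulAut (vee hV a)).injective (h.trans (map_one _).symm))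
    · intro hv
      obtain ⟨d, hd, hdt⟩ := (transOdd_pair hS.se hab).2.2 (t : G) v t.2.2
        (Invol.orderOf_eq_two t.2.1 fun h => ht (Subtype.ext h)) v.2.2
        (Invol.orderOf_eq_two v.2.1 fun h => hv (Subtype.ext h))
      exact ⟨⟨_, ⟨d, (mem_inf.1 hd).1⟩, rfl⟩, Subtype.ext hdt⟩
  have h := card_mul_index (MulAction.stabilizer A t)
  rw [MulAction.index_stabilizer, horb, Set.ncard_compl, Set.ncard_singleton, hk] at h
  rw [← h]
  congr 1
  exact Nat.card_congr
    { toFun := fun x => ⟨⟨x.1, x.2.1⟩, x.2.2⟩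
      invFun := fun x => ⟨x.1.1, x.1.2, x.2⟩
      left_inv := fun _ => rfl
      right_inv := fun _ => rfl }

/-- A group of semilinear maps of odd order inducing the Frobenius needs odd rank. -/
theorem odd_rank (hS : Setting H) (hab : a ≠ b) {k : ℕ} (hk : Nat.card (vee hV a) = 2 ^ k)
    {F : Type} [Field F] [Finite F] {e : Additive (vee hV a) ≃+ F} (hF : Nat.card F = 2 ^ k)
    (hg : ∃ g ∈ barD hV a b, ∃ c, Rep e g c 1) : Odd k := by
  obtain ⟨g, hgD, c, hc⟩ := hg
  obtain ⟨d, hd, rfl⟩ := exists_of_mem_barD hgD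
  set g := act hV a ⟨d, (mem_inf.1 hd).1⟩
  have hodd : Odd (orderOf g) := by
    refine ((odd_pair hS.se hab).of_dvd_nat (Subgroup.orderOf_dvd_natCard _ hd)).of_dvd_nat ?_
    exact (orderOf_map_dvd (act hV a) _).trans (Subgroup.orderOf_mk (H := st a) d _).dvd
  obtain ⟨c', hc'⟩ := hc.pow (orderOf g)
  rw [pow_orderOf_eq_one, mul_one] at hc'
  exact hodd.of_dvd_nat (Semilinear.eq_one_rep hF (card_invol hS hV hk).1 hc').2

variable (hS : Setting H) (hN : Family q N) (hsr : Semireg N) (hci : CentInv N)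
include hS hN hsr hci

/-- The part of a two-point stabilizer centralizing the involutions at the point acts
fixed-point-freely on the member of the family, so has cyclic Sylow subgroups. -/
theorem isCyclic_sylow_kerD (hab : a ≠ b) {p : ℕ} [Fact p.Prime]
    (P : Sylow p ↥(st a ⊓ st b ⊓ centralizer (vee hV a : Set G))) : IsCyclic P := by
  revert P
  set E := st a ⊓ st b ⊓ centralizer (vee hV a : Set G)
  intro P
  haveI : Nontrivial (N a) := (N a).nontrivial_iff_ne_bot.2 (hN.ne_bot a)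
  let φ : E →* MulAut (N a) :=
    (actN hN a).comp (Subgroup.inclusion (inf_le_left.trans inf_le_left))
  have hφ : CfsgLib.Frobenius.IsFpf φ := by
    intro d hd z hz
    by_contra hz1
    obtain ⟨s, t, hs, ht, hne, hsa, hta⟩ := CSix.exists_two hS a
    refine CSix.zlemma hS hN hsr hV hab (fun h => hd (Subtype.ext h))
      (mem_inf.1 (mem_inf.1 d.2).1).1 (mem_inf.1 (mem_inf.1 d.2).1).2 hs hsa ht hta hne
      (commute_of_mem_centralizer (mem_inf.1 d.2).2 hs hsa)
      (commute_of_mem_centralizer (mem_inf.1 d.2).2 ht hta) z.2 (fun h => hz1 (Subtype.ext h)) ?_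
    exact mul_inv_eq_iff_eq_mul.1 (congrArg Subtype.val hz)
  rcases FpfComplement.sylow_cyclic_or_quaternion hφ p P with h | ⟨rfl, n, -, ⟨e⟩⟩
  · exact h
  · exfalso
    have hodd : Odd (Nat.card E) :=
      (odd_pair hS.se hab).of_dvd_nat (card_dvd_of_le inf_le_left)
    refine Nat.not_even_iff_odd.2 (hodd.of_dvd_nat (card_subgroup_dvd_card (P : Subgroup E)))
      (even_iff_two_dvd.2 ?_)
    rw [Nat.card_congr e.toEquiv, Nat.card_eq_fintype_card, QuaternionGroup.card]
    exact dvd_mul_of_dvd_left (by norm_num) _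

/-- The size bounds. -/
theorem size_bound (hab : a ≠ b) {k : ℕ} (hk : Nat.card (vee hV a) = 2 ^ k) {F : Type} [Field F]
    [Finite F] {e : Additive (vee hV a) ≃+ F} (hF : Nat.card F = 2 ^ k)
    (hg : ∃ g ∈ barD hV a b, ∃ c, Rep e g c 1)
    (htor : ∀ p : ℕ, p.Prime → p ∣ 2 ^ k - 1 → ∃ R u y, Torus hV N a b p R u y)
    (hev : Even (Nat.card (act hV a).range)) {t : vee hV a} (ht : t ≠ 1) :
    Odd k ∧ 3 ≤ k ∧
      0 < (centralizer (coreOf 2 (st a ⊓ centralizer (N a : Set G)) : Set G)).relIndex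
          (st a ⊓ st b ⊓ centralizer (vee hV a : Set G)) ∧
      (((centralizer (coreOf 2 (st a ⊓ centralizer (N a : Set G)) : Set G)).relIndex
          (st a ⊓ st b ⊓ centralizer (vee hV a : Set G)) ≤ 3 ∧
        Nat.card {x : MulAut (vee hV a) // x ∈ (act hV a).range ∧ x t = t} ≤
          ∏ i ∈ Finset.Ico 1 k, (2 ^ k - 2 ^ i)) ∨
      ∃ d, 3 ≤ d ∧ d ∣ k ∧ d < k ∧
        (centralizer (coreOf 2 (st a ⊓ centralizer (N a : Set G)) : Set G)).relIndex
          (st a ⊓ st b ⊓ centralizer (vee hV a : Set G)) ≤ 2 ^ k + 1 ∧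
        Nat.card {x : MulAut (vee hV a) // x ∈ (act hV a).range ∧ x t = t} ≤
          k * 2 ^ (2 * k * (k / d))) := by
  classical
  haveI : Fact (Nat.Prime 2) := ⟨Nat.prime_two⟩
  obtain ⟨hk2, hm⟩ := card_invol hS hV hk
  have hkodd := odd_rank hS hab hk hF hg
  have hk3 : 3 ≤ k := by obtain ⟨c, hc⟩ := hkodd; omega
  set A := (act hV a).range with hAdef
  set At := Nat.card {x : MulAut (vee hV a) // x ∈ A ∧ x t = t} with hAtdef
  have hAt : At * (2 ^ k - 1) = Nat.card A := card_stab_mul hS hab hk ht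
  haveI : Finite (MulAut (vee hV a)) := Finite.of_injective
    (fun φ : MulAut (vee hV a) => (φ : vee hV a → vee hV a)) DFunLike.coe_injective
  -- the torus at a primitive prime
  obtain ⟨r, hr, hrdvd, -, hdet⟩ := Semilinear.exists_detecting_prime hk2
  have hrord : ∀ j, 0 < j → j < k → ¬ r ∣ 2 ^ j - 1 := fun j hj hjk h =>
    Nat.not_dvd_of_pos_of_lt hj hjk (hdet j k hkodd (dvd_mul_right k j) h)
  haveI : Fact r.Prime := ⟨hr⟩
  have hdvd : r ∣ Nat.card {t : G // orderOf t = 2 ∧ t • a = a} := hm ▸ hrdvd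
  have hrodd : Odd r := hr.odd_of_ne_two (prime_ne_two hS hV hr hdvd)
  obtain ⟨R, u, y, hT⟩ := htor r hr hrdvd
  -- the two-core and the action on it
  set L₀ := st a ⊓ centralizer (N a : Set G) with hL₀
  set E₀ := st a ⊓ st b ⊓ centralizer (vee hV a : Set G) with hE₀
  set K₀ := st a ⊓ centralizer (vee hV a : Set G) with hK₀
  haveI : Group.IsNilpotent L₀ := hT.isNilpotent_fixN hS hN hsr hci hab hdvd
  obtain ⟨P₂⟩ := (inferInstance : Nonempty (Sylow 2 L₀))
  haveI hP₂n : (P₂ : Subgroup L₀).Normal := inferInstance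
  have hcore : Cfsg.pCore 2 L₀ = (P₂ : Subgroup L₀) :=
    P₂.3 (Solvable.isPGroup_pCore 2) (Solvable.le_pCore 2 hP₂n P₂.2)
  set S := coreOf 2 L₀ with hSdef
  have hScore : S = (P₂ : Subgroup L₀).map L₀.subtype := by rw [hSdef, coreOf, hcore]
  have hSp : IsPGroup 2 S := hScore ▸ P₂.2.map _
  have hSL : S ≤ L₀ := map_subtype_le _
  have hSn : st a ≤ normalizer (S : Set G) := by
    rw [hScore]
    haveI : (P₂ : Subgroup L₀).Characteristic := Sylow.characteristic_of_normal P₂ hP₂n
    exact (st_le_normalizer_fixN hN).trans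
      (CfsgLib.OddLocal.UTool.normalizer_le_normalizer_map L₀ _ inferInstance)
  let ρ : st a →* MulAut S := (normalizerMonoidHom S).comp (Subgroup.inclusion hSn)
  have hρ : ∀ (g : st a) (s : S), ((ρ g s : S) : G) = g * s * (g : G)⁻¹ := fun _ _ => rfl
  haveI : Finite (MulAut S) := Finite.of_injective
    (fun φ : MulAut S => (φ : S → S)) DFunLike.coe_injective
  have hρ1 : ∀ g : st a, (∀ s ∈ S, Commute (g : G) s) → ρ g = 1 := fun g h =>
    MulEquiv.ext fun s => Subtype.ext (by
      rw [hρ, (h s s.2).eq, mul_inv_cancel_right, MulAut.one_apply])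
  have hvS : ∀ v : G, v ∈ vee hV a → v ∈ S := by
    intro v hv
    have hvL := vee_le_fixN hS hN hsr hci hV a hv
    rw [hScore]
    refine ⟨⟨v, hvL⟩, ?_, rfl⟩
    obtain ⟨Q, hQ⟩ := (show IsPGroup 2 (zpowers (⟨v, hvL⟩ : L₀)) from IsPGroup.of_card_dvd_pow
      (n := 1) (by
        rw [Nat.card_zpowers, Subgroup.orderOf_mk, pow_one]
        exact orderOf_dvd_of_pow_eq_one (by rw [sq]; exact hv.1))).exists_le_sylow
    haveI := Sylow.unique_of_normal P₂ hP₂n
    rw [Subsingleton.elim P₂ Q]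
    exact hQ (mem_zpowers _)
  -- the image of the kernel on `N a` is a two-group
  set L' := (L₀.subgroupOf (st a)).map ρ with hL'
  have hL'p : IsPGroup 2 L' := by
    rintro ⟨_, l, hl, rfl⟩
    obtain ⟨n, m, hm', hn⟩ := Nat.exists_eq_two_pow_mul_odd (orderOf_pos (l : G)).ne'
    refine ⟨n, Subtype.ext ?_⟩
    show (ρ l) ^ 2 ^ n = 1
    rw [← map_pow]
    refine hρ1 _ fun s hs => ?_
    rw [SubgroupClass.coe_pow]
    have hlL : (l : G) ^ 2 ^ n ∈ L₀ := pow_mem (mem_subgroupOf.1 hl) _
    obtain ⟨i, hi⟩ := hSp ⟨s, hs⟩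
    refine congrArg Subtype.val (CfsgLib.FGSA.commute_of_coprime_orderOf (G := L₀)
      ⟨_, hlL⟩ ⟨s, hSL hs⟩ ?_).eq
    rw [Subgroup.orderOf_mk, Subgroup.orderOf_mk]
    refine ((Nat.coprime_two_right.2 ?_).pow_right i).coprime_dvd_right
      (orderOf_dvd_of_pow_eq_one (congrArg Subtype.val hi))
    refine hm'.of_dvd_nat (orderOf_dvd_of_pow_eq_one ?_)
    rw [← pow_mul, ← hn, pow_orderOf_eq_one]
  set E' := (E₀.subgroupOf (st a)).map ρ with hE'
  set K' := (K₀.subgroupOf (st a)).map ρ with hK'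
  have hE₀a : E₀ ≤ st a := inf_le_left.trans inf_le_left
  have hE₀K : E₀ ≤ K₀ := le_inf hE₀a inf_le_right
  set e₀ := (centralizer (S : Set G)).relIndex E₀ with he₀
  let f : E₀ →* MulAut S := ρ.comp (Subgroup.inclusion hE₀a)
  have hfr : f.range = E' := by
    ext φ
    constructor
    · rintro ⟨d, rfl⟩
      exact ⟨⟨d, hE₀a d.2⟩, d.2, rfl⟩
    · rintro ⟨d, hd, rfl⟩
      exact ⟨⟨d, hd⟩, rfl⟩
  have he₀card : e₀ = Nat.card E' := by
    rw [he₀, relIndex, ← hfr, ← index_ker]
    congr 1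
    ext d
    rw [mem_subgroupOf, MonoidHom.mem_ker]
    refine ⟨fun h => hρ1 _ fun s hs => (mem_centralizer_iff.1 h s hs).symm, fun h => ?_⟩
    refine mem_centralizer_iff.2 fun s hs => ?_
    have h1 := congrArg (fun φ : MulAut S => ((φ ⟨s, hs⟩ : S) : G)) h
    exact (mul_inv_eq_iff_eq_mul.1 h1).symm
  have he₀pos : 0 < e₀ := he₀card ▸ Nat.card_pos
  have he₀odd : Odd e₀ :=
    ((odd_pair hS.se hab).of_dvd_nat (card_dvd_of_le (inf_le_left : E₀ ≤ _))).of_dvd_nat
      (Subgroup.index_dvd_card _)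
  refine ⟨hkodd, hk3, he₀pos, ?_⟩
  -- the bound at a prime dividing `e₀`
  have key : ∀ p : ℕ, p.Prime → p ∣ e₀ → ∃ d, d ∣ k ∧ d < k ∧
      p ^ e₀.factorization p ∣ 2 ^ d + 1 ∧ p ^ e₀.factorization p ∣ 2 ^ k + 1 ∧
      At ≤ k * 2 ^ (2 * k * (k / d)) := by
    intro p hp hpe
    haveI : Fact p.Prime := ⟨hp⟩
    have hpodd : Odd p := he₀odd.of_dvd_nat hpe
    set n := e₀.factorization p with hn
    have hn0 : 0 < n := hp.factorization_pos_of_dvd he₀pos.ne' hpe
    -- a generator of the Sylow subgroup of the image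
    obtain ⟨Q⟩ := (inferInstance : Nonempty (Sylow p E₀))
    haveI := isCyclic_sylow_kerD hS hN hsr hci hab Q
    obtain ⟨s₀, hs₀⟩ := IsCyclic.exists_generator (α := (Q : Subgroup E₀))
    set s : st a := Subgroup.inclusion hE₀a (s₀ : E₀)
    have hsE : (s : G) ∈ E₀ := (s₀ : E₀).2
    set σ := ρ s with hσdef
    have hzσ : zpowers σ = (Q : Subgroup E₀).map f := by
      refine le_antisymm (zpowers_le.2 ⟨_, s₀.2, rfl⟩) ?_
      rintro _ ⟨d, hd, rfl⟩
      obtain ⟨i, hi⟩ := mem_zpowers_iff.1 (hs₀ ⟨d, hd⟩)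
      refine mem_zpowers_iff.2 ⟨i, ?_⟩
      have hi' : (s₀ : E₀) ^ i = d := congrArg Subtype.val hi
      rw [← hi', map_zpow]
      rfl
    have hσo : orderOf σ = p ^ n := by
      rw [← Nat.card_zpowers, hzσ]
      have h1 := (Q.mapSurjective (f := f.rangeRestrict)
        (MonoidHom.rangeRestrict_surjective _)).card_eq_multiplicity
      rw [Nat.card_congr (MulEquiv.subgroupCongr hfr).toEquiv, ← he₀card] at h1
      rw [← h1, ← card_map_of_injective f.range.subtype_injective, Sylow.coe_mapSurjective,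
        Subgroup.map_map]
      rfl
    set P := zpowers σ with hPdef
    have hPK : P ≤ K' := zpowers_le.2 ⟨s, mem_subgroupOf.2 (hE₀K hsE), rfl⟩
    have hPp : IsPGroup p P := IsPGroup.of_card (n := n) (by rw [Nat.card_zpowers, hσo])
    -- `P` is a Sylow subgroup of the image of the kernel
    have hEL : E' ≤ normalizer (L' : Set (MulAut S)) := by
      rintro _ ⟨d, -, rfl⟩
      refine le_normalizer_map ρ (mem_map_of_mem ρ (mem_normalizer_iff.2 fun w => ?_))
      rw [mem_subgroupOf, mem_subgroupOf]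
      exact mem_normalizer_iff.1 (st_le_normalizer_fixN hN d.2) (w : G)
    have hK'le : K' ≤ E' ⊔ L' := by
      rintro _ ⟨g, hgK, rfl⟩
      obtain ⟨l, hl, d, hd, -, hld⟩ := hT.kerV_exists hS hN hsr hci hab hdvd (mem_subgroupOf.1 hgK)
      have : g = ⟨l, (mem_inf.1 hl).1⟩ * ⟨d, hE₀a hd⟩ := Subtype.ext hld.symm
      rw [this, map_mul]
      exact mul_mem (mem_sup_right ⟨_, mem_subgroupOf.2 hl, rfl⟩)
        (mem_sup_left ⟨_, mem_subgroupOf.2 hd, rfl⟩)
    have hsyl : Syl p K' P := by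
      refine ⟨hPK, hPp, fun Q' hQ' hQp => ?_⟩
      obtain ⟨j, hj⟩ := IsPGroup.iff_card.1 hQp
      rw [Nat.card_zpowers, hσo, hj]
      refine Nat.pow_le_pow_right hp.pos ?_
      obtain ⟨i, hi⟩ := IsPGroup.iff_card.1 hL'p
      have h1 : p ^ j ∣ e₀ * 2 ^ i := by
        rw [he₀card, ← hi, ← hj]
        exact (card_dvd_of_le (hQ'.trans hK'le)).trans
          ((Dvd.intro _ rfl).trans (Solvable.card_sup_mul_card_inf hEL).dvd)
      have h2 : (p ^ j).Coprime (2 ^ i) := Nat.Coprime.pow j i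
        ((Nat.coprime_primes hp Nat.prime_two).2 fun h => by
          rw [h] at hpodd; exact absurd hpodd (by decide))
      exact (hp.pow_dvd_iff_le_factorization he₀pos.ne').1 (h2.dvd_of_dvd_mul_right h1)
    -- the centralizer and the normalizer
    set C := (centralizer ({σ} : Set (MulAut S))).comap ρ with hC
    set KA := C.map (act hV a) with hKA
    set NN := (normalizer (P : Set (MulAut S))).comap ρ with hNN
    have hfrat : ∀ x ∈ A, ∃ g ∈ NN, act hV a g = x := by
      rintro _ ⟨h, rfl⟩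
      have hle : cj (ρ h) P ≤ K' := cj_le_iff.2 fun w hw => by
        obtain ⟨g, hgK, rfl⟩ := hPK hw
        refine ⟨h * g * h⁻¹, mem_subgroupOf.2 ?_, by rw [map_mul, map_mul, map_inv]⟩
        exact (mem_normalizer_iff.1 (st_le_normalizer_kerV hV h.2) (g : G)).1 (mem_subgroupOf.1 hgK)
      obtain ⟨_, ⟨g, hgK, rfl⟩, hle'⟩ := syl_conj hsyl hle (hPp.map _)
      rw [cj_cj, ← map_mul] at hle'
      refine ⟨g * h, mem_norm_iff.2 (cj_eq_of_le hle' le_rfl), ?_⟩
      rw [map_mul, act_eq_one.2 (mem_inf.1 (mem_subgroupOf.1 hgK)).2, one_mul]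
    -- `KA` is normal
    have hKAn : ∀ x ∈ A, ∀ z ∈ KA, x * z * x⁻¹ ∈ KA := by
      intro x hx z hz
      obtain ⟨g, hg', rfl⟩ := hfrat x hx
      obtain ⟨c, hc, rfl⟩ := hz
      refine ⟨g * c * g⁻¹, mem_centralizer_singleton_iff.2 ?_, by rw [map_mul, map_mul, map_inv]⟩
      obtain ⟨i, hi⟩ : ∃ i : ℤ, σ ^ i = (ρ g)⁻¹ * σ * ρ g := mem_zpowers_iff.1 (by
        simpa using (mem_normalizer_iff.1 (inv_mem hg') σ).1 (mem_zpowers σ))
      have h1 : Commute (ρ c) ((ρ g)⁻¹ * σ * ρ g) :=
        hi ▸ (show Commute (ρ c) σ from mem_centralizer_singleton_iff.1 hc).zpow_right i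
      have h2 := h1.map (MulAut.conj (ρ g)).toMonoidHom
      simp only [MulEquiv.coe_toMonoidHom, MulAut.conj_apply] at h2
      rw [map_mul, map_mul, map_inv]
      have h3 : ρ g * ((ρ g)⁻¹ * σ * ρ g) * (ρ g)⁻¹ = σ := by group
      rw [h3] at h2
      exact h2.eq
    -- the index
    have hidx : Nat.card A ≤ p ^ n * Nat.card KA := by
      choose n' hn' hn'a using fun x : A => hfrat x x.2
      let c : A → P := fun x => ⟨ρ (n' x) * σ * (ρ (n' x))⁻¹,
        (mem_normalizer_iff.1 (hn' x) σ).1 (mem_zpowers σ)⟩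
      let rep : P → A := fun w => if h : ∃ x, c x = w then h.choose else 1
      have hrep : ∀ x, c (rep (c x)) = c x := fun x => by
        have h : ∃ x', c x' = c x := ⟨x, rfl⟩
        simp only [rep, dif_pos h]
        exact h.choose_spec
      have hmem : ∀ x : A, ((rep (c x) : A) : MulAut (vee hV a))⁻¹ * (x : MulAut (vee hV a)) ∈
          KA := by
        intro x
        refine ⟨(n' (rep (c x)))⁻¹ * n' x, mem_centralizer_singleton_iff.2 ?_,
          by rw [map_mul, map_inv, hn'a, hn'a]⟩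
        have h := congrArg Subtype.val (hrep x)
        rw [map_mul, map_inv]
        simp only [c] at h
        calc (ρ (n' (rep (c x))))⁻¹ * ρ (n' x) * σ
            = (ρ (n' (rep (c x))))⁻¹ * (ρ (n' x) * σ * (ρ (n' x))⁻¹) * ρ (n' x) := by group
          _ = (ρ (n' (rep (c x))))⁻¹ *
              (ρ (n' (rep (c x))) * σ * (ρ (n' (rep (c x))))⁻¹) * ρ (n' x) := by rw [h]
          _ = σ * ((ρ (n' (rep (c x))))⁻¹ * ρ (n' x)) := by group
      rw [← hσo, ← Nat.card_zpowers, ← Nat.card_prod]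
      refine Nat.card_le_card_of_injective (fun x => (c x, ⟨_, hmem x⟩)) fun x x' h => ?_
      obtain ⟨h1, h2⟩ := Prod.ext_iff.1 h
      have h3 := congrArg Subtype.val h2
      simp only at h1 h3
      rw [h1] at h3
      exact Subtype.ext (mul_left_cancel h3)
    -- the bound for the centralizer
    have hys : Commute y (s : G) := hT.commute_kerD hS hN hsr hci hab hdvd hsE
    set yC : C := ⟨⟨y, hT.mem_st⟩, mem_centralizer_singleton_iff.2 (by
      rw [hσdef, ← map_mul, ← map_mul]
      exact congrArg ρ (Subtype.ext hys.eq))⟩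
    set sC : C := ⟨s, mem_centralizer_singleton_iff.2 rfl⟩
    set W := (vee hV a).subgroupOf S with hW
    have hWiff : ∀ x : S, x ∈ W ↔ x ^ 2 = 1 := fun x => by
      rw [hW, mem_subgroupOf, mem_vee, sq]
      exact ⟨fun h => Subtype.ext h.1,
        fun h => ⟨congrArg Subtype.val h, (mem_inf.1 (hSL x.2)).1⟩⟩
    have hWinv : ∀ (g : C), ∀ x ∈ W, (ρ.comp C.subtype) g x ∈ W := fun g x hx => by
      rw [hWiff] at hx ⊢
      rw [← map_pow, hx, map_one]
    obtain ⟨d, hdk, hdd, hdk', hcard, habel⟩ := LemmaBounds.image_bound (r := r) (k := k) hSp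
      (ρ.comp C.subtype) W hWiff
      (by rw [hW, Nat.card_congr (subgroupOfEquivOfLe hvS).toEquiv, hk])
      hrodd hkodd hrdvd hrord yC sC
      (by
        show ρ ⟨y, hT.mem_st⟩ ^ r = 1
        rw [← map_pow, ← map_one ρ]
        congr 1
        exact Subtype.ext (show y ^ r = 1 by rw [← hT.order, pow_orderOf_eq_one]))
      (fun x hx => by
        have hyx : Commute y (x : G) := mul_inv_eq_iff_eq_mul.1 (congrArg Subtype.val hx)
        by_contra hx1
        obtain ⟨i, hi⟩ := hSp x
        obtain ⟨j, hj, hjx⟩ := exists_prime_order_pow (x := (x : G))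
          fun h => hx1 (Subtype.ext h)
        have hj2 : orderOf ((x : G) ^ j) = 2 := by
          refine (Nat.prime_dvd_prime_iff_eq hj Nat.prime_two).1 (hj.dvd_of_dvd_pow
            ((orderOf_pow_dvd j).trans (orderOf_dvd_of_pow_eq_one (congrArg Subtype.val hi))))
        refine hjx (hT.fpfV _ (invol_mem_vee hj2 ?_) (hyx.pow_right j))
        exact pow_mem (mem_inf.1 (hSL x.2)).1 j)
      (fun g => mem_centralizer_singleton_iff.1 g.2)
      hpodd hn0 hσo
      (fun x hx => Subtype.ext (show (s : G) * x * (s : G)⁻¹ = x by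
        rw [← mem_centralizer_iff.1 (mem_inf.1 hsE).2 x hx, mul_inv_cancel_right]))
      hWinv
    have hsv : ∀ (g : C) (v : vee hV a), ((ρ g ⟨v, hvS v v.2⟩ : S) : G) =
        ((act hV a g v : vee hV a) : G) := fun g v => rfl
    have hKAcard : Nat.card KA ≤ 2 ^ (2 * k * (k / d)) := by
      refine le_trans ?_ hcard
      have hrep : ∀ z : KA, ∃ g : C, act hV a g = z := fun z => by
        obtain ⟨g, hg', hgz⟩ := z.2
        exact ⟨⟨g, hg'⟩, hgz⟩
      choose g hgz using hrep
      refine Nat.card_le_card_of_injective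
        (fun z => (⟨_, g z, rfl⟩ : (SquareMap.restrict (ρ.comp C.subtype) W hWinv).range))
        fun z z' h => ?_
      refine Subtype.ext ((hgz z).symm.trans ((MulEquiv.ext fun v => Subtype.ext ?_).trans (hgz z')))
      rw [← hsv, ← hsv]
      exact congrArg Subtype.val (congrArg Subtype.val (DFunLike.congr_fun
        (congrArg Subtype.val h) (⟨⟨v, hvS v v.2⟩, mem_subgroupOf.2 v.2⟩ : W)))
    have hord : p ^ n ∣ 2 ^ k + 1 := hσo ▸ hdk'
    refine ⟨d, hdk, lt_of_le_of_ne (Nat.le_of_dvd (by omega) hdk) ?_, hσo ▸ hdd, hord, ?_⟩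
    · -- `d = k` makes the image odd
      intro hdeq
      set ybar := act hV a ⟨y, hT.mem_st⟩
      have hyK : ybar ∈ KA := ⟨(yC : st a), yC.2, rfl⟩
      have hcomm : ∀ z ∈ KA, ∀ z' ∈ KA, z * z' = z' * z := by
        rintro _ ⟨c, hc, rfl⟩ _ ⟨c', hc', rfl⟩
        refine MulEquiv.ext fun v => Subtype.ext ?_
        have h := congrArg Subtype.val (habel hdeq ⟨c, hc⟩ ⟨c', hc'⟩ ⟨v, hvS v v.2⟩
          (mem_subgroupOf.2 v.2))
        exact h
      have hyo := hT.orderOf_ybar hS hN hsr hci hab hdvd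
      have hAD : A ≤ barD hV a b := fun x hx => by
        refine hT.normalizer_le hS hN hsr hci hab hdvd (mem_inf.2 ⟨hx, mem_norm_iff.2
          (cj_eq_of_le ?_ le_rfl)⟩)
        show (zpowers ybar).map _ ≤ _
        rw [MonoidHom.map_zpowers, zpowers_le]
        show x * ybar * x⁻¹ ∈ zpowers ybar
        set y' := x * ybar * x⁻¹ with hy'
        have hy'K : y' ∈ KA := hKAn x hx ybar hyK
        have hy'o : orderOf y' = r := by
          rw [hy', ← MulAut.conj_apply, MulEquiv.orderOf_eq, hyo]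
        set T := zpowers ybar ⊔ zpowers y' with hTdef
        have hn' : zpowers y' ≤ normalizer (zpowers ybar : Set (MulAut (vee hV a))) :=
          zpowers_le.2 (mem_normalizer_zpowers (by
            rw [hcomm y' hy'K ybar hyK, mul_inv_cancel_right]
            exact mem_zpowers _))
        haveI := hT.isCyclic_pgroup hS hN hsr hci hab hdvd (P := T)
          (sup_le (zpowers_le.2 ⟨_, rfl⟩) (zpowers_le.2 ((map_le_range _ _) hy'K)))
          ((isPGroup_zpowers hyo).to_sup_of_normal_left' (isPGroup_zpowers hy'o) hn')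
        obtain ⟨i, hi⟩ := mem_zpowers_iff.1 (FpfComplement.mem_zpowers_of_cyclic
          (u := (⟨y', mem_sup_right (mem_zpowers _)⟩ : T))
          (v := (⟨ybar, mem_sup_left (mem_zpowers _)⟩ : T))
          (by rw [Subgroup.orderOf_mk, Subgroup.orderOf_mk, hy'o, hyo]))
        exact ⟨i, congrArg Subtype.val hi⟩
      refine Nat.not_even_iff_odd.2 (((odd_pair hS.se hab).of_dvd_nat ?_).of_dvd_nat
        (card_dvd_of_le hAD)) hev
      refine (card_map_dvd _ _).trans ?_
      rw [Nat.card_congr (subgroupOfEquivOfLe (inf_le_left : st a ⊓ st b ≤ st a)).toEquiv]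
    · -- the stabilizer
      have h1 : p ^ n ≤ 2 * (2 ^ k - 1) := by
        have h8 : 2 ^ 3 ≤ 2 ^ k := Nat.pow_le_pow_right two_pos hk3
        have := Nat.le_of_dvd (by positivity) hord
        omega
      have h2 : At * (2 ^ k - 1) ≤ k * 2 ^ (2 * k * (k / d)) * (2 ^ k - 1) := by
        rw [hAt]
        calc Nat.card A ≤ p ^ n * Nat.card KA := hidx
          _ ≤ 2 * (2 ^ k - 1) * 2 ^ (2 * k * (k / d)) := Nat.mul_le_mul h1 hKAcard
          _ ≤ k * (2 ^ k - 1) * 2 ^ (2 * k * (k / d)) :=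
            Nat.mul_le_mul_right _ (Nat.mul_le_mul_right _ hk2)
          _ = _ := by ring
      exact Nat.le_of_mul_le_mul_right h2 (by
        have := Nat.one_lt_two_pow (n := k) (by omega)
        omega)
  by_cases hall : ∀ p : ℕ, p.Prime → p ∣ e₀ → p ^ e₀.factorization p ∣ 3
  · refine Or.inl ⟨Nat.le_of_dvd (by omega) ((Nat.dvd_iff_prime_pow_dvd_dvd _ _).2
      fun p j hp hj => ?_), ?_⟩
    · rcases Nat.eq_zero_or_pos j with rfl | hj0
      · exact one_dvd _
      · exact (pow_dvd_pow p ((hp.pow_dvd_iff_le_factorization he₀pos.ne').1 hj)).trans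
          (hall p hp ((dvd_pow_self p hj0.ne').trans hj))
    · have hsq : ∀ v : vee hV a, v * v = 1 := sq_vee hV a
      have h2 : Nat.card A ≤ ∏ i ∈ Finset.range k, (2 ^ k - 2 ^ i) :=
        (card_le_card_group A).trans (card_mulAut_le hsq hk)
      rw [Finset.range_eq_Ico, Finset.prod_eq_prod_Ico_succ_bot (by omega), pow_zero, ← hAt,
        mul_comm At] at h2
      exact Nat.le_of_mul_le_mul_left h2 (by
        have := Nat.one_lt_two_pow (n := k) (by omega)
        omega)
  · push Not at hall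
    obtain ⟨p, hp, hpe, h3⟩ := hall
    obtain ⟨d, hdk, hdlt, hdd, -, hbound⟩ := key p hp hpe
    refine Or.inr ⟨d, ?_, hdk, hdlt, Nat.le_of_dvd (by positivity)
      ((Nat.dvd_iff_prime_pow_dvd_dvd _ _).2 fun p' j hp' hj => ?_), hbound⟩
    · obtain ⟨c, hc⟩ := (hkodd.of_dvd_nat hdk)
      by_contra hlt
      have hd1 : d = 1 := by omega
      rw [hd1] at hdd
      exact h3 hdd
    · rcases Nat.eq_zero_or_pos j with rfl | hj0
      · exact one_dvd _
      · obtain ⟨d', -, -, -, hk', -⟩ := key p' hp' ((dvd_pow_self p' hj0.ne').trans hj)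
        exact (pow_dvd_pow p' ((hp'.pow_dvd_iff_le_factorization he₀pos.ne').1 hj)).trans hk'

end CfsgLib.Bender.Core.CSeven
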