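import Cfsg.Agent.Bender.CoreFour
import Cfsg.Agent.Bender.CoreNorm
import Cfsg.Agent.Bender.CoreSize
import Cfsg.Agent.Bender.CharUniform
import Cfsg.Agent.Bender.CoreTop

/-!
The core of a strongly embedded subgroup, step C7 with the Frobenius automorphism: the image of the
point stabilizer on its involutions does not have even order.
-/

set_option autoImplicit false
set_option linter.unusedSectionVars false
set_option linter.style.haveILetI false

namespace CfsgLib.Bender.Core.CSeven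

open Subgroup
open Cfsg CfsgLib.Block CfsgLib.Block.Chr CfsgLib.Char CfsgLib.Bender.CharPart
open CfsgLib.Bender.GSide
open CfsgLib.Bender.Core.CSix (InvolComm vee mem_vee invol_mem_vee st_le_normalizer_vee)
open CfsgLib.Bender.KSix (Rep)
open CfsgLib.Bender.Semilinear (Lin linPart mem_linPart)

universe u

variable {G : Type u} [Group G] [Finite G] {H : Subgroup G} {q : ℕ} {N : G ⧸ H → Subgroup G}
variable {hV : InvolComm H} {a b : G ⧸ H}
variable (hS : Setting H) (hN : Family q N) (hsr : Semireg N) (hci : CentInv N) (hab : a ≠ b)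
include hS hN hsr hci hab

/-- An element inducing the Frobenius automorphism and fixing an involution. -/
theorem exists_frob_fixed {k : ℕ} (hk : Nat.card (vee hV a) = 2 ^ k) {F : Type} [Field F]
    [Finite F] {e : Additive (vee hV a) ≃+ F} (hF : Nat.card F = 2 ^ k)
    (hrep : ∀ d ∈ barD hV a b, ∃ c i, Rep e d c i)
    (hg : ∃ g ∈ barD hV a b, ∃ c, Rep e g c 1) :
    ∃ (g : G) (hgD : g ∈ st a ⊓ st b) (t : G) (ht : t ∈ vee hV a) (c : F), t ≠ 1 ∧
      Rep e (act hV a ⟨g, (mem_inf.1 hgD).1⟩) c 1 ∧ Commute g t := by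
  classical
  haveI : Finite (MulAut (vee hV a)) := Finite.of_injective
    (fun φ : MulAut (vee hV a) => (φ : vee hV a → vee hV a)) DFunLike.coe_injective
  obtain ⟨g₀, hg₀, c₀, hr₀⟩ := hg
  obtain ⟨v, hv⟩ : ∃ v : vee hV a, v ≠ 1 := by
    obtain ⟨s, t, hs, -, -, hsa, -⟩ := CSix.exists_two hS a
    refine ⟨⟨s, invol_mem_vee hs hsa⟩, fun h => ?_⟩
    rw [show s = 1 from congrArg Subtype.val h, orderOf_one] at hs
    exact absurd hs (by norm_num)
  set C := barD hV a b ⊓ linPart e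
  let f : C → {w : vee hV a // w ≠ 1} := fun l => ⟨(l : MulAut (vee hV a)) v, by
    simpa using hv⟩
  have hinj : Function.Injective f := by
    intro l l' h
    have h' : (l : MulAut (vee hV a)) v = (l' : MulAut (vee hV a)) v := congrArg Subtype.val h
    refine Subtype.ext (inv_mul_eq_one.1 (Semilinear.Lin.eq_one_of_fixed hF
      ((mem_linPart.1 (mem_inf.1 l'.2).2).inv.mul (mem_linPart.1 (mem_inf.1 l.2).2)) hv ?_)).symm
    rw [MulAut.mul_apply, h', MulAut.inv_apply_self]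
  haveI := Fintype.ofFinite (vee hV a)
  have hsurj : Function.Surjective f := by
    refine (hinj.bijective_of_nat_card_le ?_).2
    rw [card_linPart hS hN hsr hci hab hk hF hrep, Nat.card_eq_fintype_card,
      Fintype.card_subtype_compl, Fintype.card_subtype_eq, ← Nat.card_eq_fintype_card, hk]
  obtain ⟨l, hl⟩ := hsurj ⟨g₀ v, by simpa using hv⟩
  have hl' : (l : MulAut (vee hV a)) v = g₀ v := congrArg Subtype.val hl
  obtain ⟨w, hw⟩ := (mem_linPart.1 (mem_inf.1 l.2).2).inv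
  obtain ⟨g, hgD, hgg⟩ := exists_of_mem_barD
    (mul_mem (inv_mem (mem_inf.1 l.2).1) hg₀ : (l : MulAut (vee hV a))⁻¹ * g₀ ∈ barD hV a b)
  refine ⟨g, hgD, v, v.2, _, fun h => hv (Subtype.ext h), hgg ▸ (hw.mul hr₀), ?_⟩
  have h1 : act hV a ⟨g, (mem_inf.1 hgD).1⟩ v = v := by
    rw [hgg, MulAut.mul_apply, ← hl', MulAut.inv_apply_self]
  have h2 := congrArg Subtype.val h1
  rw [act_apply] at h2
  exact mul_inv_eq_iff_eq_mul.1 h2

/-- The image of the point stabilizer cannot have even order. -/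
theorem false_of_frob_even {k : ℕ} (hk : Nat.card (vee hV a) = 2 ^ k) {F : Type} [Field F]
    [Finite F] {e : Additive (vee hV a) ≃+ F} (hF : Nat.card F = 2 ^ k)
    (hrep : ∀ d ∈ barD hV a b, ∃ c i, Rep e d c i)
    (hg : ∃ g ∈ barD hV a b, ∃ c, Rep e g c 1) (hev : Even (Nat.card (act hV a).range)) :
    False := by
  classical
  haveI : Fintype G := Fintype.ofFinite G
  haveI : Finite (MulAut (vee hV a)) := Finite.of_injective
    (fun φ : MulAut (vee hV a) => (φ : vee hV a → vee hV a)) DFunLike.coe_injective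
  have hk2 := (card_invol hS hV hk).1
  obtain ⟨p, hp, hpk⟩ := Nat.exists_prime_and_dvd (show 2 ^ k - 1 ≠ 1 from by
    have := Nat.pow_le_pow_right (show 1 ≤ 2 by norm_num) hk2
    omega)
  haveI := Fact.mk hp
  obtain ⟨R, u, y, hT⟩ := exists_torus hS hN hsr hci hab hk hpk
  have K := hT.kern hS hN hsr hci hab (dvd_card_invol hS hk hpk)
  have hnorm := pow_le_card_member hS hN hsr hci hab hk hF hrep hg
  obtain ⟨g, hgD, t, htV, c, ht1, hrep1, hgt⟩ := exists_frob_fixed hS hN hsr hci hab hk hF hrep hg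
  have hto : orderOf t = 2 := Invol.orderOf_eq_two htV.1 ht1
  have hta : t ∈ st a := htV.2
  have ht' : (⟨t, htV⟩ : vee hV a) ≠ 1 := fun h => ht1 (congrArg Subtype.val h)
  obtain ⟨hodd, hk3, he0, hsize⟩ := size_bound hS hN hsr hci hab hk hF hg
    (fun r hr hrk => by haveI := Fact.mk hr; exact exists_torus hS hN hsr hci hab hk hrk) hev ht'
  have hnum := LemmaBounds.weight_lt hodd hk3 hnorm hsize
  have hgV : g ∉ centralizer (vee hV a : Set G) := by
    intro h
    rw [act_eq_one.2 h] at hrep1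
    have := Nat.le_of_dvd one_pos (Semilinear.eq_one_rep hF hk2 hrep1).2
    omega
  have D := K.weightData hto hta hgD hgt hgV
  obtain ⟨Cg, hCg, hCgcard⟩ := K.exists_cg (mem_inf.1 hgD).1 hto hta hgt
    (FixFrob.card_commute_le e hk hrep1 ht' (Subtype.ext (by
      rw [act_apply]; exact hgt.mul_inv_cancel)))
  have hCt := K.card_centralizer_le hto hta
  set eZ := eZero hV N a b with heZ
  set S₂ := sTwo N a with hS₂
  set J := oddSt a with hJ
  set nN := Nat.card (N a) with hnN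
  set A := aFix hV a (⟨t, invol_mem_vee hto hta⟩ : vee hV a) with hA
  -- the degree bound
  have hNJ : N a ≤ J := by
    intro z hz
    refine ⟨⟨z, hN.le_st a hz⟩, le_oddCore (X := (N a).subgroupOf (st a))
      ⟨fun w hw h => (mem_normalizer_iff.1 (hN.st_le_normalizer a h.2) w).1 hw⟩ ?_
      (show (⟨z, hN.le_st a hz⟩ : st a) ∈ _ from hz), rfl⟩
    rw [Nat.card_congr (subgroupOfEquivOfLe (hN.le_st a)).toEquiv]
    exact hN.odd_card a
  have hOG : Cfsg.oddCore G = ⊥ := by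
    refine le_bot_iff.1 (hS.core ▸ ?_)
    exact normal_le_normalCore (hN := Solvable.pPrimeCore_normal 2) |>.2
      (normal_odd_le hS.se hS.pair (Solvable.pPrimeCore_normal 2) IsoApps.odd_oddCore)
  have hker : ∀ R : Subgroup G, R.Normal → N a ≤ R → R = ⊤ := by
    intro R hR hNR
    haveI := hR
    haveI : Fact (2 : ℕ).Prime := ⟨Nat.prime_two⟩
    have heven : ¬ Odd (Nat.card R) := fun h => hN.ne_bot a (le_bot_iff.1 (hNR.trans
      ((le_oddCore hR h).trans_eq hOG)))
    obtain ⟨i, hi⟩ := exists_prime_orderOf_dvd_card' (G := R) 2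
      (even_iff_two_dvd.1 (Nat.not_odd_iff_even.1 heven))
    rw [eq_top_iff, ← hS.gen, closure_le]
    intro t' ht'
    obtain ⟨c', hc'⟩ := isConj_iff.1 (StrongEmbed.isConj_of_invols hS.se
      (a := (i : G)) (b := t') (by rwa [orderOf_coe]) ht')
    rw [← hc']
    exact hR.conj_mem _ i.2 c'
  have hSne : S₂ ≠ ⊥ := fun h => ht1 (by
    have := K.invol_mem hta hto
    rwa [← hS₂, h, mem_bot] at this)
  have hdeg : ∀ (M : Ideal AlgInt) (_ : M.IsPrime), IsPModular 2 M →
      ∀ χ : IrrCharacter G, χ ∈ principalBlock M G → χ ≠ oneIrr G →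
        (((nN - 1) * Nat.card S₂ : ℕ) : ℝ) ≤ (deg χ : ℝ) := by
    intro M hMp hM χ hχ hχ1
    haveI := hMp
    refine Nat.cast_le.2 (CharUniform.deg_ge (H := st a) hN.prime hN.odd (hN.isPGroup a) (hN.comm a)
      (hN.ne_bot a) K.isPGroup_sTwo hSne K.sTwo_le
      (fun h hh s hs => (mem_normalizer_iff.1 (K.sTwo_norm hh) s).1 hs)
      (fun _ _ hs hs1 hh => K.move hs hs1 hh) (fun z hz hz1 w hw => ?_)
      (fun s hs z hz => K.commute_oddSt hs (hNJ hz)) hker hχ1 fun s hs z hz => ?_)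
    · have hwz : Commute w z := mem_centralizer_singleton_iff.1 hw
      refine MulAction.mem_stabilizer_iff.2 (hsr a z hz hz1 (w • a) ?_)
      rw [← mul_smul, ← hwz.eq, mul_smul, MulAction.mem_stabilizer_iff.1 (hN.le_st a hz)]
    · obtain ⟨j, hj⟩ := D.orderOf_two (mem_els1.1 hs).1
      exact principal_apply_mul_core hM hj
        (by rw [K.coreTwo (mem_els1.1 hs).1 (mem_els1.1 hs).2]; exact hNJ hz) hχ
  have hnN2 : 2 ≤ nN := (one_lt_card_iff_ne_bot (N a)).2 (hN.ne_bot a)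
  have hx : (0 : ℝ) < (((nN - 1) * Nat.card S₂ : ℕ) : ℝ) :=
    Nat.cast_pos.2 (Nat.mul_pos (by omega) Nat.card_pos)
  have hJpos : (0 : ℝ) < Nat.card J := Nat.cast_pos.2 Nat.card_pos
  have hfpos : (0 : ℝ) < (CharWeight.fixed1 S₂ g).card :=
    Nat.cast_pos.2 (Finset.card_pos.2 ⟨t, D.mem_fixed1_t⟩)
  set α := Real.sqrt ((2 : ℝ) ^ (k + 1) * eZ) with hα
  have hα2 : α ^ 2 = (2 : ℝ) ^ (k + 1) * eZ := Real.sq_sqrt (by positivity)
  have hα' : (Nat.card Cg : ℝ) / (((CharWeight.fixed1 S₂ g).card : ℝ) * Nat.card J) ≤ α ^ 2 := by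
    rw [hα2, div_le_iff₀ (mul_pos hfpos hJpos)]
    exact_mod_cast hCgcard
  have h1 := D.ineq Cg hCg (Real.sqrt_nonneg _) hα' hx hdeg
  rw [one_le_div hx] at h1
  have h2 : (Nat.card ↥(centralizer ({t} : Set G)) : ℝ) / Nat.card J ≤
      (A : ℝ) * eZ * Nat.card S₂ := by
    rw [div_le_iff₀ hJpos]
    have : (Nat.card ↥(centralizer ({t} : Set G)) : ℝ) ≤
        (A : ℝ) * ((eZ : ℝ) * ((Nat.card S₂ : ℝ) * Nat.card J)) := by exact_mod_cast hCt
    linarith
  have h3 : ((nN - 1 : ℕ) : ℝ) ≤ α * ((A : ℝ) * eZ) := by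
    refine le_of_mul_le_mul_right ?_ (Nat.cast_pos.2 (Nat.card_pos (α := S₂)) : (0 : ℝ) < _)
    calc ((nN - 1 : ℕ) : ℝ) * Nat.card S₂ = (((nN - 1) * Nat.card S₂ : ℕ) : ℝ) := by push_cast; ring
      _ ≤ α * ((Nat.card ↥(centralizer ({t} : Set G)) : ℝ) / Nat.card J) := h1
      _ ≤ α * ((A : ℝ) * eZ * Nat.card S₂) := mul_le_mul_of_nonneg_left h2 (Real.sqrt_nonneg _)
      _ = α * ((A : ℝ) * eZ) * Nat.card S₂ := by ring
  have h4 := pow_le_pow_left₀ (Nat.cast_nonneg _) h3 2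
  rw [mul_pow, hα2] at h4
  have h5 : (nN - 1) ^ 2 ≤ 2 ^ (k + 1) * eZ * (A * eZ) ^ 2 := by exact_mod_cast h4
  exact absurd hnum (not_lt.2 h5)

end CfsgLib.Bender.Core.CSeven
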