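import Cfsg.Agent.Bender.CoreC7
import Cfsg.Agent.Bender.CharShape
import Cfsg.Agent.Bender.CharWeight
import Cfsg.Agent.LocalB.CharP

/-!
The core of a strongly embedded subgroup, step C7 with the Frobenius automorphism: the two-core `S`
of the kernel `L₀` of the action on the member of the family and the odd core of the point
stabilizer.
-/

set_option autoImplicit false
set_option linter.unusedSectionVars false
set_option linter.style.haveILetI false

namespace CfsgLib.Bender.Core.CSeven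

open Subgroup
open CfsgLib.Bender.GSide
open CfsgLib.Bender.Core.CSix (InvolComm vee mem_vee invol_mem_vee st_le_normalizer_vee)

universe u

variable {G : Type u} [Group G] [Finite G] {H : Subgroup G}

/-- The kernel of the action on the member of the family. -/
abbrev fixL (N : G ⧸ H → Subgroup G) (a : G ⧸ H) : Subgroup G := st a ⊓ centralizer (N a : Set G)

/-- The two-core of that kernel. -/
abbrev sTwo (N : G ⧸ H → Subgroup G) (a : G ⧸ H) : Subgroup G := coreOf 2 (fixL N a)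

/-- The largest normal subgroup of odd order of a point stabilizer. -/
abbrev oddSt (a : G ⧸ H) : Subgroup G := CharShape.oddH (st a)

/-- What is known of the kernels after step C7. -/
structure Kern (hV : InvolComm H) (N : G ⧸ H → Subgroup G) (a b : G ⧸ H) : Prop where
  se : Cfsg.IsStronglyEmbedded H
  nil : Group.IsNilpotent ↥(fixL N a)
  norm : st a ≤ normalizer ((fixL N a : Subgroup G) : Set G)
  le_vee : fixL N a ≤ centralizer (vee hV a : Set G)
  vee_le : vee hV a ≤ fixL N a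
  disj : ∀ l ∈ fixL N a, l • b = b → l = 1
  split : ∀ h ∈ st a ⊓ centralizer (vee hV a : Set G),
    ∃ l ∈ fixL N a, ∃ d ∈ st a ⊓ st b ⊓ centralizer (vee hV a : Set G), l * d = h
  odd : Odd (Nat.card ↥(st a ⊓ st b))

variable {q : ℕ} {N : G ⧸ H → Subgroup G} {hV : InvolComm H} {a b : G ⧸ H}

theorem Torus.kern (hS : Setting H) (hN : Family q N) (hsr : Semireg N) (hci : CentInv N)
    (hab : a ≠ b) {p : ℕ} [Fact p.Prime]
    (hdvd : p ∣ Nat.card {t : G // orderOf t = 2 ∧ t • a = a}) {R : Subgroup G} {u y : G}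
    (hT : Torus hV N a b p R u y) : Kern hV N a b where
  se := hS.se
  nil := hT.isNilpotent_fixN hS hN hsr hci hab hdvd
  norm := st_le_normalizer_fixN hN
  le_vee := hT.fixN_le hS hN hsr hci hab hdvd
  vee_le := vee_le_fixN hS hN hsr hci hV a
  disj := fun _ hl hlb => eq_one_of_fixN hS hN hsr hci hab hV hl hlb
  split := fun h hh => by
    obtain ⟨l, hl, d, hd, -, hld⟩ := hT.kerV_exists hS hN hsr hci hab hdvd hh
    exact ⟨l, hl, d, hd, hld⟩
  odd := odd_pair hS.se hab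

namespace Kern

variable (K : Kern hV N a b)
include K

theorem sylow_two : ∃ P : Sylow 2 (fixL N a),
    sTwo N a = (P : Subgroup (fixL N a)).map (fixL N a).subtype ∧
      (P : Subgroup (fixL N a)).Normal := by
  haveI : Fact (2 : ℕ).Prime := ⟨Nat.prime_two⟩
  haveI := K.nil
  obtain ⟨P⟩ := (inferInstance : Nonempty (Sylow 2 (fixL N a)))
  haveI hn : (P : Subgroup (fixL N a)).Normal := inferInstance
  refine ⟨P, ?_, hn⟩
  show coreOf 2 _ = _
  rw [coreOf]
  congr 1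
  exact (P.3 (Solvable.isPGroup_pCore 2) (Solvable.le_pCore 2 hn P.2)).symm ▸ rfl

theorem isPGroup_sTwo : IsPGroup 2 (sTwo N a) := (Solvable.isPGroup_pCore 2).map _

theorem sTwo_le_fixL : sTwo N a ≤ fixL N a := map_subtype_le _

theorem sTwo_le : sTwo N a ≤ st a := K.sTwo_le_fixL.trans inf_le_left

theorem sTwo_norm : st a ≤ normalizer ((sTwo N a : Subgroup G) : Set G) := by
  haveI : Fact (2 : ℕ).Prime := ⟨Nat.prime_two⟩
  intro h hh
  obtain ⟨P, hP, hn⟩ := K.sylow_two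
  rw [hP]
  haveI : (P : Subgroup (fixL N a)).Characteristic := Sylow.characteristic_of_normal P hn
  exact CharShape.map_norm K.norm _ hh

theorem mem_sTwo_of_fixL {x : G} (hx : x ∈ fixL N a) {k : ℕ} (hk : x ^ 2 ^ k = 1) :
    x ∈ sTwo N a := by
  haveI : Fact (2 : ℕ).Prime := ⟨Nat.prime_two⟩
  obtain ⟨P, hP, hn⟩ := K.sylow_two
  rw [hP]
  have hzp : IsPGroup 2 (zpowers (⟨x, hx⟩ : fixL N a)) := by
    refine IsPGroup.of_card_dvd_pow (n := k) ?_
    rw [Nat.card_zpowers]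
    exact orderOf_dvd_of_pow_eq_one (Subtype.ext (by simpa using hk))
  obtain ⟨Q, hQ⟩ := hzp.exists_le_sylow
  haveI := Sylow.unique_of_normal P hn
  refine ⟨⟨x, hx⟩, ?_, rfl⟩
  rw [show P = Q from Subsingleton.elim _ _]
  exact hQ (mem_zpowers _)

theorem invol_mem {i : G} (hi : i ∈ st a) (h2 : orderOf i = 2) : i ∈ sTwo N a :=
  K.mem_sTwo_of_fixL (K.vee_le (invol_mem_vee h2 hi)) (k := 1)
    (by rw [pow_one, ← h2, pow_orderOf_eq_one])

theorem vee_le_sTwo : vee hV a ≤ sTwo N a := fun v hv =>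
  K.mem_sTwo_of_fixL (K.vee_le hv) (k := 1) (by rw [pow_one, sq]; exact hv.1)

/-- The two-elements centralizing the involutions lie in the two-core. -/
theorem mem_sTwo {x : G} (hx : x ∈ st a ⊓ centralizer (vee hV a : Set G)) {k : ℕ}
    (hk : x ^ 2 ^ k = 1) : x ∈ sTwo N a := by
  obtain ⟨l, hl, d, hd, hld⟩ := K.split x hx
  refine K.mem_sTwo_of_fixL ?_ hk
  obtain ⟨n, hn⟩ : Odd (orderOf d) :=
    K.odd.of_dvd_nat (Subgroup.orderOf_dvd_natCard _ (mem_inf.1 hd).1)
  set L : Subgroup (st a) := (fixL N a).subgroupOf (st a) with hL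
  haveI : L.Normal := ⟨fun y hy g => (mem_normalizer_iff.1 (K.norm g.2) y).1 hy⟩
  have hd' : d ∈ st a := (mem_inf.1 (mem_inf.1 hd).1).1
  set π := QuotientGroup.mk' L
  have hπl : π ⟨l, (mem_inf.1 hl).1⟩ = 1 := (QuotientGroup.eq_one_iff _).2 hl
  have h1 : π ⟨x, (mem_inf.1 hx).1⟩ = π ⟨d, hd'⟩ := by
    rw [← one_mul (π ⟨d, hd'⟩), ← hπl, ← map_mul]
    exact congrArg π (Subtype.ext hld.symm)
  have h2 : orderOf (π ⟨x, (mem_inf.1 hx).1⟩) = 1 := by
    refine Nat.eq_one_of_dvd_coprimes (a := 2 ^ k) (b := 2 * n + 1)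
      ((Nat.coprime_two_left.2 ⟨n, rfl⟩).pow_left k) ?_ ?_
    · refine orderOf_dvd_of_pow_eq_one ?_
      rw [← map_pow, ← map_one π]
      exact congrArg π (Subtype.ext hk)
    · rw [h1, ← hn, ← Subgroup.orderOf_mk (H := st a) d hd']
      exact orderOf_map_dvd π _
  exact mem_subgroupOf.1
    ((QuotientGroup.eq_one_iff (⟨x, (mem_inf.1 hx).1⟩ : st a)).1 (orderOf_eq_one_iff.1 h2))

theorem move {g s : G} (hs : s ∈ sTwo N a) (hs1 : s ≠ 1) (hg : g * s * g⁻¹ ∈ st a) :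
    g ∈ st a := by
  obtain ⟨k, hk⟩ := K.isPGroup_sTwo ⟨s, hs⟩
  have hk' : s ^ 2 ^ k = 1 := congrArg Subtype.val hk
  obtain ⟨j, -, hj⟩ := (Nat.dvd_prime_pow Nat.prime_two).1 (orderOf_dvd_of_pow_eq_one hk')
  have hj0 : 0 < j := Nat.pos_of_ne_zero fun h => hs1 (orderOf_eq_one_iff.1 (by rw [hj, h, pow_zero]))
  have ho : orderOf (s ^ 2 ^ (j - 1)) = 2 := by
    rw [orderOf_pow' _ (by positivity), hj, Nat.gcd_eq_right (pow_dvd_pow 2 (Nat.sub_le j 1)),
      Nat.pow_div (Nat.sub_le j 1) two_pos]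
    rw [Nat.sub_sub_self hj0, pow_one]
  have h1 : (g * s ^ 2 ^ (j - 1) * g⁻¹) • a = a := by
    rw [← conj_pow]
    exact MulAction.mem_stabilizer_iff.1 (pow_mem hg _)
  rw [mul_smul, mul_smul, ← eq_inv_smul_iff] at h1
  exact (inv_smul_eq_iff.1 (StrongEmbed.fix_unique K.se ho h1
    (MulAction.mem_stabilizer_iff.1 (pow_mem (K.sTwo_le hs) _)))).symm

theorem centralizer_le {s : G} (hs : s ∈ sTwo N a) (hs1 : s ≠ 1) :
    centralizer ({s} : Set G) ≤ st a := fun g hg => K.move hs hs1 (by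
  rw [mem_centralizer_singleton_iff.1 hg, mul_inv_cancel_right]; exact K.sTwo_le hs)

theorem odd_oddSt : Odd (Nat.card (oddSt a)) := by
  show Odd (Nat.card ((Cfsg.oddCore (st a)).map (st a).subtype))
  rw [card_map_of_injective (st a).subtype_injective]
  exact IsoApps.odd_oddCore

theorem oddSt_le : oddSt a ≤ st a := map_subtype_le _

theorem oddSt_norm : st a ≤ normalizer ((oddSt a : Subgroup G) : Set G) := by
  intro h hh
  refine CfsgLib.LocalB.mem_normalizer_of_conj_le fun d hd => ?_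
  obtain ⟨d', hd', rfl⟩ := Subgroup.mem_map.1 hd
  exact ⟨⟨h, hh⟩ * d' * ⟨h, hh⟩⁻¹, (Solvable.pPrimeCore_normal 2).conj_mem d' hd' _, rfl⟩

theorem disjoint_core : Disjoint (sTwo N a) (oddSt a) := by
  haveI : Fact (2 : ℕ).Prime := ⟨Nat.prime_two⟩
  obtain ⟨k, hk⟩ := IsPGroup.iff_card.1 K.isPGroup_sTwo
  refine disjoint_of_coprime_natCard ?_
  rw [hk]
  exact (Nat.coprime_two_left.2 K.odd_oddSt).pow_left k

theorem commute_oddSt {s j : G} (hs : s ∈ sTwo N a) (hj : j ∈ oddSt a) : Commute s j :=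
  CharShape.commute_of_disjoint K.disjoint_core (K.sTwo_norm (K.oddSt_le hj))
    (K.oddSt_norm (K.sTwo_le hs)) hs hj

theorem oddSt_le_vee : oddSt a ≤ centralizer (vee hV a : Set G) := fun _ hj =>
  mem_centralizer_iff.2 fun _ hv => (K.commute_oddSt (K.vee_le_sTwo hv) hj).eq

/-- The odd elements centralizing the two-core make up the odd core. -/
theorem mem_oddSt_of_commute {w : G} (hw : w ∈ st a) (hodd : Odd (orderOf w))
    (hc : ∀ s ∈ sTwo N a, Commute w s) : w ∈ oddSt a := by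
  haveI : Fact (2 : ℕ).Prime := ⟨Nat.prime_two⟩
  set C := st a ⊓ centralizer ((sTwo N a : Subgroup G) : Set G) with hC
  set P := sTwo N a ⊓ C with hP
  have hCV : C ≤ st a ⊓ centralizer (vee hV a : Set G) :=
    le_inf inf_le_left (inf_le_right.trans (Subgroup.centralizer_le fun v hv => K.vee_le_sTwo hv))
  have hPp : IsPGroup 2 P := K.isPGroup_sTwo.to_le inf_le_left
  have hidx : ¬ 2 ∣ P.relIndex C := by
    obtain ⟨Q, hQ⟩ := (hPp.of_equiv (subgroupOfEquivOfLe (inf_le_right : P ≤ C)).symm).exists_le_sylow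
    have hQP : (Q : Subgroup C) ≤ P.subgroupOf C := by
      intro x hx
      obtain ⟨m, hm⟩ := Q.isPGroup' ⟨x, hx⟩
      exact mem_inf.2 ⟨K.mem_sTwo (hCV x.2) (k := m)
        (congrArg (fun z : (Q : Subgroup C) => ((z : C) : G)) hm), x.2⟩
    show ¬ 2 ∣ (P.subgroupOf C).index
    rw [le_antisymm hQ hQP]
    exact Q.not_dvd_index
  obtain ⟨W, hWodd, hWC, hW⟩ := CharShape.exists_odd_part (inf_le_right : P ≤ C) hPp hidx
    (fun x hx c hc => mem_centralizer_iff.1 (mem_inf.1 hc).2 x (mem_inf.1 hx).1)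
  set W' := closure {c : G | c ∈ C ∧ Odd (orderOf c)} with hW'
  have hW'W : W' ≤ W := (closure_le _).2 fun c hc' => hW c hc'.1 hc'.2
  have hCn : ∀ h ∈ st a, ∀ c ∈ C, h * c * h⁻¹ ∈ C := by
    intro h hh c hcC
    refine mem_inf.2 ⟨mul_mem (mul_mem hh hcC.1) (inv_mem hh), mem_centralizer_iff.2 fun s hs => ?_⟩
    have hs' : h⁻¹ * s * h⁻¹⁻¹ ∈ sTwo N a :=
      (mem_normalizer_iff.1 (K.sTwo_norm ((st a).inv_mem hh)) s).1 hs
    rw [inv_inv] at hs'
    have h' := mem_centralizer_iff.1 hcC.2 _ hs'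
    calc s * (h * c * h⁻¹) = h * (h⁻¹ * s * h * c) * h⁻¹ := by group
      _ = h * (c * (h⁻¹ * s * h)) * h⁻¹ := by rw [h']
      _ = h * c * h⁻¹ * s := by group
  have hle : W' ≤ oddSt a := by
    intro x hx
    have hsub : W' ≤ st a := hW'W.trans (hWC.trans inf_le_left)
    refine ⟨⟨x, hsub hx⟩, Solvable.le_pPrimeCore 2 (N := W'.subgroupOf (st a)) ⟨fun y hy g => ?_⟩ ?_
      (show (⟨x, hsub hx⟩ : st a) ∈ _ from hx), rfl⟩
    · have : W'.map (MulAut.conj (g : G)).toMonoidHom ≤ W' := by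
        rw [hW', MonoidHom.map_closure, closure_le]
        rintro _ ⟨c, ⟨hc1, hc2⟩, rfl⟩
        exact subset_closure ⟨hCn g g.2 c hc1,
          show Odd (orderOf ((g : G) * c * (g : G)⁻¹)) by rw [Invol.orderOf_conj_eq]; exact hc2⟩
      exact this ⟨y, hy, rfl⟩
    · rw [Nat.card_congr (subgroupOfEquivOfLe hsub).toEquiv]
      exact Nat.coprime_two_right.2 (hWodd.of_dvd_nat (card_dvd_of_le hW'W))
  exact hle (subset_closure ⟨mem_inf.2 ⟨hw, mem_centralizer_iff.2 fun s hs => (hc s hs).eq.symm⟩, hodd⟩)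

/-- An odd element commuting with `s` and with the elements of the two-core commuting with `s`
centralizes the two-core. -/
theorem commute_sTwo {s w : G} (hs : s ∈ sTwo N a) (hw : w ∈ st a) (hodd : Odd (orderOf w))
    (hws : Commute w s) (hfix : ∀ r ∈ sTwo N a, Commute s r → Commute w r) :
    ∀ r ∈ sTwo N a, Commute w r := by
  haveI : Fact (2 : ℕ).Prime := ⟨Nat.prime_two⟩
  refine CfsgLib.LocalB.commute_of_pxq (p := 2) (P := zpowers s) (R := sTwo N a)
    (K.isPGroup_sTwo.to_le (zpowers_le.2 hs)) K.isPGroup_sTwo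
    (zpowers_le.2 (K.sTwo_norm (K.sTwo_le hs))) (Nat.coprime_two_right.2 hodd) (K.sTwo_norm hw)
    (fun π hπ => ?_) (fun r hr hrs => hfix r hr (hrs s (mem_zpowers s)))
  obtain ⟨i, rfl⟩ := hπ
  exact hws.symm.zpow_left i

theorem coreTwo {s : G} (hs : s ∈ sTwo N a) (hs1 : s ≠ 1) :
    Cfsg.centralizerPPrimeCore 2 s = oddSt a := by
  haveI : Fact (2 : ℕ).Prime := ⟨Nat.prime_two⟩
  set C := centralizer ({s} : Set G)
  have hCH : C ≤ st a := K.centralizer_le hs hs1
  refine le_antisymm ?_ ?_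
  · rintro w hw
    obtain ⟨w', hw', rfl⟩ := Subgroup.mem_map.1 hw
    have hco : (orderOf (w' : G)).Coprime 2 := by
      rw [orderOf_coe]
      exact (Solvable.coprime_card_pPrimeCore (G := C) 2).coprime_dvd_left
        (orderOf_dvd_natCard _ hw')
    refine K.mem_oddSt_of_commute (hCH w'.2) (Nat.coprime_two_right.1 hco) ?_
    refine K.commute_sTwo hs (hCH w'.2) (Nat.coprime_two_right.1 hco)
      (mem_centralizer_singleton_iff.1 w'.2) fun x hx hxs => ?_
    have hxC : x ∈ C := mem_centralizer_singleton_iff.2 hxs.eq.symm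
    set O' := Cfsg.pPrimeCore 2 C
    set T := (sTwo N a).subgroupOf C
    haveI hT : T.Normal := ⟨fun a' ha g =>
      (mem_normalizer_iff.1 (K.sTwo_norm (hCH g.2)) a').1 ha⟩
    have hTp : IsPGroup 2 T := K.isPGroup_sTwo.comap_of_injective _ C.subtype_injective
    have hd : Disjoint O' T := by
      obtain ⟨k, hk⟩ := IsPGroup.iff_card.1 hTp
      refine disjoint_of_coprime_natCard ?_
      rw [hk]
      exact (Solvable.coprime_card_pPrimeCore (G := C) 2).pow_right k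
    have := commute_of_normal_of_disjoint O' T (Solvable.pPrimeCore_normal 2) hT hd w' ⟨x, hxC⟩
      hw' hx
    exact congrArg Subtype.val this.eq
  · intro j hj
    have hjC : j ∈ C := mem_centralizer_singleton_iff.2 (K.commute_oddSt hs hj).eq.symm
    refine ⟨⟨j, hjC⟩, ?_, rfl⟩
    refine Solvable.le_pPrimeCore 2 (N := (oddSt a).subgroupOf C) ⟨fun a' ha g =>
      (mem_normalizer_iff.1 (K.oddSt_norm (hCH g.2)) a').1 ha⟩ ?_ (show (⟨j, hjC⟩ : C) ∈ _ from hj)
    have hle : oddSt a ≤ C := fun y hy =>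
      mem_centralizer_singleton_iff.2 (K.commute_oddSt hs hy).eq.symm
    rw [Nat.card_congr (subgroupOfEquivOfLe hle).toEquiv]
    exact Nat.coprime_two_right.2 K.odd_oddSt

/-- An element decomposed into its 2-part and its odd part. -/
theorem exists_parts (c : G) : ∃ x y : G, x * y = c ∧ (∃ k, x ^ 2 ^ k = 1) ∧ Odd (orderOf y) ∧
    x ∈ zpowers c ∧ y ∈ zpowers c := by
  obtain ⟨k, m, hm, hkm⟩ := Nat.exists_eq_two_pow_mul_odd (orderOf_pos c).ne'
  have hco : Nat.Coprime (2 ^ k) m := (Nat.coprime_two_left.2 hm).pow_left k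
  have hbz : (1 : ℤ) = (2 ^ k : ℕ) * (2 ^ k).gcdA m + (m : ℤ) * (2 ^ k).gcdB m := by
    rw [← Nat.gcd_eq_gcd_ab, hco.gcd_eq_one, Nat.cast_one]
  refine ⟨c ^ ((m : ℤ) * (2 ^ k).gcdB m), c ^ (((2 ^ k : ℕ) : ℤ) * (2 ^ k).gcdA m), ?_, ⟨k, ?_⟩, ?_,
    ⟨_, rfl⟩, ⟨_, rfl⟩⟩
  · rw [← zpow_add, add_comm, ← hbz, zpow_one]
  · rw [← zpow_natCast, ← zpow_mul]
    refine orderOf_dvd_iff_zpow_eq_one.1 ⟨(2 ^ k).gcdB m, ?_⟩
    rw [hkm]; push_cast; ring
  · refine hm.of_dvd_nat (orderOf_dvd_of_pow_eq_one ?_)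
    rw [← zpow_natCast, ← zpow_mul]
    refine orderOf_dvd_iff_zpow_eq_one.1 ⟨(2 ^ k).gcdA m, ?_⟩
    rw [hkm]; push_cast; ring

theorem selfCent {s : G} (hs : s ∈ sTwo N a) (hs1 : s ≠ 1) :
    CfsgLib.PConstrained.SelfCent 2
      (centralizer ({s} : Set G) ⧸ Cfsg.pPrimeCore 2 (centralizer ({s} : Set G))) := by
  haveI : Fact (2 : ℕ).Prime := ⟨Nat.prime_two⟩
  set C := centralizer ({s} : Set G)
  have hCH : C ≤ st a := K.centralizer_le hs hs1
  haveI hP : ((sTwo N a).subgroupOf C).Normal := ⟨fun a' ha g =>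
    (mem_normalizer_iff.1 (K.sTwo_norm (hCH g.2)) a').1 ha⟩
  have hPp : IsPGroup 2 ((sTwo N a).subgroupOf C) :=
    K.isPGroup_sTwo.comap_of_injective _ C.subtype_injective
  refine CharWeight.selfCent_of _ hPp fun c hc => ?_
  have hdis : Disjoint (Cfsg.pPrimeCore 2 C) ((sTwo N a).subgroupOf C) := by
    obtain ⟨k, hk⟩ := IsPGroup.iff_card.1 hPp
    refine disjoint_of_coprime_natCard ?_
    rw [hk]
    exact (Solvable.coprime_card_pPrimeCore (G := C) 2).pow_right k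
  have hcP : ∀ x ∈ (sTwo N a).subgroupOf C, c * x * c⁻¹ * x⁻¹ = 1 := fun x hx =>
    disjoint_def.1 hdis (hc x hx) (mul_mem (hP.conj_mem x hx c) (inv_mem hx))
  have hvC : ∀ v ∈ vee hV a, v ∈ C := fun v hv => mem_centralizer_singleton_iff.2
    (mem_centralizer_iff.1 (K.le_vee (K.sTwo_le_fixL hs)) v hv).symm.symm
  have hcV : (c : G) ∈ st a ⊓ centralizer (vee hV a : Set G) := by
    refine mem_inf.2 ⟨hCH c.2, mem_centralizer_iff.2 fun v hv => ?_⟩
    have h := congrArg Subtype.val (hcP ⟨v, hvC v hv⟩ (K.vee_le_sTwo hv))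
    exact (mul_inv_eq_iff_eq_mul.1 (mul_inv_eq_one.1 h)).symm
  obtain ⟨x, y, hxy, ⟨k, hk⟩, hy, hxz, hyz⟩ := K.exists_parts (c : G)
  have hxV := zpowers_le.2 hcV hxz
  have hyV := zpowers_le.2 hcV hyz
  have hxC : x ∈ C := zpowers_le.2 c.2 hxz
  have hyC : y ∈ C := zpowers_le.2 c.2 hyz
  refine ⟨⟨x, hxC⟩, K.mem_sTwo hxV hk, ⟨y, hyC⟩, ?_, Subtype.ext hxy.symm⟩
  have hyS : ∀ r ∈ sTwo N a, Commute y r := by
    refine K.commute_sTwo hs (mem_inf.1 hyV).1 hy (mem_centralizer_singleton_iff.1 hyC)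
      fun r hr hsr => ?_
    have hrC : r ∈ C := mem_centralizer_singleton_iff.2 hsr.eq.symm
    have h := congrArg Subtype.val (hcP ⟨r, hrC⟩ hr)
    obtain ⟨i, rfl⟩ := hyz
    have hcr : Commute (c : G) r := mul_inv_eq_iff_eq_mul.1 (mul_inv_eq_one.1 h)
    exact hcr.zpow_left i
  have hyJ : y ∈ oddSt a := K.mem_oddSt_of_commute (mem_inf.1 hyV).1 hy hyS
  rw [← K.coreTwo hs hs1] at hyJ
  obtain ⟨y', hy', hyy⟩ := Subgroup.mem_map.1 hyJ
  rwa [show (⟨y, hyC⟩ : C) = y' from Subtype.ext hyy.symm]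

/-- The data of the weight inequality. -/
theorem weightData {t g : G} (ht : orderOf t = 2) (hta : t ∈ st a) (hg : g ∈ st a ⊓ st b)
    (hgt : Commute g t) (hgV : g ∉ centralizer (vee hV a : Set G)) :
    CharWeight.Data (st a) (sTwo N a) (oddSt a) t g where
  two := K.isPGroup_sTwo
  le := K.sTwo_le
  move := fun _ _ hs hs1 hc => K.move hs hs1 hc
  mem_t := K.invol_mem hta ht
  ord_t := ht
  invol := fun _ hi h2 => K.invol_mem hi h2
  odd := K.odd_oddSt
  jle := K.oddSt_le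
  jnorm := fun h hh j hj => (mem_normalizer_iff.1 (K.oddSt_norm hh) j).1 hj
  coreTwo := fun _ hs hs1 => K.coreTwo hs hs1
  selfCent := fun _ hs hs1 => K.selfCent hs hs1
  g_mem := (mem_inf.1 hg).1
  g_comm := hgt
  g_odd := K.odd.of_dvd_nat (Subgroup.orderOf_dvd_natCard _ hg)
  g_not := fun h => hgV (K.oddSt_le_vee h)

end Kern

end CfsgLib.Bender.Core.CSeven
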