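import Cfsg.Agent.Bender.CoreDefs
import Cfsg.Agent.Bender.StLemma

/-!
The core of a strongly embedded subgroup: Sylow subgroups of two-point stabilizers, the orbit of
the centre of an involution, and groups without commuting involutions.
-/

set_option autoImplicit false
set_option linter.unusedSectionVars false
set_option linter.style.haveILetI false

namespace CfsgLib.Bender.Core

open Subgroup
open CfsgLib.FusionLift (cj mem_cj card_cj)
open CfsgLib.Bender.GSide

variable {G : Type*} [Group G] [Finite G] {H : Subgroup G} {r : ℕ}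

/-- Every Sylow `r`-subgroup of a two-point stabilizer fixes only these two points. -/
def CaseI (r : ℕ) (H : Subgroup G) : Prop :=
  ∀ a b : G ⧸ H, a ≠ b → ∀ R : Subgroup G, Syl r (st a ⊓ st b) R →
    ∀ c : G ⧸ H, R ≤ st c → c = a ∨ c = b

/-- A power of a nontrivial element is of prime order. -/
theorem exists_prime_order_pow {x : G} (hx : x ≠ 1) :
    ∃ k : ℕ, (orderOf (x ^ k)).Prime ∧ x ^ k ≠ 1 := by
  have h1 : orderOf x ≠ 1 := fun h => hx (orderOf_eq_one_iff.1 h)
  obtain ⟨p, hp, k, hk⟩ := Nat.exists_prime_and_dvd h1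
  have hpos := (isOfFinOrder_of_finite x).orderOf_pos
  have hkpos : 0 < k := by
    rcases Nat.eq_zero_or_pos k with rfl | h
    · rw [mul_zero] at hk; omega
    · exact h
  have hord : orderOf (x ^ k) = p := by
    rw [orderOf_pow' x hkpos.ne', hk, Nat.gcd_eq_right (dvd_mul_left k p),
      Nat.mul_div_cancel _ hkpos]
  exact ⟨k, hord ▸ hp, fun h => hp.one_lt.ne' (hord.symm.trans (orderOf_eq_one_iff.2 h))⟩

/-- An involution acting nontrivially on an odd order group inverts an element of prime order. -/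
theorem exists_inverted_prime {Y : Subgroup G} (hY : Odd (Nat.card Y)) {u : G} (hu : orderOf u = 2)
    (huY : u ∈ normalizer (Y : Set G)) (hnc : ∃ y ∈ Y, ¬ Commute u y) :
    ∃ x ∈ Y, (orderOf x).Prime ∧ u * x * u⁻¹ = x⁻¹ := by
  obtain ⟨y, hy, hny⟩ := hnc
  have hui := Invol.inv_eq_self hu
  obtain ⟨c, hc, i, hi, hcu, hiu, rfl⟩ := split hY (Invol.mul_self_eq_one hu) hy
    (by simpa [hui] using (mem_normalizer_iff.1 huY y).1 hy)
  have hi1 : i ≠ 1 := fun h => hny (by rw [h, mul_one]; exact hcu)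
  obtain ⟨k, hk, -⟩ := exists_prime_order_pow hi1
  refine ⟨i ^ k, pow_mem hi k, hk, ?_⟩
  rw [← conj_pow, hui, hiu, inv_pow]

/-- An involution inverting an element of odd order and centralizing it centralizes only `1`. -/
theorem eq_one_of_inverted_commute {x u : G} (hx : Odd (orderOf x)) (hinv : u * x * u⁻¹ = x⁻¹)
    (hc : Commute u x) : x = 1 := by
  rw [hc.eq, mul_inv_cancel_right] at hinv
  have h2 : x ^ 2 = 1 := by rw [sq]; exact mul_eq_one_iff_eq_inv.2 hinv
  obtain ⟨m, hm⟩ := hx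
  have := pow_orderOf_eq_one x
  rwa [hm, pow_succ, pow_mul, h2, one_pow, one_mul] at this

/-- An element of odd order fixing a point and inverted by an involution at that point centralizes
whatever the involutions at that point centralize. -/
theorem commute_of_inverted {N : G ⧸ H → Subgroup G} (hci : CentInv N) {x u : G}
    {e : G ⧸ H} (hx : Odd (orderOf x)) (hxe : x • e = e) (hu : orderOf u = 2) (hue : u • e = e)
    (hinv : u * x * u⁻¹ = x⁻¹) {z : G} (hz : z ∈ N e) : Commute x z := by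
  have h1 : Commute (x * u * x⁻¹) z := by
    refine hci e _ (by rw [Invol.orderOf_conj_eq, hu]) ?_ z hz
    rw [mul_smul, mul_smul, inv_smul_eq_iff.2 hxe.symm, hue, hxe]
  have h2 : x * u * x⁻¹ * u⁻¹ = x ^ 2 := by
    calc x * u * x⁻¹ * u⁻¹ = x * (u * x * u⁻¹)⁻¹ := by group
      _ = x ^ 2 := by rw [hinv, inv_inv, sq]
  have h3 : Commute (x ^ 2) z := h2 ▸ h1.mul_left (hci e u hu hue z hz).inv_left
  obtain ⟨m, hm⟩ := hx
  have h4 := h3.pow_left (m + 1)
  rwa [← pow_mul, show 2 * (m + 1) = orderOf x + 1 by omega, pow_succ, pow_orderOf_eq_one,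
    one_mul] at h4

/-- An element commuting with an involution fixes its point. -/
theorem fix_of_commute (hH : Cfsg.IsStronglyEmbedded H) {c t : G} (ht : orderOf t = 2)
    {e : G ⧸ H} (hte : t • e = e) (hc : Commute c t) : c • e = e :=
  StrongEmbed.fix_unique hH ht (by rw [smul_smul, ← hc.eq, mul_smul, hte]) hte

/-- In a group without commuting involutions, each involution normalizes a Sylow `r`-subgroup. -/
theorem exists_invariant_syl [Fact r.Prime] (hr : r ≠ 2) {M : Subgroup G} (hp : ¬ HasPair M)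
    {t : G} (ht : t ∈ M) (ht2 : orderOf t = 2) :
    ∃ R : Subgroup G, Syl r M R ∧ t ∈ normalizer (R : Set G) := by
  obtain ⟨P, hP⟩ := IsoApps.exists_invariant_sylow (isolated hp ht ht2) hr
  refine ⟨(P : Subgroup M).map M.subtype, ⟨map_subtype_le _, P.isPGroup'.map _, fun Q hQ hQp => ?_⟩,
    ?_⟩
  · obtain ⟨P', hP'⟩ := (hQp.comap_subtype : IsPGroup r (Q.subgroupOf M)).exists_le_sylow
    rw [card_map_of_injective M.subtype_injective, ← Nat.card_congr (subgroupOfEquivOfLe hQ).toEquiv,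
      P.card_eq_multiplicity, ← P'.card_eq_multiplicity]
    exact card_le_of_le hP'
  · exact le_normalizer_map M.subtype ⟨_, hP, rfl⟩

section Setting

variable (hS : Setting H)
include hS

theorem two_pretransitive : MulAction.IsMultiplyPretransitive G (G ⧸ H) 2 :=
  St.isMultiplyPretransitive_quotient (two_transitive_of_pair hS.se hS.pair)

theorem exists_move {a b c d : G ⧸ H} (hab : a ≠ b) (hcd : c ≠ d) :
    ∃ g : G, g • a = c ∧ g • b = d :=
  MulAction.is_two_pretransitive_iff.1 (two_pretransitive hS) hab hcd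

theorem exists_other (a : G ⧸ H) : ∃ b : G ⧸ H, a ≠ b := by
  obtain ⟨g, hg⟩ : ∃ g : G, g ∉ H := by
    by_contra h
    push Not at h
    exact hS.se.1 (eq_top_iff.2 fun x _ => h x)
  obtain ⟨k, hk⟩ := exists_smul (QuotientGroup.mk 1 : G ⧸ H) a
  refine ⟨k • (QuotientGroup.mk g : G ⧸ H), fun h => hg ?_⟩
  rw [← hk] at h
  simpa using QuotientGroup.eq.1 (MulAction.injective k h)

theorem card_pair {a b c d : G ⧸ H} (hab : a ≠ b) (hcd : c ≠ d) :
    Nat.card ↥(st a ⊓ st b) = Nat.card ↥(st c ⊓ st d) := by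
  obtain ⟨g, rfl, rfl⟩ := exists_move hS hab hcd
  rw [st_smul, st_smul]
  unfold cj
  rw [← map_inf _ _ _ (MulAut.conj g).injective,
    card_map_of_injective (MulAut.conj g).injective]

/-- A Sylow subgroup of one two-point stabilizer is one of any other containing it. -/
theorem syl_pair {a b x y : G ⧸ H} (hab : a ≠ b) (hxy : x ≠ y) {R : Subgroup G}
    (hR : Syl r (st a ⊓ st b) R) (hRx : R ≤ st x) (hRy : R ≤ st y) :
    Syl r (st x ⊓ st y) R := by
  refine ⟨le_inf hRx hRy, hR.2.1, fun P hP hPp => ?_⟩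
  obtain ⟨g, hga, hgb⟩ := exists_move hS hxy hab
  rw [← card_cj g P]
  refine hR.2.2 _ (le_inf ?_ ?_) (hPp.map _)
  · exact hga ▸ le_st_smul (hP.trans inf_le_left)
  · exact hgb ▸ le_st_smul (hP.trans inf_le_right)

/-- A Sylow subgroup of a two-point stabilizer with a third fixed point is normalized by an
involution at the first point. -/
theorem exists_invol_normalizing [Fact r.Prime] (hr : r ≠ 2) {a b c : G ⧸ H} (hab : a ≠ b)
    {R : Subgroup G} (hR : Syl r (st a ⊓ st b) R) (hc : R ≤ st c) (hca : c ≠ a) (hcb : c ≠ b) :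
    ∃ t : G, orderOf t = 2 ∧ t • a = a ∧ t ∈ normalizer (R : Set G) := by
  obtain ⟨u, hu, hua, huR⟩ := swapper_norm hS.se hab hR
  obtain ⟨e, hue⟩ := StrongEmbed.exists_fix hS.se hu
  have hea : e ≠ a := fun h => hab (by rw [← hua, ← h, hue])
  by_cases he : R ≤ st e
  · obtain ⟨w, hw, hwe, hwR⟩ := swapper_norm hS.se hea
      (syl_pair hS hab hea hR he (hR.1.trans inf_le_left))
    refine ⟨w * u * w⁻¹, by rw [Invol.orderOf_conj_eq, hu], ?_,
      mul_mem (mul_mem hwR huR) (inv_mem hwR)⟩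
    rw [← hwe, smul_smul, inv_mul_cancel_right, mul_smul, hue]
  · exfalso
    obtain ⟨O, hO⟩ := exists_oneClass hS.se ((Fact.out : r.Prime).odd_of_ne_two hr) hR.2.1 hu huR
      hue he
    obtain ⟨j, hj, hjb, hjR⟩ := swapper_norm hS.se hcb.symm
      (syl_pair hS hab hcb.symm hR (hR.1.trans inf_le_right) hc)
    obtain ⟨k, hk, hkc, hkR⟩ := swapper_norm hS.se hca
      (syl_pair hS hab hca hR hc (hR.1.trans inf_le_left))
    exact hO.triangle hu (hR.1.trans inf_le_left) hu hj hk huR hjR hkR hua hjb hkc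

theorem CaseI.top [Fact r.Prime] (h : CaseI r H) {a b : G ⧸ H} (hab : a ≠ b) {R : Subgroup G}
    (hR : Syl r (st a ⊓ st b) R) : Syl r (st a) R := by
  obtain ⟨T, hRT, hT⟩ := exists_syl (hR.1.trans inf_le_left) hR.2.1
  have hTR : R = T := by
    by_contra hne
    obtain ⟨Z, hRZ, hZT, hZN⟩ := exists_between (lt_of_le_of_ne hRT hne) hT.2.1
    have hZb : Z ≤ st b := fun z hz => by
      have hza : z • a = a := (hZT.trans hT.1) hz
      rcases h a b hab R hR _ (le_st_smul_of_norm (hZN hz) (hR.1.trans inf_le_right)) with e | e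
      · exact absurd (MulAction.injective z (hza.trans e.symm)) hab
      · exact e
    exact hRZ.ne (eq_of_le_of_card_ge hRZ.le
      (hR.2.2 Z (le_inf (hZT.trans hT.1) hZb) (hT.2.1.to_le hZT)))
  exact hTR ▸ hT

theorem CaseI.exists_second [Fact r.Prime] (h : CaseI r H) {a : G ⧸ H} {Y : Subgroup G}
    (hY : IsPGroup r Y) (hYa : Y ≤ st a) : ∃ b : G ⧸ H, a ≠ b ∧ Y ≤ st b := by
  obtain ⟨b, hab⟩ := exists_other hS a
  obtain ⟨R, -, hR⟩ := exists_syl (bot_le : ⊥ ≤ st a ⊓ st b) (IsPGroup.of_bot (p := r))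
  obtain ⟨d, hd, hdY⟩ := syl_conj (h.top hS hab hR) hYa hY
  refine ⟨d⁻¹ • b, fun e => hab ?_, ?_⟩
  · rw [← hd, e, smul_inv_smul]
  · have := le_st_smul (g := d⁻¹) (hdY.trans (hR.1.trans inf_le_right))
    rwa [cj_inv] at this

/-- In case I no involution normalizes a Sylow `r`-subgroup of the stabilizer of its point. -/
theorem CaseI.not_normalizes [Fact r.Prime] (h : CaseI r H) {a : G ⧸ H} {P : Subgroup G}
    (hP : Syl r (st a) P) {t : G} (ht : orderOf t = 2) (hta : t • a = a) :
    t ∉ normalizer (P : Set G) := by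
  intro htP
  obtain ⟨b, hab, hPb⟩ := h.exists_second hS hP.2.1 hP.1
  have hR : Syl r (st a ⊓ st b) P :=
    ⟨le_inf hP.1 hPb, hP.2.1, fun Q hQ hQp => hP.2.2 Q (hQ.trans inf_le_left) hQp⟩
  rcases h a b hab P hR _ (le_st_smul_of_norm htP hPb) with e | e
  · exact hab (MulAction.injective t (hta.trans e.symm))
  · exact hab (StrongEmbed.fix_unique hS.se ht hta e)

/-- A `q`-element fixing only one point puts the centre of an involution normalizing an odd order
group containing it into the orbit of that point. -/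
theorem centre_mem_orbit {q : ℕ} [Fact q.Prime] {J : Subgroup G} (hJ : Odd (Nat.card J)) {u : G}
    (hu : orderOf u = 2) (huJ : u ∈ normalizer (J : Set G)) {e : G ⧸ H} (hue : u • e = e) {z : G}
    (hzJ : z ∈ J) {a : G ⧸ H} (hzq : z ^ q = 1) (hza : z • a = a)
    (hz1 : ∀ y : G ⧸ H, z • y = y → y = a) : ∃ j ∈ J, j • a = e := by
  have hAJ : zpowers u ≤ normalizer (J : Set G) := zpowers_le.2 huJ
  have hcop : (Nat.card (zpowers u)).Coprime (Nat.card J) := by
    rw [Nat.card_zpowers, hu]; exact Nat.coprime_two_left.2 hJ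
  obtain ⟨P, hP⟩ := CoprimeAct.exists_invariant_sylow hAJ hcop (Or.inl inferInstance) q
  set Q := (P : Subgroup J).map J.subtype
  have hQ : Syl q J Q := ⟨map_subtype_le _, P.isPGroup'.map _, fun R hR hRp => by
    obtain ⟨P', hP'⟩ := (hRp.comap_subtype : IsPGroup q (R.subgroupOf J)).exists_le_sylow
    rw [card_map_of_injective J.subtype_injective,
      ← Nat.card_congr (subgroupOfEquivOfLe hR).toEquiv, P.card_eq_multiplicity,
      ← P'.card_eq_multiplicity]
    exact card_le_of_le hP'⟩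
  have hzp : IsPGroup q (zpowers z) := by
    rintro ⟨x, hx⟩
    refine ⟨1, Subtype.ext ?_⟩
    obtain ⟨i, rfl⟩ := mem_zpowers_iff.1 hx
    show (z ^ i) ^ q ^ 1 = 1
    rw [pow_one, ← zpow_natCast, ← zpow_mul, mul_comm, zpow_mul, zpow_natCast, hzq, one_zpow]
  obtain ⟨k, hk, hkQ⟩ := syl_conj hQ (zpowers_le.2 hzJ) hzp
  have hz'Q : k * z * k⁻¹ ∈ Q := hkQ ⟨z, mem_zpowers z, rfl⟩
  have hza' : (k * z * k⁻¹) • k • a = k • a := by
    rw [smul_smul, inv_mul_cancel_right, mul_smul, hza]
  have hz1' : ∀ y : G ⧸ H, (k * z * k⁻¹) • y = y → y = k • a := fun y hy => by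
    rw [mul_smul, mul_smul, ← eq_inv_smul_iff] at hy
    rw [← hz1 _ hy, smul_inv_smul]
  -- `Q` fixes that point
  have hQa : Q ≤ st (k • a) := by
    by_contra hne
    obtain ⟨Z, hlt, hZQ, hZN⟩ := exists_between
      (lt_of_le_of_ne inf_le_left fun h => hne (h ▸ inf_le_right) : Q ⊓ st (k • a) < Q) hQ.2.1
    refine hlt.not_ge fun g hg => ⟨hZQ hg, ?_⟩
    refine hz1' _ ?_
    have h := (mem_normalizer_iff.1 (inv_mem (hZN hg)) _).1
      (⟨hz'Q, hza'⟩ : k * z * k⁻¹ ∈ Q ⊓ st (k • a))
    have h2 : (g⁻¹ * (k * z * k⁻¹) * g⁻¹⁻¹) • k • a = k • a := h.2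
    rw [inv_inv, mul_smul, mul_smul, inv_smul_eq_iff] at h2
    exact h2
  refine ⟨k, hk, StrongEmbed.fix_unique hS.se hu ?_ hue⟩
  exact hz1' _ (le_st_smul_of_norm (hP (mem_zpowers u)) hQa hz'Q)

end Setting

end CfsgLib.Bender.Core
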