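import Cfsg.Agent.Bender.CoreThree
import Cfsg.Agent.Bender.CoreC7
import Cfsg.Agent.Bender.CoreFrob

/-!
The core of a strongly embedded subgroup, step C7: either a point stabilizer is the product of the
kernel of its action on the member of the family and a two-point stabilizer, or a two-point
stabilizer induces the Frobenius automorphism and the image on the involutions has even order.
-/

set_option autoImplicit false
set_option linter.unusedSectionVars false
set_option linter.style.haveILetI false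

namespace CfsgLib.Bender.Core.CSeven

open Subgroup
open CfsgLib.Bender.GSide
open CfsgLib.Bender.Core.CSix (InvolComm vee mem_vee invol_mem_vee st_le_normalizer_vee)
open CfsgLib.Bender.KSix (Rep)

universe u

variable {G : Type u} [Group G] [Finite G] {H : Subgroup G} {q : ℕ} {N : G ⧸ H → Subgroup G}
variable {hV : InvolComm H} {a b : G ⧸ H}
variable (hS : Setting H) (hN : Family q N) (hsr : Semireg N) (hci : CentInv N) (hab : a ≠ b)
include hS hN hsr hci hab

/-- When the image of the point stabilizer comes from the two-point stabilizer, the point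
stabilizer is a product. -/
theorem Torus.exists_mul {p : ℕ} [Fact p.Prime]
    (hdvd : p ∣ Nat.card {t : G // orderOf t = 2 ∧ t • a = a}) {R : Subgroup G} {u y : G}
    (hT : Torus hV N a b p R u y) (hA : (act hV a).range ≤ barD hV a b) {h : G} (hh : h ∈ st a) :
    ∃ l ∈ st a ⊓ centralizer (N a : Set G), ∃ d ∈ st a ⊓ st b, h = l * d := by
  obtain ⟨d, hd, hdh⟩ := exists_of_mem_barD (hA ⟨⟨h, hh⟩, rfl⟩)
  have hk : h * d⁻¹ ∈ st a ⊓ centralizer (vee hV a : Set G) := by
    refine mem_inf.2 ⟨(st a).mul_mem hh ((st a).inv_mem (mem_inf.1 hd).1), ?_⟩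
    refine (act_eq_one (g := ⟨h, hh⟩ * ⟨d, (mem_inf.1 hd).1⟩⁻¹)).1 ?_
    rw [map_mul, map_inv, hdh, mul_inv_cancel]
  obtain ⟨l, hl, d', hd', -, hld⟩ := hT.kerV_exists hS hN hsr hci hab hdvd hk
  exact ⟨l, hl, d' * d, (st a ⊓ st b).mul_mem (mem_inf.1 hd').1 hd, by
    rw [← mul_assoc, hld, inv_mul_cancel_right]⟩

/-- The two cases. -/
theorem exists_mul_or_frob {k : ℕ} (hk : Nat.card (vee hV a) = 2 ^ k) {F : Type} [Field F]
    [Finite F] {e : Additive (vee hV a) ≃+ F} (hF : Nat.card F = 2 ^ k)
    (hrep : ∀ d ∈ barD hV a b, ∃ c i, Rep e d c i) :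
    (∀ h ∈ st a, ∃ l ∈ st a ⊓ centralizer (N a : Set G), ∃ d ∈ st a ⊓ st b, h = l * d) ∨
      (∃ g ∈ barD hV a b, ∃ c, Rep e g c 1) ∧ Even (Nat.card (act hV a).range) := by
  have hk2 := (card_invol hS hV hk).1
  rcases Semilinear.frob_or_central hk2 hF (barD hV a b) hrep with hg | ⟨p, hp, hpk, hc⟩
  · rcases Nat.even_or_odd (Nat.card (act hV a).range) with hev | hodd
    · exact Or.inr ⟨hg, hev⟩
    refine Or.inl fun h hh => ?_
    obtain ⟨p, hp, hpk⟩ := Nat.exists_prime_and_dvd (show 2 ^ k - 1 ≠ 1 from by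
      have := Nat.pow_le_pow_right (show 1 ≤ 2 by norm_num) hk2
      omega)
    haveI := Fact.mk hp
    obtain ⟨R, u, y, hT⟩ := exists_torus hS hN hsr hci hab hk hpk
    have hdvd := dvd_card_invol hS hk hpk
    exact hT.exists_mul hS hN hsr hci hab hdvd
      (hT.range_le_of_odd hS hN hsr hci hab hdvd hodd) hh
  · refine Or.inl fun h hh => ?_
    haveI := Fact.mk hp
    obtain ⟨R, u, y, hT⟩ := exists_torus hS hN hsr hci hab hk hpk
    have hdvd := dvd_card_invol hS hk hpk
    refine hT.exists_mul hS hN hsr hci hab hdvd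
      (hT.range_le_of_commute hS hN hsr hci hab hdvd fun d hd => hc d hd _
        (LinOn.lin (hT.linOn hS hN hsr hci hab hk hF hrep hpk hT.mem) hT.mem_st) ?_) hh
    exact orderOf_dvd_iff_pow_eq_one.1 (hT.orderOf_ybar hS hN hsr hci hab hdvd).dvd

end CfsgLib.Bender.Core.CSeven
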