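import Cfsg.Agent.Bender.CoreShape
import Cfsg.Agent.Bender.CoreProd
import Cfsg.Agent.Bender.CoreFrobEven

/-!
The core of a strongly embedded subgroup: step C7 assembled. A point stabilizer with nontrivial
core is the product of the kernel of its action on the member of the family and a two-point
stabilizer.
-/

set_option autoImplicit false
set_option linter.unusedSectionVars false
set_option linter.style.haveILetI false

namespace CfsgLib.Bender.Core

open Subgroup
open CfsgLib.Bender.GSide
open CfsgLib.Bender.Core.CSeven

universe u

variable {G : Type u} [Group G] [Finite G] {H : Subgroup G} {q : ℕ} {N : G ⧸ H → Subgroup G}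

/-- The point stabilizer is a product. -/
theorem Shape.exists_mul (S : Shape H q N) {a b : G ⧸ H} (hab : a ≠ b) :
    ∀ h ∈ st a, ∃ l ∈ st a ⊓ centralizer (N a : Set G), ∃ d ∈ st a ⊓ st b, h = l * d := by
  obtain ⟨k, -, hk⟩ := exists_card_vee S.setting S.comm a
  obtain ⟨F, _, _, e, hF, hrep⟩ := exists_coord S.setting S.comm hab hk
  rcases exists_mul_or_frob S.setting S.fam S.semireg S.centInv hab hk hF hrep with h | ⟨hg, hev⟩
  · exact h
  · exact (false_of_frob_even S.setting S.fam S.semireg S.centInv hab hk hF hrep hg hev).elim

end CfsgLib.Bender.Core
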