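import Cfsg.Agent.Bender.OddFixed
import Cfsg.Agent.Solvable.Fitting
import Cfsg.Agent.OddEnd.FourteenFinal

/-!
The core of a strongly embedded subgroup, step C7: an automorphism group of odd order of an
elementary abelian two-group, transitive on the nonzero vectors and with a fixed-point-free element
of prime order with cyclic Sylow subgroups, lies in the normalizer of the subgroup generated by it.
-/

set_option autoImplicit false
set_option linter.unusedSectionVars false
set_option linter.style.haveILetI false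

namespace CfsgLib.Bender.OddImage

open Subgroup

universe u

variable {V : Type u} [CommGroup V] [Finite V] {p : ℕ}

theorem le_normalizer_of_odd [Finite (MulAut V)] (hV : ∀ v : V, v ^ 2 = 1) (A : Subgroup (MulAut V))
    (hodd : Odd (Nat.card A)) (htr : ∀ s t : V, s ≠ 1 → t ≠ 1 → ∃ d ∈ A, d s = t)
    (hp : p.Prime) {y : MulAut V} (hyA : y ∈ A) (hy : orderOf y = p)
    (hfpf : ∀ v, y v = v → v = 1)
    (hcyc : ∀ P : Subgroup (MulAut V), P ≤ A → IsPGroup p P → IsCyclic P) :
    A ≤ normalizer (zpowers y : Set (MulAut V)) := by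
  haveI := Fact.mk hp
  haveI : Group.IsSolvable A := OddEnd.odd_solvable A hodd
  set x : A := ⟨y, hyA⟩
  have hx : orderOf x = p := by rw [← Subgroup.orderOf_coe]; exact hy
  have hp2 : p ≠ 2 := fun h => Nat.not_even_iff_odd.2 hodd
    (even_iff_two_dvd.2 (h ▸ hx ▸ orderOf_dvd_natCard x))
  have hcycA : ∀ P : Subgroup A, IsPGroup p P → IsCyclic P := fun P hP => by
    haveI := hcyc (P.map A.subtype) (map_subtype_le P) (hP.map _)
    exact isCyclic_of_injective
      (P.equivMapOfInjective A.subtype A.subtype_injective).toMonoidHom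
      (P.equivMapOfInjective A.subtype A.subtype_injective).injective
  have hxp : IsPGroup p (zpowers x) :=
    IsPGroup.of_card (n := 1) (by rw [Nat.card_zpowers, hx, pow_one])
  haveI hOn : (Cfsg.pCore p A).Normal := Solvable.pCore_normal p
  have hF : Cfsg.fittingSubgroup A ≤ centralizer {x} := by
    refine OddFixed.fitting_commute (φ := A.subtype) A.subtype_injective Nat.prime_two hp hp2 hV
      ?_ hodd hx hfpf ?_
    · intro U hU
      by_cases h : U = ⊥
      · exact Or.inl h
      obtain ⟨s, hs, hs1⟩ := U.bot_or_exists_ne_one.resolve_left h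
      refine Or.inr (eq_top_iff.2 fun t _ => ?_)
      by_cases ht : t = 1
      · exact ht ▸ one_mem U
      obtain ⟨d, hd, rfl⟩ := htr s t hs1 ht
      exact hU ⟨d, hd⟩ s hs
    · intro z hz
      haveI := hcycA _ (hxp.to_sup_of_normal_right (Solvable.isPGroup_pCore (G := A) p))
      obtain ⟨g, hg⟩ := IsCyclic.exists_generator (α := ↥(zpowers x ⊔ Cfsg.pCore p A))
      obtain ⟨i, hi⟩ := hg ⟨z, mem_sup_right hz⟩
      obtain ⟨j, hj⟩ := hg ⟨x, mem_sup_left (mem_zpowers x)⟩
      have hi' : (g : A) ^ i = z := congrArg Subtype.val hi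
      have hj' : (g : A) ^ j = x := congrArg Subtype.val hj
      have hc := Commute.zpow_zpow_self (g : A) i j
      simp only [hi', hj'] at hc
      exact hc
  have hxF : x ∈ Cfsg.fittingSubgroup A :=
    Fitting.centralizer_fittingSubgroup_le_of_solvable
      (mem_centralizer_iff.2 fun z hz => mem_centralizer_singleton_iff.1 (hF hz))
  haveI : (Cfsg.fittingSubgroup A).Normal := Solvable.fittingSubgroup_normal
  -- the elements of order dividing `p` in the center of the Fitting subgroup
  set F := Cfsg.fittingSubgroup A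
  let Ω : Subgroup A :=
    { carrier := {z | z ∈ F ∧ (∀ f ∈ F, Commute f z) ∧ z ^ p = 1}
      one_mem' := ⟨one_mem _, fun f _ => Commute.one_right f, one_pow _⟩
      mul_mem' := fun {z w} hz hw => ⟨mul_mem hz.1 hw.1, fun f hf =>
        (hz.2.1 f hf).mul_right (hw.2.1 f hf), by
          rw [(hw.2.1 z hz.1).mul_pow, hz.2.2, hw.2.2, one_mul]⟩
      inv_mem' := fun {z} hz => ⟨inv_mem hz.1, fun f hf => (hz.2.1 f hf).inv_right, by
        rw [inv_pow, hz.2.2, inv_one]⟩ }
  have hxΩ : x ∈ Ω := ⟨hxF, fun f hf => mem_centralizer_singleton_iff.1 (hF hf),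
    hx ▸ pow_orderOf_eq_one x⟩
  haveI := hcycA Ω fun z => ⟨1, Subtype.ext (by rw [pow_one]; exact z.2.2.2)⟩
  have hΩ : ∀ z ∈ Ω, z ∈ zpowers x := by
    intro z hz
    obtain ⟨g, hg⟩ := IsCyclic.exists_generator (α := Ω)
    have hgp : orderOf g ∣ p := orderOf_dvd_of_pow_eq_one (Subtype.ext g.2.2.2)
    have hgo : orderOf (g : A) = p := by
      rw [Subgroup.orderOf_coe]
      refine ((Nat.dvd_prime hp).1 hgp).resolve_left fun h1 => ?_
      obtain ⟨j, hj⟩ := hg ⟨x, hxΩ⟩
      rw [orderOf_eq_one_iff.1 h1] at hj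
      have : x = 1 := by simpa using (congrArg Subtype.val hj).symm
      rw [this, orderOf_one] at hx
      exact hp.one_lt.ne hx
    have hle : zpowers x = zpowers (g : A) := by
      refine eq_of_le_of_card_ge (zpowers_le.2 ?_) (by rw [Nat.card_zpowers, Nat.card_zpowers, hgo, hx])
      obtain ⟨j, hj⟩ := hg ⟨x, hxΩ⟩
      exact ⟨j, congrArg Subtype.val hj⟩
    obtain ⟨j, hj⟩ := hg ⟨z, hz⟩
    rw [hle]
    exact ⟨j, congrArg Subtype.val hj⟩
  have hΩn : Ω.Normal := ⟨fun z hz g => ⟨Normal.conj_mem inferInstance z hz.1 g, fun f hf => by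
    have h := hz.2.1 (g⁻¹ * f * g) (by simpa using Normal.conj_mem inferInstance f hf g⁻¹)
    have := (Commute.map h (MulAut.conj g).toMonoidHom : _)
    simpa [mul_assoc] using this, by rw [conj_pow, hz.2.2, mul_one, mul_inv_cancel]⟩⟩
  intro g hg
  refine mem_normalizer_iff.2 ?_
  have key : ∀ g : A, (g : MulAut V) * y * (g : MulAut V)⁻¹ ∈ zpowers y := fun g => by
    obtain ⟨j, hj⟩ := hΩ _ (hΩn.conj_mem x hxΩ g)
    exact ⟨j, congrArg Subtype.val hj⟩
  intro z
  constructor
  · rintro ⟨i, rfl⟩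
    obtain ⟨j, hj⟩ := key ⟨g, hg⟩
    exact ⟨j * i, by show y ^ (j * i) = g * y ^ i * g⁻¹; rw [zpow_mul, ← conj_zpow]; exact congrArg (· ^ i) hj⟩
  · rintro ⟨i, hi⟩
    obtain ⟨j, hj⟩ := key ⟨g, hg⟩⁻¹
    refine ⟨j * i, ?_⟩
    have hz : z = g⁻¹ * y ^ i * g := by
      rw [show y ^ i = g * z * g⁻¹ from hi]; group
    show y ^ (j * i) = z
    rw [hz, zpow_mul, show g⁻¹ * y ^ i * g = (g⁻¹ * y * g⁻¹⁻¹) ^ i by rw [conj_zpow, inv_inv]]
    exact congrArg (· ^ i) hj

end CfsgLib.Bender.OddImage
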