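import Cfsg.Agent.Bender.CoreLemmas

/-!
The core of a strongly embedded subgroup: centralizers of involutions in two-point stabilizers and
the `r`-subgroups of point stabilizers in the orbit of a centre.
-/

set_option autoImplicit false
set_option linter.unusedSectionVars false
set_option linter.style.haveILetI false

namespace CfsgLib.Bender.Core

open Subgroup
open CfsgLib.FusionLift (cj mem_cj card_cj)
open CfsgLib.Bender.GSide

variable {G : Type*} [Group G] [Finite G] {H : Subgroup G} {r : ℕ}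

/-- A Sylow `r`-subgroup of a point stabilizer normalized by an element moving the point to two
others is normalized by an involution fixing the point. -/
theorem exists_invol_of_shift [Fact r.Prime] (hH : Cfsg.IsStronglyEmbedded H) (hr : r ≠ 2)
    {a : G ⧸ H} {R : Subgroup G} (hR : Syl r (st a) R) {z : G}
    (hz : z ∈ normalizer (R : Set G)) (h1 : z • a ≠ a) (h2 : z • z • a ≠ a) :
    ∃ t : G, orderOf t = 2 ∧ t • a = a ∧ t ∈ normalizer (R : Set G) := by
  have hpair : ∀ x y : G ⧸ H, R ≤ st x → R ≤ st y → Syl r (st x ⊓ st y) R := by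
    refine fun x y hx hy => ⟨le_inf hx hy, hR.2.1, fun P hP hPp => ?_⟩
    obtain ⟨g, rfl⟩ := exists_smul a x
    rw [← card_cj g⁻¹ P]
    refine hR.2.2 _ ?_ (hPp.map _)
    have := le_st_smul (g := g⁻¹) (hP.trans inf_le_left)
    rwa [inv_smul_smul] at this
  have hRa : R ≤ st a := hR.1
  have hRb : R ≤ st (z • a) := le_st_smul_of_norm hz hRa
  have hRc : R ≤ st (z • z • a) := le_st_smul_of_norm hz hRb
  have hbc : z • a ≠ z • z • a := fun h => h1 (MulAction.injective z h).symm
  obtain ⟨u, hu, hua, huR⟩ := swapper_norm hH h1.symm (hpair a (z • a) hRa hRb)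
  obtain ⟨e, hue⟩ := StrongEmbed.exists_fix hH hu
  have hea : e ≠ a := fun h => h1.symm (by rw [← hua, ← h, hue])
  by_cases he : R ≤ st e
  · obtain ⟨w, hw, hwe, hwR⟩ := swapper_norm hH hea (hpair e a he hRa)
    refine ⟨w * u * w⁻¹, by rw [Invol.orderOf_conj_eq, hu], ?_,
      mul_mem (mul_mem hwR huR) (inv_mem hwR)⟩
    rw [← hwe, smul_smul, inv_mul_cancel_right, mul_smul, hue]
  · exfalso
    obtain ⟨O, hO⟩ := exists_oneClass hH ((Fact.out : r.Prime).odd_of_ne_two hr) hR.2.1 hu huR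
      hue he
    obtain ⟨j, hj, hjb, hjR⟩ := swapper_norm hH hbc (hpair _ _ hRb hRc)
    obtain ⟨k, hk, hkc, hkR⟩ := swapper_norm hH h2 (hpair _ _ hRc hRa)
    exact hO.triangle hu hRa hu hj hk huR hjR hkR hua hjb hkc

/-- The stabilizer in `M` of a point moved by `M` and fixed by an involution of `M` is strongly
embedded in `M`. -/
theorem stronglyEmbedded_subgroupOf (hH : Cfsg.IsStronglyEmbedded H) {M : Subgroup G}
    {c : G ⧸ H} (hMc : ¬ M ≤ st c) {t : G} (ht : t ∈ M) (ht2 : orderOf t = 2) (htc : t • c = c) :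
    Cfsg.IsStronglyEmbedded ((st c).subgroupOf M) := by
  refine ⟨fun h => hMc (subgroupOf_eq_top.1 h), ?_, fun m hm => ?_⟩
  · rw [even_iff_two_dvd, ← ht2]
    exact (Subgroup.orderOf_mk (H := M) t ht).symm ▸
      Subgroup.orderOf_dvd_natCard ((st c).subgroupOf M) (x := ⟨t, ht⟩) htc
  · have hne : (m : G) • c ≠ c := fun h => hm h
    refine (odd_pair hH hne.symm).of_dvd_nat ?_
    rw [← card_map_of_injective M.subtype_injective]
    refine card_dvd_of_le ?_
    rintro _ ⟨k, ⟨hk1, j, hj, rfl⟩, rfl⟩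
    refine ⟨hk1, ?_⟩
    show ((m : G) * (j : G) * (m : G)⁻¹) • (m : G) • c = (m : G) • c
    rw [mul_smul, mul_smul, inv_smul_smul, show (j : G) • c = c from hj]

section Setting

variable (hS : Setting H)
include hS

/-- The centralizer of an involution in a pair stabilizer has the same order whether the involution
exchanges the two points or fixes one of them. -/
theorem card_centralizer_pair {a b e d : G ⧸ H} (hab : a ≠ b) (hed : e ≠ d) {u v : G}
    (hu : orderOf u = 2) (hv : orderOf v = 2) (hua : u • a = b) (hve : v • e = e) :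
    Nat.card ↥(st e ⊓ st d ⊓ centralizer ({v} : Set G)) =
      Nat.card ↥(st a ⊓ st b ⊓ centralizer ({u} : Set G)) := by
  have h1 := card_orbit_mul (st e ⊓ st d) v (fun x => orderOf x = 2 ∧ x • e = e) fun x =>
    ⟨fun hx => (transOdd_pair hS.se hed).2.2 v x hve hv hx.2 hx.1, by
      rintro ⟨k, hk, rfl⟩
      exact ⟨by rw [Invol.orderOf_conj_eq, hv],
        by rw [mul_smul, mul_smul, inv_smul_eq_iff.2 hk.1.symm, hve, hk.1]⟩⟩
  have h2 := card_orbit_mul (st a ⊓ st b) u (fun x => orderOf x = 2 ∧ x • a = b) fun x =>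
    ⟨fun hx => trans_swap hS.se hab hu hx.1 hua hx.2, by
      rintro ⟨k, hk, rfl⟩
      exact ⟨by rw [Invol.orderOf_conj_eq, hu],
        by rw [mul_smul, mul_smul, inv_smul_eq_iff.2 hk.1.symm, hua, hk.2]⟩⟩
  rw [StrongEmbed.card_fix] at h1
  rw [StrongEmbed.card_swap hS.se hab] at h2
  obtain ⟨i, hiH, hi⟩ := StrongEmbed.exists_invol hS.se
  haveI : Nonempty {t : G // orderOf t = 2 ∧ t ∈ H} := ⟨⟨i, hi, hiH⟩⟩
  rw [inf_comm (st e ⊓ st d), inf_comm (st a ⊓ st b)]
  exact Nat.eq_of_mul_eq_mul_left Nat.card_pos (h1.trans ((card_pair hS hed hab).trans h2.symm))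

/-- In case I, when a group `M` containing a Sylow `r`-subgroup of a pair stabilizer and an
involution exchanging the pair has no involution fixing the first point, every `r`-subgroup of `M`
fixing the centre of that involution is at most as large as an `r`-group fixing that centre and
another point and centralized by an involution of `M` there. -/
theorem card_le_of_centre_orbit [Fact r.Prime] (hr : r ≠ 2) (hI : CaseI r H)
    (hT : ∀ (x u : G) (e a : G ⧸ H), a ≠ e → orderOf u = 2 → u • e = e → Odd (orderOf x) →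
      x • e = e → x • a = a → u * x * u⁻¹ = x⁻¹ → x = 1)
    {a b e : G ⧸ H} (hab : a ≠ b) {R : Subgroup G} (hR : Syl r (st a ⊓ st b) R) {u : G}
    (hu : orderOf u = 2) (hua : u • a = b) (hue : u • e = e) {M : Subgroup G} (_hM : M ≠ ⊤)
    (hRM : R ≤ M) (huM : u ∈ M) (hMa : ∀ t ∈ M, orderOf t = 2 → t • a ≠ a) {P : Subgroup G}
    (hP : P ≤ M ⊓ st e) (hPp : IsPGroup r P) :
    ∃ (v : G) (d : G ⧸ H) (Q : Subgroup G), v ∈ M ∧ orderOf v = 2 ∧ v • e = e ∧ d ≠ e ∧
      IsPGroup r Q ∧ Q ≤ st e ⊓ st d ⊓ centralizer ({v} : Set G) ∧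
      Nat.card P ≤ Nat.card Q := by
  have hodd : Odd r := (Fact.out : r.Prime).odd_of_ne_two hr
  -- `R` fixes no point of the orbit of `e`
  have hfree : ∀ m ∈ M, ¬ R ≤ st (m • e) := by
    intro m hm hle
    have hw : orderOf (m * u * m⁻¹) = 2 := by rw [Invol.orderOf_conj_eq, hu]
    have hwe : (m * u * m⁻¹) • m • e = m • e := by
      rw [smul_smul, inv_mul_cancel_right, mul_smul, hue]
    have hwM : m * u * m⁻¹ ∈ M := mul_mem (mul_mem hm huM) (inv_mem hm)
    rcases hI a b hab R hR _ hle with h | h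
    · exact hMa _ hwM hw (h ▸ hwe)
    · rw [h] at hwe
      refine hMa _ (mul_mem (mul_mem huM hwM) (inv_mem huM))
        (by rw [Invol.orderOf_conj_eq, hw]) ?_
      rw [← swap_back hu hua, smul_smul, inv_mul_cancel_right, mul_smul, hwe]
  -- a Sylow subgroup of the stabilizer of `e` in `M` is not one of `M`
  obtain ⟨R2, -, hR2⟩ := exists_syl (bot_le : ⊥ ≤ M ⊓ st e) (IsPGroup.of_bot (p := r))
  obtain ⟨T, hR2T, hTsyl⟩ := exists_syl (hR2.1.trans inf_le_left) hR2.2.1
  have hne : R2 ≠ T := by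
    rintro rfl
    obtain ⟨m, hm, hmR⟩ := syl_conj hTsyl hRM hR.2.1
    refine hfree m⁻¹ (inv_mem hm) ?_
    have := le_st_smul (g := m⁻¹) (hmR.trans (hR2.1.trans inf_le_right))
    rwa [cj_inv] at this
  obtain ⟨Z, hlt, hZT, hZN⟩ := exists_between (lt_of_le_of_ne hR2T hne) hTsyl.2.1
  obtain ⟨z, hz, hzR⟩ := SetLike.exists_of_lt hlt
  have hZe : Z ⊓ st e = R2 :=
    (eq_of_le_of_card_ge (le_inf hlt.le (hR2.1.trans inf_le_right))
      (hR2.2.2 _ (le_inf (inf_le_left.trans (hZT.trans hTsyl.1)) inf_le_right)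
        (hTsyl.2.1.to_le (inf_le_left.trans hZT)))).symm
  have hze : z • e ≠ e := fun h => hzR (hZe ▸ mem_inf.2 ⟨hz, h⟩)
  have hzM : z ∈ M := hTsyl.1 (hZT hz)
  have hzze : z • z • e ≠ e := by
    intro h
    obtain ⟨k, hk⟩ : Odd (orderOf z) := by
      obtain ⟨n, hn⟩ := IsPGroup.iff_card.1 hTsyl.2.1
      have h1 := Subgroup.orderOf_dvd_natCard T (hZT hz)
      rw [hn] at h1
      exact hodd.pow.of_dvd_nat h1
    have h2 : z * z ∈ st e := by
      show (z * z) • e = e
      rw [mul_smul, h]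
    have h3 := pow_mem h2 (k + 1)
    rw [← sq, ← pow_mul, show 2 * (k + 1) = orderOf z + 1 by omega, pow_succ, pow_orderOf_eq_one,
      one_mul] at h3
    exact hze h3
  -- an involution of `M` at `e` normalizes it
  set K := (st e).subgroupOf M
  have hK : Cfsg.IsStronglyEmbedded K :=
    stronglyEmbedded_subgroupOf hS.se (fun h => hze (h hzM)) huM hu hue
  have hle : R2 ≤ M := hR2.1.trans inf_le_left
  have hsyl : Syl r (st (QuotientGroup.mk 1 : ↥M ⧸ K)) (R2.subgroupOf M) := by
    refine ⟨?_, hR2.2.1.comap_subtype, fun Q hQ hQp => ?_⟩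
    · rw [st_one]
      exact fun x hx => (hR2.1 hx).2
    · rw [st_one] at hQ
      rw [Nat.card_congr (subgroupOfEquivOfLe hle).toEquiv,
        ← card_map_of_injective (K := Q) M.subtype_injective]
      refine hR2.2.2 _ ?_ (hQp.map _)
      rintro _ ⟨q, hq, rfl⟩
      exact ⟨q.2, hQ hq⟩
  have hnorm : ∀ g : M, (g : G) ∈ normalizer (R2 : Set G) ↔
      g ∈ normalizer ((R2.subgroupOf M : Subgroup M) : Set M) := by
    intro g
    constructor
    · exact fun h => mem_normalizer_iff.2 fun x => mem_normalizer_iff.1 h x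
    · exact fun h => mem_norm_iff.2 (cj_eq_of_le (cj_le_iff.2 fun y hy =>
        (mem_normalizer_iff.1 h ⟨y, hle hy⟩).1 hy) le_rfl)
  obtain ⟨v, hv, hve, hvN⟩ := exists_invol_of_shift hK hr hsyl
    ((hnorm ⟨z, hzM⟩).1 (hZN hz)) (fun h => hze (StrongEmbed.smul_mk_one_iff.1 h))
    (fun h => hzze (by
      rw [smul_smul] at h
      have h' : (z * z) • e = e := StrongEmbed.smul_mk_one_iff.1 h
      rwa [mul_smul] at h'))
  have hv2 : orderOf (v : G) = 2 := by rw [Subgroup.orderOf_coe, hv]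
  have hve' : (v : G) • e = e := StrongEmbed.smul_mk_one_iff.1 hve
  have hvN' := (hnorm v).2 hvN
  have hR2z : R2 ≤ st (z • e) := le_st_smul_of_norm (hZN hz) (hR2.1.trans inf_le_right)
  refine ⟨v, z • e, R2, v.2, hv2, hve', hze, hR2.2.1,
    le_inf (le_inf (hR2.1.trans inf_le_right) hR2z) fun y hy => ?_, hR2.2.2 P hP hPp⟩
  -- it centralizes it
  have hR2odd : Odd (Nat.card R2) := by
    obtain ⟨n, hn⟩ := IsPGroup.iff_card.1 hR2.2.1
    rw [hn]; exact hodd.pow
  have hvi := Invol.inv_eq_self hv2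
  obtain ⟨c, -, i, hi, hcv, hiv, rfl⟩ := split hR2odd (Invol.mul_self_eq_one hv2) hy
    (by simpa [hvi] using (mem_normalizer_iff.1 hvN' y).1 hy)
  have hi1 : i = 1 := hT i v e (z • e) hze hv2 hve'
    (hR2odd.of_dvd_nat (Subgroup.orderOf_dvd_natCard _ hi)) (hR2.1 hi).2 (hR2z hi)
    (by rw [hvi, hiv])
  rw [hi1, mul_one]
  exact mem_centralizer_singleton_iff.2 hcv.eq.symm

end Setting

end CfsgLib.Bender.Core
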