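import Cfsg.Agent.Bender.CoreC6
import Cfsg.Agent.Bender.CoreC5
import Cfsg.Agent.Bender.CoreC4
import Cfsg.Agent.Bender.CoreB

/-!
The core of a strongly embedded subgroup: the situation after step C6 and the objects attached to a
point stabilizer.
-/

set_option autoImplicit false
set_option linter.unusedSectionVars false
set_option linter.style.haveILetI false

namespace CfsgLib.Bender.Core

open Subgroup
open CfsgLib.FusionLift (cj mem_cj card_cj)
open CfsgLib.Bender.GSide

variable {G : Type*} [Group G] [Finite G] {H : Subgroup G}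

/-- The point of `H`. -/
abbrev pt (H : Subgroup G) : G ⧸ H := QuotientGroup.mk 1

/-- The centralizer in `H` of the member of the family at the point of `H`. -/
def lzero (H : Subgroup G) (N : G ⧸ H → Subgroup G) : Subgroup G :=
  H ⊓ centralizer (N (pt H) : Set G)

/-- The situation after the steps B1 to C6. -/
structure Shape (H : Subgroup G) (q : ℕ) (N : G ⧸ H → Subgroup G) : Prop where
  setting : Setting H
  fam : Family q N
  semireg : Semireg N
  centInv : CentInv N
  comm : CSix.InvolComm H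
  caseI : ∀ r, r.Prime → r ∣ Nat.card {t : G // orderOf t = 2 ∧ t ∈ H} → CaseI r H
  trivial : ∀ {a b : G ⧸ H}, a ≠ b → ∀ d : G, d • a = a → d • b = b →
    (∀ z ∈ N a, Commute d z) → d = 1

namespace Shape

variable {q : ℕ} {N : G ⧸ H → Subgroup G} (S : Shape H q N)
include S

theorem lzero_eq_one {b : G ⧸ H} (hb : pt H ≠ b) {l : G} (hl : l ∈ lzero H N) (hlb : l • b = b) :
    l = 1 :=
  S.trivial hb l (StrongEmbed.smul_mk_one_iff.2 hl.1) hlb fun z hz =>
    (Commute.symm (mem_centralizer_iff.1 hl.2 z hz) : _)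

end Shape

/-- A nontrivial core of a point stabilizer gives a shape. -/
theorem Setting.exists_shape (hS : Setting H) (h : Cfsg.oddCore H ≠ ⊥) :
    ∃ (q : ℕ) (N : G ⧸ H → Subgroup G), Shape H q N ∧
      N (pt H) ≤ (Cfsg.oddCore H).map H.subtype := by
  haveI := Solvable.pPrimeCore_normal (G := H) 2
  obtain ⟨M, hM, hM1, hMO, hc, hmin, q, hq, hexp, hMq⟩ := Solvable.exists_normal_elementary_le h
    (OddEnd.odd_solvable _ IsoApps.odd_oddCore)
  haveI := Fact.mk hq
  have hodd : Odd q := by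
    obtain ⟨j, hj⟩ := IsPGroup.iff_card.1 hMq
    have hjo : Odd (Nat.card M) := IsoApps.odd_oddCore.of_dvd_nat (card_dvd_of_le hMO)
    have hj0 : j ≠ 0 := fun h0 => hM1 (by
      rw [h0, pow_zero] at hj; exact eq_bot_of_card_eq M hj)
    exact hjo.of_dvd_nat (hj ▸ dvd_pow_self q hj0)
  obtain ⟨N, hN, hN0⟩ := exists_family (H := H) hq hodd (N₀ := M.map H.subtype)
    (map_subtype_le M) (fun h0 => hM1 ((map_eq_bot_iff_of_injective _ H.subtype_injective).1 h0))
    (fun g hg => mem_norm_iff.2 (cj_eq_of_le (by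
      rintro _ ⟨_, ⟨x, hx, rfl⟩, rfl⟩
      exact ⟨⟨g, hg⟩ * x * ⟨g, hg⟩⁻¹, hM.conj_mem x hx _, rfl⟩) le_rfl))
    (by
      rintro _ ⟨x, hx, rfl⟩ _ ⟨y, hy, rfl⟩
      exact congrArg Subtype.val
        (congrArg Subtype.val (hc.is_comm.comm (⟨x, hx⟩ : M) ⟨y, hy⟩)))
    (by
      rintro _ ⟨x, hx, rfl⟩
      rw [← map_pow, hexp x hx, map_one])
    (fun V hV hV1 hVn => by
      have hVH : V ≤ H := hV.trans (map_subtype_le M)
      have h1 : V.subgroupOf H ≤ M := fun x hx => by
        obtain ⟨y, hy, hyx⟩ := hV hx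
        rwa [← Subtype.ext hyx]
      have h2 : (V.subgroupOf H).Normal :=
        ⟨fun x hx g => (mem_normalizer_iff.1 (hVn g.2) _).1 hx⟩
      rcases hmin _ h2 h1 with h3 | h3
      · exact absurd ((subgroupOf_eq_bot.1 h3).eq_bot_of_le hVH) hV1
      · rw [← h3, map_subgroupOf_eq_of_le hVH])
  have hsr : Semireg N := semireg hS hN
  have hci : CentInv N := centInv hS hN
  have hI : ∀ r, r.Prime → r ∣ Nat.card {t : G // orderOf t = 2 ∧ t ∈ H} → CaseI r H :=
    fun r hr hd => caseI_of_dvd hS hN hsr hci hr (ne_two_of_dvd hS hd) hd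
  have hV : CSix.InvolComm H := invol_commute hS hN hsr hci fun r hr hd a b hab R hR y hy hyN =>
    eq_one_of_commute_family hS hN hsr hci hr (ne_two_of_dvd hS hd) hd hab hR hy hyN
  refine ⟨q, N, ⟨hS, hN, hsr, hci, hV, hI, fun {a b} hab d hda hdb hd => ?_⟩, ?_⟩
  · exact CSix.centralizer_trivial hS hN hsr hV hI hab hda hdb hd
  · rw [pt, hN0]
    exact map_mono hMO

end CfsgLib.Bender.Core
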