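import Cfsg.Agent.Bender.CoreTransfer3
import Cfsg.Agent.Bender.CoreOddImage

/-!
The core of a strongly embedded subgroup, step C7: the cases in which the image of a point
stabilizer on its involutions comes from a two-point stabilizer.
-/

set_option autoImplicit false
set_option linter.unusedSectionVars false
set_option linter.style.haveILetI false

namespace CfsgLib.Bender.Core.CSeven

open Subgroup
open CfsgLib.Bender.GSide
open CfsgLib.Bender.Core.CSix (InvolComm vee mem_vee invol_mem_vee st_le_normalizer_vee)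

universe u

variable {G : Type u} [Group G] [Finite G] {H : Subgroup G} {q : ℕ} {N : G ⧸ H → Subgroup G}
variable {p : ℕ} [Fact p.Prime] {hV : InvolComm H} {a b : G ⧸ H} {R : Subgroup G} {u y : G}
variable (hS : Setting H) (hN : Family q N) (hsr : Semireg N) (hci : CentInv N) (hab : a ≠ b)
  (hdvd : p ∣ Nat.card {t : G // orderOf t = 2 ∧ t • a = a}) (hT : Torus hV N a b p R u y)
include hS hN hsr hci hab hdvd hT

/-- A centralized torus: the image of the point stabilizer comes from the two-point stabilizer. -/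
theorem Torus.range_le_of_commute
    (hc : ∀ d ∈ barD hV a b, Commute d (act hV a ⟨y, hT.mem_st⟩)) :
    (act hV a).range ≤ barD hV a b := by
  refine le_of_fixed _ _ ⟨_, rfl⟩ (hT.orderOf_ybar hS hN hsr hci hab hdvd)
    (hT.normalizer_le hS hN hsr hci hab hdvd) hc
    (fun P hP hPp => hT.isCyclic_pgroup hS hN hsr hci hab hdvd hP hPp) ?_
  intro s hs hsp U hU hUs hyU
  haveI := Fact.mk hs
  by_cases h2 : s = 2
  · subst h2
    rw [hT.two_eq_bot hS hN hsr hci hab hdvd hU hUs hyU]
    exact bot_le
  · exact hT.odd_le_centralizer hS hN hsr hci hab hdvd h2 hsp hUs hyU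

/-- If the image of the point stabilizer has odd order, it comes from the two-point stabilizer. -/
theorem Torus.range_le_of_odd (hodd : Odd (Nat.card (act hV a).range)) :
    (act hV a).range ≤ barD hV a b := by
  refine le_trans (le_inf le_rfl ?_) (hT.normalizer_le hS hN hsr hci hab hdvd)
  have hsq : ∀ v : vee hV a, v ^ 2 = 1 := fun v => by rw [sq]; exact sq_vee hV a v
  refine OddImage.le_normalizer_of_odd hsq _ hodd (fun s t hs ht => ?_) (Fact.out : p.Prime)
    ⟨_, rfl⟩ (hT.orderOf_ybar hS hN hsr hci hab hdvd) (fun v hv => ?_)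
    (fun P hP hPp => hT.isCyclic_pgroup hS hN hsr hci hab hdvd hP hPp)
  · obtain ⟨d, hd, hdt⟩ := (transOdd_pair hS.se hab).2.2 (s : G) t s.2.2
      (Invol.orderOf_eq_two s.2.1 fun h => hs (Subtype.ext h)) t.2.2
      (Invol.orderOf_eq_two t.2.1 fun h => ht (Subtype.ext h))
    exact ⟨_, ⟨⟨d, hd.1⟩, rfl⟩, Subtype.ext hdt⟩
  · have h := congrArg Subtype.val hv
    rw [act_apply] at h
    exact Subtype.ext (hT.fpfV v v.2 (mul_inv_eq_iff_eq_mul.1 h))

end CfsgLib.Bender.Core.CSeven
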