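import Cfsg.Agent.Bender.CoreC7Ker
import Cfsg.Agent.Solvable.CoprimeAct
import Mathlib.GroupTheory.Transfer

/-!
The core of a strongly embedded subgroup, step C7 for a centralized prime: a group with cyclic
Sylow `p`-subgroups in which the normalizer of a subgroup of order `p` centralizes it and which has
no subgroup of other prime power order normalized and not centralized by it is generated by that
normalizer.
-/

set_option autoImplicit false
set_option linter.unusedSectionVars false
set_option linter.style.haveILetI false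

namespace CfsgLib.Bender

open Subgroup

universe u

/-- Burnside's transfer argument at a cyclic Sylow subgroup. -/
theorem le_of_fixed {X : Type u} [Group X] [Finite X] (A D₀ : Subgroup X) {p : ℕ} [Fact p.Prime]
    {y : X} (hyA : y ∈ A) (hy : orderOf y = p)
    (hN : A ⊓ normalizer (zpowers y : Set X) ≤ D₀) (hcent : ∀ d ∈ D₀, Commute d y)
    (hcyc : ∀ P : Subgroup X, P ≤ A → IsPGroup p P → IsCyclic P)
    (hU : ∀ s : ℕ, s.Prime → s ≠ p → ∀ U : Subgroup X, U ≤ A → IsPGroup s U →
      y ∈ normalizer (U : Set X) → U ≤ centralizer ({y} : Set X)) : A ≤ D₀ := by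
  have hp : p.Prime := Fact.out
  set x : A := ⟨y, hyA⟩
  have hx : orderOf x = p := by rw [← Subgroup.orderOf_coe]; exact hy
  have hD : ∀ a : A, a ∈ normalizer (zpowers x : Set A) → (a : X) ∈ D₀ := by
    intro a ha
    refine hN ⟨a.2, ?_⟩
    refine mem_normalizer_iff_map_conj_eq.2 ?_
    have h := congrArg (Subgroup.map A.subtype) (mem_normalizer_iff_map_conj_eq.1 ha)
    rw [map_map, MonoidHom.map_zpowers, MonoidHom.map_zpowers] at h
    rw [MonoidHom.map_zpowers]
    exact h
  obtain ⟨P, hP⟩ := (IsPGroup.of_card (n := 1) (by rw [Nat.card_zpowers, hx, pow_one]) :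
    IsPGroup p (zpowers x)).exists_le_sylow
  haveI hPc : IsCyclic (P : Subgroup A) := by
    haveI := hcyc _ (map_subtype_le _) (P.isPGroup'.map A.subtype)
    exact isCyclic_of_injective
      ((P : Subgroup A).equivMapOfInjective A.subtype A.subtype_injective).toMonoidHom
      ((P : Subgroup A).equivMapOfInjective A.subtype A.subtype_injective).injective
  obtain ⟨g, hg⟩ := IsCyclic.exists_generator (α := (P : Subgroup A))
  obtain ⟨j, hj⟩ := IsPGroup.iff_card.1 P.isPGroup'
  have hog : orderOf g = p ^ j := hj ▸ orderOf_eq_card_of_forall_mem_zpowers hg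
  obtain ⟨i, hi⟩ := mem_powers_iff_mem_zpowers.2 (hg ⟨x, hP (mem_zpowers x)⟩)
  have hi' : g ^ i = ⟨x, hP (mem_zpowers x)⟩ := hi
  -- an automorphism fixing `x` has `p`-power order
  have hnorm : ∀ n : A, n ∈ normalizer ((P : Subgroup A) : Set A) →
      n ∈ normalizer (zpowers x : Set A) := by
    intro n hn
    refine mem_normalizer_iff_map_conj_eq.2 ?_
    rw [MonoidHom.map_zpowers]
    have hn' : n * x * n⁻¹ ∈ (P : Subgroup A) :=
      (mem_normalizer_iff.1 hn x).1 (hP (mem_zpowers x))
    obtain ⟨k, hk⟩ := mem_powers_iff_mem_zpowers.2 (hg ⟨_, hn'⟩)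
    have hk' : g ^ k = ⟨_, hn'⟩ := hk
    have ho : orderOf (⟨n * x * n⁻¹, hn'⟩ : (P : Subgroup A)) = p := by
      rw [Subgroup.orderOf_mk, Invol.orderOf_conj_eq, hx]
    have hox : orderOf (⟨x, hP (mem_zpowers x)⟩ : (P : Subgroup A)) = p := by
      rw [Subgroup.orderOf_mk, hx]
    obtain ⟨w, hw⟩ := FpfComplement.mem_zpowers_of_cyclic (T := (P : Subgroup A))
      (u := ⟨n * x * n⁻¹, hn'⟩) (v := ⟨x, hP (mem_zpowers x)⟩) (by rw [ho, hox])
    refine eq_of_le_of_card_ge (zpowers_le.2 ⟨w, ?_⟩) ?_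
    · exact congrArg Subtype.val hw
    · rw [Nat.card_zpowers, Nat.card_zpowers]
      exact (Invol.orderOf_conj_eq n x).ge
  have hPC : normalizer ((P : Subgroup A) : Set A) ≤ centralizer ((P : Subgroup A) : Set A) := by
    intro n hn
    set f := normalizerMonoidHom (P : Subgroup A)
    have hfx : f ⟨n, hn⟩ ⟨x, hP (mem_zpowers x)⟩ = ⟨x, hP (mem_zpowers x)⟩ := by
      refine Subtype.ext (Subtype.ext ?_)
      exact (hcent _ (hD n (hnorm n hn))).mul_inv_cancel
    obtain ⟨k, hk⟩ := mem_powers_iff_mem_zpowers.2 (hg (f ⟨n, hn⟩ g))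
    have hk' : g ^ k = f ⟨n, hn⟩ g := hk
    have hiter : ∀ m : ℕ, (f ⟨n, hn⟩ ^ m) g = g ^ k ^ m := by
      intro m
      induction m with
      | zero => simp
      | succ m ih => rw [pow_succ', MulAut.mul_apply, ih, map_pow, ← hk', ← pow_mul, pow_succ']
    have hpk : (p : ℤ) ∣ (k : ℤ) - 1 := by
      rcases Nat.eq_zero_or_pos j with hj0 | hj0
      · exfalso
        have h := orderOf_dvd_natCard (⟨x, hP (mem_zpowers x)⟩ : (P : Subgroup A))
        rw [hj, hj0, pow_zero, Subgroup.orderOf_mk, hx, Nat.dvd_one] at h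
        exact hp.ne_one h
      · rw [← hi', map_pow, ← hk', ← pow_mul, pow_eq_pow_iff_modEq, hog] at hfx
        have h1 : ((p ^ j : ℕ) : ℤ) ∣ (i : ℤ) * ((k : ℤ) - 1) := by
          have h := Nat.modEq_iff_dvd.1 hfx.symm
          push_cast at h ⊢
          rw [show (i : ℤ) * ((k : ℤ) - 1) = (k : ℤ) * i - i by ring]
          exact h
        by_contra hnd
        have hco : IsCoprime ((p ^ j : ℕ) : ℤ) ((k : ℤ) - 1) := by
          push_cast
          exact ((Nat.prime_iff_prime_int.1 hp).coprime_iff_not_dvd.2 hnd).pow_left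
        have h2 : g ^ i = 1 := orderOf_dvd_iff_pow_eq_one.1
          (hog ▸ Int.natCast_dvd_natCast.1 (hco.dvd_of_dvd_mul_right h1))
        rw [hi'] at h2
        rw [show x = 1 from congrArg Subtype.val h2, orderOf_one] at hx
        exact hp.ne_one hx.symm
    have hord : f ⟨n, hn⟩ ^ p ^ j = 1 := by
      refine MulEquiv.ext fun z => ?_
      obtain ⟨w, rfl⟩ := mem_powers_iff_mem_zpowers.2 (hg z)
      show (f ⟨n, hn⟩ ^ p ^ j) (g ^ w) = g ^ w
      rw [map_pow, hiter]
      congr 1
      conv_rhs => rw [← pow_one g]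
      rw [pow_eq_pow_iff_modEq, hog, Nat.modEq_iff_dvd]
      have h := dvd_sub_pow_of_dvd_sub (R := ℤ) hpk j
      rw [one_pow] at h
      have h2 : ((p : ℤ) ^ j) ∣ (k : ℤ) ^ p ^ j - 1 := (pow_dvd_pow _ j.le_succ).trans h
      push_cast
      rw [← neg_sub]
      exact dvd_neg.2 h2
    have hker : f ⟨n, hn⟩ = 1 := by
      refine orderOf_eq_one_iff.1 (Nat.eq_one_of_dvd_coprimes (a := p ^ j)
        (b := Nat.card f.range) ?_ (orderOf_dvd_of_pow_eq_one hord)
        ((Subgroup.orderOf_mk (H := f.range) (f ⟨n, hn⟩) ⟨_, rfl⟩) ▸ orderOf_dvd_natCard _))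
      refine Nat.Coprime.pow_left j ((hp.coprime_iff_not_dvd).2 fun hd => ?_)
      have h1 : f.range.carrier.ncard = f.ker.index := (index_ker f).symm ▸ rfl
      have h2 : (P : Subgroup A).subgroupOf (normalizer ((P : Subgroup A) : Set A)) ≤ f.ker := by
        intro z hz
        refine MonoidHom.mem_ker.2 (MulEquiv.ext fun w => Subtype.ext ?_)
        show (z : A) * w * (z : A)⁻¹ = w
        haveI : IsMulCommutative (P : Subgroup A) := inferInstance
        have hc := congrArg Subtype.val (mul_comm' (⟨(z : A), hz⟩ : (P : Subgroup A)) w)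
        exact mul_inv_eq_iff_eq_mul.2 hc
      have h3 : f.ker.index ∣ (P : Subgroup A).relIndex (normalizer ((P : Subgroup A) : Set A)) :=
        index_dvd_of_le h2
      have h4 := (index_ker f) ▸ h3
      exact P.not_dvd_index ((hd.trans h4).trans (relIndex_dvd_index_of_le le_normalizer))
    refine mem_centralizer_iff.2 fun z hz => ?_
    have h := congrArg Subtype.val (DFunLike.congr_fun hker ⟨z, hz⟩)
    exact (mul_inv_eq_iff_eq_mul.1 h).symm
  have hcomp := MonoidHom.ker_transferSylow_isComplement' P hPC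
  set K := (MonoidHom.transferSylow P hPC).ker with hK
  haveI hKn : K.Normal := inferInstance
  have hKp : ¬ p ∣ Nat.card K := MonoidHom.not_dvd_card_ker_transferSylow P hPC
  have hKD : ∀ k ∈ K, (k : X) ∈ D₀ := by
    intro k hk
    suffices h : K ≤ centralizer ({x} : Set A) by
      refine hD k (mem_normalizer_iff_map_conj_eq.2 ?_)
      rw [MonoidHom.map_zpowers]
      congr 1
      exact mul_inv_eq_iff_eq_mul.2 (mem_centralizer_singleton_iff.1 (h hk))
    set M := K ⊓ centralizer ({x} : Set A)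
    suffices h : M = K from h ▸ inf_le_right
    refine eq_of_le_of_card_ge inf_le_left (Nat.le_of_dvd Nat.card_pos ?_)
    refine (Nat.dvd_iff_prime_pow_dvd_dvd _ _).2 fun s m hs hsm => ?_
    haveI : Fact s.Prime := ⟨hs⟩
    rcases Nat.eq_zero_or_pos m with rfl | hm
    · exact one_dvd _
    have hsp : s ≠ p := fun h => hKp (h ▸ (dvd_pow_self s hm.ne').trans hsm)
    have hcop : (Nat.card (zpowers x)).Coprime (Nat.card K) := by
      rw [Nat.card_zpowers, hx]
      exact (hp.coprime_iff_not_dvd).2 hKp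
    obtain ⟨U, hU'⟩ := CoprimeAct.exists_invariant_sylow
      (show zpowers x ≤ normalizer (K : Set A) from le_normalizer_of_normal) hcop
      (Or.inl inferInstance) s
    have hUx := hU s hs hsp _ (map_subtype_le ((U : Subgroup K).map K.subtype))
      ((U.isPGroup'.map _).map A.subtype) (by
        refine mem_normalizer_iff_map_conj_eq.2 ?_
        have h := congrArg (Subgroup.map A.subtype)
          (mem_normalizer_iff_map_conj_eq.1 (hU' (mem_zpowers x)))
        rw [map_map] at h
        rw [map_map]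
        exact h)
    refine dvd_trans ?_ (card_dvd_of_le (show (U : Subgroup K).map K.subtype ≤ M from le_inf
      (map_subtype_le _) fun z hz => mem_centralizer_singleton_iff.2 (Subtype.ext ?_)))
    · rw [card_map_of_injective K.subtype_injective, U.card_eq_multiplicity]
      exact pow_dvd_pow s ((hs.pow_dvd_iff_le_factorization Nat.card_pos.ne').1 hsm)
    · exact mem_centralizer_singleton_iff.1 (hUx ⟨z, hz, rfl⟩)
  intro a ha
  obtain ⟨kk, hk, w, hw, hkw⟩ : ∃ kk ∈ K, ∃ w ∈ (P : Subgroup A), kk * w = ⟨a, ha⟩ := by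
    obtain ⟨⟨⟨kk, hk⟩, ⟨w, hw⟩⟩, h, -⟩ := hcomp.existsUnique ⟨a, ha⟩
    exact ⟨kk, hk, w, hw, h⟩
  have h1 : (w : X) ∈ D₀ := hD w (hnorm w (le_normalizer hw))
  have h2 := D₀.mul_mem (hKD kk hk) h1
  rwa [← Subgroup.coe_mul, hkw] at h2

end CfsgLib.Bender
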