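import Cfsg.Agent.Bender.QuadPair
import Cfsg.Agent.Invol.BaerSuzuki
import Cfsg.Agent.KGroup.Invariant
import Mathlib.GroupTheory.SemidirectProduct

/-!
A quadratic element outside the `r`-core of a linear group on an elementary abelian `r`-group
commutes with an involution.
-/

set_option autoImplicit false

namespace CfsgLib.Bender

open Subgroup
open scoped commutatorElement

/-- Element form of a quadratic action. -/
theorem quad_bot {G : Type*} [Group G] {P : Subgroup G} {a : G}
    (hq : ∀ u ∈ P, Commute (u * a * u⁻¹ * a⁻¹) a) :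
    ⁅⁅P, zpowers a⁆, zpowers a⁆ = ⊥ := by
  rw [commutator_eq_bot_iff_le_centralizer, commutator_le]
  rintro u hu _ ⟨k, rfl⟩
  have hc := hq u hu
  have e : ⁅u, a ^ k⁆ = (u * a * u⁻¹ * a⁻¹) ^ k := by
    rw [commutatorElement_def, ← conj_zpow,
      show u * a * u⁻¹ = (u * a * u⁻¹ * a⁻¹) * a by group, hc.mul_zpow]
    simp only [mul_inv_cancel_right, inv_mul_cancel_right]
  rw [e]
  refine zpow_mem (mem_centralizer_iff.2 ?_) k
  rintro _ ⟨l, rfl⟩
  exact ((hc.zpow_right l).eq).symm

section Linear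

variable {M : Type*} [CommGroup M] [Finite M] {r : ℕ} [Fact r.Prime]

theorem mem_pCore_of_odd (hr : r ≠ 2) (hexp : ∀ m : M, m ^ r = 1) (X : Subgroup (MulAut M))
    (hX : Odd (Nat.card X)) (hM : Odd (Nat.card M)) (a : X)
    (ha : ∀ m : M, (a : MulAut M) ((a : MulAut M) m * m⁻¹) = (a : MulAut M) m * m⁻¹) :
    a ∈ Cfsg.pCore r X := by
  classical
  haveI : Finite (M ⋊[X.subtype] X) := Finite.of_equiv _ SemidirectProduct.equivProd.symm
  have hS : Odd (Nat.card (M ⋊[X.subtype] X)) := by
    rw [Nat.card_congr SemidirectProduct.equivProd, Nat.card_prod]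
    exact hM.mul hX
  set P : Subgroup (M ⋊[X.subtype] X) := (SemidirectProduct.inl : M →* (M ⋊[X.subtype] X)).range with hPdef
  haveI : P.Normal := by
    rw [hPdef, SemidirectProduct.range_inl_eq_ker_rightHom]; infer_instance
  have hP : IsPGroup r P := by
    rintro ⟨_, m, rfl⟩
    refine ⟨1, Subtype.ext ?_⟩
    show (SemidirectProduct.inl m : (M ⋊[X.subtype] X)) ^ r ^ 1 = 1
    rw [← map_pow, pow_one, hexp, map_one]
  obtain ⟨D, hD, haD, hDp⟩ := CfsgLib.ZJ.pcoreMod_of_quadratic hr
    (CfsgLib.Invariant.not_involves_qd_of_odd hS hr) P hP (SemidirectProduct.inr a) <| quad_bot <| by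
    rintro _ ⟨m, rfl⟩
    have e : (SemidirectProduct.inl m : (M ⋊[X.subtype] X)) * SemidirectProduct.inr a * (SemidirectProduct.inl m)⁻¹
        * (SemidirectProduct.inr a)⁻¹ = SemidirectProduct.inl (m * ((a : MulAut M) m)⁻¹) := by
      ext <;> simp [mul_comm]
    rw [e]
    refine SemidirectProduct.ext ?_ (by simp [map_inv])
    have h := ha m⁻¹
    simp only [inv_inv, map_inv] at h
    rw [mul_comm ((a : MulAut M) m)⁻¹ m] at h
    simpa [mul_comm] using h.symm
  haveI := hD
  refine CfsgLib.Solvable.le_pCore r (hD.comap SemidirectProduct.inr) ?_ haD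
  rintro ⟨y, hy⟩
  obtain ⟨k, hk⟩ := hDp _ hy
  refine ⟨k, Subtype.ext ?_⟩
  apply Subtype.ext
  apply MulEquiv.ext
  intro m
  have h := congrArg SemidirectProduct.left
    (mem_centralizer_iff.1 hk (SemidirectProduct.inl m) ⟨m, rfl⟩)
  rw [← map_pow (SemidirectProduct.inr : X →* (M ⋊[X.subtype] X))] at h
  simpa [-map_pow] using h.symm

/-- A quadratic element outside the `r`-core commutes with an involution. -/
theorem exists_invol_commute (hr : r ≠ 2) (hexp : ∀ m : M, m ^ r = 1) (Q : Subgroup (MulAut M))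
    (a : Q) (ha : ∀ m : M, (a : MulAut M) ((a : MulAut M) m * m⁻¹) = (a : MulAut M) m * m⁻¹)
    (hna : a ∉ Cfsg.pCore r Q) : ∃ t : Q, orderOf t = 2 ∧ t * a = a * t := by
  classical
  have hrodd : Odd r := (Fact.out : r.Prime).odd_of_ne_two hr
  obtain ⟨g, hg⟩ : ∃ g : Q, ¬ IsPGroup r (closure ({a, g * a * g⁻¹} : Set Q)) := by
    by_contra h
    push Not at h
    exact hna (CfsgLib.Invol.mem_pCore_of_pairs a h)
  set b : Q := g * a * g⁻¹ with hb
  set X : Subgroup Q := closure ({a, b} : Set Q)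
  have hbq : ∀ m : M, (b : MulAut M) ((b : MulAut M) m * m⁻¹) = (b : MulAut M) m * m⁻¹ := by
    intro m
    have h := congrArg (g : MulAut M) (ha ((g : MulAut M).symm m))
    simpa [hb, MulAut.mul_apply, MulAut.inv_apply] using h
  have hMp : IsPGroup r M := fun m => ⟨1, by simpa using hexp m⟩
  have hM : Odd (Nat.card M) := by
    obtain ⟨k, hk⟩ := IsPGroup.iff_card.1 hMp
    rw [hk]; exact hrodd.pow
  by_cases hX : Odd (Nat.card X)
  · exfalso
    set X' : Subgroup (MulAut M) := X.map Q.subtype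
    let e : X ≃* X' := X.equivMapOfInjective _ Q.subtype_injective
    have hX' : Odd (Nat.card X') := by rwa [Nat.card_congr e.symm.toEquiv]
    have hgen : ∀ c : Q, ∀ hc : c ∈ ({a, b} : Set Q),
        (⟨c, mem_map_of_mem Q.subtype (subset_closure hc)⟩ : X') ∈ Cfsg.pCore r X' := by
      intro c hc
      refine mem_pCore_of_odd hr hexp X' hX' hM _ ?_
      rcases hc with rfl | hc
      · exact ha
      · obtain rfl : c = b := hc
        exact hbq
    have htop : ∀ c : Q, ∀ hc : c ∈ X, (⟨c, mem_map_of_mem _ hc⟩ : X') ∈ Cfsg.pCore r X' := by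
      intro c hc
      induction hc using closure_induction with
      | mem c hc => exact hgen c hc
      | one => exact one_mem _
      | mul x y _ _ hx hy => exact mul_mem hx hy
      | inv x _ hx => exact inv_mem hx
    apply hg
    intro x
    obtain ⟨k, hk⟩ := CfsgLib.Solvable.isPGroup_pCore r ⟨_, htop x x.2⟩
    refine ⟨k, Subtype.ext (Q.subtype_injective ?_)⟩
    simpa using congrArg (fun z : Cfsg.pCore r X' => ((z : X') : MulAut M)) hk
  · haveI : Fact (2 : ℕ).Prime := ⟨Nat.prime_two⟩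
    obtain ⟨s, hs⟩ := exists_prime_orderOf_dvd_card' 2
      (even_iff_two_dvd.1 (Nat.not_odd_iff_even.1 hX) : 2 ∣ Nat.card X)
    refine ⟨s, by rwa [orderOf_coe], ?_⟩
    let f : Q →* AddMonoid.End (Additive M) :=
      { toFun := fun x => MonoidHom.toAdditive (x : MulAut M).toMonoidHom
        map_one' := by ext; rfl
        map_mul' := fun x y => by ext; rfl }
    have key : ∀ c : Q, (∀ m : M, (c : MulAut M) ((c : MulAut M) m * m⁻¹) = (c : MulAut M) m * m⁻¹) →
        (f c - 1) * (f c - 1) = 0 := by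
      intro c hc
      ext m
      show Additive.ofMul ((c : MulAut M) ((c : MulAut M) m.toMul / m.toMul) /
        ((c : MulAut M) m.toMul / m.toMul)) = Additive.ofMul 1
      rw [div_eq_mul_inv ((c : MulAut M) m.toMul), hc, div_self']
    have h2 : ∀ x : AddMonoid.End (Additive M), x + x = 0 → x = 0 := by
      intro x hx
      ext m
      have h := congrArg (fun y : AddMonoid.End (Additive M) => Additive.toMul (y m)) hx
      have h' : (x m).toMul ^ 2 = 1 := by rw [pow_two]; exact h
      obtain ⟨k, hk⟩ := hrodd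
      have hr1 := hexp (x m).toMul
      rw [hk, pow_succ, pow_mul, h', one_pow, one_mul] at hr1
      exact congrArg Additive.ofMul hr1
    have hss : (s : Q) * s = 1 := by
      rw [← pow_two, ← hs, ← orderOf_coe]; exact pow_orderOf_eq_one _
    have hf := map_commute_of_quadratic f a b (key a ha) (key b hbq) h2 s.2 hss
    apply Subtype.ext
    apply MulEquiv.ext
    intro m
    exact congrArg Additive.toMul (DFunLike.congr_fun hf (Additive.ofMul m))

end Linear

section Ambient

variable {G : Type*} [Group G] [Finite G] {r : ℕ} [Fact r.Prime]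

/-- If a quadratic element of a group normalizing an elementary abelian `r`-group `U` lies in no
normal subgroup which is an `r`-group modulo `C(U)`, an involution modulo `C(U)` commutes with it
modulo `C(U)`. -/
theorem exists_invol_mod_centralizer (hr : r ≠ 2) {N U : Subgroup G}
    (hN : N ≤ normalizer (U : Set G)) (hU : ∀ v ∈ U, ∀ w ∈ U, v * w = w * v)
    (hexp : ∀ u ∈ U, u ^ r = 1) {a : G} (haN : a ∈ N)
    (hq : ∀ u ∈ U, Commute (u * a * u⁻¹ * a⁻¹) a)
    (hna : ∀ D : Subgroup G, D ≤ N → N ≤ normalizer (D : Set G) →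
      (∀ x ∈ D, ∃ k, x ^ r ^ k ∈ centralizer (U : Set G)) → a ∉ D) :
    ∃ t ∈ N, t ∉ centralizer (U : Set G) ∧ t * t ∈ centralizer (U : Set G) ∧
      t * a * t⁻¹ * a⁻¹ ∈ centralizer (U : Set G) := by
  letI : CommGroup U := { mul_comm := fun x y => Subtype.ext (hU x x.2 y y.2) }
  let act : N →* MulAut U := U.normalizerMonoidHom.comp (inclusion hN)
  have hker : ∀ x : N, act x = 1 → (x : G) ∈ centralizer (U : Set G) := by
    intro x hx
    refine mem_centralizer_iff.2 fun u hu => ?_
    have h := congrArg (fun e : MulAut U => ((e ⟨u, hu⟩ : U) : G)) hx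
    exact (mul_inv_eq_iff_eq_mul.1 h).symm
  have hq' : ∀ m : U, act ⟨a, haN⟩ (act ⟨a, haN⟩ m * m⁻¹) = act ⟨a, haN⟩ m * m⁻¹ := by
    intro m
    apply Subtype.ext
    show a * (a * m * a⁻¹ * (m : G)⁻¹) * a⁻¹ = a * m * a⁻¹ * (m : G)⁻¹
    have h := (hq m m.2).inv_left.eq
    rw [show ((m : G) * a * (m : G)⁻¹ * a⁻¹)⁻¹ = a * m * a⁻¹ * (m : G)⁻¹ by group] at h
    rw [← h]; group
  have hna' : (⟨act ⟨a, haN⟩, ⟨_, rfl⟩⟩ : act.range) ∉ Cfsg.pCore r act.range := by
    intro hmem
    let D : Subgroup G := ((Cfsg.pCore r act.range).comap act.rangeRestrict).map N.subtype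
    haveI := CfsgLib.Solvable.pCore_normal (G := act.range) r
    refine hna D (map_subtype_le _) (fun x hx => ?_) ?_ (mem_map_of_mem (x := (⟨a, haN⟩ : N)) N.subtype hmem)
    · rw [mem_normalizer_iff_map_conj_eq, map_map]
      have e : ((MulAut.conj x : G ≃* G) : G →* G).comp N.subtype =
          N.subtype.comp ((MulAut.conj (⟨x, hx⟩ : N) : N ≃* N) : N →* N) := by ext; rfl
      rw [e, ← map_map]
      congr 1
      exact mem_normalizer_iff_map_conj_eq.1
        (normalizer_eq_top ((Cfsg.pCore r act.range).comap act.rangeRestrict) ▸ mem_top _)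
    · rintro _ ⟨y, hy, rfl⟩
      obtain ⟨k, hk⟩ := CfsgLib.Solvable.isPGroup_pCore r ⟨_, hy⟩
      refine ⟨k, ?_⟩
      have h : act (y ^ r ^ k) = 1 := by
        simpa using congrArg (fun z : Cfsg.pCore r act.range => ((z : act.range) : MulAut U)) hk
      exact hker _ h
  obtain ⟨⟨_, t, rfl⟩, ht, hta⟩ := exists_invol_commute hr
    (fun m => Subtype.ext (by simpa using hexp m m.2)) act.range ⟨act ⟨a, haN⟩, ⟨_, rfl⟩⟩ hq' hna'
  have ht1 : act t ≠ 1 := fun h => by
    rw [← orderOf_coe] at ht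
    simp only [h, orderOf_one] at ht
    omega
  have ht2 : act (t * t) = 1 := by
    have := pow_orderOf_eq_one (⟨act t, ⟨t, rfl⟩⟩ : act.range)
    rw [ht, pow_two] at this
    rw [map_mul]; exact congrArg Subtype.val this
  have hta' : act t * act ⟨a, haN⟩ = act ⟨a, haN⟩ * act t := congrArg Subtype.val hta
  refine ⟨t, t.2, fun h => ht1 ?_, hker _ ht2, hker (t * ⟨a, haN⟩ * t⁻¹ * ⟨a, haN⟩⁻¹) ?_⟩
  · apply MulEquiv.ext
    intro u
    apply Subtype.ext
    show (t : G) * u * (t : G)⁻¹ = u
    rw [← mem_centralizer_iff.1 h u u.2, mul_inv_cancel_right]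
  · rw [map_mul, map_mul, map_mul, map_inv, map_inv, hta']; group

end Ambient

end CfsgLib.Bender
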