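import Cfsg.Agent.Bender.Pair
import Mathlib.GroupTheory.PGroup

/-!
# Two quadratic automorphisms generating a group of odd order

On a nontrivial elementary abelian `r`-group, two quadratic automorphisms generating a group of
odd order generate an `r`-group, so that they have a common nontrivial fixed point.
-/

set_option autoImplicit false

namespace CfsgLib.Bender

open Subgroup

variable {M : Type*} [CommGroup M] [Finite M] {r : ℕ} [Fact r.Prime]

/-- The group generated by two such automorphisms is an `r`-group. -/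
theorem isPGroup_closure_quadratic (hr : r ≠ 2) (hexp : ∀ m : M, m ^ r = 1) {a b : MulAut M}
    (hodd : Odd (Nat.card (closure ({a, b} : Set (MulAut M)))))
    (ha : ∀ m : M, a (a m * m⁻¹) = a m * m⁻¹) (hb : ∀ m : M, b (b m * m⁻¹) = b m * m⁻¹) :
    IsPGroup r (closure ({a, b} : Set (MulAut M))) := by
  set X := closure ({a, b} : Set (MulAut M)) with hX
  have hrodd : Odd r := (Fact.out : r.Prime).odd_of_ne_two hr
  have hMp : IsPGroup r M := fun m => ⟨1, by simpa using hexp m⟩
  have hM : Odd (Nat.card M) := by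
    obtain ⟨k, hk⟩ := IsPGroup.iff_card.1 hMp
    rw [hk]; exact hrodd.pow
  have hgen : ∀ c : MulAut M, ∀ hc : c ∈ X, (⟨c, hc⟩ : X) ∈ Cfsg.pCore r X := by
    intro c hc
    induction hc using closure_induction with
    | mem c hc =>
      refine mem_pCore_of_odd hr hexp X hodd hM _ ?_
      rcases hc with rfl | rfl
      · exact ha
      · exact hb
    | one => exact one_mem _
    | mul x y _ _ hx hy => exact mul_mem hx hy
    | inv x _ hx => exact inv_mem hx
  intro x
  obtain ⟨k, hk⟩ := CfsgLib.Solvable.isPGroup_pCore r ⟨x, hgen x x.2⟩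
  exact ⟨k, congrArg Subtype.val hk⟩

/-- They have a common nontrivial fixed point. -/
theorem exists_common_fixed [Nontrivial M] (hr : r ≠ 2) (hexp : ∀ m : M, m ^ r = 1) {a b : MulAut M}
    (hodd : Odd (Nat.card (closure ({a, b} : Set (MulAut M)))))
    (ha : ∀ m : M, a (a m * m⁻¹) = a m * m⁻¹) (hb : ∀ m : M, b (b m * m⁻¹) = b m * m⁻¹) :
    ∃ m : M, m ≠ 1 ∧ a m = m ∧ b m = m := by
  have hP := isPGroup_closure_quadratic hr hexp hodd ha hb
  have hMp : IsPGroup r M := fun m => ⟨1, by simpa using hexp m⟩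
  obtain ⟨n, hn0, hn⟩ := hMp.nontrivial_iff_card.1 ‹_›
  have hdvd : r ∣ Nat.card M := hn ▸ dvd_pow_self r hn0.ne'
  have h1 : (1 : M) ∈ MulAction.fixedPoints (closure ({a, b} : Set (MulAut M))) M :=
    fun g => map_one (g : MulAut M)
  obtain ⟨m, hm, hne⟩ := hP.exists_fixed_point_of_prime_dvd_card_of_fixed_point M hdvd h1
  exact ⟨m, fun h => hne h.symm, hm ⟨a, subset_closure (by simp)⟩, hm ⟨b, subset_closure (by simp)⟩⟩

end CfsgLib.Bender
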