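import Mathlib.GroupTheory.OrderOfElement
import Mathlib.Tactic.NoncommRing
import Mathlib.Algebra.Algebra.Basic

/-!
Two quadratic unipotent elements: every element equal to its inverse in the monoid they generate
commutes with both, when 2 is regular.
-/

set_option autoImplicit false

namespace CfsgLib.Bender

variable {R : Type*} [Ring R]

/-- `m` commutes with `X` and `Y`. -/
def Cen (X Y m : R) : Prop := Commute m X ∧ Commute m Y

theorem Cen.add {X Y m n : R} (h : Cen X Y m) (h' : Cen X Y n) : Cen X Y (m + n) :=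
  ⟨h.1.add_left h'.1, h.2.add_left h'.2⟩

theorem Cen.sub {X Y m n : R} (h : Cen X Y m) (h' : Cen X Y n) : Cen X Y (m - n) :=
  ⟨h.1.sub_left h'.1, h.2.sub_left h'.2⟩

theorem Cen.mul {X Y m n : R} (h : Cen X Y m) (h' : Cen X Y n) : Cen X Y (m * n) :=
  ⟨h.1.mul_left h'.1, h.2.mul_left h'.2⟩

theorem cen_kappa {X Y : R} (hX : X * X = 0) (hY : Y * Y = 0) : Cen X Y (X * Y + Y * X) := by
  constructor
  · show (X * Y + Y * X) * X = X * (X * Y + Y * X)
    simp only [add_mul, mul_add, mul_assoc, hX, mul_zero, add_zero]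
    simp only [← mul_assoc, hX, zero_mul, zero_add]
  · show (X * Y + Y * X) * Y = Y * (X * Y + Y * X)
    simp only [add_mul, mul_add, mul_assoc, hY, mul_zero, zero_add]
    simp only [← mul_assoc, hY, zero_mul, add_zero]

/-- The four symmetrized values of a pair `(g, g')`. -/
def Sym (X Y g g' : R) : Prop :=
  Cen X Y (g + g') ∧ Cen X Y (g * X - X * g') ∧ Cen X Y (g * Y - Y * g') ∧
    Cen X Y (g * (X * Y) + Y * X * g') ∧ Commute (X * Y + Y * X) g ∧ Commute (X * Y + Y * X) g'

theorem sym_one {X Y : R} (hX : X * X = 0) (hY : Y * Y = 0) : Sym X Y 1 1 := by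
  refine ⟨⟨(Commute.one_left X).add_left (Commute.one_left X),
    (Commute.one_left Y).add_left (Commute.one_left Y)⟩, ?_, ?_, ?_, Commute.one_right _,
    Commute.one_right _⟩
  · simp [Cen]
  · simp [Cen]
  · rw [one_mul, mul_one]; exact cen_kappa hX hY

theorem sym_step_left {X Y g g' : R} (hX : X * X = 0) (hY : Y * Y = 0) (h : Sym X Y g g') :
    Sym X Y (g * (1 + X)) ((1 - X) * g') := by
  obtain ⟨h0, h1, h2, h3, hg, hg'⟩ := h
  have hk := (cen_kappa hX hY).1
  refine ⟨?_, ?_, ?_, ?_, hg.mul_right ((Commute.one_right _).add_right hk),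
    ((Commute.one_right _).sub_right hk).mul_right hg'⟩
  · convert h0.add h1 using 1
    noncomm_ring
  · convert h1 using 1
    rw [mul_assoc g, add_mul, one_mul, hX, add_zero, ← mul_assoc X, mul_sub, mul_one, hX, sub_zero]
  · convert h2.add h3 using 1
    noncomm_ring
  · convert h3 using 1
    simp only [mul_add, add_mul, mul_sub, sub_mul, mul_one, one_mul, mul_assoc]
    simp only [← mul_assoc X X, hX, zero_mul, mul_zero, add_zero, sub_zero]

theorem sym_step_right {X Y g g' : R} (hX : X * X = 0) (hY : Y * Y = 0) (h : Sym X Y g g') :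
    Sym X Y (g * (1 + Y)) ((1 - Y) * g') := by
  obtain ⟨h0, h1, h2, h3, hg, hg'⟩ := h
  have hk := cen_kappa hX hY
  refine ⟨?_, ?_, ?_, ?_, hg.mul_right ((Commute.one_right _).add_right hk.2),
    ((Commute.one_right _).sub_right hk.2).mul_right hg'⟩
  · convert h0.add h2 using 1
    noncomm_ring
  · convert (h1.add (hk.mul h0)).sub h3 using 1
    rw [mul_add (X * Y + Y * X), hg.eq]
    noncomm_ring
  · convert h2 using 1
    rw [mul_assoc g, add_mul, one_mul, hY, add_zero, ← mul_assoc Y, mul_sub, mul_one, hY, sub_zero]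
  · have e : Y * X * Y = (X * Y + Y * X) * Y := by rw [add_mul, mul_assoc X, hY, mul_zero, zero_add]
    convert h3.add (hk.mul h2) using 1
    calc g * (1 + Y) * (X * Y) + Y * X * ((1 - Y) * g')
        = g * (X * Y) + Y * X * g' + (g * (Y * X * Y) - Y * X * Y * g') := by noncomm_ring
      _ = _ := by
        rw [e, mul_sub (X * Y + Y * X), ← mul_assoc (X * Y + Y * X) g, hg.eq]
        noncomm_ring

/-- An element equal to its symmetric partner and generated by `1 + X`, `1 + Y` commutes with
`X` and `Y`. -/
theorem cen_of_self {X Y g : R} (h : Sym X Y g g) (h2 : ∀ x : R, x + x = 0 → x = 0) :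
    Cen X Y g := by
  have key : ∀ Z : R, Commute (g + g) Z → Commute g Z := fun Z hZ => by
    refine sub_eq_zero.1 (h2 _ ?_)
    rw [← sub_eq_zero.2 hZ.eq]
    noncomm_ring
  exact ⟨key X h.1.1, key Y h.1.2⟩

/-- Membership form: in a finite group acting through `f`, an involution of the subgroup generated by
two quadratic elements acts as a transformation commuting with them. -/
theorem map_commute_of_quadratic {E : Type*} [Group E] [Finite E] (f : E →* R) (a b : E)
    (ha : (f a - 1) * (f a - 1) = 0) (hb : (f b - 1) * (f b - 1) = 0)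
    (h2 : ∀ x : R, x + x = 0 → x = 0) {s : E}
    (hs : s ∈ Subgroup.closure ({a, b} : Set E)) (hss : s * s = 1) :
    f s * f a = f a * f s := by
  set X := f a - 1
  set Y := f b - 1
  have hinv : ∀ c : E, (f c - 1) * (f c - 1) = 0 → f c⁻¹ = 1 - (f c - 1) := fun c hc => by
    have h1 : f c * f c⁻¹ = 1 := by rw [← map_mul, mul_inv_cancel, map_one]
    have h3 : (1 - (f c - 1)) * f c = 1 := by
      calc (1 - (f c - 1)) * f c = 1 - (f c - 1) * (f c - 1) := by noncomm_ring
        _ = 1 := by rw [hc, sub_zero]
    calc f c⁻¹ = (1 - (f c - 1)) * f c * f c⁻¹ := by rw [h3, one_mul]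
      _ = 1 - (f c - 1) := by rw [mul_assoc, h1, mul_one]
  have key : ∀ g ∈ Submonoid.closure ({a, b} : Set E), Sym X Y (f g) (f g⁻¹) := by
    intro g hg
    induction hg using Submonoid.closure_induction_right with
    | one => simpa using sym_one ha hb
    | mul_right g hg c hc ih =>
      rw [map_mul, mul_inv_rev, map_mul]
      rcases hc with rfl | hc
      · rw [hinv _ ha, show f c = 1 + X by simp [X]]
        simpa [X] using sym_step_left ha hb ih
      · obtain rfl : c = b := hc
        rw [hinv _ hb, show f c = 1 + Y by simp [Y]]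
        simpa [Y] using sym_step_right ha hb ih
  have hs' : s ∈ Submonoid.closure ({a, b} : Set E) := by
    have := (Subgroup.mem_toSubmonoid _ _).2 hs
    rwa [Subgroup.closure_toSubmonoid_of_finite] at this
  have h := key s hs'
  rw [inv_eq_of_mul_eq_one_right hss] at h
  have h3 := (cen_of_self h h2).1.eq
  simpa [X, mul_sub, sub_mul] using h3

end CfsgLib.Bender
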