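import Cfsg.Agent.Bender.Defs
import Cfsg.Agent.Bender.Pair
import Cfsg.Agent.Bender.Frat
import Cfsg.Agent.PLocal.Offender
import Cfsg.Agent.ZJ.ZKinds
import Cfsg.Agent.ZJ.ZJCenter
import Cfsg.Agent.SFT.Tools

/-!
Bender's theorem, the case of one prime: conjugates of `L` containing an `r`-subgroup, good
subgroups and their largest elementary abelian subgroups.
-/

set_option autoImplicit false
set_option linter.style.haveILetI false
set_option linter.unusedSectionVars false

namespace CfsgLib.Bender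

open Subgroup CfsgLib.Functor
open scoped CfsgLib.Functor commutatorElement

universe u

/-- The hypotheses of the one-prime case used throughout. -/
structure One {G : Type u} [Group G] (r : ℕ) (L W : Subgroup G) : Prop where
  odd_r : r ≠ 2
  ctx : Ctx L
  only : ∀ q, q.Prime → q ≠ r → coreOf q L = ⊥
  minW : MinW r L W
  inside : SylowInside r L
  invol : ∀ Y : Subgroup G, MaxReal r Y → ∃ z ∈ normalizer (Y : Set G), orderOf z = 2
  core : ∀ Y : Subgroup G, MaxReal r Y → ∀ g : G, (∀ y ∈ Y, g * y * g⁻¹ ∈ L) →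
    ∀ w ∈ W, g⁻¹ * w * g ∈ Y

/-- `H` contains the minimal normal subgroup of every conjugate of `L` containing it. -/
def Good {G : Type u} [Group G] (L W H : Subgroup G) : Prop :=
  ∀ g : G, H ≤ g ⋆ L → g ⋆ W ≤ H

/-- The subgroup generated by the minimal normal subgroups of the conjugates of `L` containing
`H`. -/
def span {G : Type u} [Group G] (L W H : Subgroup G) : Subgroup G :=
  ⨆ (g : G) (_ : H ≤ g ⋆ L), g ⋆ W

section

variable {G : Type u} [Group G] [Finite G] {r : ℕ} [Fact r.Prime] {L W : Subgroup G}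

theorem mem_zpowers_sq {t : G} {D : Subgroup G} (hD : Odd (Nat.card D)) (ht : t ∈ D) {C : Subgroup G}
    (h2 : t * t ∈ C) : t ∈ C := by
  obtain ⟨j, hj⟩ := hD
  have h1 : t ^ (2 * j + 1) = 1 := by
    have := congrArg Subtype.val (pow_card_eq_one' (x := (⟨t, ht⟩ : D)))
    simpa [hj] using this
  have e : t = (t * t) ^ (j + 1) := by
    rw [← pow_two, ← pow_mul, show 2 * (j + 1) = (2 * j + 1) + 1 by ring, pow_succ _ (2 * j + 1),
      h1, one_mul]
  rw [e]; exact pow_mem h2 _

theorem not_mem_of_odd {t : G} (ht : orderOf t = 2) {D : Subgroup G} (hD : Odd (Nat.card D)) :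
    t ∉ D := fun h => by
  have h2 := hD.of_dvd_nat (ht ▸ Subgroup.orderOf_dvd_natCard D h)
  exact absurd h2 (by decide)

/-- A subgroup mapped into itself is normalized. -/
theorem mem_normalizer_of_conj_le {n : G} {U : Subgroup G} (h : ∀ x ∈ U, n * x * n⁻¹ ∈ U) :
    n ∈ normalizer (U : Set G) :=
  mem_normalizer_iff_cj.2 (eq_of_le_of_card_le' (cj_le_iff.2 h) (card_cj n U).ge)

theorem exists_invol_pow {n : G} (h : ∃ j, n ^ 2 ^ j = 1) (h1 : n ≠ 1) :
    ∃ i ∈ zpowers n, orderOf i = 2 := by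
  obtain ⟨j, hj⟩ := h
  obtain ⟨k, -, hk⟩ := (Nat.dvd_prime_pow Nat.prime_two).1 (orderOf_dvd_of_pow_eq_one hj)
  have hk0 : k ≠ 0 := fun e => h1 (orderOf_eq_one_iff.1 (by rw [hk, e, pow_zero]))
  exact ⟨n ^ (orderOf n / 2), npow_mem_zpowers _ _,
    orderOf_pow_orderOf_div (orderOf_pos n).ne' (hk ▸ dvd_pow_self 2 hk0)⟩

theorem One.W_le_L (h : One r L W) : W ≤ L := h.minW.le_core.trans (map_subtype_le _)

theorem One.isPGroup_W (h : One r L W) : IsPGroup r W := fun w =>
  ⟨1, Subtype.ext (by simpa using h.minW.exp w w.2)⟩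

theorem One.normalizer_W (h : One r L W) : normalizer (W : Set G) = L :=
  h.ctx.norm W h.W_le_L h.minW.ne_bot h.minW.normal

theorem One.normalizer_L (h : One r L W) : normalizer (L : Set G) = L :=
  h.ctx.norm L le_rfl (fun e => h.minW.ne_bot (le_bot_iff.1 (e ▸ h.W_le_L))) le_normalizer

theorem One.normalizer_cj (h : One r L W) (g : G) :
    normalizer ((g ⋆ W : Subgroup G) : Set G) = g ⋆ L := by
  rw [← cj_normalizer, h.normalizer_W]

theorem One.le_normalizer_cj (h : One r L W) (g : G) :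
    g ⋆ L ≤ normalizer ((g ⋆ W : Subgroup G) : Set G) := (h.normalizer_cj g).ge

theorem One.centralizer_cj_le (h : One r L W) (g : G) :
    centralizer ((g ⋆ W : Subgroup G) : Set G) ≤ g ⋆ L :=
  (centralizer_le_normalizer _).trans (h.normalizer_cj g).le

theorem One.odd_cj (h : One r L W) (g : G) : Odd (Nat.card ↥(g ⋆ L)) := by
  rw [card_cj]; exact h.ctx.odd

theorem One.comm_cj (h : One r L W) (g : G) {x y : G} (hx : x ∈ g ⋆ W) (hy : y ∈ g ⋆ W) :
    x * y = y * x := by
  have e := congrArg (fun v => g * v * g⁻¹) (h.minW.comm _ (mem_cj.1 hx) _ (mem_cj.1 hy))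
  simpa [mul_assoc] using e

theorem One.exp_cj (h : One r L W) (g : G) {x : G} (hx : x ∈ g ⋆ W) : x ^ r = 1 := by
  obtain ⟨y, hy, rfl⟩ := hx
  show (MulAut.conj g y) ^ r = 1
  rw [← map_pow, h.minW.exp y hy, map_one]

theorem One.exists_point (h : One r L W) {H : Subgroup G} (hH : IsPGroup r H) :
    ∃ g : G, H ≤ g ⋆ L := by
  obtain ⟨g, hg⟩ := h.inside H hH
  exact ⟨g⁻¹, cj_le_iff'.1 (cj_le_iff.2 hg)⟩

theorem One.good_of_maxReal (h : One r L W) {Y : Subgroup G} (hY : MaxReal r Y) : Good L W Y := by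
  intro g hg
  refine cj_le_iff.2 fun w hw => ?_
  have := h.core Y hY g⁻¹ (fun y hy => by simpa using mem_cj.1 (hg hy)) w hw
  simpa using this

/-- A quadratically acting element of `L` centralizes `W`. -/
theorem One.cent_of_quad (h : One r L W) {a : G} (ha : a ∈ L)
    (hq : ∀ u ∈ W, Commute (u * a * u⁻¹ * a⁻¹) a) : a ∈ centralizer (W : Set G) := by
  classical
  set P := W.subgroupOf L with hP
  haveI hPn : P.Normal :=
    (normal_subgroupOf_iff_le_normalizer h.W_le_L).2 h.minW.normal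
  have hPp : IsPGroup r P := h.isPGroup_W.of_equiv (subgroupOfEquivOfLe h.W_le_L).symm
  obtain ⟨D, hD, haD, hDp⟩ := CfsgLib.ZJ.stableNormal_of_free h.odd_r
    (CfsgLib.Invariant.not_involves_qd_of_odd h.ctx.odd h.odd_r) P hPp ⟨a, ha⟩ <| quad_bot <| by
      intro u hu
      exact Subtype.ext (hq u (mem_subgroupOf.1 hu))
  haveI := hD
  let φ : L →* MulAut P := MulAut.conjNormal
  have hA : IsPGroup r (D.map φ) := by
    rintro ⟨_, d, hd, rfl⟩
    obtain ⟨k, hk⟩ := hDp d hd
    refine ⟨k, Subtype.ext ?_⟩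
    show (φ d) ^ r ^ k = 1
    rw [← map_pow]
    apply MulEquiv.ext
    intro p
    apply Subtype.ext
    show ((MulAut.conjNormal (d ^ r ^ k) p : P) : L) = p
    rw [MulAut.conjNormal_apply, ← mem_centralizer_iff.1 hk _ p.2, mul_inv_cancel_right]
  set V := W ⊓ centralizer ((D.map L.subtype : Subgroup G) : Set G) with hV
  have hVne : V ≠ ⊥ := by
    obtain ⟨n, hn⟩ := IsPGroup.iff_card.1 hPp
    have hn0 : n ≠ 0 := fun e => h.minW.ne_bot (by
      rw [e, pow_zero, Nat.card_congr (subgroupOfEquivOfLe h.W_le_L).toEquiv] at hn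
      exact Subgroup.card_eq_one.1 hn)
    have hdvd : r ∣ Nat.card P := hn ▸ dvd_pow_self r hn0
    obtain ⟨b, hb, hb1⟩ := hA.exists_fixed_point_of_prime_dvd_card_of_fixed_point P hdvd
      (a := (1 : P)) (fun d => map_one _)
    intro hbot
    refine hb1 (Subtype.ext (Subtype.ext ?_)).symm
    refine (eq_bot_iff_forall _).1 hbot _ ⟨mem_subgroupOf.1 b.2, mem_centralizer_iff.2 ?_⟩
    rintro _ ⟨d, hd, rfl⟩
    have e := congrArg (fun p : P => ((p : L) : G)) (hb ⟨φ d, d, hd, rfl⟩)
    exact mul_inv_eq_iff_eq_mul.1 e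
  have hVn : L ≤ normalizer (V : Set G) := fun l hl => mem_normalizer_of_conj_le fun x hx => by
    refine ⟨(mem_normalizer_iff.1 (h.minW.normal hl) x).1 hx.1, mem_centralizer_iff.2 ?_⟩
    rintro _ ⟨d, hd, rfl⟩
    have hd' : ((⟨l, hl⟩ : L)⁻¹ * d * ⟨l, hl⟩ : L) ∈ D := by
      simpa using hD.conj_mem d hd (⟨l, hl⟩ : L)⁻¹
    have e := mem_centralizer_iff.1 hx.2 _ (mem_map_of_mem L.subtype hd')
    have e' := congrArg (fun v => l * v * l⁻¹) e
    simpa [mul_assoc] using e'
  have hVW := h.minW.minimal V inf_le_left hVne hVn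
  refine mem_centralizer_iff.2 fun w hw => ?_
  have hw' : w ∈ centralizer ((D.map L.subtype : Subgroup G) : Set G) := (hVW.ge hw).2
  exact (mem_centralizer_iff.1 hw' a (mem_map_of_mem (x := (⟨a, ha⟩ : L)) L.subtype haD)).symm

/-- A quadratically acting element of a conjugate of `L` centralizes the conjugate of `W`. -/
theorem One.cent_of_quad_cj (h : One r L W) (g : G) {a : G} (ha : a ∈ g ⋆ L)
    (hq : ∀ u ∈ g ⋆ W, Commute (u * a * u⁻¹ * a⁻¹) a) :
    a ∈ centralizer ((g ⋆ W : Subgroup G) : Set G) := by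
  rw [← cj_centralizer, mem_cj]
  refine h.cent_of_quad (mem_cj.1 ha) fun u hu => ?_
  have e := (hq _ (conj_mem_cj hu)).map (MulAut.conj g⁻¹).toMonoidHom
  simpa [mul_assoc] using e

theorem One.commute_good (h : One r L W) {H : Subgroup G} (hG : Good L W H) {g g' : G}
    (hg : H ≤ g ⋆ L) (hg' : H ≤ g' ⋆ L) {a : G} (ha : a ∈ g' ⋆ W) :
    a ∈ centralizer ((g ⋆ W : Subgroup G) : Set G) := by
  have ha' : a ∈ g ⋆ L := hg (hG g' hg' ha)
  refine h.cent_of_quad_cj g ha' fun u hu => ?_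
  have h2 : u * a * u⁻¹ * a⁻¹ ∈ g' ⋆ W :=
    mul_mem ((mem_normalizer_iff.1 (h.le_normalizer_cj g' (hg' (hG g hg hu))) a).1 ha) (inv_mem ha)
  exact h.comm_cj g' h2 ha

theorem cj_le_span {H : Subgroup G} {g : G} (hg : H ≤ g ⋆ L) : g ⋆ W ≤ span L W H :=
  le_iSup₂ (f := fun (g : G) (_ : H ≤ g ⋆ L) => g ⋆ W) g hg

theorem span_le {H : Subgroup G} (hG : Good L W H) : span L W H ≤ H := iSup₂_le hG

theorem normalizer_le_span (H : Subgroup G) :
    normalizer (H : Set G) ≤ normalizer ((span L W H : Subgroup G) : Set G) := by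
  intro n hn
  refine mem_normalizer_of_conj_le (cj_le_iff.1 ?_)
  rw [span, Subgroup.map_iSup]
  refine iSup_le fun g => ?_
  rw [Subgroup.map_iSup]
  refine iSup_le fun hg => ?_
  rw [cj_cj]
  refine cj_le_span ?_
  rw [← cj_cj, ← mem_normalizer_iff_cj.1 hn]
  exact cj_mono n hg

theorem One.centralizer_span_le (h : One r L W) {H : Subgroup G} {g : G} (hg : H ≤ g ⋆ L) :
    centralizer ((span L W H : Subgroup G) : Set G) ≤ g ⋆ L :=
  (centralizer_le (cj_le_span hg)).trans (h.centralizer_cj_le g)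

theorem One.elab_span (h : One r L W) {H : Subgroup G} (hG : Good L W H) :
    Cfsg.IsElementaryAbelian r (span L W H) := by
  have h1 : span L W H ≤ centralizer ((span L W H : Subgroup G) : Set G) := by
    refine iSup₂_le fun g' hg' a ha => ?_
    have hall : span L W H ≤ centralizer {a} := iSup₂_le fun g hg u hu =>
      mem_centralizer_singleton_iff.2 (mem_centralizer_iff.1 (h.commute_good hG hg hg' ha) u hu)
    exact mem_centralizer_iff.2 fun u hu => mem_centralizer_singleton_iff.1 (hall hu)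
  have hcomm : ∀ x ∈ span L W H, ∀ y ∈ span L W H, x * y = y * x := fun x hx y hy =>
    mem_centralizer_iff.1 (h1 hy) x hx
  refine ⟨⟨⟨fun x y => Subtype.ext (hcomm x x.2 y y.2)⟩⟩, fun x hx => ?_⟩
  let K : Subgroup G :=
    { carrier := {x | x ∈ span L W H ∧ x ^ r = 1}
      one_mem' := ⟨one_mem _, one_pow _⟩
      mul_mem' := fun {a b} ha hb => ⟨mul_mem ha.1 hb.1, by
        rw [(show Commute a b from hcomm a ha.1 b hb.1).mul_pow, ha.2, hb.2, one_mul]⟩
      inv_mem' := fun {a} ha => ⟨inv_mem ha.1, by rw [inv_pow, ha.2, inv_one]⟩ }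
  exact ((iSup₂_le fun g hg u hu => ⟨cj_le_span hg hu, h.exp_cj g hu⟩ : span L W H ≤ K) hx).2

theorem offender_of_maxIn {U T A : Subgroup G} (hU : Cfsg.IsElementaryAbelian r U) (hUT : U ≤ T)
    (hA : A ∈ Thompson.maxIn r T) : Cfsg.IsBestOffenderOn r U A := by
  have hcomm := Thompson.elab_le_centralizer hA.2.1
  refine ⟨fun B hB => ?_, (commutator_eq_bot_iff_le_centralizer.mpr hcomm).le.trans bot_le,
    fun a ha => by rw [hA.2.1.2 a ha]; exact one_mem _⟩
  set C := U ⊓ centralizer (B : Set G)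
  have hBC : B ≤ centralizer (C : Set G) := fun b hb =>
    mem_centralizer_iff.mpr fun c hc => (mem_centralizer_iff.mp hc.2 b hb).symm
  have hn : B ≤ normalizer (C : Set G) := hBC.trans (centralizer_le_normalizer _)
  have h1 := hA.2.2 _ (sup_le (hB.trans hA.1) (inf_le_left.trans hUT))
    (Thompson.elab_sup (Thompson.elab_mono hA.2.1 hB) (Thompson.elab_mono hU inf_le_left) hBC)
  have h2 : B ⊓ C ≤ U ⊓ centralizer (A : Set G) := fun x hx => ⟨hx.2.1, hcomm (hB hx.1)⟩
  rw [← CfsgLib.Solvable.card_sup_mul_card_inf hn]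
  exact Nat.mul_le_mul h1 (card_le_of_le h2)

theorem le_of_centralize {U T A : Subgroup G} (hU : Cfsg.IsElementaryAbelian r U) (hUT : U ≤ T)
    (hA : A ∈ Thompson.maxIn r T) (hc : A ≤ centralizer (U : Set G)) : U ≤ A := by
  have h1 := hA.2.2 _ (sup_le hA.1 hUT) (Thompson.elab_sup hA.2.1 hU hc)
  rw [eq_of_le_of_card_le' (le_sup_left : A ≤ A ⊔ U) h1]
  exact le_sup_right

/-- If a largest elementary abelian subgroup does not centralize `U`, one of its elements acts
quadratically and nontrivially on `U`. -/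
theorem quad_witness {U T A : Subgroup G} (hU : Cfsg.IsElementaryAbelian r U) (hUT : U ≤ T)
    (hA : A ∈ Thompson.maxIn r T) (hn : A ≤ normalizer (U : Set G))
    (hc : ¬ A ≤ centralizer (U : Set G)) :
    ∃ a ∈ A, a ∉ centralizer (U : Set G) ∧ ∀ u ∈ U, Commute (u * a * u⁻¹ * a⁻¹) a := by
  obtain ⟨-, -, hne⟩ := CfsgLib.Offender.bestOffender_replacement hU hn
    (offender_of_maxIn hU hUT hA) (le_refl U)
  have h1 : ⁅U, A⁆ ≠ ⊥ := fun e =>
    hc (le_centralizer_iff.1 (commutator_eq_bot_iff_le_centralizer.1 e))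
  have h2 := hne h1
  set A' := A ⊓ centralizer ((⁅U, A⁆ : Subgroup G) : Set G)
  have h3 : ¬ A' ≤ centralizer (U : Set G) := fun e =>
    h2 (commutator_eq_bot_iff_le_centralizer.2 (le_centralizer_iff.1 e))
  obtain ⟨a, ha, hac⟩ := SetLike.not_le_iff_exists.1 h3
  refine ⟨a, ha.1, hac, fun u hu => ?_⟩
  have hmem : u * a * u⁻¹ * a⁻¹ ∈ ⁅U, A⁆ := by
    rw [← commutatorElement_def]; exact commutator_mem_commutator hu ha.1
  exact mem_centralizer_iff.1 ha.2 _ hmem

/-- The minimal normal subgroups lie in every largest elementary abelian subgroup of a good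
subgroup. -/
theorem One.span_le_maxIn (h : One r L W) {H : Subgroup G} (hG : Good L W H) {A : Subgroup G}
    (hA : A ∈ Thompson.maxIn r H) : span L W H ≤ A := by
  have hU := h.elab_span hG
  by_cases hc : A ≤ centralizer ((span L W H : Subgroup G) : Set G)
  · exact le_of_centralize hU (span_le hG) hA hc
  obtain ⟨a, haA, hac, hq⟩ := quad_witness hU (span_le hG) hA
    ((hA.1.trans le_normalizer).trans (normalizer_le_span H)) hc
  refine absurd ?_ hac
  have hall : span L W H ≤ centralizer {a} := iSup₂_le fun g hg u hu =>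
    mem_centralizer_singleton_iff.2 (mem_centralizer_iff.1
      (h.cent_of_quad_cj g (hg (hA.1 haA)) fun v hv => hq v (cj_le_span hg hv)) u hu)
  exact mem_centralizer_iff.2 fun u hu => mem_centralizer_singleton_iff.1 (hall hu)

end

end CfsgLib.Bender
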